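import Cfsg.Prelude.Def_Blocks
import Mathlib.GroupTheory.OrderOfElement
import Mathlib.Data.Nat.Factorization.Basic
import Mathlib.Data.Nat.ChineseRemainder
import Mathlib.GroupTheory.PGroup

/-!
# The p-part and the p'-part of an element of finite order
-/

namespace Cfsg.Agent.Blocks

universe u

variable {G : Type u} [Group G] {p : ℕ}

/-- An exponent `e` with `e ≡ 1` modulo the p-part of `n` and `e ≡ 0` modulo its p'-part. -/
noncomputable def pExp (p n : ℕ) : ℕ :=
  if h : Nat.Coprime (p ^ n.factorization p) (n / p ^ n.factorization p) then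
    (Nat.chineseRemainder h 1 0 : ℕ) else 1

/-- An exponent `e` with `e ≡ 0` modulo the p-part of `n` and `e ≡ 1` modulo its p'-part. -/
noncomputable def pPrimeExp (p n : ℕ) : ℕ :=
  if h : Nat.Coprime (p ^ n.factorization p) (n / p ^ n.factorization p) then
    (Nat.chineseRemainder h 0 1 : ℕ) else 1

/-- The p-part of an element. -/
noncomputable def pPartOf (p : ℕ) (g : G) : G := g ^ pExp p (orderOf g)

/-- The p'-part of an element. -/
noncomputable def pPrimePartOf (p : ℕ) (g : G) : G := g ^ pPrimeExp p (orderOf g)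

section
variable [Finite G] (hp : p.Prime) (g : G)
include hp

theorem coprime_pPow_orderOf :
    Nat.Coprime (p ^ (orderOf g).factorization p)
      (orderOf g / p ^ (orderOf g).factorization p) :=
  (Nat.coprime_ordCompl hp (orderOf_pos g).ne').pow_left _

theorem pPartOf_mul_pPrimePartOf : pPartOf p g * pPrimePartOf p g = g := by
  have h := coprime_pPow_orderOf hp g
  rw [pPartOf, pPrimePartOf, ← pow_add]
  conv_rhs => rw [← pow_one g]
  rw [pow_eq_pow_iff_modEq]
  set e := pExp p (orderOf g) with he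
  set e' := pPrimeExp p (orderOf g) with he'
  rw [pExp, dif_pos h] at he
  rw [pPrimeExp, dif_pos h] at he'
  have h1 := (Nat.chineseRemainder h 1 0).2
  have h2 := (Nat.chineseRemainder h 0 1).2
  rw [← he] at h1
  rw [← he'] at h2
  have := (Nat.modEq_and_modEq_iff_modEq_mul h (a := e + e') (b := 1)).mp
    ⟨by simpa using h1.1.add h2.1, by simpa using h1.2.add h2.2⟩
  rwa [Nat.ordProj_mul_ordCompl_eq_self] at this

theorem pPartOf_pow_ordProj : pPartOf p g ^ (p ^ (orderOf g).factorization p) = 1 := by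
  have h := coprime_pPow_orderOf hp g
  rw [pPartOf, ← pow_mul, ← orderOf_dvd_iff_pow_eq_one, pExp, dif_pos h]
  conv_lhs => rw [← Nat.ordProj_mul_ordCompl_eq_self (orderOf g) p, mul_comm]
  exact Nat.mul_dvd_mul_right (Nat.modEq_zero_iff_dvd.mp (Nat.chineseRemainder h 1 0).2.2) _

theorem orderOf_pPartOf : ∃ k, orderOf (pPartOf p g) = p ^ k := by
  obtain ⟨k, -, hk⟩ := (Nat.dvd_prime_pow hp).1
    (orderOf_dvd_of_pow_eq_one (pPartOf_pow_ordProj hp g))
  exact ⟨k, hk⟩

theorem not_dvd_orderOf_pPrimePartOf : ¬ p ∣ orderOf (pPrimePartOf p g) := by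
  have h := coprime_pPow_orderOf hp g
  intro hd
  refine Nat.not_dvd_ordCompl hp (orderOf_pos g).ne' (hd.trans (orderOf_dvd_of_pow_eq_one ?_))
  rw [pPrimePartOf, ← pow_mul, ← orderOf_dvd_iff_pow_eq_one, pPrimeExp, dif_pos h]
  conv_lhs => rw [← Nat.ordProj_mul_ordCompl_eq_self (orderOf g) p]
  exact Nat.mul_dvd_mul_right (Nat.modEq_zero_iff_dvd.mp (Nat.chineseRemainder h 0 1).2.1) _

omit [Finite G] hp in
theorem commute_pPartOf_pPrimePartOf : Commute (pPartOf p g) (pPrimePartOf p g) :=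
  Commute.pow_pow (Commute.refl g) _ _

theorem isPPart_pPartOf : Cfsg.IsPPart p g (pPartOf p g) :=
  ⟨pPrimePartOf p g, pPartOf_mul_pPrimePartOf hp g, commute_pPartOf_pPrimePartOf g,
    orderOf_pPartOf hp g, not_dvd_orderOf_pPrimePartOf hp g⟩

omit [Finite G] in
/-- uniqueness of the decomposition, in any form -/
theorem eq_of_commuting_parts {x y x' y' : G} (hxy : x * y = g) (hc : Commute x y)
    (hx : ∃ k, orderOf x = p ^ k) (hy : ¬ p ∣ orderOf y)
    (hxy' : x' * y' = g) (hc' : Commute x' y')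
    (hx' : ∃ k, orderOf x' = p ^ k) (hy' : ¬ p ∣ orderOf y') : x = x' ∧ y = y' := by
  obtain ⟨k, hk⟩ := hx
  obtain ⟨k', hk'⟩ := hx'
  set n := orderOf y with hn
  set n' := orderOf y' with hn'
  set q := p ^ max k k' with hq
  have hco : Nat.Coprime q (n * n') :=
    Nat.Coprime.pow_left _ ((Nat.Prime.coprime_iff_not_dvd hp).2
      fun h => (hp.dvd_mul.1 h).elim hy hy')
  obtain ⟨e, he1, he2⟩ := Nat.chineseRemainder hco 1 0
  have key : ∀ a b : G, a * b = g → Commute a b → orderOf a ∣ q → orderOf b ∣ n * n' →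
      g ^ e = a := by
    intro a b hab hcab ha hb
    have h1 : a ^ e = a ^ 1 := pow_eq_pow_iff_modEq.2 (he1.of_dvd ha)
    have h2 : b ^ e = b ^ 0 := pow_eq_pow_iff_modEq.2 (he2.of_dvd hb)
    rw [← hab, hcab.mul_pow, h1, h2, pow_one, pow_zero, mul_one]
  have hx1 : x = x' :=
    (key x y hxy hc (hk ▸ pow_dvd_pow p (le_max_left k k')) (dvd_mul_right _ _)).symm.trans
      (key x' y' hxy' hc' (hk' ▸ pow_dvd_pow p (le_max_right k k')) (dvd_mul_left _ _))
  refine ⟨hx1, ?_⟩
  subst hx1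
  exact mul_left_cancel (hxy.trans hxy'.symm)

theorem eq_pPartOf {x : G} (h : Cfsg.IsPPart p g x) : x = pPartOf p g := by
  obtain ⟨y, h1, h2, h3, h4⟩ := h
  exact (eq_of_commuting_parts hp g h1 h2 h3 h4 (pPartOf_mul_pPrimePartOf hp g)
    (commute_pPartOf_pPrimePartOf g) (orderOf_pPartOf hp g)
    (not_dvd_orderOf_pPrimePartOf hp g)).1

theorem isPPart_iff {x : G} : Cfsg.IsPPart p g x ↔ x = pPartOf p g :=
  ⟨eq_pPartOf hp g, fun e => e ▸ isPPart_pPartOf hp g⟩

theorem parts_mul {u s : G} (hc : Commute u s) (hu : ∃ k, orderOf u = p ^ k)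
    (hs : ¬ p ∣ orderOf s) : pPartOf p (u * s) = u ∧ pPrimePartOf p (u * s) = s :=
  eq_of_commuting_parts hp (u * s) (pPartOf_mul_pPrimePartOf hp _)
    (commute_pPartOf_pPrimePartOf _) (orderOf_pPartOf hp _) (not_dvd_orderOf_pPrimePartOf hp _)
    rfl hc hu hs

theorem pPartOf_eq_one_iff : pPartOf p g = 1 ↔ ¬ p ∣ orderOf g := by
  constructor
  · intro h
    have := pPartOf_mul_pPrimePartOf hp g
    rw [h, one_mul] at this
    exact this ▸ not_dvd_orderOf_pPrimePartOf hp g
  · intro h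
    have := (parts_mul hp (Commute.one_left g) ⟨0, by simp⟩ h).1
    rwa [one_mul] at this

omit [Finite G] hp in
theorem pPartOf_conj (k : G) : pPartOf p (k * g * k⁻¹) = k * pPartOf p g * k⁻¹ := by
  have h1 : orderOf (k * g * k⁻¹) = orderOf g :=
    orderOf_injective (MulAut.conj k).toMonoidHom (MulAut.conj k).injective g
  rw [pPartOf, pPartOf, h1, conj_pow]

end

end Cfsg.Agent.Blocks
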