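import Cfsg.Agent.Blocks.Idempotent
import Cfsg.Agent.Blocks.PPart

/-!
# Congruences for character values
-/

namespace Cfsg.Agent.Blocks

open Cfsg.Agent

universe u

variable {G : Type u} [Group G] [Finite G] {p : ℕ} {M : Ideal Cfsg.AlgInt}

/-- If `e ≡ 1` modulo the p'-part of `n` then every `n`-th root of unity is congruent to its
`e`-th power; in trace form: a character value at `g` is congruent to its value at `g ^ e`. -/
theorem memLocalIdeal_char_sub_of_exp (hM : Cfsg.IsPModular p M) {χ : G → ℂ}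
    (hχ : Cfsg.IsCharacter G χ) (g : G) (e : ℕ)
    (he : orderOf g / p ^ (orderOf g).factorization p ∣ (e + orderOf g - 1)) :
    Cfsg.MemLocalIdeal M (χ (g ^ e) - χ g) := by
  obtain ⟨n, ρ, rfl⟩ := hχ
  obtain ⟨μ, b, hb, hμ, hχ⟩ := Char.exists_eigenbasis ρ g
  have hbe : ∀ i, ρ (g ^ e) (b i) = μ i ^ e • b i := by
    intro i
    induction e with
    | zero => simp
    | succ m ih =>
      rw [pow_succ', map_mul, Module.End.mul_apply]
      clear he
      have : ∀ m : ℕ, ρ (g ^ m) (b i) = μ i ^ m • b i := fun m => by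
        induction m with
        | zero => simp
        | succ m ih =>
          rw [pow_succ', map_mul, Module.End.mul_apply, ih, map_smul, hb, smul_smul, pow_succ]
      rw [this, map_smul, hb, smul_smul, pow_succ]
  rw [show ρ.character (g ^ e) = _ from Char.trace_eq_sum_of_eigenbasis _ b _ hbe, hχ,
    ← Finset.sum_sub_distrib]
  refine memLocalIdeal_sum hM _ fun i _ => ?_
  obtain ⟨c, hc⟩ := he
  have hpos := orderOf_pos g
  let a : Cfsg.AlgInt := ⟨μ i, isIntegral_of_pow_eq_one hpos (hμ i)⟩
  have hd : (a ^ (orderOf g / p ^ (orderOf g).factorization p)) ^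
      p ^ (orderOf g).factorization p = 1 := by
    rw [← pow_mul, mul_comm, Nat.ordProj_mul_ordCompl_eq_self]
    exact Subtype.ext (by simpa using hμ i)
  have h1 : (a ^ (e + orderOf g - 1) - 1 : Cfsg.AlgInt) ∈ M := by
    rw [hc, pow_mul]
    refine sub_one_mem_of_pow_prime_pow hM (k := (orderOf g).factorization p) ?_
    rw [← pow_mul, mul_comm, pow_mul, hd, one_pow]
  have h2 : (a ^ (e + orderOf g - 1) - 1) * a = a ^ e - a := by
    rw [sub_mul, one_mul, ← pow_succ, show e + orderOf g - 1 + 1 = e + orderOf g by omega, pow_add,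
      show a ^ orderOf g = 1 from Subtype.ext (by simpa using hμ i), mul_one]
  have h3 := (memLocalIdeal_coe_iff hM _).2 (M.mul_mem_right a h1)
  rw [h2] at h3
  simpa using h3

/-- A character value is congruent to the value at the p'-part. -/
theorem memLocalIdeal_char_sub_pPrimePart (hM : Cfsg.IsPModular p M) {χ : G → ℂ}
    (hχ : Cfsg.IsCharacter G χ) (g : G) :
    Cfsg.MemLocalIdeal M (χ (pPrimePartOf p g) - χ g) := by
  refine memLocalIdeal_char_sub_of_exp hM hχ g _ ?_
  have h := coprime_pPow_orderOf hM.1 g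
  rw [pPrimeExp, dif_pos h]
  obtain ⟨e, -, he⟩ := Nat.chineseRemainder h 0 1
  show orderOf g / _ ∣ e + orderOf g - 1
  have hdn : orderOf g / p ^ (orderOf g).factorization p ∣ orderOf g := Nat.ordCompl_dvd _ _
  refine (Nat.modEq_iff_dvd' ?_).1 ?_
  · have := orderOf_pos g
    omega
  · exact (Nat.ModEq.symm he).trans (by simpa using (Nat.modEq_zero_iff_dvd.2 hdn).symm.add_left e)

/-- At a p-element a character value is congruent to the degree. -/
theorem memLocalIdeal_char_sub_degree (hM : Cfsg.IsPModular p M) {χ : G → ℂ}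
    (hχ : Cfsg.IsCharacter G χ) {g : G} (hg : ∃ k, orderOf g = p ^ k) :
    Cfsg.MemLocalIdeal M (χ g - χ 1) := by
  have h := memLocalIdeal_char_sub_pPrimePart hM hχ g
  have h1 : pPrimePartOf p g = 1 := by
    have := (parts_mul hM.1 (Commute.one_right g) hg (by simp [hM.1.ne_one])).2
    rwa [mul_one] at this
  rw [h1] at h
  simpa using memLocalIdeal_neg h

omit [Finite G] in
theorem charDegree_eq {χ : G → ℂ} {n : ℕ} (h : χ 1 = n) : Cfsg.charDegree χ = n := by
  simp [Cfsg.charDegree, h]

omit [Finite G] in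
theorem charDegree_cast {χ : G → ℂ} (h : Cfsg.IsCharacter G χ) :
    (Cfsg.charDegree χ : ℂ) = χ 1 := by
  obtain ⟨n, hn⟩ := Char.IsChar.degree h
  rw [charDegree_eq hn, hn]

omit [Finite G] in
theorem charDegree_pos {χ : G → ℂ} (h : Cfsg.IsIrrCharacter G χ) : 0 < Cfsg.charDegree χ := by
  obtain ⟨n, hn, e⟩ := Char.IsIrr.degree h
  rwa [charDegree_eq e]

end Cfsg.Agent.Blocks
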