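import Cfsg.Prelude.Def_Blocks
import Mathlib.RingTheory.Ideal.Quotient.Operations
import Mathlib.RingTheory.IntegralClosure.IsIntegralClosure.Basic
import Mathlib.RingTheory.Int.Basic
import Mathlib.RingTheory.Prime
import Mathlib.RingTheory.Polynomial.RationalRoot
import Mathlib.RingTheory.IntegralClosure.IntegrallyClosed
import Mathlib.RingTheory.PrincipalIdealDomain
import Mathlib.Algebra.Polynomial.Roots
import Mathlib.RingTheory.RootsOfUnity.Complex

/-!
# Modular systems: algebraic integers, maximal ideals over p, the local ring at M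
-/

namespace Cfsg.Agent.Blocks

open scoped ComplexConjugate

variable {p : ℕ} {M : Ideal Cfsg.AlgInt}

theorem mem_algInt {z : ℂ} : z ∈ Cfsg.AlgInt ↔ IsIntegral ℤ z := Iff.rfl

theorem coe_natCast (n : ℕ) : (((n : Cfsg.AlgInt) : Cfsg.AlgInt) : ℂ) = (n : ℂ) := by
  simp

theorem coe_intCast (n : ℤ) : (((n : Cfsg.AlgInt) : Cfsg.AlgInt) : ℂ) = (n : ℂ) := by
  simp

theorem isIntegral_natCast (n : ℕ) : IsIntegral ℤ (n : ℂ) :=
  coe_natCast n ▸ ((n : Cfsg.AlgInt)).2

theorem isIntegral_intCast (n : ℤ) : IsIntegral ℤ (n : ℂ) :=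
  coe_intCast n ▸ ((n : Cfsg.AlgInt)).2

/-- a rational integer multiple criterion: an algebraic integer that is rational is an integer -/
theorem exists_int_of_isIntegral_rat {z : ℂ} (hz : IsIntegral ℤ z) (q : ℚ) (hq : z = (q : ℂ)) :
    ∃ n : ℤ, z = (n : ℂ) := by
  subst hq
  have h : IsIntegral ℤ q := by
    have : IsIntegral ℤ (algebraMap ℚ ℂ q) := by simpa using hz
    exact (isIntegral_algebraMap_iff (algebraMap ℚ ℂ).injective).mp this
  obtain ⟨n, hn⟩ := (IsIntegrallyClosed.isIntegral_iff (R := ℤ) (K := ℚ)).mp h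
  exact ⟨n, by rw [← hn]; simp⟩

theorem not_isUnit_natCast {p : ℕ} (hp : p.Prime) : ¬ IsUnit ((p : Cfsg.AlgInt)) := by
  intro h
  obtain ⟨u, hu⟩ := h.exists_right_inv
  have hu' : (p : ℂ) * (u : ℂ) = 1 := by
    have := congrArg (fun x : Cfsg.AlgInt => (x : ℂ)) hu
    simpa using this
  have hp0 : (p : ℂ) ≠ 0 := Nat.cast_ne_zero.mpr hp.ne_zero
  have hu2 : (u : ℂ) = (((p : ℚ)⁻¹ : ℚ) : ℂ) := by
    rw [Rat.cast_inv, Rat.cast_natCast, eq_comm, inv_eq_iff_eq_inv]
    exact eq_inv_of_mul_eq_one_left hu'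
  obtain ⟨n, hn⟩ := exists_int_of_isIntegral_rat u.2 _ hu2
  rw [hn] at hu'
  have h1 : ((p : ℤ) * n) = 1 := by exact_mod_cast hu'
  have h2 := Int.natAbs_mul (p : ℤ) n
  rw [h1] at h2
  simp only [Int.natAbs_one, Int.natAbs_natCast] at h2
  exact hp.one_lt.ne' (Nat.eq_one_of_mul_eq_one_right h2.symm)

theorem exists_isPModular (p : ℕ) (hp : p.Prime) :
    ∃ M : Ideal Cfsg.AlgInt, Cfsg.IsPModular p M := by
  obtain ⟨M, hM, hle⟩ := Ideal.exists_le_maximal (Ideal.span {(p : Cfsg.AlgInt)})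
    (by rw [Ne, Ideal.span_singleton_eq_top]; exact not_isUnit_natCast hp)
  exact ⟨M, hp, hM, hle (Ideal.subset_span rfl)⟩

section
variable (hM : Cfsg.IsPModular p M)
include hM

theorem isPrime : M.IsPrime := hM.2.1.isPrime

theorem one_notMem : (1 : Cfsg.AlgInt) ∉ M :=
  fun h => hM.2.1.ne_top (M.eq_top_iff_one.mpr h)

theorem natCast_p_mem : (p : Cfsg.AlgInt) ∈ M := hM.2.2

theorem intCast_mem_iff (n : ℤ) : (n : Cfsg.AlgInt) ∈ M ↔ (p : ℤ) ∣ n := by
  constructor
  · intro h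
    by_contra hn
    have hco : Int.gcd (p : ℤ) n = 1 := by
      have : Prime (p : ℤ) := Nat.prime_iff_prime_int.mp hM.1
      exact Int.isCoprime_iff_gcd_eq_one.mp ((this.coprime_iff_not_dvd).mpr hn)
    have e := Int.gcd_eq_gcd_ab (p : ℤ) n
    rw [hco] at e
    have e' : (1 : Cfsg.AlgInt) = (p : Cfsg.AlgInt) * (Int.gcdA p n : Cfsg.AlgInt) +
        (n : Cfsg.AlgInt) * (Int.gcdB p n : Cfsg.AlgInt) := by
      have := congrArg (fun z : ℤ => (z : Cfsg.AlgInt)) e
      simpa using this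
    exact one_notMem hM (e' ▸ M.add_mem (M.mul_mem_right _ hM.2.2) (M.mul_mem_right _ h))
  · rintro ⟨k, rfl⟩
    push_cast
    exact M.mul_mem_right _ hM.2.2

theorem natCast_mem_iff (n : ℕ) : (n : Cfsg.AlgInt) ∈ M ↔ p ∣ n := by
  rw [← Int.natCast_dvd_natCast, ← intCast_mem_iff hM]
  simp

end

/-! ## The local ring and the local ideal -/

/-- The localisation of the algebraic integers at `M`, as a subring of `ℂ`. -/
def localRing (hM : Cfsg.IsPModular p M) : Subring ℂ where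
  carrier := {z | Cfsg.MemLocalRing M z}
  one_mem' := ⟨1, 1, one_notMem hM, by simp⟩
  zero_mem' := ⟨0, 1, one_notMem hM, by simp⟩
  mul_mem' := by
    rintro x y ⟨a, b, hb, rfl⟩ ⟨c, d, hd, rfl⟩
    refine ⟨a * c, b * d, fun h => ((isPrime hM).mem_or_mem h).elim hb hd, ?_⟩
    push_cast
    exact (div_mul_div_comm _ _ _ _).symm
  add_mem' := by
    rintro x y ⟨a, b, hb, rfl⟩ ⟨c, d, hd, rfl⟩
    have hb0 : (b : ℂ) ≠ 0 := fun h => hb ((ZeroMemClass.coe_eq_zero.mp h) ▸ M.zero_mem)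
    have hd0 : (d : ℂ) ≠ 0 := fun h => hd ((ZeroMemClass.coe_eq_zero.mp h) ▸ M.zero_mem)
    refine ⟨a * d + c * b, b * d, fun h => ((isPrime hM).mem_or_mem h).elim hb hd, ?_⟩
    push_cast
    field_simp
  neg_mem' := by
    rintro x ⟨a, b, hb, rfl⟩
    exact ⟨-a, b, hb, by simp [neg_div]⟩

theorem mem_localRing (hM : Cfsg.IsPModular p M) {z : ℂ} :
    z ∈ localRing hM ↔ Cfsg.MemLocalRing M z := Iff.rfl

theorem coe_ne_zero_of_notMem {b : Cfsg.AlgInt} (hb : b ∉ M) : (b : ℂ) ≠ 0 :=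
  fun h => hb ((ZeroMemClass.coe_eq_zero.mp h) ▸ M.zero_mem)

theorem memLocalRing_of_memLocalIdeal {z : ℂ} (h : Cfsg.MemLocalIdeal M z) :
    Cfsg.MemLocalRing M z := by
  obtain ⟨a, b, -, hb, e⟩ := h
  exact ⟨a, b, hb, e⟩

section
variable (hM : Cfsg.IsPModular p M)
include hM

theorem memLocalRing_coe (a : Cfsg.AlgInt) : Cfsg.MemLocalRing M (a : ℂ) :=
  ⟨a, 1, one_notMem hM, by simp⟩

theorem memLocalRing_of_isIntegral {z : ℂ} (h : IsIntegral ℤ z) : Cfsg.MemLocalRing M z :=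
  memLocalRing_coe hM ⟨z, h⟩

theorem memLocalIdeal_coe_iff (a : Cfsg.AlgInt) : Cfsg.MemLocalIdeal M (a : ℂ) ↔ a ∈ M := by
  constructor
  · rintro ⟨c, b, hc, hb, e⟩
    have hb0 := coe_ne_zero_of_notMem hb
    have : c = a * b := by
      apply Subtype.ext
      push_cast
      rw [← e, div_mul_cancel₀ _ hb0]
    exact ((isPrime hM).mem_or_mem (this ▸ hc)).resolve_right hb
  · exact fun h => ⟨a, 1, h, one_notMem hM, by simp⟩

theorem memLocalIdeal_zero : Cfsg.MemLocalIdeal M 0 :=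
  ⟨0, 1, M.zero_mem, one_notMem hM, by simp⟩

theorem not_memLocalIdeal_one : ¬ Cfsg.MemLocalIdeal M 1 := by
  have := (memLocalIdeal_coe_iff hM 1).not.mpr (one_notMem hM)
  simpa using this

theorem memLocalIdeal_add {x y : ℂ} (hx : Cfsg.MemLocalIdeal M x) (hy : Cfsg.MemLocalIdeal M y) :
    Cfsg.MemLocalIdeal M (x + y) := by
  obtain ⟨a, b, ha, hb, rfl⟩ := hx
  obtain ⟨c, d, hc, hd, rfl⟩ := hy
  have hb0 := coe_ne_zero_of_notMem hb
  have hd0 := coe_ne_zero_of_notMem hd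
  refine ⟨a * d + c * b, b * d, M.add_mem (M.mul_mem_right _ ha) (M.mul_mem_right _ hc),
    fun h => ((isPrime hM).mem_or_mem h).elim hb hd, ?_⟩
  push_cast
  field_simp

omit hM in
theorem memLocalIdeal_neg {x : ℂ} (hx : Cfsg.MemLocalIdeal M x) : Cfsg.MemLocalIdeal M (-x) := by
  obtain ⟨a, b, ha, hb, rfl⟩ := hx
  exact ⟨-a, b, M.neg_mem ha, hb, by simp [neg_div]⟩

theorem memLocalIdeal_sub {x y : ℂ} (hx : Cfsg.MemLocalIdeal M x) (hy : Cfsg.MemLocalIdeal M y) :
    Cfsg.MemLocalIdeal M (x - y) :=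
  sub_eq_add_neg x y ▸ memLocalIdeal_add hM hx (memLocalIdeal_neg hy)

theorem memLocalIdeal_mul_right {x y : ℂ} (hx : Cfsg.MemLocalIdeal M x)
    (hy : Cfsg.MemLocalRing M y) : Cfsg.MemLocalIdeal M (x * y) := by
  obtain ⟨a, b, ha, hb, rfl⟩ := hx
  obtain ⟨c, d, hd, rfl⟩ := hy
  refine ⟨a * c, b * d, M.mul_mem_right _ ha, fun h => ((isPrime hM).mem_or_mem h).elim hb hd, ?_⟩
  push_cast
  exact (div_mul_div_comm _ _ _ _).symm

theorem memLocalIdeal_mul_left {x y : ℂ} (hy : Cfsg.MemLocalRing M y)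
    (hx : Cfsg.MemLocalIdeal M x) : Cfsg.MemLocalIdeal M (y * x) :=
  mul_comm x y ▸ memLocalIdeal_mul_right hM hx hy

theorem memLocalIdeal_sum {ι : Type*} (s : Finset ι) {f : ι → ℂ}
    (h : ∀ i ∈ s, Cfsg.MemLocalIdeal M (f i)) : Cfsg.MemLocalIdeal M (∑ i ∈ s, f i) := by
  classical
  induction s using Finset.induction_on with
  | empty => simpa using memLocalIdeal_zero hM
  | insert i s hi ih =>
    rw [Finset.sum_insert hi]
    exact memLocalIdeal_add hM (h i (Finset.mem_insert_self i s))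
      (ih fun j hj => h j (Finset.mem_insert_of_mem hj))

omit hM in
theorem memLocalRing_inv {z : ℂ} (hz : Cfsg.MemLocalRing M z) (h : ¬ Cfsg.MemLocalIdeal M z) :
    Cfsg.MemLocalRing M z⁻¹ := by
  obtain ⟨a, b, hb, rfl⟩ := hz
  have ha : a ∉ M := fun ha => h ⟨a, b, ha, hb, rfl⟩
  exact ⟨b, a, ha, (inv_div _ _).symm⟩

theorem memLocalIdeal_of_mul {x y : ℂ} (hx : Cfsg.MemLocalRing M x) (_hy : Cfsg.MemLocalRing M y)
    (h : Cfsg.MemLocalIdeal M (x * y)) : Cfsg.MemLocalIdeal M x ∨ Cfsg.MemLocalIdeal M y := by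
  refine or_iff_not_imp_left.mpr fun hxn => ?_
  have hx0 : x ≠ 0 := fun e => hxn (e ▸ memLocalIdeal_zero hM)
  have := memLocalIdeal_mul_left hM (memLocalRing_inv hx hxn) h
  rwa [inv_mul_cancel_left₀ hx0] at this

theorem memLocalIdeal_natCast_iff (n : ℕ) : Cfsg.MemLocalIdeal M (n : ℂ) ↔ p ∣ n := by
  rw [← natCast_mem_iff hM, ← memLocalIdeal_coe_iff hM, coe_natCast]

theorem memLocalIdeal_intCast_iff (n : ℤ) : Cfsg.MemLocalIdeal M (n : ℂ) ↔ (p : ℤ) ∣ n := by
  rw [← intCast_mem_iff hM, ← memLocalIdeal_coe_iff hM, coe_intCast]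

theorem memLocalRing_natCast (n : ℕ) : Cfsg.MemLocalRing M (n : ℂ) :=
  memLocalRing_of_isIntegral hM (isIntegral_natCast n)

theorem memLocalRing_natCast_inv {n : ℕ} (h : ¬ p ∣ n) : Cfsg.MemLocalRing M (n : ℂ)⁻¹ :=
  memLocalRing_inv (memLocalRing_natCast hM n) ((memLocalIdeal_natCast_iff hM n).not.mpr h)

end

/-! ## The residue field -/

/-- The residue of a complex number at `M`: `mk a / mk b` for some writing `a / b` with
`b ∉ M`, and zero if there is none. -/
noncomputable def resFun (hM : Cfsg.IsPModular p M) (z : ℂ) : Cfsg.AlgInt ⧸ M :=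
  haveI := Classical.propDecidable (Cfsg.MemLocalRing M z)
  haveI := hM.2.1
  letI := Ideal.Quotient.field M
  if h : Cfsg.MemLocalRing M z then
    Ideal.Quotient.mk M h.choose / Ideal.Quotient.mk M h.choose_spec.choose else 0

theorem resFun_mul_mk (hM : Cfsg.IsPModular p M) {z : ℂ} {a b : Cfsg.AlgInt} (hb : b ∉ M)
    (e : (a : ℂ) / (b : ℂ) = z) :
    resFun hM z * Ideal.Quotient.mk M b = Ideal.Quotient.mk M a := by
  have := hM.2.1
  let _ := Ideal.Quotient.field M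
  have h : Cfsg.MemLocalRing M z := ⟨a, b, hb, e⟩
  rw [resFun, dif_pos h]
  obtain ⟨hb', e'⟩ := h.choose_spec.choose_spec
  generalize h.choose_spec.choose = b' at hb' e' ⊢
  generalize h.choose = a' at e' ⊢
  have h0 : Ideal.Quotient.mk M b' ≠ 0 := by rwa [Ne, Ideal.Quotient.eq_zero_iff_mem]
  rw [div_mul_eq_mul_div, div_eq_iff h0, ← map_mul, ← map_mul]
  congr 1
  apply Subtype.ext
  rw [← e, div_eq_div_iff (coe_ne_zero_of_notMem hb') (coe_ne_zero_of_notMem hb)] at e'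
  push_cast
  exact e'

theorem resFun_coe (hM : Cfsg.IsPModular p M) (a : Cfsg.AlgInt) :
    resFun hM (a : ℂ) = Ideal.Quotient.mk M a := by
  simpa using resFun_mul_mk hM (a := a) (z := (a : ℂ)) (one_notMem hM) (by simp)

theorem resFun_mul (hM : Cfsg.IsPModular p M) {x y : ℂ} (hx : Cfsg.MemLocalRing M x)
    (hy : Cfsg.MemLocalRing M y) : resFun hM (x * y) = resFun hM x * resFun hM y := by
  have := hM.2.1
  let _ := Ideal.Quotient.field M
  obtain ⟨a, b, hb, ex⟩ := hx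
  obtain ⟨c, d, hd, ey⟩ := hy
  have hbd : b * d ∉ M := fun h => ((isPrime hM).mem_or_mem h).elim hb hd
  have h1 := resFun_mul_mk hM hb ex
  have h2 := resFun_mul_mk hM hd ey
  have h3 := resFun_mul_mk hM (a := a * c) hbd (z := x * y) (by
    rw [← ex, ← ey, div_mul_div_comm]; push_cast; rfl)
  apply mul_right_cancel₀ (b := Ideal.Quotient.mk M (b * d))
    (by rwa [Ne, Ideal.Quotient.eq_zero_iff_mem])
  rw [h3, map_mul, map_mul, ← h1, ← h2]
  ring

theorem resFun_add (hM : Cfsg.IsPModular p M) {x y : ℂ} (hx : Cfsg.MemLocalRing M x)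
    (hy : Cfsg.MemLocalRing M y) : resFun hM (x + y) = resFun hM x + resFun hM y := by
  have := hM.2.1
  let _ := Ideal.Quotient.field M
  obtain ⟨a, b, hb, ex⟩ := hx
  obtain ⟨c, d, hd, ey⟩ := hy
  have hbd : b * d ∉ M := fun h => ((isPrime hM).mem_or_mem h).elim hb hd
  have h1 := resFun_mul_mk hM hb ex
  have h2 := resFun_mul_mk hM hd ey
  have h3 := resFun_mul_mk hM (a := a * d + c * b) hbd (z := x + y) (by
    rw [← ex, ← ey]
    have hb0 := coe_ne_zero_of_notMem hb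
    have hd0 := coe_ne_zero_of_notMem hd
    push_cast
    field_simp)
  apply mul_right_cancel₀ (b := Ideal.Quotient.mk M (b * d))
    (by rwa [Ne, Ideal.Quotient.eq_zero_iff_mem])
  rw [h3, map_add, map_mul, map_mul, map_mul, ← h1, ← h2]
  ring

theorem resFun_eq_zero_iff (hM : Cfsg.IsPModular p M) {z : ℂ} (hz : Cfsg.MemLocalRing M z) :
    resFun hM z = 0 ↔ Cfsg.MemLocalIdeal M z := by
  have := hM.2.1
  let _ := Ideal.Quotient.field M
  constructor
  · intro h
    obtain ⟨a, b, hb, e⟩ := hz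
    have := resFun_mul_mk hM hb e
    rw [h, zero_mul] at this
    exact ⟨a, b, Ideal.Quotient.eq_zero_iff_mem.mp this.symm, hb, e⟩
  · rintro ⟨a, b, ha, hb, e⟩
    have := resFun_mul_mk hM hb e
    rw [Ideal.Quotient.eq_zero_iff_mem.mpr ha] at this
    exact (mul_eq_zero.mp this).resolve_right (mt Ideal.Quotient.eq_zero_iff_mem.mp hb)

/-- The residue map of the local ring. -/
noncomputable def residue (hM : Cfsg.IsPModular p M) : localRing hM →+* Cfsg.AlgInt ⧸ M where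
  toFun z := resFun hM (z : ℂ)
  map_one' := by simpa using resFun_coe hM 1
  map_zero' := by simpa using resFun_coe hM 0
  map_mul' x y := resFun_mul hM x.2 y.2
  map_add' x y := resFun_add hM x.2 y.2

theorem residue_apply (hM : Cfsg.IsPModular p M) (z : localRing hM) :
    residue hM z = resFun hM (z : ℂ) := rfl

theorem residue_coe (hM : Cfsg.IsPModular p M) (a : Cfsg.AlgInt) :
    residue hM ⟨(a : ℂ), memLocalRing_coe hM a⟩ = Ideal.Quotient.mk M a :=
  resFun_coe hM a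

theorem residue_eq_zero_iff (hM : Cfsg.IsPModular p M) (z : localRing hM) :
    residue hM z = 0 ↔ Cfsg.MemLocalIdeal M (z : ℂ) :=
  resFun_eq_zero_iff hM z.2

theorem residue_eq_iff (hM : Cfsg.IsPModular p M) (x y : localRing hM) :
    residue hM x = residue hM y ↔ Cfsg.MemLocalIdeal M ((x : ℂ) - (y : ℂ)) := by
  rw [← sub_eq_zero, ← map_sub, residue_eq_zero_iff]
  rfl

theorem charP_residueField (hM : Cfsg.IsPModular p M) : CharP (Cfsg.AlgInt ⧸ M) p := by
  refine ⟨fun n => ?_⟩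
  rw [← natCast_mem_iff hM, ← Ideal.Quotient.eq_zero_iff_mem, map_natCast]

/-! ## Roots of unity -/

theorem isIntegral_of_pow_eq_one {z : ℂ} {n : ℕ} (hn : 0 < n) (h : z ^ n = 1) : IsIntegral ℤ z :=
  IsIntegral.of_pow hn (h ▸ isIntegral_one)

/-- a root of unity of p-power order is congruent to 1 -/
theorem sub_one_mem_of_pow_prime_pow (hM : Cfsg.IsPModular p M) {z : Cfsg.AlgInt} {k : ℕ}
    (h : z ^ p ^ k = 1) : z - 1 ∈ M := by
  have := Fact.mk hM.1
  have := hM.2.1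
  let _ := Ideal.Quotient.field M
  have := charP_residueField hM
  rw [← Ideal.Quotient.eq_zero_iff_mem, map_sub, map_one]
  apply eq_zero_of_pow_eq_zero (n := p ^ k)
  rw [sub_pow_char_pow, ← map_pow, h, map_one, one_pow, sub_self]

/-- roots of unity of order prime to p are distinct modulo M -/
theorem eq_of_sub_mem_of_pow_eq_one (hM : Cfsg.IsPModular p M) {x y : Cfsg.AlgInt} {m : ℕ}
    (hm : ¬ p ∣ m) (hx : x ^ m = 1) (hy : y ^ m = 1) (h : x - y ∈ M) : x = y := by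
  have := hM.2.1
  let _ := Ideal.Quotient.field M
  have := charP_residueField hM
  by_contra hne
  have hm0 : m ≠ 0 := fun e => hm (e ▸ dvd_zero p)
  -- 0 = x^m - y^m = (x - y) * Σ x^i y^(m-1-i), and the sum is m x^(m-1) modulo M
  have hg : (∑ i ∈ Finset.range m, x ^ i * y ^ (m - 1 - i)) * (x - y) = 0 := by
    rw [geom_sum₂_mul, hx, hy, sub_self]
  have hs : ∑ i ∈ Finset.range m, x ^ i * y ^ (m - 1 - i) = 0 :=
    (mul_eq_zero.mp hg).resolve_right (sub_ne_zero.mpr hne)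
  have hq : Ideal.Quotient.mk M x = Ideal.Quotient.mk M y := (Ideal.Quotient.eq).mpr h
  have := congrArg (Ideal.Quotient.mk M) hs
  rw [map_sum, map_zero] at this
  simp only [map_mul, map_pow, hq, ← pow_add] at this
  rw [Finset.sum_congr rfl (g := fun _ => Ideal.Quotient.mk M y ^ (m - 1))] at this
  · rw [Finset.sum_const, Finset.card_range, nsmul_eq_mul] at this
    rcases mul_eq_zero.mp this with h1 | h1
    · exact hm ((CharP.cast_eq_zero_iff _ p m).mp h1)
    · have hy0 : (Ideal.Quotient.mk M y) ^ m = 1 := by rw [← map_pow, hy, map_one]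
      rw [← Nat.sub_add_cancel (Nat.one_le_iff_ne_zero.mpr hm0), pow_succ, h1, zero_mul] at hy0
      exact zero_ne_one hy0
  · intro i hi
    rw [Finset.mem_range] at hi
    congr 1
    omega

end Cfsg.Agent.Blocks
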