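import Cfsg.Agent.Blocks.SecondMain

/-!
# The p-regular rank of a block, and sums over sections
-/

namespace Cfsg.Agent.Blocks

open scoped ComplexConjugate
open Cfsg.Agent

universe u

variable {G : Type u} [Group G] [Fintype G] {p : ℕ} {M : Ideal Cfsg.AlgInt}

open scoped Classical in
/-- The rank of a block is its kernel summed over the diagonal of the p-regular elements. -/
theorem card_mul_blockRank (hM : Cfsg.IsPModular p M) {B : Set (Cfsg.IrrCharacter G)}
    (hB : Cfsg.IsPBlock M B) :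
    (Nat.card G : ℂ) * (Cfsg.blockRank p B : ℂ) =
      ∑ x : G, if p ∣ orderOf x then 0 else
        ∑ᶠ χ ∈ B, (χ : G → ℂ) x * conj ((χ : G → ℂ) x) := by
  let ev : Cfsg.IrrCharacter G → ((G → ℂ) →ₗ[ℂ] ℂ) := fun χ =>
    { toFun := fun f => Cfsg.classInner f (χ : G → ℂ)
      map_add' := fun f g => Char.classInner_add_left _ _ _
      map_smul' := fun c f => Char.classInner_smul_left _ _ _ }
  set S := B.toFinite.toFinset with hS
  let P : (G → ℂ) →ₗ[ℂ] (G → ℂ) :=
    ∑ χ ∈ S, (ev χ).smulRight (Cfsg.pRegularPart p (χ : G → ℂ))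
  set V := Submodule.span ℂ
    ((fun χ : Cfsg.IrrCharacter G => Cfsg.pRegularPart p (χ : G → ℂ)) '' B) with hV
  have hP : ∀ f, P f = ∑ χ ∈ S,
      Cfsg.classInner f (χ : G → ℂ) • Cfsg.pRegularPart p (χ : G → ℂ) := by
    intro f
    simp [P, ev]
  have hfix : ∀ χ : Cfsg.IrrCharacter G, χ ∈ B →
      P (Cfsg.pRegularPart p (χ : G → ℂ)) = Cfsg.pRegularPart p (χ : G → ℂ) := by
    intro χ hχ
    rw [hP]
    funext x
    have e := congrFun (pRegularPart_eq_sum hM hB hχ) x
    simp only [Finset.sum_apply, Pi.smul_apply, smul_eq_mul, ite_apply, Pi.zero_apply] at e ⊢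
    rw [← Finset.sum_filter, show Finset.univ.filter (· ∈ B) = S by ext; simp [hS]] at e
    by_cases hx : p ∣ orderOf x
    · rw [pRegularPart_apply p (χ : G → ℂ) x, if_pos hx]
      exact Finset.sum_eq_zero fun φ _ => by rw [pRegularPart_apply, if_pos hx, mul_zero]
    · rw [e]
      exact Finset.sum_congr rfl fun φ _ => by rw [pRegularPart_apply p (φ : G → ℂ), if_neg hx]
  have hproj : LinearMap.IsProj V P := by
    refine ⟨fun f => ?_, fun f hf => ?_⟩
    · rw [hP]
      exact V.sum_mem fun χ hχ => V.smul_mem _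
        (Submodule.subset_span ⟨χ, B.toFinite.mem_toFinset.1 hχ, rfl⟩)
    · induction hf using Submodule.span_induction with
      | mem x hx =>
        obtain ⟨χ, hχ, rfl⟩ := hx
        exact hfix χ hχ
      | zero => simp
      | add a b _ _ ha hb => simp [ha, hb]
      | smul c a _ ha => simp [ha]
  have htr := hproj.trace
  simp only [P, map_sum, LinearMap.trace_smulRight] at htr
  rw [Cfsg.blockRank, ← hV, ← htr, Finset.mul_sum]
  simp only [finsum_mem_eq_finite_toFinset_sum _ B.toFinite]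
  rw [show (∑ x : G, if p ∣ orderOf x then (0 : ℂ) else
      ∑ χ ∈ S, (χ : G → ℂ) x * conj ((χ : G → ℂ) x)) = ∑ x : G, ∑ χ ∈ S,
      if p ∣ orderOf x then (0 : ℂ) else (χ : G → ℂ) x * conj ((χ : G → ℂ) x) from
    Finset.sum_congr rfl fun x _ => by split_ifs <;> simp, Finset.sum_comm]
  refine Finset.sum_congr rfl fun χ _ => ?_
  show (Nat.card G : ℂ) * Cfsg.classInner (Cfsg.pRegularPart p (χ : G → ℂ)) (χ : G → ℂ) = _
  rw [Cfsg.classInner, ← mul_assoc,
    mul_inv_cancel₀ (Nat.cast_ne_zero.2 Nat.card_pos.ne'), one_mul]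
  exact Finset.sum_congr rfl fun x _ => by rw [pRegularPart_apply, ite_mul, zero_mul]

theorem mem_centralizer_iff_comm {K : Type u} [Group K] (x a : K) :
    a ∈ Subgroup.centralizer ({x} : Set K) ↔ x * a = a * x := by
  rw [Subgroup.mem_centralizer_singleton_iff]; exact eq_comm

omit [Fintype G] in
open scoped Classical in
/-- The sum over the elements with p-part `x` is a sum over regular elements of `C(x)`. -/
theorem sum_pPart_fiber [Fintype G] {p : ℕ} (hp : p.Prime) {x : G}
    (hx : ∃ k, orderOf x = p ^ k) (F : G → ℂ) :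
    ∑ g ∈ Finset.univ.filter (fun g => pPartOf p g = x), F g =
      ∑ s : Subgroup.centralizer ({x} : Set G),
        if p ∣ orderOf s then 0 else F (x * (s : G)) := by
  have h : ∀ s : Subgroup.centralizer ({x} : Set G),
      (if p ∣ orderOf s then (0 : ℂ) else F (x * (s : G))) =
        if ¬ p ∣ orderOf s then F (x * (s : G)) else 0 := fun s => by split_ifs <;> rfl
  simp only [h]
  rw [← Finset.sum_filter]
  symm
  refine Finset.sum_bij (fun s _ => x * (s : G)) (fun s hs => ?_) (fun a _ b _ e => ?_)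
    (fun g hg => ?_) (fun _ _ => rfl)
  · refine Finset.mem_filter.2 ⟨Finset.mem_univ _, (parts_mul hp ?_ hx ?_).1⟩
    · exact (mem_centralizer_iff_comm x _).1 s.2
    · rw [Subgroup.orderOf_coe]; exact (Finset.mem_filter.1 hs).2
  · exact Subtype.ext (mul_left_cancel e)
  · have e := (Finset.mem_filter.1 hg).2
    refine ⟨⟨pPrimePartOf p g, (mem_centralizer_iff_comm x _).2
      (e ▸ (commute_pPartOf_pPrimePartOf g).eq)⟩, ?_, ?_⟩
    · refine Finset.mem_filter.2 ⟨Finset.mem_univ _, ?_⟩
      rw [← Subgroup.orderOf_coe]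
      exact not_dvd_orderOf_pPrimePartOf hp g
    · show x * pPrimePartOf p g = g
      rw [← e, pPartOf_mul_pPrimePartOf hp]

/-- A sum over `G` of a class function, section by section. -/
theorem sum_by_sections {p : ℕ} (hp : p.Prime) {X : Finset G}
    (hXrep : ∀ g : G, (∃ k : ℕ, orderOf g = p ^ k) → ∃! x, x ∈ X ∧ IsConj g x)
    {F : G → ℂ} (hF : Cfsg.IsClassFunction G F) [DecidableEq G] :
    ∑ g, F g = ∑ x ∈ X, ((Subgroup.centralizer ({x} : Set G)).index : ℂ) *
      ∑ g ∈ Finset.univ.filter (fun g => pPartOf p g = x), F g := by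
  classical
  set Φ : G → ℂ := fun u => ∑ g ∈ Finset.univ.filter (fun g => pPartOf p g = u), F g with hΦ
  have hΦc : Cfsg.IsClassFunction G Φ := by
    intro u c
    refine (Finset.sum_equiv (MulAut.conj c).toEquiv (fun g => ?_) (fun g _ => ?_)).symm
    · simp only [Finset.mem_filter, Finset.mem_univ, true_and, MulEquiv.toEquiv_eq_coe,
        MulEquiv.coe_toEquiv, MulAut.conj_apply, pPartOf_conj, mul_left_inj, mul_right_inj]
    · exact (hF g c).symm
  have hsupp : ∀ u, Φ u ≠ 0 → ∃ k : ℕ, orderOf u = p ^ k := by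
    intro u hu
    obtain ⟨g, hg, -⟩ := Finset.exists_ne_zero_of_sum_ne_zero hu
    exact (Finset.mem_filter.1 hg).2 ▸ orderOf_pPartOf hp g
  have e1 : Φ = fun u => ∑ x ∈ X, if IsConj x u then Φ x else 0 := by
    funext u
    by_cases hu : ∃ k : ℕ, orderOf u = p ^ k
    · obtain ⟨x, ⟨hx, hux⟩, huniq⟩ := hXrep u hu
      rw [Finset.sum_eq_single_of_mem x hx fun y hy hne =>
        if_neg fun h => hne (huniq y ⟨hy, h.symm⟩), if_pos hux.symm]
      exact Char.classFun_isConj hΦc hux
    · rw [show Φ u = 0 from not_not.1 (mt (hsupp u) hu), Finset.sum_eq_zero fun x hx => ?_]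
      split_ifs with h
      · by_contra hne
        exact hu (hsupp u (by rwa [Char.classFun_isConj hΦc h] at hne))
      · rfl
  rw [← Finset.sum_fiberwise Finset.univ (pPartOf p) F]
  show ∑ u, Φ u = _
  conv_lhs => rw [e1]
  rw [Finset.sum_comm]
  refine Finset.sum_congr rfl fun x _ => ?_
  rw [← Finset.sum_filter, Finset.sum_const, nsmul_eq_mul, ← Char.card_isConj_eq_index,
    Nat.card_eq_fintype_card, Fintype.card_subtype]

end Cfsg.Agent.Blocks
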