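import Cfsg.Agent.Blocks.ClassAlgebra

/-!
# Blocks and block idempotents (Osima's theorem)
-/

namespace Cfsg.Agent.Blocks

open scoped ComplexConjugate
open Cfsg.Agent

universe u

variable {G : Type u} [Group G] {p : ℕ} {M : Ideal Cfsg.AlgInt}

/-- the central character values of irreducible characters are local integers -/
theorem memLocalRing_centralChar [Finite G] (hM : Cfsg.IsPModular p M) {χ : G → ℂ}
    (hχ : Cfsg.IsIrrCharacter G χ) (g : G) : Cfsg.MemLocalRing M (Cfsg.centralChar χ g) :=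
  memLocalRing_of_isIntegral hM (isIntegral_centralChar hχ g)

theorem memLocalRing_char [Finite G] (hM : Cfsg.IsPModular p M) {χ : G → ℂ}
    (hχ : Cfsg.IsCharacter G χ) (g : G) : Cfsg.MemLocalRing M (χ g) :=
  memLocalRing_of_isIntegral hM (Char.IsChar.isIntegral hχ g)

/-! ## the block relation -/

theorem sameBlock_refl (hM : Cfsg.IsPModular p M) (χ : G → ℂ) : Cfsg.SameBlock M χ χ := fun g => by
  rw [sub_self]; exact memLocalIdeal_zero hM

theorem sameBlock_symm {χ ψ : G → ℂ} (h : Cfsg.SameBlock M χ ψ) : Cfsg.SameBlock M ψ χ :=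
  fun g => neg_sub (Cfsg.centralChar χ g) (Cfsg.centralChar ψ g) ▸ memLocalIdeal_neg (h g)

theorem sameBlock_trans (hM : Cfsg.IsPModular p M) {χ ψ φ : G → ℂ} (h : Cfsg.SameBlock M χ ψ)
    (h' : Cfsg.SameBlock M ψ φ) : Cfsg.SameBlock M χ φ := fun g => by
  simpa using memLocalIdeal_add hM (h g) (h' g)

theorem mem_blockOf {χ : G → ℂ} {ψ : Cfsg.IrrCharacter G} :
    ψ ∈ Cfsg.blockOf M χ ↔ Cfsg.SameBlock M χ (ψ : G → ℂ) := Iff.rfl

theorem mem_blockOf_self (hM : Cfsg.IsPModular p M) (χ : Cfsg.IrrCharacter G) :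
    χ ∈ Cfsg.blockOf M (χ : G → ℂ) := sameBlock_refl hM _

theorem blockOf_eq_of_sameBlock (hM : Cfsg.IsPModular p M) {χ ψ : G → ℂ}
    (h : Cfsg.SameBlock M χ ψ) : Cfsg.blockOf M χ = Cfsg.blockOf M ψ := by
  ext φ
  exact ⟨fun h' => sameBlock_trans hM (sameBlock_symm h) h', fun h' => sameBlock_trans hM h h'⟩

theorem isPBlock_blockOf (χ : Cfsg.IrrCharacter G) :
    Cfsg.IsPBlock M (Cfsg.blockOf M (χ : G → ℂ)) := ⟨χ, rfl⟩

theorem IsPBlock.eq_blockOf (hM : Cfsg.IsPModular p M) {B : Set (Cfsg.IrrCharacter G)}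
    (hB : Cfsg.IsPBlock M B) {χ : Cfsg.IrrCharacter G} (hχ : χ ∈ B) :
    B = Cfsg.blockOf M (χ : G → ℂ) := by
  obtain ⟨ψ, rfl⟩ := hB
  exact blockOf_eq_of_sameBlock hM hχ

theorem IsPBlock.nonempty (hM : Cfsg.IsPModular p M) {B : Set (Cfsg.IrrCharacter G)}
    (hB : Cfsg.IsPBlock M B) : B.Nonempty := by
  obtain ⟨ψ, rfl⟩ := hB
  exact ⟨ψ, mem_blockOf_self hM ψ⟩

theorem IsPBlock.sameBlock (hM : Cfsg.IsPModular p M) {B : Set (Cfsg.IrrCharacter G)}
    (hB : Cfsg.IsPBlock M B) {χ ψ : Cfsg.IrrCharacter G} (hχ : χ ∈ B) (hψ : ψ ∈ B) :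
    Cfsg.SameBlock M (χ : G → ℂ) (ψ : G → ℂ) := by
  rw [IsPBlock.eq_blockOf hM hB hχ] at hψ
  exact hψ

theorem IsPBlock.mem_of_sameBlock (hM : Cfsg.IsPModular p M) {B : Set (Cfsg.IrrCharacter G)}
    (hB : Cfsg.IsPBlock M B) {χ ψ : Cfsg.IrrCharacter G} (hχ : χ ∈ B)
    (h : Cfsg.SameBlock M (χ : G → ℂ) (ψ : G → ℂ)) : ψ ∈ B := by
  rw [IsPBlock.eq_blockOf hM hB hχ]
  exact h

/-- The principal character as a member of `IrrCharacter`. -/
def triv (G : Type u) [Group G] : Cfsg.IrrCharacter G := ⟨fun _ => 1, Char.isIrrCharacter_one⟩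

theorem principalBlock_eq (M : Ideal Cfsg.AlgInt) :
    Cfsg.principalBlock M G = Cfsg.blockOf M ((triv G : Cfsg.IrrCharacter G) : G → ℂ) := rfl

theorem isPBlock_principalBlock (M : Ideal Cfsg.AlgInt) :
    Cfsg.IsPBlock M (Cfsg.principalBlock M G) := ⟨triv G, rfl⟩

theorem triv_mem_principalBlock (hM : Cfsg.IsPModular p M) :
    triv G ∈ Cfsg.principalBlock M G := mem_blockOf_self hM (triv G)

theorem centralChar_one (g : G) :
    Cfsg.centralChar (fun _ : G => (1 : ℂ)) g =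
      ((Subgroup.centralizer ({g} : Set G)).index : ℂ) := by
  simp [Cfsg.centralChar]

/-! ## idempotents -/

variable [Fintype G]

omit [Fintype G] in
theorem isClassFunction_blockCoeff (B : Set (Cfsg.IrrCharacter G)) :
    Cfsg.IsClassFunction G (Cfsg.blockCoeff B) := by
  intro g h
  simp only [Cfsg.blockCoeff]
  congr 1
  exact finsum_congr fun χ => finsum_congr fun _ => by
    rw [Char.isClassFunction_of_isIrr χ.2 g h]

theorem blockCoeff_eq_sum (B : Set (Cfsg.IrrCharacter G)) [DecidablePred (· ∈ B)] (g : G) :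
    Cfsg.blockCoeff B g = (Nat.card G : ℂ)⁻¹ *
      ∑ χ : Cfsg.IrrCharacter G, if χ ∈ B then (χ : G → ℂ) 1 * conj ((χ : G → ℂ) g) else 0 := by
  rw [Cfsg.blockCoeff, finsum_mem_eq_finite_toFinset_sum _ (Set.toFinite B), ← Finset.sum_filter]
  congr 1
  refine Finset.sum_congr ?_ fun _ _ => rfl
  ext χ; simp

theorem omega_blockCoeff (B : Set (Cfsg.IrrCharacter G)) [DecidablePred (· ∈ B)]
    (χ : Cfsg.IrrCharacter G) :
    omega (χ : G → ℂ) (Cfsg.blockCoeff B) = if χ ∈ B then 1 else 0 := by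
  classical
  rw [omega]
  simp only [blockCoeff_eq_sum B, mul_assoc, Finset.sum_mul]
  rw [← Finset.mul_sum, Finset.sum_comm]
  have h1 : ∀ ψ : Cfsg.IrrCharacter G,
      ∑ g, (if ψ ∈ B then (ψ : G → ℂ) 1 * conj ((ψ : G → ℂ) g) else 0) * (χ : G → ℂ) g =
        if ψ ∈ B then (ψ : G → ℂ) 1 * ((Nat.card G : ℂ) * if χ = ψ then 1 else 0) else 0 := by
    intro ψ
    split_ifs with h h' <;> try simp
    · subst h'
      have := (Char.classInner_irrChar χ χ).trans (if_pos rfl)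
      rw [Cfsg.classInner, inv_mul_eq_iff_eq_mul₀ (Nat.cast_ne_zero.2 Nat.card_pos.ne'), mul_one,
        Nat.card_eq_fintype_card] at this
      rw [← this, Finset.mul_sum]
      exact Finset.sum_congr rfl fun g _ => by ring
    · have := (Char.classInner_irrChar χ ψ).trans (if_neg h')
      rw [Cfsg.classInner, mul_eq_zero, inv_eq_zero] at this
      rw [Finset.sum_congr rfl (g := fun g => (ψ : G → ℂ) 1 * ((χ : G → ℂ) g * conj ((ψ : G → ℂ) g)))
        (fun g _ => by ring), ← Finset.mul_sum,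
        this.resolve_left (Nat.cast_ne_zero.2 Nat.card_pos.ne'), mul_zero]
  simp only [h1]
  have h0 := Char.IsIrr.one_ne_zero χ.2
  rw [Finset.sum_eq_single χ]
  · rw [if_pos rfl, mul_one]
    split_ifs
    · field_simp [Nat.cast_ne_zero (R := ℂ) |>.2 (Nat.card_pos (α := G)).ne']
    · simp
  · intro ψ _ hψ
    simp [Ne.symm hψ]
  · simp

theorem eq_blockCoeff {f : G → ℂ} (hf : Cfsg.IsClassFunction G f)
    (B : Set (Cfsg.IrrCharacter G)) [DecidablePred (· ∈ B)]
    (h : ∀ χ : Cfsg.IrrCharacter G, omega (χ : G → ℂ) f = if χ ∈ B then 1 else 0) :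
    f = Cfsg.blockCoeff B :=
  classFun_ext_omega hf (isClassFunction_blockCoeff B) fun χ => by rw [h, omega_blockCoeff]

theorem blockCoeff_conv (B : Set (Cfsg.IrrCharacter G)) :
    conv (Cfsg.blockCoeff B) (Cfsg.blockCoeff B) = Cfsg.blockCoeff B := by
  classical
  refine eq_blockCoeff (isClassFunction_conv (isClassFunction_blockCoeff B)
    (isClassFunction_blockCoeff B)) B fun χ => ?_
  rw [omega_conv χ.2 (isClassFunction_blockCoeff B) (isClassFunction_blockCoeff B), omega_blockCoeff]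
  split_ifs <;> simp

theorem blockCoeff_conv_disjoint {B B' : Set (Cfsg.IrrCharacter G)} (h : Disjoint B B') :
    conv (Cfsg.blockCoeff B) (Cfsg.blockCoeff B') = 0 := by
  classical
  refine classFun_ext_omega (isClassFunction_conv (isClassFunction_blockCoeff B)
    (isClassFunction_blockCoeff B')) (fun _ _ => rfl) fun χ => ?_
  rw [omega_conv χ.2 (isClassFunction_blockCoeff B) (isClassFunction_blockCoeff B'),
    omega_blockCoeff, omega_blockCoeff]
  by_cases hB : χ ∈ B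
  · simp [omega, Set.disjoint_left.1 h hB]
  · simp [omega, hB]

/-! ## functions on irreducible characters coming from integral central elements -/

/-- `Φ` is the function of central character values of a central element with coefficients in
the local ring. -/
def IsLocalCentral (M : Ideal Cfsg.AlgInt) (Φ : Cfsg.IrrCharacter G → ℂ) : Prop :=
  ∃ f : G → ℂ, Cfsg.IsClassFunction G f ∧ (∀ g, Cfsg.MemLocalRing M (f g)) ∧
    ∀ χ : Cfsg.IrrCharacter G, omega (χ : G → ℂ) f = Φ χ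

theorem memLocalRing_omega (hM : Cfsg.IsPModular p M) {χ f : G → ℂ}
    (hχ : Cfsg.IsIrrCharacter G χ) (hf : Cfsg.IsClassFunction G f)
    (hfR : ∀ g, Cfsg.MemLocalRing M (f g)) : Cfsg.MemLocalRing M (omega χ f) := by
  classical
  have : Finite (ConjClasses G) := Quotient.finite _
  have := Fintype.ofFinite (ConjClasses G)
  rw [omega_eq_sum_classes (Char.isClassFunction_of_isIrr hχ) hf]
  exact (localRing hM).sum_mem fun C _ =>
    (localRing hM).mul_mem (hfR _) (memLocalRing_centralChar hM hχ _)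

theorem memLocalIdeal_omega_sub (hM : Cfsg.IsPModular p M) {χ ψ f : G → ℂ}
    (hχ : Cfsg.IsIrrCharacter G χ) (hψ : Cfsg.IsIrrCharacter G ψ) (hf : Cfsg.IsClassFunction G f)
    (hfR : ∀ g, Cfsg.MemLocalRing M (f g)) (h : Cfsg.SameBlock M χ ψ) :
    Cfsg.MemLocalIdeal M (omega χ f - omega ψ f) := by
  classical
  have : Finite (ConjClasses G) := Quotient.finite _
  have := Fintype.ofFinite (ConjClasses G)
  rw [omega_eq_sum_classes (Char.isClassFunction_of_isIrr hχ) hf,
    omega_eq_sum_classes (Char.isClassFunction_of_isIrr hψ) hf, ← Finset.sum_sub_distrib]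
  exact memLocalIdeal_sum hM _ fun C _ => by
    rw [← mul_sub]; exact memLocalIdeal_mul_left hM (hfR _) (h _)

theorem IsLocalCentral.const (hM : Cfsg.IsPModular p M) {c : ℂ} (hc : Cfsg.MemLocalRing M c) :
    IsLocalCentral (G := G) M fun _ => c := by
  classical
  refine ⟨c • delta G, fun g k => ?_, fun g => ?_, fun χ => ?_⟩
  · simp [isClassFunction_delta g k]
  · simp only [Pi.smul_apply, delta, smul_eq_mul, mul_ite, mul_one, mul_zero]
    split
    · exact hc
    · exact (localRing hM).zero_mem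
  · rw [omega_smul, omega_delta (Char.IsIrr.one_ne_zero χ.2), mul_one]

theorem isLocalCentral_centralChar (hM : Cfsg.IsPModular p M) (g : G) :
    IsLocalCentral (G := G) M fun χ => Cfsg.centralChar (χ : G → ℂ) g := by
  classical
  refine ⟨classInd g, isClassFunction_classInd g, fun x => ?_,
    fun χ => omega_classInd (Char.isClassFunction_of_isIrr χ.2) g⟩
  rw [classInd_apply]
  split
  · exact (localRing hM).one_mem
  · exact (localRing hM).zero_mem

theorem IsLocalCentral.mul (hM : Cfsg.IsPModular p M) {Φ Ψ : Cfsg.IrrCharacter G → ℂ}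
    (h : IsLocalCentral M Φ) (h' : IsLocalCentral M Ψ) : IsLocalCentral M fun χ => Φ χ * Ψ χ := by
  obtain ⟨f, hf, hfR, hfΦ⟩ := h
  obtain ⟨f', hf', hfR', hfΨ⟩ := h'
  refine ⟨conv f f', isClassFunction_conv hf hf', fun z => (localRing hM).sum_mem
    fun g _ => (localRing hM).mul_mem (hfR g) (hfR' _), fun χ => ?_⟩
  rw [omega_conv χ.2 hf hf', hfΦ, hfΨ]

theorem IsLocalCentral.sub (hM : Cfsg.IsPModular p M) {Φ Ψ : Cfsg.IrrCharacter G → ℂ}
    (h : IsLocalCentral M Φ) (h' : IsLocalCentral M Ψ) : IsLocalCentral M fun χ => Φ χ - Ψ χ := by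
  obtain ⟨f, hf, hfR, hfΦ⟩ := h
  obtain ⟨f', hf', hfR', hfΨ⟩ := h'
  refine ⟨f - f', fun g k => ?_, fun z => (localRing hM).sub_mem (hfR z) (hfR' z), fun χ => ?_⟩
  · simp [hf g k, hf' g k]
  · rw [omega_sub, hfΦ, hfΨ]

theorem IsLocalCentral.prod (hM : Cfsg.IsPModular p M) {ι : Type*} (s : Finset ι)
    {Φ : ι → Cfsg.IrrCharacter G → ℂ} (h : ∀ i ∈ s, IsLocalCentral M (Φ i)) :
    IsLocalCentral M fun χ => ∏ i ∈ s, Φ i χ := by
  classical
  induction s using Finset.induction_on with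
  | empty => simpa using IsLocalCentral.const (G := G) hM (localRing hM).one_mem
  | insert i s hi ih =>
    simp only [Finset.prod_insert hi]
    exact (h i (Finset.mem_insert_self i s)).mul hM
      (ih fun j hj => h j (Finset.mem_insert_of_mem hj))

open scoped Classical in
/-- There is an integral central element that is `0` outside the block of `χ₀` and congruent
to `1` on it. -/
theorem exists_separating (hM : Cfsg.IsPModular p M) (χ₀ : Cfsg.IrrCharacter G) :
    ∃ Φ : Cfsg.IrrCharacter G → ℂ, IsLocalCentral M Φ ∧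
      (∀ χ : Cfsg.IrrCharacter G, ¬ Cfsg.SameBlock M (χ₀ : G → ℂ) (χ : G → ℂ) → Φ χ = 0) ∧
      (∀ χ : Cfsg.IrrCharacter G, Cfsg.SameBlock M (χ₀ : G → ℂ) (χ : G → ℂ) →
        Cfsg.MemLocalIdeal M (Φ χ - 1)) := by
  let F := Finset.univ.filter fun ψ : Cfsg.IrrCharacter G =>
    ¬ Cfsg.SameBlock M (χ₀ : G → ℂ) (ψ : G → ℂ)
  have hg : ∀ ψ ∈ F, ∃ g : G, ¬ Cfsg.MemLocalIdeal M
      (Cfsg.centralChar (χ₀ : G → ℂ) g - Cfsg.centralChar (ψ : G → ℂ) g) := fun ψ hψ =>
    not_forall.1 (Finset.mem_filter.1 hψ).2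
  choose! gf hgf using hg
  let T : Cfsg.IrrCharacter G → Cfsg.IrrCharacter G → ℂ := fun ψ χ =>
    (Cfsg.centralChar (χ : G → ℂ) (gf ψ) - Cfsg.centralChar (ψ : G → ℂ) (gf ψ)) *
      (Cfsg.centralChar (χ₀ : G → ℂ) (gf ψ) - Cfsg.centralChar (ψ : G → ℂ) (gf ψ))⁻¹
  have hinv : ∀ ψ ∈ F, Cfsg.MemLocalRing M
      (Cfsg.centralChar (χ₀ : G → ℂ) (gf ψ) - Cfsg.centralChar (ψ : G → ℂ) (gf ψ))⁻¹ := fun ψ hψ =>
    memLocalRing_inv ((localRing hM).sub_mem (memLocalRing_centralChar hM χ₀.2 _)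
      (memLocalRing_centralChar hM ψ.2 _)) (hgf ψ hψ)
  have hne : ∀ ψ ∈ F,
      Cfsg.centralChar (χ₀ : G → ℂ) (gf ψ) - Cfsg.centralChar (ψ : G → ℂ) (gf ψ) ≠ 0 :=
    fun ψ hψ e => hgf ψ hψ (e ▸ memLocalIdeal_zero hM)
  have hT : ∀ ψ ∈ F, IsLocalCentral M (T ψ) := fun ψ hψ =>
    ((isLocalCentral_centralChar hM (gf ψ)).sub hM
      (IsLocalCentral.const hM (memLocalRing_centralChar hM ψ.2 _))).mul hM
        (IsLocalCentral.const hM (hinv ψ hψ))
  refine ⟨fun χ => ∏ ψ ∈ F, T ψ χ, IsLocalCentral.prod hM F hT, fun χ hχ => ?_, fun χ hχ => ?_⟩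
  · exact Finset.prod_eq_zero (Finset.mem_filter.2 ⟨Finset.mem_univ χ, hχ⟩) (by simp [T])
  · have hTR : ∀ ψ ∈ F, Cfsg.MemLocalRing M (T ψ χ) := fun ψ hψ =>
      (localRing hM).mul_mem ((localRing hM).sub_mem (memLocalRing_centralChar hM χ.2 _)
        (memLocalRing_centralChar hM ψ.2 _)) (hinv ψ hψ)
    have key : ∀ s, s ⊆ F → Cfsg.MemLocalIdeal M ((∏ ψ ∈ s, T ψ χ) - 1) := by
      intro s
      induction s using Finset.induction_on with
      | empty => intro _; simpa using memLocalIdeal_zero hM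
      | insert i s hi ih =>
        intro hs
        have hi' := hs (Finset.mem_insert_self i s)
        have h1 : Cfsg.MemLocalIdeal M (T i χ - 1) := by
          have e : T i χ - 1 = (Cfsg.centralChar (χ : G → ℂ) (gf i) -
              Cfsg.centralChar (χ₀ : G → ℂ) (gf i)) *
              (Cfsg.centralChar (χ₀ : G → ℂ) (gf i) - Cfsg.centralChar (i : G → ℂ) (gf i))⁻¹ := by
            simp only [T]
            field_simp [hne i hi']
            ring
          rw [e]
          exact memLocalIdeal_mul_right hM (sameBlock_symm hχ _) (hinv i hi')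
        rw [Finset.prod_insert hi, show T i χ * ∏ x ∈ s, T x χ - 1 =
          T i χ * ((∏ x ∈ s, T x χ) - 1) + (T i χ - 1) by ring]
        exact memLocalIdeal_add hM (memLocalIdeal_mul_left hM (hTR i hi')
          (ih fun x hx => hs (Finset.mem_insert_of_mem hx))) h1
    exact key F subset_rfl

omit [Fintype G] in
/-- Osima's theorem: the block idempotent has local integral coefficients. -/
theorem memLocalRing_blockCoeff [Finite G] (hM : Cfsg.IsPModular p M)
    {B : Set (Cfsg.IrrCharacter G)} (hB : Cfsg.IsPBlock M B) (g : G) :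
    Cfsg.MemLocalRing M (Cfsg.blockCoeff B g) := by
  classical
  have := Fintype.ofFinite G
  obtain ⟨χ₀, rfl⟩ := hB
  obtain ⟨Φ, hΦ, h0, h1⟩ := exists_separating hM χ₀
  let S := Finset.univ.filter fun χ : Cfsg.IrrCharacter G =>
    Cfsg.SameBlock M (χ₀ : G → ℂ) (χ : G → ℂ)
  have hΦR : ∀ χ, Cfsg.MemLocalRing M (Φ χ) := fun χ => by
    obtain ⟨f, hf, hfR, hfΦ⟩ := hΦ
    exact hfΦ χ ▸ memLocalRing_omega hM χ.2 hf hfR
  have hunit : ∀ ψ ∈ S, ¬ Cfsg.MemLocalIdeal M (Φ ψ) := fun ψ hψ h => by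
    have := memLocalIdeal_sub hM h (h1 ψ (Finset.mem_filter.1 hψ).2)
    exact not_memLocalIdeal_one hM (by simpa using this)
  have hinv : ∀ ψ ∈ S, Cfsg.MemLocalRing M (Φ ψ)⁻¹ := fun ψ hψ =>
    memLocalRing_inv (hΦR ψ) (hunit ψ hψ)
  obtain ⟨f, hf, hfR, hfv⟩ := (IsLocalCentral.const (G := G) hM (localRing hM).one_mem).sub hM
    (IsLocalCentral.prod hM S (Φ := fun ψ χ => (Φ ψ - Φ χ) * (Φ ψ)⁻¹) fun ψ hψ =>
      ((IsLocalCentral.const hM (hΦR ψ)).sub hM hΦ).mul hM (IsLocalCentral.const hM (hinv ψ hψ)))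
  rw [← eq_blockCoeff hf (Cfsg.blockOf M (χ₀ : G → ℂ)) fun χ => ?_]
  · exact hfR g
  · rw [hfv]
    dsimp only
    by_cases hχ : Cfsg.SameBlock M (χ₀ : G → ℂ) (χ : G → ℂ)
    · rw [if_pos (mem_blockOf.2 hχ), Finset.prod_eq_zero (i := χ)
        (Finset.mem_filter.2 ⟨Finset.mem_univ χ, hχ⟩) (by simp), sub_zero]
    · rw [if_neg (mt mem_blockOf.1 hχ), Finset.prod_eq_one, sub_self]
      intro ψ hψ
      rw [h0 χ hχ, sub_zero, mul_inv_cancel₀]
      exact fun e => hunit ψ hψ (e ▸ memLocalIdeal_zero hM)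

omit [Fintype G] in
/-- A set with local integral idempotent coefficients is a union of blocks. -/
theorem mem_of_sameBlock_of_memLocalRing [Finite G] (hM : Cfsg.IsPModular p M)
    {A : Set (Cfsg.IrrCharacter G)} (hA : ∀ g, Cfsg.MemLocalRing M (Cfsg.blockCoeff A g))
    {χ ψ : Cfsg.IrrCharacter G} (hχ : χ ∈ A) (h : Cfsg.SameBlock M (χ : G → ℂ) (ψ : G → ℂ)) :
    ψ ∈ A := by
  classical
  have := Fintype.ofFinite G
  by_contra hψ
  have := memLocalIdeal_omega_sub hM χ.2 ψ.2 (isClassFunction_blockCoeff A) hA h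
  rw [omega_blockCoeff, omega_blockCoeff, if_pos hχ, if_neg hψ, sub_zero] at this
  exact not_memLocalIdeal_one hM this

omit [Fintype G] in
/-- Every block has a defect class. -/
theorem exists_isDefectClass [Finite G] (hM : Cfsg.IsPModular p M)
    {B : Set (Cfsg.IrrCharacter G)} (hB : Cfsg.IsPBlock M B) :
    ∃ g : G, Cfsg.IsDefectClass M B g := by
  classical
  have := Fintype.ofFinite G
  have : Finite (ConjClasses G) := Quotient.finite _
  have := Fintype.ofFinite (ConjClasses G)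
  obtain ⟨χ, hχ⟩ := IsPBlock.nonempty hM hB
  by_contra hne
  have hb := memLocalRing_blockCoeff hM hB
  have h1 := omega_blockCoeff B χ
  rw [if_pos hχ, omega_eq_sum_classes (Char.isClassFunction_of_isIrr χ.2)
    (isClassFunction_blockCoeff B)] at h1
  refine not_memLocalIdeal_one hM (h1 ▸ memLocalIdeal_sum hM _ fun C _ => ?_)
  by_cases h : Cfsg.MemLocalIdeal M (Cfsg.blockCoeff B C.out)
  · exact memLocalIdeal_mul_right hM h (memLocalRing_centralChar hM χ.2 _)
  · refine memLocalIdeal_mul_left hM (hb _) (not_not.1 fun h' => hne ⟨C.out, hb _, h, ?_⟩)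
    intro ψ hψ hψ'
    have := memLocalIdeal_add hM (IsPBlock.sameBlock hM hB hχ hψ C.out) hψ'
    exact h' (by simpa using this)

end Cfsg.Agent.Blocks
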