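import Cfsg.Agent.Blocks.SecondMain
import Cfsg.Agent.BlockThms.Eta
import Cfsg.Agent.Core.PCore
import Cfsg.Agent.Char.Integral

/-!
# The principal block on centralisers, and groups with a normal p-complement
-/

namespace Cfsg.Agent.Blocks

open scoped ComplexConjugate
open Cfsg.Agent

universe u

variable {G : Type u} [Group G] [Fintype G] {p : ℕ} {M : Ideal Cfsg.AlgInt}

/-- Brauer's third main theorem for the centraliser of a `p`-subgroup, principal block. -/
theorem inducing_principalBlock (hM : Cfsg.IsPModular p M) {P H : Subgroup G} [Fintype H]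
    (hP : IsPGroup p P) (hH : ∀ a : G, a ∈ H ↔ ∀ u ∈ P, u * a = a * u) :
    inducing M H (Cfsg.principalBlock M G) = Cfsg.principalBlock M H := by
  classical
  ext ψ
  have hB := isPBlock_principalBlock (G := G) M
  rw [mem_inducing_iff hM hP hH hB (isPBlock_blockOf ψ) (mem_blockOf_self hM ψ)]
  obtain ⟨χ, -, hiff⟩ := inducing_zero_or_one hM hP hH hB ψ
  have hdef : Cfsg.InducedBlockDefined M H (Cfsg.blockOf M (ψ : H → ℂ)) := by
    obtain ⟨χ₀, hχ₀⟩ := (isCenHom_res hM hP hH ψ).exists_char hM
    refine ⟨Cfsg.blockOf M (χ₀ : G → ℂ),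
      (mem_inducing_iff hM hP hH (isPBlock_blockOf χ₀) (isPBlock_blockOf ψ)
        (mem_blockOf_self hM ψ)).1 fun hd => ?_⟩
    have := hχ₀ _ (isClassFunction_blockCoeff (Cfsg.blockOf M (χ₀ : G → ℂ)))
      (memLocalRing_blockCoeff hM (isPBlock_blockOf χ₀))
    rw [omega_blockCoeff, if_pos (mem_blockOf_self hM χ₀)] at this
    exact not_memLocalIdeal_one hM (by simpa using memLocalIdeal_sub hM hd this)
  have h := BlockThms.isInducedBlock_iff hM H (triv G) (triv H) rfl
    (BlockThms.blockHeight_triv hM) (BlockThms.blockHeight_triv hM) _ hdef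
  rw [← principalBlock_eq, ← principalBlock_eq] at h
  rw [h]
  exact ⟨fun e => e ▸ mem_blockOf_self hM ψ, fun hψ =>
    (IsPBlock.eq_blockOf hM (isPBlock_principalBlock M) hψ).symm⟩

open scoped Classical in
/-- A character whose sum over a subgroup is maximal is constant there. -/
theorem char_eq_degree_of_sum_eq {χ : G → ℂ} (hc : Cfsg.IsCharacter G χ) (K : Subgroup G)
    (h1 : ∑ y ∈ Finset.univ.filter (· ∈ K), χ y = (Nat.card K : ℂ) * χ 1) {x : G} (hx : x ∈ K) :
    χ x = χ 1 := by
  obtain ⟨n, hn⟩ := Char.IsChar.degree hc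
  have hle : ∀ y, (χ y).re ≤ (χ 1).re := fun y =>
    (Complex.re_le_norm _).trans (Char.IsChar.norm_le hc y)
  have hre : ∑ y ∈ Finset.univ.filter (· ∈ K), ((χ 1).re - (χ y).re) = 0 := by
    rw [Finset.sum_sub_distrib, Finset.sum_const, nsmul_eq_mul, ← Complex.re_sum, h1, hn,
      ← Fintype.card_subtype, ← Nat.card_eq_fintype_card]
    simp
  have heq := (Finset.sum_eq_zero_iff_of_nonneg fun y _ => sub_nonneg.2 (hle y)).1 hre x
    (Finset.mem_filter.2 ⟨Finset.mem_univ x, hx⟩)
  have hxn := Char.IsChar.norm_le hc x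
  rw [hn] at heq hxn ⊢
  simp only [Complex.natCast_re] at heq hxn
  have hre' : (χ x).re = n := by linarith
  have hsq := Complex.sq_norm (χ x)
  rw [Complex.normSq_apply, hre'] at hsq
  have him : (χ x).im = 0 := by nlinarith [norm_nonneg (χ x)]
  exact Complex.ext (by simpa using hre') (by simpa using him)

open scoped Classical in
/-- In a group with a normal `p`-complement `K` the idempotent of the principal block is the
average over `K`. -/
theorem blockCoeff_principalBlock_of_complement (hM : Cfsg.IsPModular p M) (K : Subgroup G)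
    [K.Normal] (hK : ¬ p ∣ Nat.card K) (hidx : ∃ k, K.index = p ^ k) (g : G) :
    Cfsg.blockCoeff (Cfsg.principalBlock M G) g = if g ∈ K then (Nat.card K : ℂ)⁻¹ else 0 := by
  have hp := hM.1
  set e : G → ℂ := fun g => if g ∈ K then (Nat.card K : ℂ)⁻¹ else 0 with he
  have hKne : (Nat.card K : ℂ) ≠ 0 := Nat.cast_ne_zero.2 Nat.card_pos.ne'
  have hec : Cfsg.IsClassFunction G e := fun g k => by
    have : k * g * k⁻¹ ∈ K ↔ g ∈ K := ⟨fun h => by
      have := Subgroup.Normal.conj_mem (inferInstance : K.Normal) _ h k⁻¹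
      simpa [mul_assoc] using this, fun h => Subgroup.Normal.conj_mem inferInstance g h k⟩
    simp only [he, this]
  have hcardf : ((Finset.univ.filter (· ∈ K)).card : ℂ) = Nat.card K := by
    rw [← Fintype.card_subtype, ← Nat.card_eq_fintype_card]
  have hidem : conv e e = e := by
    funext z
    simp only [conv, he]
    have : ∀ a : G, ((if a ∈ K then (Nat.card K : ℂ)⁻¹ else 0) *
        if a⁻¹ * z ∈ K then (Nat.card K : ℂ)⁻¹ else 0) =
        if a ∈ K then (if z ∈ K then (Nat.card K : ℂ)⁻¹ * (Nat.card K : ℂ)⁻¹ else 0) else 0 := by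
      intro a
      by_cases ha : a ∈ K
      · simp [ha, K.mul_mem_cancel_left (inv_mem ha)]
      · simp [ha]
    rw [Finset.sum_congr rfl fun a _ => this a, ← Finset.sum_filter, Finset.sum_const,
      nsmul_eq_mul, hcardf]
    split_ifs
    · field_simp
    · simp
  have heR : ∀ g, Cfsg.MemLocalRing M (e g) := fun g => by
    simp only [he]
    split_ifs
    · exact memLocalRing_natCast_inv hM hK
    · exact (localRing hM).zero_mem
  set A : Set (Cfsg.IrrCharacter G) := {χ | omega (χ : G → ℂ) e = 1} with hA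
  have heA : e = Cfsg.blockCoeff A := eq_blockCoeff hec A fun χ => by
    have h2 : omega (χ : G → ℂ) e * omega (χ : G → ℂ) e = omega (χ : G → ℂ) e := by
      rw [← omega_conv χ.2 hec hec, hidem]
    by_cases h : χ ∈ A
    · rw [if_pos h]; exact h
    · rw [if_neg h]
      exact ((IsIdempotentElem.iff_eq_zero_or_one).1 h2).resolve_right h
  have htriv : triv G ∈ A := by
    show omega (fun _ : G => (1 : ℂ)) e = 1
    simp only [omega, he, mul_one, div_one]
    rw [← Finset.sum_filter, Finset.sum_const, nsmul_eq_mul, hcardf, mul_inv_cancel₀ hKne]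
  have hsub : Cfsg.principalBlock M G ⊆ A := fun χ hχ =>
    mem_of_sameBlock_of_memLocalRing hM (fun g => heA ▸ heR g) htriv (mem_blockOf.1 hχ)
  -- members of `A` are trivial on `K`
  have hker : ∀ χ ∈ A, ∀ x ∈ K, (χ : G → ℂ) x = (χ : G → ℂ) 1 := by
    intro χ hχ x hx
    refine char_eq_degree_of_sum_eq (Char.IsIrr.isCharacter χ.2) K ?_ hx
    have : omega (χ : G → ℂ) e = 1 := hχ
    rw [omega, div_eq_one_iff_eq (Char.IsIrr.one_ne_zero χ.2)] at this
    rw [← this, Finset.mul_sum, Finset.sum_filter]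
    refine Finset.sum_congr rfl fun y _ => ?_
    simp only [he]
    by_cases hy : y ∈ K
    · rw [if_pos hy, if_pos hy, mul_inv_cancel_left₀ hKne]
    · rw [if_neg hy, if_neg hy, zero_mul, mul_zero]
  -- and belong to the principal block
  have hsup : ∀ g, g ∉ K → p ∣ orderOf g := by
    intro g hg
    by_contra hd
    obtain ⟨k, hk⟩ := hidx
    refine hg ?_
    have h1 : g ^ K.index ∈ K := K.pow_index_mem g
    rw [hk] at h1
    obtain ⟨m, hm⟩ := exists_pow_eq_self_of_coprime
      (n := p ^ k) (x := g) ((hp.coprime_iff_not_dvd.2 hd).pow_left k)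
    rw [← hm]
    exact pow_mem h1 m
  have hsub' : A ⊆ Cfsg.principalBlock M G := by
    intro χ hχ
    have hB := isPBlock_principalBlock (G := G) M
    have h1 : omega (χ : G → ℂ) (Cfsg.blockCoeff (Cfsg.principalBlock M G)) =
        omega ((triv G : Cfsg.IrrCharacter G) : G → ℂ)
          (Cfsg.blockCoeff (Cfsg.principalBlock M G)) := by
      show _ = (∑ y, _ * (1 : ℂ)) / 1
      rw [omega, div_one, Finset.sum_div]
      refine Finset.sum_congr rfl fun y _ => ?_
      by_cases hy : y ∈ K
      · rw [hker χ hχ y hy, mul_one, mul_div_cancel_right₀ _ (Char.IsIrr.one_ne_zero χ.2)]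
      · rw [blockCoeff_eq_zero_of_dvd hM hB (hsup y hy)]
        simp
    rw [omega_blockCoeff, omega_blockCoeff, if_pos (triv_mem_principalBlock hM)] at h1
    by_contra hne
    rw [if_neg hne] at h1
    exact zero_ne_one h1
  rw [Set.Subset.antisymm hsub hsub', ← heA]

end Cfsg.Agent.Blocks
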