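import Cfsg.Agent.Blocks.WeakOrth
import Cfsg.Prelude.Def_BlockRank

/-!
# The regular part of a character stays in its block
-/

namespace Cfsg.Agent.Blocks

open scoped ComplexConjugate
open Cfsg.Agent

universe u

variable {G : Type u} [Group G] {p : ℕ} {M : Ideal Cfsg.AlgInt}

theorem pRegularPart_apply (p : ℕ) (χ : G → ℂ) (g : G) :
    Cfsg.pRegularPart p χ g = if p ∣ orderOf g then 0 else χ g := by
  by_cases h : p ∣ orderOf g <;> simp [Cfsg.pRegularPart, Cfsg.IsPRegular, h]

theorem orderOf_conj' (g k : G) : orderOf (k * g * k⁻¹) = orderOf g :=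
  orderOf_injective (MulAut.conj k).toMonoidHom (MulAut.conj k).injective g

theorem isClassFunction_pRegularPart (p : ℕ) {χ : G → ℂ} (hχ : Cfsg.IsClassFunction G χ) :
    Cfsg.IsClassFunction G (Cfsg.pRegularPart p χ) := by
  intro g k
  rw [pRegularPart_apply, pRegularPart_apply, orderOf_conj', hχ g k]

variable [Fintype G]

open scoped Classical in
theorem pRegularPart_eq_sum (hM : Cfsg.IsPModular p M) {B : Set (Cfsg.IrrCharacter G)}
    (hB : Cfsg.IsPBlock M B) {χ : Cfsg.IrrCharacter G} (hχ : χ ∈ B) :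
    Cfsg.pRegularPart p (χ : G → ℂ) =
      ∑ φ : Cfsg.IrrCharacter G, if φ ∈ B then
        Cfsg.classInner (Cfsg.pRegularPart p (χ : G → ℂ)) (φ : G → ℂ) • (φ : G → ℂ) else 0 := by
  funext x
  simp only [Finset.sum_apply, ite_apply, Pi.smul_apply, smul_eq_mul, Pi.zero_apply]
  -- the kernel of the projection on the block
  let K : G → G → ℂ := fun x y => ∑ᶠ φ ∈ B, (φ : G → ℂ) x * conj ((φ : G → ℂ) y)
  have hK : ∀ x y, K x y = ∑ φ : Cfsg.IrrCharacter G,
      if φ ∈ B then (φ : G → ℂ) x * conj ((φ : G → ℂ) y) else 0 := by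
    intro x y
    simp only [K, finsum_mem_eq_finite_toFinset_sum _ (Set.toFinite B), ← Finset.sum_filter]
    exact Finset.sum_congr (by ext; simp) fun _ _ => rfl
  have hKsymm : ∀ x y, K x y = conj (K y x) := by
    intro x y
    simp only [hK, map_sum, apply_ite conj, map_mul, map_zero, Complex.conj_conj]
    exact Finset.sum_congr rfl fun φ _ => by split_ifs <;> ring
  have hsum : ∀ f : G → ℂ, ∑ φ : Cfsg.IrrCharacter G,
      (if φ ∈ B then Cfsg.classInner f (φ : G → ℂ) * (φ : G → ℂ) x else 0) =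
        (Nat.card G : ℂ)⁻¹ * ∑ y, f y * K x y := by
    intro f
    simp only [hK, Finset.mul_sum]
    rw [Finset.sum_comm]
    refine Finset.sum_congr rfl fun φ _ => ?_
    split_ifs
    · simp only [Cfsg.classInner, Finset.mul_sum, Finset.sum_mul]
      exact Finset.sum_congr rfl fun y _ => by ring
    · simp
  rw [hsum]
  by_cases hx : p ∣ orderOf x
  · rw [pRegularPart_apply, if_pos hx, Finset.sum_eq_zero fun y _ => ?_, mul_zero]
    rw [pRegularPart_apply]
    split_ifs with hy
    · rw [zero_mul]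
    · rw [hKsymm, show K y x = 0 from weak_orthogonality hM hB hy hx, map_zero, mul_zero]
  · have h1 : ∑ y, Cfsg.pRegularPart p (χ : G → ℂ) y * K x y = ∑ y, (χ : G → ℂ) y * K x y := by
      refine Finset.sum_congr rfl fun y _ => ?_
      rw [pRegularPart_apply]
      split_ifs with hy
      · rw [show K x y = 0 from weak_orthogonality hM hB hx hy, mul_zero, mul_zero]
      · rfl
    rw [h1, ← hsum, pRegularPart_apply, if_neg hx, Finset.sum_eq_single χ]
    · rw [if_pos hχ, Char.classInner_irr_self χ.2, one_mul]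
    · intro φ _ hne
      split_ifs
      · rw [Char.classInner_irrChar, if_neg (Ne.symm hne), zero_mul]
      · rfl
    · simp

/-- Characters in different blocks are orthogonal on the p-regular elements. -/
theorem classInner_pRegularPart_eq_zero (hM : Cfsg.IsPModular p M)
    {B : Set (Cfsg.IrrCharacter G)} (hB : Cfsg.IsPBlock M B) {χ ψ : Cfsg.IrrCharacter G}
    (hχ : χ ∈ B) (hψ : ψ ∉ B) :
    Cfsg.classInner (Cfsg.pRegularPart p (χ : G → ℂ)) (ψ : G → ℂ) = 0 := by
  classical
  conv_lhs => rw [pRegularPart_eq_sum hM hB hχ]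
  rw [Char.classInner_sum_left]
  refine Finset.sum_eq_zero fun φ _ => ?_
  split_ifs with h
  · rw [Char.classInner_smul_left, Char.classInner_irrChar, if_neg (fun e : φ = ψ => hψ (e ▸ h)), mul_zero]
  · simp [Cfsg.classInner]

/-- A block idempotent is supported on p-regular elements. -/
theorem blockCoeff_eq_zero_of_dvd (hM : Cfsg.IsPModular p M) {B : Set (Cfsg.IrrCharacter G)}
    (hB : Cfsg.IsPBlock M B) {g : G} (hg : p ∣ orderOf g) : Cfsg.blockCoeff B g = 0 := by
  have h := weak_orthogonality hM hB (x := (1 : G)) (by simp [hM.1.ne_one]) hg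
  rw [Cfsg.blockCoeff, h, mul_zero]

end Cfsg.Agent.Blocks
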