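import Cfsg.Agent.Blocks.Congr
import Cfsg.Agent.Char.Induced

/-!
# Sums of characters over sections and over p-regular elements

The indicator function of the q-elements is a local-integral combination of characters at a prime
ideal over q (no Brauer induction is needed); hence `p^a / |G| * ∑_{x regular} θ x` is an integer
for every character θ.
-/

namespace Cfsg.Agent.Blocks

open scoped ComplexConjugate
open Cfsg.Agent

universe u

variable {G : Type u} [Group G] {p : ℕ} {M : Ideal Cfsg.AlgInt}

/-- the value at a product with a central element -/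
theorem irr_mul_central [Fintype G] {ψ : G → ℂ} (hψ : Cfsg.IsIrrCharacter G ψ) {s : G}
    (hs : s ∈ Subgroup.center G) (t : G) : ψ (s * t) = Cfsg.centralChar ψ s * ψ t := by
  classical
  obtain ⟨n, ρ, hρ, rfl⟩ := hψ
  have h := sum_smul_rep_eq_omega ρ hρ (isClassFunction_classInd s)
  rw [omega_classInd (Char.isClassFunction_of_isCharacter ⟨n, ρ, rfl⟩)] at h
  have hc : classInd s = fun g => if g = s then (1 : ℂ) else 0 := by
    funext g
    rw [classInd_apply]
    refine if_congr ?_ rfl rfl
    constructor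
    · intro h
      obtain ⟨k, hk⟩ := isConj_iff.1 h
      rw [← hk, Subgroup.mem_center_iff.1 hs k, mul_inv_cancel_right]
    · rintro rfl; exact IsConj.refl _
  rw [hc] at h
  simp only [ite_smul, one_smul, zero_smul, Finset.sum_ite_eq', Finset.mem_univ, if_true] at h
  show LinearMap.trace ℂ _ (ρ (s * t)) = _
  rw [map_mul, h, smul_mul_assoc, map_smul]
  rfl

/-- Restricting to the centralizer of `s` splits off `s` by integral scalars. -/
theorem exists_decomp_central [Finite G] {χ : G → ℂ} (hχ : Cfsg.IsCharacter G χ) (H : Subgroup G)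
    {s : H} (hs : s ∈ Subgroup.center H) :
    ∃ l : Multiset (Cfsg.IrrCharacter H), ∀ t : H, χ ((s : G) * (t : G)) =
      (l.map fun ψ : Cfsg.IrrCharacter H =>
        Cfsg.centralChar (ψ : H → ℂ) s * (ψ : H → ℂ) t).sum := by
  have := Fintype.ofFinite G
  have := Fintype.ofFinite H
  obtain ⟨l, hl⟩ := Char.IsChar.exists_multiset (Char.isCharacter_res H hχ)
  refine ⟨l, fun t => ?_⟩
  have := congrFun hl (s * t)
  simp only [Subgroup.coe_mul] at this
  rw [this, Pi.multiset_sum_apply, Multiset.map_map]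
  congr 1
  exact Multiset.map_congr rfl fun ψ _ => irr_mul_central ψ.2 hs t

theorem mem_localRing_multiset_sum (hM : Cfsg.IsPModular p M) {l : Multiset ℂ}
    (h : ∀ z ∈ l, Cfsg.MemLocalRing M z) : Cfsg.MemLocalRing M l.sum :=
  (localRing hM).multiset_sum_mem l h

/-- The indicator of the p-elements is a local combination of characters. -/
theorem memLocalRing_sum_pElements [Fintype G] (hM : Cfsg.IsPModular p M) {θ : G → ℂ}
    (hθ : Cfsg.IsCharacter G θ) [DecidablePred fun x : G => ∃ k, orderOf x = p ^ k] :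
    Cfsg.MemLocalRing M ((Nat.card G : ℂ)⁻¹ *
      ∑ x ∈ Finset.univ.filter (fun x : G => ∃ k, orderOf x = p ^ k), θ x) := by
  classical
  have := Fact.mk hM.1
  obtain ⟨Q⟩ : Nonempty (Sylow p G) := inferInstance
  set f := Cfsg.indFun (Q : Subgroup G) (fun _ => (1 : ℂ)) with hf
  have hfc : Cfsg.IsCharacter G f := Char.isCharacter_indFun _ Char.isCharacter_one
  let N : G → ℕ := fun t =>
    Nat.card {c : G ⧸ (Q : Subgroup G) // t • c = c}
  have hval : ∀ t, f t = (N t : ℂ) := by
    intro t
    rw [hf, Cfsg.indFun, inv_mul_eq_iff_eq_mul₀ (Nat.cast_ne_zero.2 Nat.card_pos.ne')]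
    simp only [Cfsg.extendByZero]
    have hex : ∀ y : G, Function.extend (Subtype.val : ↥(Q : Subgroup G) → G) (fun _ => (1 : ℂ)) 0 y =
        if y ∈ (Q : Subgroup G) then 1 else 0 := by
      intro y
      by_cases hy : y ∈ (Q : Subgroup G)
      · rw [if_pos hy]; exact Subtype.val_injective.extend_apply _ _ ⟨y, hy⟩
      · rw [if_neg hy, Function.extend_apply']
        · rfl
        · rintro ⟨a, rfl⟩; exact hy a.2
    simp only [hex, Finset.sum_boole]
    rw [← Fintype.card_subtype, ← Nat.card_eq_fintype_card, ← Nat.cast_mul]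
    congr 1
    rw [← Nat.card_prod]
    exact Nat.card_congr
      ((Equiv.subtypeEquivRight fun x => by
        show _ ↔ (x : G ⧸ (Q : Subgroup G)) ∈ {c : G ⧸ (Q : Subgroup G) | t • c = c}
        rw [Set.mem_setOf, MulAction.Quotient.smul_coe, eq_comm, QuotientGroup.eq, smul_eq_mul,
          mul_assoc]).trans
        ((QuotientGroup.preimageMkEquivSubgroupProdSet (Q : Subgroup G)
          {c : G ⧸ (Q : Subgroup G) | t • c = c}).trans (Equiv.refl _)))
  have hzero : ∀ t, (¬ ∃ k, orderOf t = p ^ k) → N t = 0 := by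
    intro t ht
    have : IsEmpty {c : G ⧸ (Q : Subgroup G) // t • c = c} := by
      constructor
      rintro ⟨c, hc⟩
      induction c using QuotientGroup.induction_on with
      | H x =>
        rw [MulAction.Quotient.smul_coe, eq_comm, QuotientGroup.eq, smul_eq_mul] at hc
        refine ht ?_
        obtain ⟨k, hk⟩ := IsPGroup.iff_orderOf.1 Q.2 ⟨x⁻¹ * (t * x), hc⟩
        refine ⟨k, ?_⟩
        rw [← hk, Subgroup.orderOf_mk,
          show x⁻¹ * (t * x) = MulAut.conj x⁻¹ t by simp [mul_assoc], MulEquiv.orderOf_eq]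
    simp [N]
  have hcong : ∀ t, (∃ k, orderOf t = p ^ k) → ¬ p ∣ N t := by
    intro t ht hd
    obtain ⟨k, hk⟩ := ht
    have hP : IsPGroup p (Subgroup.zpowers t) :=
      IsPGroup.of_card (n := k) (by rw [Nat.card_zpowers, hk])
    have h1 := hP.card_modEq_card_fixedPoints (G ⧸ (Q : Subgroup G))
    have h2 : Nat.card (MulAction.fixedPoints (Subgroup.zpowers t) (G ⧸ (Q : Subgroup G))) = N t := by
      refine Nat.card_congr (Equiv.subtypeEquivRight fun c => ⟨fun h => ?_, fun h => ?_⟩)
      · exact h ⟨t, Subgroup.mem_zpowers t⟩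
      · rintro ⟨s, hs⟩
        obtain ⟨i, rfl⟩ := Subgroup.mem_zpowers_iff.1 hs
        exact MulAction.fixedBy_subset_fixedBy_zpow (G ⧸ (Q : Subgroup G)) t i h
    rw [h2] at h1
    exact Q.not_dvd_index (by
      rw [← Subgroup.index_eq_card] at h1
      exact Nat.modEq_zero_iff_dvd.1 (h1.trans (Nat.modEq_zero_iff_dvd.2 hd)))
  -- the property of being a local combination
  let Loc : (G → ℂ) → Prop := fun g => ∀ θ : G → ℂ, Cfsg.IsCharacter G θ →
    Cfsg.MemLocalRing M ((Nat.card G : ℂ)⁻¹ * ∑ x, g x * θ x)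
  have hone : Loc (fun _ => 1) := by
    intro θ hθ
    obtain ⟨n, hn⟩ := Char.classInner_isCharacter_eq_natCast hθ (Char.isCharacter_one (G := G))
    have : (Nat.card G : ℂ)⁻¹ * ∑ x, 1 * θ x = (n : ℂ) := by
      rw [← hn, Cfsg.classInner]; simp
    rw [this]; exact memLocalRing_natCast hM n
  have hstep : ∀ (g : G → ℂ) (c : ℂ), Cfsg.MemLocalRing M c → Loc g →
      Loc (fun x => (1 - c * f x) * g x) := by
    intro g c hc hg θ hθ
    have : (Nat.card G : ℂ)⁻¹ * ∑ x, (1 - c * f x) * g x * θ x =
        (Nat.card G : ℂ)⁻¹ * ∑ x, g x * θ x -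
          c * ((Nat.card G : ℂ)⁻¹ * ∑ x, g x * (f * θ) x) := by
      simp only [sub_mul, one_mul, Finset.sum_sub_distrib, mul_sub, Finset.mul_sum, Pi.mul_apply]
      congr 1
      exact Finset.sum_congr rfl fun x _ => by ring
    rw [this]
    exact (localRing hM).sub_mem (hg θ hθ)
      ((localRing hM).mul_mem hc (hg _ (Char.isCharacter_mul hfc hθ)))
  set V := (Finset.univ.filter fun x : G => ∃ k, orderOf x = p ^ k).image N with hV
  have hprod : ∀ s ⊆ V, Loc (fun x => ∏ v ∈ s, (1 - (v : ℂ)⁻¹ * f x)) := by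
    intro s
    induction s using Finset.induction_on with
    | empty => intro _; simpa using hone
    | insert v s hv ih =>
      intro hs
      simp only [Finset.prod_insert hv]
      refine hstep _ _ (memLocalRing_natCast_inv hM ?_) (ih fun x hx => hs (Finset.mem_insert_of_mem hx))
      obtain ⟨t, ht, rfl⟩ := Finset.mem_image.1 (hs (Finset.mem_insert_self v s))
      exact hcong t (Finset.mem_filter.1 ht).2
  have key := hprod V subset_rfl θ hθ
  have e : (Nat.card G : ℂ)⁻¹ * ∑ x ∈ Finset.univ.filter (fun x : G => ∃ k, orderOf x = p ^ k), θ x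
      = (Nat.card G : ℂ)⁻¹ * ∑ x, 1 * θ x -
        (Nat.card G : ℂ)⁻¹ * ∑ x, (∏ v ∈ V, (1 - (v : ℂ)⁻¹ * f x)) * θ x := by
    rw [← mul_sub, ← Finset.sum_sub_distrib, Finset.sum_filter]
    congr 1
    refine Finset.sum_congr rfl fun x _ => ?_
    split_ifs with h
    · rw [Finset.prod_eq_zero (i := N x) (Finset.mem_image.2 ⟨x, Finset.mem_filter.2 ⟨Finset.mem_univ _, h⟩, rfl⟩)]
      · ring
      · rw [hval, inv_mul_cancel₀ (Nat.cast_ne_zero.2 fun e : N x = 0 => hcong x h (by rw [e]; exact dvd_zero p)), sub_self]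
    · rw [Finset.prod_eq_one fun v _ => by rw [hval, hzero x h]; simp]
      ring
  rw [e]
  exact (localRing hM).sub_mem (hone θ hθ) key

/-- A number that is rational and locally integral everywhere is a rational integer. -/
theorem exists_int_of_forall_local (q : ℚ)
    (h : ∀ ℓ : ℕ, ℓ.Prime → ∀ M : Ideal Cfsg.AlgInt, Cfsg.IsPModular ℓ M →
      Cfsg.MemLocalRing M (q : ℂ)) : ∃ n : ℤ, (q : ℂ) = n := by
  refine ⟨q.num, ?_⟩
  suffices q.den = 1 by exact_mod_cast congrArg (fun r : ℚ => (r : ℂ)) (Rat.den_eq_one_iff q |>.1 this).symm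
  by_contra hne
  obtain ⟨ℓ, hℓ, hd⟩ := Nat.exists_prime_and_dvd hne
  obtain ⟨M, hM⟩ := exists_isPModular ℓ hℓ
  have h1 : Cfsg.MemLocalIdeal M (q.num : ℂ) := by
    have e : (q.num : ℂ) = (q : ℂ) * (q.den : ℂ) := by exact_mod_cast (Rat.mul_den_eq_num q).symm
    rw [e]
    exact memLocalIdeal_mul_left hM (h ℓ hℓ M hM) ((memLocalIdeal_natCast_iff hM _).2 hd)
  have h2 := (memLocalIdeal_intCast_iff hM _).1 h1
  exact hℓ.one_lt.ne' (Nat.dvd_one.1 (q.reduced ▸ Nat.dvd_gcd (Int.natCast_dvd.1 h2) hd))

section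
variable [Fintype G]

/-- the sum over the elements generating the same cyclic group is a rational integer -/
theorem sum_generators_int {θ : G → ℂ} (hθ : Cfsg.IsCharacter G θ) (x : G)
    [DecidableEq (Subgroup G)] :
    ∃ n : ℤ, ∑ y ∈ Finset.univ.filter (fun y => Subgroup.zpowers y = Subgroup.zpowers x), θ y = n := by
  classical
  obtain ⟨N, hN⟩ : ∃ N, orderOf x = N := ⟨_, rfl⟩
  induction N using Nat.strong_induction_on generalizing x with
  | _ N ih =>
    set H := Subgroup.zpowers x with hH
    obtain ⟨n, hn⟩ := Char.classInner_isCharacter_eq_natCast (Char.isCharacter_res H hθ)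
      (Char.isCharacter_one (G := H))
    set S := Finset.univ.filter (fun y : G => y ∈ H) with hS
    have htot : ∑ y ∈ S, θ y = ((Nat.card H * n : ℕ) : ℂ) := by
      rw [Nat.cast_mul, ← hn, Cfsg.classInner, ← mul_assoc,
        mul_inv_cancel₀ (Nat.cast_ne_zero.2 Nat.card_pos.ne'), one_mul]
      simp only [map_one, mul_one]
      exact Finset.sum_subtype _ (by simp [hS]) θ
    rw [← Finset.sum_filter_add_sum_filter_not S (fun y => Subgroup.zpowers y = H)] at htot
    have h1 : S.filter (fun y => Subgroup.zpowers y = H) =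
        Finset.univ.filter (fun y => Subgroup.zpowers y = H) := by
      ext y
      simp only [hS, Finset.mem_filter, Finset.mem_univ, true_and, and_iff_right_iff_imp]
      exact fun e => e ▸ Subgroup.mem_zpowers y
    set T := S.filter (fun y => ¬ Subgroup.zpowers y = H) with hT
    have hrest : ∃ m : ℤ, ∑ y ∈ T, θ y = m := by
      rw [← Finset.sum_fiberwise_of_maps_to (g := fun y => Subgroup.zpowers y)
        (t := T.image fun y => Subgroup.zpowers y) fun y hy => Finset.mem_image_of_mem _ hy]
      have : ∀ K ∈ T.image (fun y => Subgroup.zpowers y),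
          ∃ m : ℤ, ∑ y ∈ T.filter (fun y => Subgroup.zpowers y = K), θ y = m := by
        intro K hK
        obtain ⟨y, hy, rfl⟩ := Finset.mem_image.1 hK
        simp only [hT, hS, Finset.mem_filter, Finset.mem_univ, true_and] at hy
        have hlt : orderOf y < N := by
          rw [← hN, ← Nat.card_zpowers, ← Nat.card_zpowers x]
          refine lt_of_le_of_ne (Subgroup.card_le_of_le (Subgroup.zpowers_le.2 hy.1))
            fun e => hy.2 (Subgroup.eq_of_le_of_card_ge (Subgroup.zpowers_le.2 hy.1) e.ge)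
        obtain ⟨m, hm⟩ := ih _ hlt y rfl
        refine ⟨m, hm ▸ Finset.sum_congr ?_ fun _ _ => rfl⟩
        ext z
        simp only [hT, hS, Finset.mem_filter, Finset.mem_univ, true_and, and_iff_right_iff_imp]
        intro e
        exact ⟨Subgroup.zpowers_le.2 hy.1 (e ▸ Subgroup.mem_zpowers z), fun e' => hy.2 (e ▸ e')⟩
      choose! m hm using this
      exact ⟨∑ K ∈ T.image (fun y => Subgroup.zpowers y), m K, by
        push_cast; exact Finset.sum_congr rfl hm⟩
    obtain ⟨m, hm⟩ := hrest
    rw [h1, hm] at htot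
    exact ⟨(Nat.card H * n : ℕ) - m, by push_cast at htot ⊢; linear_combination htot⟩

/-- summing a class function over the group, class by class -/
theorem sum_classFun_eq_sum_classes [Fintype (ConjClasses G)] {F : G → ℂ}
    (hF : Cfsg.IsClassFunction G F) :
    ∑ g, F g = ∑ C : ConjClasses G,
      ((Subgroup.centralizer ({C.out} : Set G)).index : ℂ) * F C.out := by
  have h := omega_eq_sum_classes (χ := fun _ : G => (1 : ℂ)) (fun _ _ => rfl) hF
  simp only [omega, mul_one, div_one, centralChar_one] at h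
  rw [h]
  exact Finset.sum_congr rfl fun C _ => mul_comm _ _

open scoped Classical in
/-- `p^a / |G| * ∑_{x regular} θ x` is an integer. -/
theorem regularSum_int (hp : p.Prime) {θ : G → ℂ} (hθ : Cfsg.IsCharacter G θ) :
    ∃ n : ℤ, ((p ^ (Nat.card G).factorization p : ℕ) : ℂ) * (Nat.card G : ℂ)⁻¹ *
      ∑ x ∈ Finset.univ.filter (fun x : G => ¬ p ∣ orderOf x), θ x = n := by
  set S := Finset.univ.filter (fun x : G => ¬ p ∣ orderOf x) with hS
  set pa := p ^ (Nat.card G).factorization p with hpa
  have hrat : ∃ m : ℤ, ∑ x ∈ S, θ x = m := by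
    rw [← Finset.sum_fiberwise_of_maps_to (g := fun y => Subgroup.zpowers y)
      (t := S.image fun y => Subgroup.zpowers y) fun y hy => Finset.mem_image_of_mem _ hy]
    have : ∀ K ∈ S.image (fun y => Subgroup.zpowers y),
        ∃ m : ℤ, ∑ y ∈ S.filter (fun y => Subgroup.zpowers y = K), θ y = m := by
      intro K hK
      obtain ⟨x, hx, rfl⟩ := Finset.mem_image.1 hK
      obtain ⟨m, hm⟩ := sum_generators_int hθ x
      refine ⟨m, hm ▸ Finset.sum_congr ?_ fun _ _ => rfl⟩
      ext y
      simp only [hS, Finset.mem_filter, Finset.mem_univ, true_and, and_iff_right_iff_imp]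
      intro e
      rw [← Nat.card_zpowers, e, Nat.card_zpowers]
      exact (Finset.mem_filter.1 hx).2
    choose! m hm using this
    exact ⟨∑ K ∈ S.image (fun y => Subgroup.zpowers y), m K, by
      push_cast; exact Finset.sum_congr rfl hm⟩
  obtain ⟨m, hm⟩ := hrat
  have hq : (pa : ℂ) * (Nat.card G : ℂ)⁻¹ * ∑ x ∈ S, θ x =
      (((pa : ℚ) * (Nat.card G : ℚ)⁻¹ * (m : ℚ) : ℚ) : ℂ) := by rw [hm]; push_cast; rfl
  rw [hq]
  refine exists_int_of_forall_local _ fun ℓ hℓ M hM => ?_
  rw [← hq]
  by_cases hlp : ℓ = p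
  · subst hlp
    rw [show (pa : ℂ) * (Nat.card G : ℂ)⁻¹ = ((Nat.card G / pa : ℕ) : ℂ)⁻¹ by
      rw [Nat.cast_div (Nat.ordProj_dvd _ _) (Nat.cast_ne_zero.2 (pow_pos hp.pos _).ne'),
        inv_div, div_eq_mul_inv]]
    exact (localRing hM).mul_mem
      (memLocalRing_natCast_inv hM (Nat.not_dvd_ordCompl hp Nat.card_pos.ne'))
      ((localRing hM).sum_mem fun x _ => memLocalRing_char hM hθ x)
  · rw [mul_assoc]
    refine (localRing hM).mul_mem (memLocalRing_natCast hM _) ?_
    -- split according to the ℓ'-part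
    let F : G → ℂ := fun s => ∑ x ∈ S.filter (fun x => pPrimePartOf ℓ x = s), θ x
    have hconj : ∀ x k : G, pPrimePartOf ℓ (k * x * k⁻¹) = k * pPrimePartOf ℓ x * k⁻¹ := by
      intro x k
      have h1 : orderOf (k * x * k⁻¹) = orderOf x :=
        orderOf_injective (MulAut.conj k).toMonoidHom (MulAut.conj k).injective x
      rw [pPrimePartOf, pPrimePartOf, h1, conj_pow]
    have hcl : Cfsg.IsClassFunction G F := by
      intro s k
      refine (Finset.sum_equiv (MulAut.conj k).toEquiv (fun x => ?_) (fun x _ => ?_)).symm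
      · simp only [hS, Finset.mem_filter, Finset.mem_univ, true_and, MulEquiv.toEquiv_eq_coe,
          EquivLike.coe_coe, MulAut.conj_apply, hconj]
        rw [show orderOf (k * x * k⁻¹) = orderOf x from
          orderOf_injective (MulAut.conj k).toMonoidHom (MulAut.conj k).injective x]
        simp
      · exact (Char.isClassFunction_of_isCharacter hθ x k).symm
    have hsum : ∑ x ∈ S, θ x = ∑ s, F s := (Finset.sum_fiberwise S (pPrimePartOf ℓ) θ).symm
    have : Finite (ConjClasses G) := Quotient.finite _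
    have := Fintype.ofFinite (ConjClasses G)
    rw [hsum, sum_classFun_eq_sum_classes hcl, Finset.mul_sum]
    refine (localRing hM).sum_mem fun C _ => ?_
    generalize C.out = s
    set H := Subgroup.centralizer ({s} : Set G) with hH
    rw [← mul_assoc, show (Nat.card G : ℂ)⁻¹ * (H.index : ℂ) = (Nat.card H : ℂ)⁻¹ by
      rw [← H.card_mul_index, Nat.cast_mul, mul_inv, mul_assoc,
        inv_mul_cancel₀ (Nat.cast_ne_zero.2 Subgroup.index_ne_zero_of_finite), mul_one]]
    by_cases hs : ¬ ℓ ∣ orderOf s ∧ ¬ p ∣ orderOf s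
    · have hsH : s ∈ H := Subgroup.mem_centralizer_singleton_iff.2 rfl
      obtain ⟨l, hl⟩ := exists_decomp_central hθ H (s := ⟨s, hsH⟩)
        (Subgroup.mem_center_iff.2 fun k =>
          Subtype.ext (Subgroup.mem_centralizer_singleton_iff.1 k.2))
      have hF : F s = ∑ t ∈ Finset.univ.filter (fun t : H => ∃ k, orderOf t = ℓ ^ k), θ (s * t) := by
        symm
        refine Finset.sum_bij (fun t _ => s * (t : G)) (fun t ht => ?_) (fun a _ b _ e => ?_)
          (fun x hx => ?_) (fun t _ => rfl)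
        · obtain ⟨k, hk⟩ := (Finset.mem_filter.1 ht).2
          have hk' : orderOf (t : G) = ℓ ^ k := by rw [Subgroup.orderOf_coe, hk]
          have hc : Commute (t : G) s := Subgroup.mem_centralizer_singleton_iff.1 t.2
          have hpp := parts_mul hℓ hc ⟨k, hk'⟩ hs.1
          rw [hc.eq] at hpp
          refine Finset.mem_filter.2 ⟨Finset.mem_filter.2 ⟨Finset.mem_univ _, fun hd => ?_⟩, hpp.2⟩
          rw [hc.symm.orderOf_mul_eq_mul_orderOf_of_coprime
            (hk' ▸ Nat.Coprime.pow_right _ (Nat.Coprime.symm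
              ((Nat.Prime.coprime_iff_not_dvd hℓ).2 hs.1))), hk'] at hd
          exact (hp.dvd_mul.1 hd).elim hs.2 fun h =>
            hlp ((Nat.prime_dvd_prime_iff_eq hp hℓ).1 (hp.dvd_of_dvd_pow h)).symm
        · exact Subtype.ext (mul_left_cancel e)
        · have hx' := (Finset.mem_filter.1 hx).2
          have hc : Commute (pPartOf ℓ x) s := hx' ▸ commute_pPartOf_pPrimePartOf x
          refine ⟨⟨pPartOf ℓ x, Subgroup.mem_centralizer_singleton_iff.2 hc.eq⟩,
            Finset.mem_filter.2 ⟨Finset.mem_univ _, ?_⟩, ?_⟩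
          · rw [Subgroup.orderOf_mk]; exact orderOf_pPartOf hℓ x
          · show s * pPartOf ℓ x = x
            rw [← hc.eq, ← hx', pPartOf_mul_pPrimePartOf hℓ]
      rw [hF]
      have hl' : ∀ t : H, θ (s * (t : G)) = _ := hl
      simp only [hl', ← Multiset.sum_map_sum, ← Multiset.sum_map_mul_left]
      refine mem_localRing_multiset_sum hM fun z hz => ?_
      obtain ⟨ψ, -, rfl⟩ := Multiset.mem_map.1 hz
      rw [← Finset.mul_sum, mul_left_comm]
      exact (localRing hM).mul_mem (memLocalRing_centralChar hM ψ.2 _)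
        (memLocalRing_sum_pElements hM (Char.IsIrr.isCharacter ψ.2))
    · have hF : F s = 0 := by
        refine Finset.sum_eq_zero fun x hx => absurd ?_ hs
        obtain ⟨hx1, hx2⟩ := Finset.mem_filter.1 hx
        subst hx2
        exact ⟨not_dvd_orderOf_pPrimePartOf hℓ x,
          fun hd => (Finset.mem_filter.1 hx1).2 (hd.trans (orderOf_pow_dvd _))⟩
      rw [hF, mul_zero]
      exact (localRing hM).zero_mem

end

/-- A local combination of characters vanishing at p-singular elements is divisible by the p-part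
of the centralizer order at p-regular elements. -/
theorem memLocalRing_div_of_vanish [Fintype G] (hM : Cfsg.IsPModular p M)
    {ι : Type*} (T : Finset ι) (c : ι → ℂ) (χ : ι → G → ℂ)
    (hc : ∀ i ∈ T, Cfsg.MemLocalRing M (c i)) (hχ : ∀ i ∈ T, Cfsg.IsCharacter G (χ i))
    (hvan : ∀ x : G, p ∣ orderOf x → ∑ i ∈ T, c i * χ i x = 0) {g : G} (hg : ¬ p ∣ orderOf g) :
    Cfsg.MemLocalRing M ((∑ i ∈ T, c i * χ i g) *
      (((p ^ (Nat.card (Subgroup.centralizer ({g} : Set G))).factorization p : ℕ) : ℂ))⁻¹) := by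
  classical
  have := Fact.mk hM.1
  set H := Subgroup.centralizer ({g} : Set G)
  obtain ⟨P⟩ : Nonempty (Sylow p H) := inferInstance
  rw [← Sylow.card_eq_multiplicity P]
  set P' : Subgroup H := (P : Subgroup H)
  have hgH : g ∈ H := Subgroup.mem_centralizer_singleton_iff.2 rfl
  have hz : (⟨g, hgH⟩ : H) ∈ Subgroup.center H :=
    Subgroup.mem_center_iff.2 fun k => Subtype.ext (Subgroup.mem_centralizer_singleton_iff.1 k.2)
  have hsum : ∑ i ∈ T, c i * χ i g = ∑ i ∈ T, c i * ∑ u : P', χ i (g * ((u : H) : G)) := by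
    simp only [Finset.mul_sum]
    rw [Finset.sum_comm, Finset.sum_eq_single (1 : P')]
    · simp
    · intro u _ hu
      refine hvan _ ?_
      obtain ⟨k, hk⟩ := IsPGroup.iff_orderOf.1 P.2 u
      have hk' : orderOf ((u : H) : G) = p ^ k := by
        rw [Subgroup.orderOf_coe, Subgroup.orderOf_coe]; exact hk
      have hcm : Commute g ((u : H) : G) :=
        (Subgroup.mem_centralizer_singleton_iff.1 (u : H).2).symm
      rw [hcm.orderOf_mul_eq_mul_orderOf_of_coprime (hk' ▸ Nat.Coprime.pow_right _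
        (Nat.Coprime.symm ((Nat.Prime.coprime_iff_not_dvd hM.1).2 hg))), hk']
      refine dvd_mul_of_dvd_right (dvd_pow_self p fun e => hu ?_) _
      rw [e, pow_zero] at hk
      exact orderOf_eq_one_iff.1 hk
    · simp
  rw [hsum, Finset.sum_mul]
  refine (localRing hM).sum_mem fun i hi => ?_
  rw [mul_assoc]
  refine (localRing hM).mul_mem (hc i hi) ?_
  obtain ⟨l, hl⟩ := exists_decomp_central (hχ i hi) H (s := ⟨g, hgH⟩) hz
  have hl' : ∀ t : H, χ i (g * (t : G)) = _ := hl
  simp only [hl', ← Multiset.sum_map_sum, ← Multiset.sum_map_mul_right]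
  refine mem_localRing_multiset_sum hM fun z hz => ?_
  obtain ⟨ψ, -, rfl⟩ := Multiset.mem_map.1 hz
  rw [← Finset.mul_sum, mul_assoc]
  refine (localRing hM).mul_mem (memLocalRing_centralChar hM ψ.2 _) ?_
  obtain ⟨n, hn⟩ := Char.classInner_isCharacter_eq_natCast
    (Char.isCharacter_res P' (Char.IsIrr.isCharacter ψ.2)) (Char.isCharacter_one (G := P'))
  rw [Cfsg.classInner] at hn
  simp only [map_one, mul_one] at hn
  rw [mul_comm, hn]
  exact memLocalRing_natCast hM n

end Cfsg.Agent.Blocks
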