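import Cfsg.Agent.Blocks.Twisted
import Cfsg.Agent.Blocks.Congr
import Cfsg.Agent.Blocks.Sections

/-!
# Weak block orthogonality and block orthogonality
-/

namespace Cfsg.Agent.Blocks

open scoped ComplexConjugate
open Cfsg.Agent

universe u

variable {G : Type u} [Group G] {p : ℕ} {M : Ideal Cfsg.AlgInt}

theorem sum_char_conj_mul [Fintype G] {χ : G → ℂ} (hχ : Cfsg.IsIrrCharacter G χ) (g h : G) :
    ∑ a, χ (a⁻¹ * g * a * h) = (Nat.card G : ℂ) * (χ g * χ h) / χ 1 := by
  classical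
  obtain ⟨n, ρ, hρ, rfl⟩ := hχ
  have hcf := Char.isClassFunction_of_isCharacter (G := G) ⟨n, ρ, rfl⟩
  have hs := sum_smul_rep_eq_omega ρ hρ (isClassFunction_classInd g)
  rw [omega_classInd hcf] at hs
  have h1 := congrArg (fun T => LinearMap.trace ℂ (Fin n → ℂ) (T * ρ h)) hs
  simp only [Finset.sum_mul, smul_mul_assoc, map_sum, map_smul, ← Module.End.one_eq_id, one_mul,
    smul_eq_mul, ← map_mul] at h1
  change ∑ z, classInd g z * ρ.character (z * h) = _ * ρ.character h at h1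
  have key : ∑ a, ρ.character (a⁻¹ * g * a * h) =
      (Nat.card (Subgroup.centralizer ({g} : Set G)) : ℂ) *
        ∑ z, classInd g z * ρ.character (z * h) := by
    rw [← Finset.sum_fiberwise Finset.univ (fun a => a⁻¹ * g * a) (fun a => ρ.character (a⁻¹ * g * a * h)),
      Finset.mul_sum]
    refine Finset.sum_congr rfl fun z _ => ?_
    rw [classInd_apply, Finset.sum_congr rfl (g := fun _ => ρ.character (z * h))
      (fun a ha => by rw [(Finset.mem_filter.1 ha).2]), Finset.sum_const, nsmul_eq_mul]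
    split_ifs with hz
    · obtain ⟨a₀, ha₀⟩ := isConj_iff.1 hz
      rw [one_mul]
      congr 1
      rw [← Fintype.card_subtype, ← Nat.card_eq_fintype_card]
      congr 1
      refine Nat.card_congr ((Equiv.mulRight a₀).subtypeEquiv fun a => ?_)
      simp only [Equiv.coe_mulRight, Subgroup.mem_centralizer_singleton_iff, ← ha₀]
      constructor
      · intro e
        calc a * a₀ * g = a * (a₀ * g * a₀⁻¹) * a₀ := by group
          _ = a * (a⁻¹ * g * a) * a₀ := by rw [e]
          _ = g * (a * a₀) := by group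
      · intro e
        calc a⁻¹ * g * a = a⁻¹ * (g * (a * a₀)) * a₀⁻¹ := by group
          _ = a⁻¹ * (a * a₀ * g) * a₀⁻¹ := by rw [e]
          _ = a₀ * g * a₀⁻¹ := by group
    · have : (Finset.univ.filter fun a => a⁻¹ * g * a = z) = ∅ := by
        refine Finset.filter_eq_empty_iff.2 fun a _ e => hz (isConj_iff.2 ⟨a⁻¹, by rwa [inv_inv]⟩)
      simp [this]
  rw [key, h1, Cfsg.centralChar, ← Subgroup.card_mul_index (Subgroup.centralizer ({g} : Set G))]
  push_cast
  ring

theorem sum_blockCoeff_conj [Fintype G] (B : Set (Cfsg.IrrCharacter G)) (g h : G) :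
    ∑ a, Cfsg.blockCoeff B (a⁻¹ * g * a * h) =
      conj (∑ᶠ χ ∈ B, (χ : G → ℂ) g * (χ : G → ℂ) h) := by
  classical
  rw [finsum_mem_eq_finite_toFinset_sum _ (Set.toFinite B), map_sum]
  simp only [blockCoeff_eq_sum]
  rw [← Finset.mul_sum, Finset.sum_comm, Finset.mul_sum,
    show (Set.toFinite B).toFinset = Finset.univ.filter (· ∈ B) by ext; simp, Finset.sum_filter]
  refine Finset.sum_congr rfl fun χ _ => ?_
  split_ifs
  · rw [← Finset.mul_sum, ← map_sum, sum_char_conj_mul χ.2]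
    obtain ⟨n, hn, e⟩ := Char.IsIrr.degree χ.2
    have : (n : ℂ) ≠ 0 := Nat.cast_ne_zero.2 hn.ne'
    have : (Nat.card G : ℂ) ≠ 0 := Nat.cast_ne_zero.2 Nat.card_pos.ne'
    simp only [map_div₀, map_mul, map_natCast, e]
    field_simp
  · simp

/-- Block orthogonality. -/
theorem block_orthogonality [Finite G] (hM : Cfsg.IsPModular p M)
    {B : Set (Cfsg.IrrCharacter G)} (hB : Cfsg.IsPBlock M B) (g h : G)
    (hgh : ¬ IsConj (pPartOf p g) (pPartOf p h)⁻¹) :
    ∑ᶠ χ ∈ B, (χ : G → ℂ) g * (χ : G → ℂ) h = 0 := by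
  classical
  have := Fintype.ofFinite G
  have hp := hM.1
  suffices h0 : ∑ a, Cfsg.blockCoeff B (a⁻¹ * g * a * h) = 0 by
    rw [sum_blockCoeff_conj] at h0
    simpa using h0
  set u := pPartOf p g with hu
  set s := (pPrimePartOf p g)⁻¹ with hs
  set v := (pPartOf p h)⁻¹ with hv
  set t := pPrimePartOf p h with ht
  have hus : Commute u s := (commute_pPartOf_pPrimePartOf g).inv_right
  have hvt : Commute v t := (commute_pPartOf_pPrimePartOf h).inv_left
  have hg' : g = s⁻¹ * u := by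
    rw [hs, inv_inv, ← (commute_pPartOf_pPrimePartOf g).eq, pPartOf_mul_pPrimePartOf hp]
  have hh' : h = v⁻¹ * t := by rw [hv, inv_inv, pPartOf_mul_pPrimePartOf hp]
  let σ : Equiv.Perm G :=
    { toFun := fun a => u * a * v⁻¹
      invFun := fun a => u⁻¹ * a * v
      left_inv := fun a => by simp [mul_assoc]
      right_inv := fun a => by simp [mul_assoc] }
  let π : G → G := fun a => s * a * t⁻¹
  set c := Cfsg.blockCoeff B with hc
  have hcl : Cfsg.IsClassFunction G c := isClassFunction_blockCoeff B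
  let F : ℕ → Matrix G G ℂ := fun r => Matrix.of fun a b => c ((s ^ r * a * (t ^ r)⁻¹)⁻¹ * b)
  have hF0 : F 0 * F 0 = F 0 := by
    ext a b
    rw [Matrix.mul_apply]
    simp only [F, Matrix.of_apply, pow_zero, inv_one, mul_one, one_mul]
    conv_rhs => rw [hc, ← blockCoeff_conv B]
    refine (Fintype.sum_equiv (Equiv.mulLeft a) _ _ fun x => ?_).symm
    simp [mul_assoc, ← hc]
  have hFmul : ∀ r, F r * F 1 = F (r + 1) := by
    intro r
    ext a b
    have hstep : ∀ x, F r a x * F 1 x b =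
        F 0 (s ^ (r+1) * a * (t ^ (r+1))⁻¹) (s * x * t⁻¹) * F 0 (s * x * t⁻¹) b := by
      intro x
      simp only [F, Matrix.of_apply, pow_zero, pow_one, inv_one, mul_one, one_mul]
      congr 1
      rw [← hcl ((s ^ r * a * (t ^ r)⁻¹)⁻¹ * x) t]
      congr 1
      simp only [pow_succ']
      group
    rw [Matrix.mul_apply, Finset.sum_congr rfl fun x _ => hstep x]
    refine (Fintype.sum_equiv ((Equiv.mulLeft s).trans (Equiv.mulRight t⁻¹)) _
      (fun x => F 0 (s ^ (r+1) * a * (t ^ (r+1))⁻¹) x * F 0 x b) (fun x => rfl)).trans ?_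
    rw [← Matrix.mul_apply, hF0]
    simp [F]
  have hFpow : ∀ r, F 1 ^ (r + 1) = F (r + 1) := by
    intro r
    induction r with
    | zero => simp
    | succ r ih => rw [pow_succ, ih, hFmul]
  set m := orderOf s * orderOf t with hm
  have hnds : ¬ p ∣ orderOf s := by
    rw [hs, orderOf_inv]; exact not_dvd_orderOf_pPrimePartOf hp g
  have hmp : ¬ p ∣ m := fun hd =>
    (hp.dvd_mul.1 hd).elim hnds (not_dvd_orderOf_pPrimePartOf hp h)
  have hpow : F 1 ^ (m + 1) = F 1 := by
    rw [hFpow]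
    have h1 : s ^ (m + 1) = s := by rw [hm, pow_succ, pow_mul, pow_orderOf_eq_one, one_pow, one_mul]
    have h2 : t ^ (m + 1) = t := by
      rw [hm, pow_succ, mul_comm (orderOf s), pow_mul, pow_orderOf_eq_one, one_pow, one_mul]
    simp only [F, h1, h2, pow_one]
  obtain ⟨i, hi⟩ := orderOf_pPartOf hp g
  obtain ⟨j, hj⟩ := orderOf_pPartOf hp h
  have hσpow : ∀ (r : ℕ) a, (σ ^ r) a = u ^ r * a * (v ^ r)⁻¹ := by
    intro r a
    induction r with
    | zero => simp
    | succ r ih =>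
      rw [pow_succ', Equiv.Perm.mul_apply, ih, pow_succ' u, pow_succ v]
      show u * _ * v⁻¹ = _
      group
  have hσ : σ ^ p ^ (i + j) = 1 := by
    ext a
    have h1 : u ^ p ^ (i + j) = 1 :=
      orderOf_dvd_iff_pow_eq_one.1 (hi ▸ pow_dvd_pow p (Nat.le_add_right i j))
    have h2 : v ^ p ^ (i + j) = 1 := by
      rw [hv, inv_pow, inv_eq_one]
      exact orderOf_dvd_iff_pow_eq_one.1 (hj ▸ pow_dvd_pow p (Nat.le_add_left j i))
    simp [hσpow, h1, h2]
  have hinv : ∀ a b, F 1 (σ a) (σ b) = F 1 a b := by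
    intro a b
    simp only [F, Matrix.of_apply, pow_one]
    show c ((s * (u * a * v⁻¹) * t⁻¹)⁻¹ * (u * b * v⁻¹)) = _
    rw [← hcl ((s * a * t⁻¹)⁻¹ * b) v]
    congr 1
    calc (s * (u * a * v⁻¹) * t⁻¹)⁻¹ * (u * b * v⁻¹)
        = (t * v) * a⁻¹ * u⁻¹ * s⁻¹ * u * b * v⁻¹ := by group
      _ = (v * t) * a⁻¹ * u⁻¹ * (s⁻¹ * u) * b * v⁻¹ := by rw [hvt.eq]; group
      _ = (v * t) * a⁻¹ * u⁻¹ * (u * s⁻¹) * b * v⁻¹ := by rw [hus.inv_right.eq]
      _ = _ := by group
  have hfree : ∀ a, σ a ≠ a := by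
    intro a e
    refine hgh (isConj_iff.2 ⟨a⁻¹, ?_⟩)
    have e' : u * a = a * v := mul_inv_eq_iff_eq_mul.1 e
    rw [inv_inv, mul_assoc, e', ← mul_assoc, inv_mul_cancel, one_mul]
  have key := sum_twisted_eq_zero hM hmp hσ (K := F 1)
    (fun a b => memLocalRing_blockCoeff hM hB _) hinv hpow hfree
  rw [← key]
  refine Finset.sum_congr rfl fun a _ => ?_
  show c _ = c ((s ^ 1 * a * (t ^ 1)⁻¹)⁻¹ * (u * a * v⁻¹))
  rw [hg', hh', pow_one, pow_one, ← hcl (a⁻¹ * (s⁻¹ * u) * a * (v⁻¹ * t)) t]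
  congr 1
  group

/-- Weak block orthogonality. -/
theorem weak_orthogonality [Finite G] (hM : Cfsg.IsPModular p M)
    {B : Set (Cfsg.IrrCharacter G)} (hB : Cfsg.IsPBlock M B) {x y : G}
    (hx : ¬ p ∣ orderOf x) (hy : p ∣ orderOf y) :
    ∑ᶠ χ ∈ B, (χ : G → ℂ) x * conj ((χ : G → ℂ) y) = 0 := by
  rw [← block_orthogonality hM hB x y⁻¹ ?_]
  · exact finsum_congr fun χ => finsum_congr fun _ => by
      rw [Char.IsChar.inv_eq_conj (Char.IsIrr.isCharacter χ.2)]
  · rw [(pPartOf_eq_one_iff hM.1 x).2 hx, isConj_one_right, inv_eq_one,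
      pPartOf_eq_one_iff hM.1, orderOf_inv]
    exact not_not_intro hy

end Cfsg.Agent.Blocks
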