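import Cfsg.Agent.Blocks.FixedPoints
import Cfsg.Agent.Blocks.WeakOrth
import Cfsg.Agent.Blocks.Projection

/-!
# Brauer's second main theorem
-/

namespace Cfsg.Agent.Blocks

open scoped ComplexConjugate
open Cfsg.Agent

universe u

variable {G : Type u} [Group G] [Fintype G] {p : ℕ} {M : Ideal Cfsg.AlgInt}

omit [Fintype G] in
theorem inducedCentralChar_eq_omega [Finite G] (H : Subgroup G) [Fintype H] (ξ : H → ℂ) (g : G) :
    Cfsg.inducedCentralChar H ξ g = omega ξ fun a : H => classInd g (a : G) := by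
  classical
  rw [Cfsg.inducedCentralChar, finsum_mem_eq_finite_toFinset_sum _ (Set.toFinite _), omega,
    Finset.sum_div, show (Set.toFinite {h : H | IsConj g (h : G)}).toFinset =
      Finset.univ.filter (fun h : H => IsConj g (h : G)) by ext; simp, Finset.sum_filter]
  refine Finset.sum_congr rfl fun a _ => ?_
  rw [classInd_apply]
  split_ifs <;> simp

/-- The irreducible characters of `H` on whose central character the Brauer image of the
idempotent of `B` is nonzero. -/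
def inducing (M : Ideal Cfsg.AlgInt) (H : Subgroup G) [Fintype H]
    (B : Set (Cfsg.IrrCharacter G)) : Set (Cfsg.IrrCharacter H) :=
  {ψ | ¬ Cfsg.MemLocalIdeal M (omega (ψ : H → ℂ) fun a : H => Cfsg.blockCoeff B (a : G))}

variable {P H : Subgroup G} [Fintype H]

theorem inducing_zero_or_one (hM : Cfsg.IsPModular p M) (hP : IsPGroup p P)
    (hH : ∀ a : G, a ∈ H ↔ ∀ u ∈ P, u * a = a * u) {B : Set (Cfsg.IrrCharacter G)}
    (hB : Cfsg.IsPBlock M B) (ψ : Cfsg.IrrCharacter H) :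
    ∃ χ : Cfsg.IrrCharacter G, (∀ f : G → ℂ, Cfsg.IsClassFunction G f →
      (∀ g, Cfsg.MemLocalRing M (f g)) →
        Cfsg.MemLocalIdeal M (omega (ψ : H → ℂ) (fun a : H => f (a : G)) - omega (χ : G → ℂ) f)) ∧
      (χ ∈ B ↔ ψ ∈ inducing M H B) := by
  classical
  obtain ⟨χ, hχ⟩ := (isCenHom_res hM hP hH ψ).exists_char hM
  refine ⟨χ, hχ, ?_⟩
  have h := hχ _ (isClassFunction_blockCoeff B) (memLocalRing_blockCoeff hM hB)
  rw [omega_blockCoeff] at h
  constructor
  · intro hc hd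
    rw [if_pos hc] at h
    exact not_memLocalIdeal_one hM (by simpa using memLocalIdeal_sub hM hd h)
  · intro hd
    by_contra hc
    rw [if_neg hc, sub_zero] at h
    exact hd h

open scoped Classical in
theorem memLocalIdeal_omega_res_blockCoeff_sub (hM : Cfsg.IsPModular p M) (hP : IsPGroup p P)
    (hH : ∀ a : G, a ∈ H ↔ ∀ u ∈ P, u * a = a * u) {B : Set (Cfsg.IrrCharacter G)}
    (hB : Cfsg.IsPBlock M B) (ψ : Cfsg.IrrCharacter H) :
    Cfsg.MemLocalIdeal M (omega (ψ : H → ℂ) (fun a : H => Cfsg.blockCoeff B (a : G)) -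
      if ψ ∈ inducing M H B then 1 else 0) := by
  obtain ⟨χ, hχ, hiff⟩ := inducing_zero_or_one hM hP hH hB ψ
  have h := hχ _ (isClassFunction_blockCoeff B) (memLocalRing_blockCoeff hM hB)
  rw [omega_blockCoeff] at h
  simpa only [hiff] using h

theorem mem_inducing_of_sameBlock (hM : Cfsg.IsPModular p M) {B : Set (Cfsg.IrrCharacter G)}
    (hB : Cfsg.IsPBlock M B) {ψ ξ : Cfsg.IrrCharacter H} (hψ : ψ ∈ inducing M H B)
    (h : Cfsg.SameBlock M (ψ : H → ℂ) (ξ : H → ℂ)) : ξ ∈ inducing M H B := fun hd => by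
  apply hψ
  have := memLocalIdeal_omega_sub hM ψ.2 ξ.2 (isClassFunction_res H (isClassFunction_blockCoeff B))
    (fun a => memLocalRing_blockCoeff hM hB (a : G)) h
  simpa using memLocalIdeal_add hM this hd

/-- A block of the centraliser induces `B` iff the Brauer image of the idempotent of `B` is
nonzero on it. -/
theorem mem_inducing_iff (hM : Cfsg.IsPModular p M) (hP : IsPGroup p P)
    (hH : ∀ a : G, a ∈ H ↔ ∀ u ∈ P, u * a = a * u) {B : Set (Cfsg.IrrCharacter G)}
    (hB : Cfsg.IsPBlock M B) {b : Set (Cfsg.IrrCharacter H)} (hb : Cfsg.IsPBlock M b)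
    {ψ : Cfsg.IrrCharacter H} (hψ : ψ ∈ b) :
    ψ ∈ inducing M H B ↔ Cfsg.IsInducedBlock M H b B := by
  classical
  obtain ⟨χ₀, hχ₀, hiff⟩ := inducing_zero_or_one hM hP hH hB ψ
  have h0 : ∀ g, Cfsg.MemLocalIdeal M
      (Cfsg.inducedCentralChar H (ψ : H → ℂ) g - Cfsg.centralChar (χ₀ : G → ℂ) g) := fun g => by
    rw [inducedCentralChar_eq_omega, ← omega_classInd (Char.isClassFunction_of_isIrr χ₀.2)]
    exact hχ₀ _ (isClassFunction_classInd g) (memLocalRing_classInd hM g)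
  constructor
  · intro hd
    refine ⟨hb, hB, fun ξ hξ χ hχ g => ?_⟩
    have h1 : Cfsg.MemLocalIdeal M (Cfsg.inducedCentralChar H (ξ : H → ℂ) g -
        Cfsg.inducedCentralChar H (ψ : H → ℂ) g) := by
      rw [inducedCentralChar_eq_omega, inducedCentralChar_eq_omega]
      exact memLocalIdeal_omega_sub hM ξ.2 ψ.2 (isClassFunction_res H (isClassFunction_classInd g))
        (fun a => memLocalRing_classInd hM g (a : G)) (IsPBlock.sameBlock hM hb hξ hψ)
    have h2 := IsPBlock.sameBlock hM hB (hiff.2 hd) hχ g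
    simpa using memLocalIdeal_add hM (memLocalIdeal_add hM h1 (h0 g)) h2
  · intro hind
    obtain ⟨χ, hχ⟩ := IsPBlock.nonempty hM hB
    refine hiff.1 (IsPBlock.mem_of_sameBlock hM hB hχ fun g => ?_)
    have := memLocalIdeal_sub hM (h0 g) (hind.2.2 ψ hψ χ hχ g)
    simpa using this

/-- The Brauer image of a block idempotent. -/
theorem memLocalIdeal_res_blockCoeff_sub (hM : Cfsg.IsPModular p M) (hP : IsPGroup p P)
    (hH : ∀ a : G, a ∈ H ↔ ∀ u ∈ P, u * a = a * u) {B : Set (Cfsg.IrrCharacter G)}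
    (hB : Cfsg.IsPBlock M B) (z : H) :
    Cfsg.MemLocalIdeal M (Cfsg.blockCoeff B (z : G) - Cfsg.blockCoeff (inducing M H B) z) := by
  classical
  have hc := isClassFunction_blockCoeff B
  have hR := memLocalRing_blockCoeff hM hB
  refine memLocalIdeal_sub_blockCoeff hM (e := fun a : H => Cfsg.blockCoeff B (a : G))
    (isClassFunction_res H hc) (fun a => hR _) (fun a => ?_)
    (memLocalRing_blockCoeff_union hM fun ψ hψ ξ h => mem_inducing_of_sameBlock hM hB hψ h)
    (fun ψ => memLocalIdeal_omega_res_blockCoeff_sub hM hP hH hB ψ) z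
  have h := memLocalIdeal_neg (memLocalIdeal_conv_res_sub hM hP hH hc hc hR hR a)
  rw [blockCoeff_conv, neg_sub] at h
  exact h

/-- Powers of the translation matrices of a central idempotent. -/
theorem twist_pow {K : Type u} [Group K] [Fintype K] [DecidableEq K] {c : K → ℂ}
    (hcl : Cfsg.IsClassFunction K c) (hidem : conv c c = c) (s t : K) (r : ℕ) :
    (Matrix.of fun a b : K => c ((s * a * t⁻¹)⁻¹ * b)) ^ (r + 1) =
      Matrix.of fun a b : K => c ((s ^ (r + 1) * a * (t ^ (r + 1))⁻¹)⁻¹ * b) := by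
  induction r with
  | zero => simp
  | succ r ih =>
    rw [pow_succ, ih]
    ext a b
    rw [Matrix.mul_apply]
    simp only [Matrix.of_apply]
    conv_rhs => rw [← hidem, conv]
    refine Fintype.sum_equiv ((Equiv.mulLeft ((s ^ (r+2) * a * (t ^ (r+2))⁻¹)⁻¹ * s)).trans
      (Equiv.mulRight t⁻¹)) _ _ fun y => ?_
    simp only [Equiv.trans_apply, Equiv.coe_mulLeft, Equiv.coe_mulRight]
    congr 1
    · rw [← hcl ((s ^ (r + 1) * a * (t ^ (r + 1))⁻¹)⁻¹ * y) t]
      congr 1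
      simp only [pow_succ']
      group
    · congr 1
      group

/-- Brauer's second main theorem, as an identity: for `p`-regular `a`, `b` in the centraliser `H`
of the `p`-element `x`, the kernel of `B` at `(x a, x b)` is that of the blocks of `H` inducing
`B` at `(a, b)`. -/
theorem section_identity (hM : Cfsg.IsPModular p M) {x : G} (hx : ∃ k, orderOf x = p ^ k)
    (hH : ∀ a : G, a ∈ H ↔ x * a = a * x) {B : Set (Cfsg.IrrCharacter G)}
    (hB : Cfsg.IsPBlock M B) {a b : H} (ha : ¬ p ∣ orderOf a) (hb : ¬ p ∣ orderOf b) :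
    ∑ᶠ χ ∈ B, (χ : G → ℂ) (x * (a : G)) * conj ((χ : G → ℂ) (x * (b : G))) =
      ∑ᶠ ψ ∈ inducing M H B, (ψ : H → ℂ) a * conj ((ψ : H → ℂ) b) := by
  classical
  obtain ⟨k, hk⟩ := hx
  have hP : IsPGroup p (Subgroup.zpowers x) := IsPGroup.of_card (n := k) (by rw [Nat.card_zpowers, hk])
  have hH' : ∀ c : G, c ∈ H ↔ ∀ u ∈ Subgroup.zpowers x, u * c = c * u := by
    intro c
    rw [hH]
    constructor
    · rintro h u ⟨i, rfl⟩
      exact ((show Commute x c from h).zpow_left i).eq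
    · intro h
      exact h x (Subgroup.mem_zpowers x)
  let σ : Equiv.Perm G :=
    { toFun := fun c => x * c * x⁻¹
      invFun := fun c => x⁻¹ * c * x
      left_inv := fun c => by simp [mul_assoc]
      right_inv := fun c => by simp [mul_assoc] }
  have hfix : ∀ c, σ c = c ↔ c ∈ H := fun c => by
    show x * c * x⁻¹ = c ↔ _
    rw [hH, mul_inv_eq_iff_eq_mul]
  let e : {c : G // σ c = c} ≃ H :=
    Equiv.subtypeEquivRight hfix
  set f := Cfsg.blockCoeff (inducing M H B) with hf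
  set E := Cfsg.blockCoeff B with hE
  have hEc : Cfsg.IsClassFunction G E := isClassFunction_blockCoeff B
  set s : H := a⁻¹ with hs
  set t : H := b⁻¹ with ht
  let K : Matrix G G ℂ := Matrix.of fun c d : G => E (((s : G) * c * (t : G)⁻¹)⁻¹ * d)
  let LH : Matrix H H ℂ := Matrix.of fun c d : H => f ((s * c * t⁻¹)⁻¹ * d)
  let L : Matrix {c : G // σ c = c} {c : G // σ c = c} ℂ := Matrix.reindexAlgEquiv ℂ ℂ e.symm LH
  set m := orderOf s * orderOf t with hm
  have hmp : ¬ p ∣ m := by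
    rw [hm, hM.1.dvd_mul, hs, ht, orderOf_inv, orderOf_inv]
    tauto
  have hs1 : s ^ (m + 1) = s := by
    rw [hm, pow_succ, pow_mul, pow_orderOf_eq_one, one_pow, one_mul]
  have ht1 : t ^ (m + 1) = t := by
    rw [hm, pow_succ, mul_comm (orderOf s), pow_mul, pow_orderOf_eq_one, one_pow, one_mul]
  have hKpow : K ^ (m + 1) = K := by
    rw [twist_pow hEc (blockCoeff_conv B)]
    rw [← Subgroup.coe_pow, ← Subgroup.coe_pow, hs1, ht1]
  have hLpow : L ^ (m + 1) = L := by
    show (Matrix.reindexAlgEquiv ℂ ℂ e.symm LH) ^ (m + 1) = _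
    rw [← map_pow, twist_pow (isClassFunction_blockCoeff _) (blockCoeff_conv _), hs1, ht1]
  have hσ : σ ^ p ^ k = 1 := by
    have hpow : ∀ (r : ℕ) c, (σ ^ r) c = x ^ r * c * (x ^ r)⁻¹ := by
      intro r c
      induction r with
      | zero => simp
      | succ r ih =>
        rw [pow_succ', Equiv.Perm.mul_apply, ih]
        show x * (x ^ r * c * (x ^ r)⁻¹) * x⁻¹ = _
        rw [pow_succ']; group
    ext c
    rw [hpow, ← hk, pow_orderOf_eq_one]
    simp
  have hinv : ∀ c d, K (σ c) (σ d) = K c d := by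
    intro c d
    simp only [K, Matrix.of_apply]
    show E (((s : G) * (x * c * x⁻¹) * (t : G)⁻¹)⁻¹ * (x * d * x⁻¹)) = _
    have e1 : (s : G) * x = x * (s : G) := ((hH _).1 s.2).symm
    have e2 : x⁻¹ * (t : G)⁻¹ = (t : G)⁻¹ * x⁻¹ := by
      rw [← mul_inv_rev, ← mul_inv_rev, (hH _).1 t.2]
    rw [← hEc (((s : G) * c * (t : G)⁻¹)⁻¹ * d) x]
    congr 1
    rw [show (s : G) * (x * c * x⁻¹) * (t : G)⁻¹ = ((s : G) * x) * c * (x⁻¹ * (t : G)⁻¹) by group,
      e1, e2]
    group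
  have hLH : ∀ c d : {c : G // σ c = c}, L c d = f ((s * e c * t⁻¹)⁻¹ * e d) := fun _ _ => rfl
  have key := sum_twisted_eq_trace hM hmp hσ (K := K)
    (fun c d => memLocalRing_blockCoeff hM hB _) hinv hKpow L
    (fun c d => by
      rw [hLH]
      exact memLocalRing_blockCoeff_union hM
        (fun ψ hψ ξ h => mem_inducing_of_sameBlock hM hB hψ h) _) hLpow (fun c d => by
      rw [hLH]
      have := memLocalIdeal_neg (memLocalIdeal_res_blockCoeff_sub hM hP hH' hB
        ((s * e c * t⁻¹)⁻¹ * e d))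
      rw [neg_sub] at this
      exact this)
  have hl : ∑ c, K c (σ c) =
      conj (∑ᶠ χ ∈ B, (χ : G → ℂ) (x * (a : G)) * (χ : G → ℂ) (x * (b : G))⁻¹) := by
    rw [← sum_blockCoeff_conj B (x * (a : G)) (x * (b : G))⁻¹]
    refine Finset.sum_congr rfl fun c _ => ?_
    simp only [K, Matrix.of_apply, hs, ht, Subgroup.coe_inv, inv_inv]
    show E (((a : G)⁻¹ * c * (b : G))⁻¹ * (x * c * x⁻¹)) = _
    show _ = E (c⁻¹ * (x * (a : G)) * c * (x * (b : G))⁻¹)
    rw [← hEc (c⁻¹ * (x * (a : G)) * c * (x * (b : G))⁻¹) (b : G)⁻¹]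
    congr 1
    have e1 : x * (a : G) = (a : G) * x := (hH _).1 a.2
    have e2 : x * (b : G) = (b : G) * x := (hH _).1 b.2
    rw [e1, e2]
    group
  have hr : L.trace = conj (∑ᶠ ψ ∈ inducing M H B, (ψ : H → ℂ) a * (ψ : H → ℂ) b⁻¹) := by
    rw [← sum_blockCoeff_conj (inducing M H B) a b⁻¹, Matrix.trace]
    refine Fintype.sum_equiv e _ _ fun c => ?_
    rw [Matrix.diag_apply, hLH, hs, ht, inv_inv]
    rw [← isClassFunction_blockCoeff (inducing M H B) ((e c)⁻¹ * a * e c * b⁻¹) b⁻¹]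
    congr 1
    group
  rw [key, hr] at hl
  have h := congrArg conj hl
  simp only [Complex.conj_conj] at h
  calc ∑ᶠ χ ∈ B, (χ : G → ℂ) (x * (a : G)) * conj ((χ : G → ℂ) (x * (b : G)))
      = ∑ᶠ χ ∈ B, (χ : G → ℂ) (x * (a : G)) * (χ : G → ℂ) (x * (b : G))⁻¹ :=
        finsum_congr fun χ => finsum_congr fun _ => by
          rw [Char.IsChar.inv_eq_conj (Char.IsIrr.isCharacter χ.2)]
    _ = _ := h.symm
    _ = _ := finsum_congr fun ψ => finsum_congr fun _ => by
          rw [Char.IsChar.inv_eq_conj (Char.IsIrr.isCharacter ψ.2)]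

theorem sum_conj_mul_eq {K : Type u} [Group K] [Fintype K] (ψ φ : Cfsg.IrrCharacter K)
    [Decidable (φ = ψ)] :
    ∑ c, conj ((ψ : K → ℂ) c) * (φ : K → ℂ) c = if φ = ψ then (Nat.card K : ℂ) else 0 := by
  classical
  have h := Char.classInner_irrChar φ ψ
  rw [Cfsg.classInner, inv_mul_eq_iff_eq_mul₀ (Nat.cast_ne_zero.2 Nat.card_pos.ne')] at h
  rw [Finset.sum_congr rfl fun c _ => mul_comm (conj ((ψ : K → ℂ) c)) _, h]
  split_ifs <;> simp

/-- The kernel of a block, paired on the section of `x` with a character of `B`, vanishes unless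
the block induces `B`. -/
theorem sum_section_kernel_eq_zero (hM : Cfsg.IsPModular p M) {x : G}
    (hx : ∃ k, orderOf x = p ^ k) (hH : ∀ a : G, a ∈ H ↔ x * a = a * x)
    {B : Set (Cfsg.IrrCharacter G)} (hB : Cfsg.IsPBlock M B) {χ : Cfsg.IrrCharacter G} (hχ : χ ∈ B)
    {b : Set (Cfsg.IrrCharacter H)} (hb : Cfsg.IsPBlock M b)
    (hnot : ¬ Cfsg.IsInducedBlock M H b B) {y : H} (hy : ¬ p ∣ orderOf y) :
    ∑ c : H, (χ : G → ℂ) (x * (c : G)) *
      ∑ᶠ ψ ∈ b, (ψ : H → ℂ) y * conj ((ψ : H → ℂ) c) = 0 := by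
  classical
  obtain ⟨k, hk⟩ := hx
  have hP : IsPGroup p (Subgroup.zpowers x) := IsPGroup.of_card (n := k) (by rw [Nat.card_zpowers, hk])
  have hH' : ∀ c : G, c ∈ H ↔ ∀ u ∈ Subgroup.zpowers x, u * c = c * u := by
    intro c
    rw [hH]
    exact ⟨fun h u ⟨i, hi⟩ => hi ▸ ((show Commute x c from h).zpow_left i).eq,
      fun h => h x (Subgroup.mem_zpowers x)⟩
  set W : H → ℂ := fun c => ∑ᶠ ψ ∈ b, (ψ : H → ℂ) y * conj ((ψ : H → ℂ) c) with hW
  set A := inducing M H B with hA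
  have hdisj : ∀ ψ ∈ b, ψ ∉ A := fun ψ hψ h => hnot ((mem_inducing_iff hM hP hH' hB hb hψ).1 h)
  have hW0 : ∀ c, p ∣ orderOf c → W c = 0 := fun c hc => weak_orthogonality hM hb hy hc
  let v : Cfsg.IrrCharacter G → ℂ := fun φ => ∑ c : H, (φ : G → ℂ) (x * (c : G)) * W c
  set S := B.toFinite.toFinset
  have hzero : ∀ c' : H, ∑ c, W c * ∑ᶠ φ ∈ A, (φ : H → ℂ) c * conj ((φ : H → ℂ) c') = 0 := by
    intro c'
    simp only [hW, finsum_mem_eq_finite_toFinset_sum _ (Set.toFinite b),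
      finsum_mem_eq_finite_toFinset_sum _ (Set.toFinite A)]
    simp only [Finset.sum_mul_sum]
    rw [Finset.sum_comm]
    refine Finset.sum_eq_zero fun ψ hψ => ?_
    rw [Finset.sum_comm]
    refine Finset.sum_eq_zero fun φ hφ => ?_
    rw [Finset.sum_congr rfl (g := fun c : H => ((ψ : H → ℂ) y * conj ((φ : H → ℂ) c')) *
      (conj ((ψ : H → ℂ) c) * (φ : H → ℂ) c)) (fun c _ => by ring), ← Finset.mul_sum,
      sum_conj_mul_eq, if_neg, mul_zero]
    intro e
    exact hdisj ψ (b.toFinite.mem_toFinset.1 hψ) (e ▸ A.toFinite.mem_toFinset.1 hφ)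
  have hsum : ∑ φ ∈ S, v φ * conj (v φ) = 0 := by
    have e1 : ∀ φ : Cfsg.IrrCharacter G, v φ * conj (v φ) = ∑ c' : H, ∑ c : H, conj (W c') *
        (W c * ((φ : G → ℂ) (x * (c : G)) * conj ((φ : G → ℂ) (x * (c' : G))))) := by
      intro φ
      simp only [v, map_sum, map_mul, Finset.sum_mul_sum]
      rw [Finset.sum_comm]
      exact Finset.sum_congr rfl fun c' _ => Finset.sum_congr rfl fun c _ => by ring
    simp only [e1]
    rw [Finset.sum_comm]
    refine Finset.sum_eq_zero fun c' _ => ?_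
    rw [Finset.sum_comm]
    simp only [← Finset.mul_sum]
    by_cases hc' : p ∣ orderOf c'
    · simp [hW0 c' hc']
    rw [show ∑ c, W c * ∑ φ ∈ S, (φ : G → ℂ) (x * (c : G)) * conj ((φ : G → ℂ) (x * (c' : G))) =
      ∑ c, W c * ∑ᶠ φ ∈ A, (φ : H → ℂ) c * conj ((φ : H → ℂ) c') from
      Finset.sum_congr rfl fun c _ => ?_, hzero c', mul_zero]
    by_cases hc : p ∣ orderOf c
    · simp [hW0 c hc]
    · rw [← section_identity hM ⟨k, hk⟩ hH hB hc hc',
        finsum_mem_eq_finite_toFinset_sum _ B.toFinite]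
  have hv : ∀ φ ∈ S, Complex.normSq (v φ) = 0 := by
    have : ∑ φ ∈ S, Complex.normSq (v φ) = 0 := by
      have h := congrArg Complex.re hsum
      simpa [Complex.mul_conj] using h
    exact (Finset.sum_eq_zero_iff_of_nonneg fun φ _ => Complex.normSq_nonneg _).1 this
  exact Complex.normSq_eq_zero.1 (show Complex.normSq (v χ) = 0 from
    hv χ (B.toFinite.mem_toFinset.2 hχ))

omit [Fintype G] in
theorem blockPart_eq_kernel [Finite H] (b : Set (Cfsg.IrrCharacter H)) (ϑ : H → ℂ) (y : H) :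
    Cfsg.blockPart b ϑ y =
      (Nat.card H : ℂ)⁻¹ * ∑ c, ϑ c * ∑ᶠ ψ ∈ b, (ψ : H → ℂ) y * conj ((ψ : H → ℂ) c) := by
  classical
  simp only [Cfsg.blockPart, finsum_mem_eq_finite_toFinset_sum _ (Set.toFinite b),
    Cfsg.classInner, Finset.mul_sum, Finset.sum_mul]
  rw [Finset.sum_comm]
  exact Finset.sum_congr (by ext; simp) fun c _ => Finset.sum_congr rfl fun ψ _ => by ring

end Cfsg.Agent.Blocks
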