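import Cfsg.Agent.Blocks.LocalIdem
import Mathlib.GroupTheory.PGroup
import Mathlib.GroupTheory.GroupAction.ConjAct

/-!
# The Brauer map with coefficients in the local ring
-/

namespace Cfsg.Agent.Blocks

open scoped ComplexConjugate
open Cfsg.Agent

universe u

variable {G : Type u} [Group G] {p : ℕ} {M : Ideal Cfsg.AlgInt}

open scoped Classical in
/-- A sum of an invariant function reduces modulo `M` to the fixed points. -/
theorem memLocalIdeal_sum_sub_fixed (hM : Cfsg.IsPModular p M) {P α : Type*} [Group P]
    [MulAction P α] [Fintype α] (hP : IsPGroup p P) (φ : α → ℂ)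
    (hφR : ∀ a, Cfsg.MemLocalRing M (φ a)) (hφ : ∀ (g : P) (a : α), φ (g • a) = φ a) :
    Cfsg.MemLocalIdeal M
      (∑ a, φ a - ∑ a ∈ Finset.univ.filter (· ∈ MulAction.fixedPoints P α), φ a) := by
  have := Fact.mk hM.1
  rw [← Finset.sum_fiberwise_of_maps_to (g := φ) (t := Finset.univ.image φ)
      (fun a ha => Finset.mem_image_of_mem φ ha),
    ← Finset.sum_fiberwise_of_maps_to (g := φ) (t := Finset.univ.image φ)
      (fun a _ => Finset.mem_image_of_mem φ (Finset.mem_univ a)),
    ← Finset.sum_sub_distrib]
  refine memLocalIdeal_sum hM _ fun v hv => ?_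
  obtain ⟨a₀, -, ha₀⟩ := Finset.mem_image.1 hv
  rw [Finset.sum_congr rfl (fun a ha => (Finset.mem_filter.1 ha).2),
    Finset.sum_congr rfl (fun a ha => (Finset.mem_filter.1 ha).2), Finset.sum_const,
    Finset.sum_const, nsmul_eq_mul, nsmul_eq_mul, ← sub_mul]
  refine memLocalIdeal_mul_right hM ?_ (ha₀ ▸ hφR a₀)
  letI : MulAction P {a : α // φ a = v} :=
    { smul := fun g a => ⟨g • a.1, (hφ g a.1).trans a.2⟩
      one_smul := fun a => Subtype.ext (one_smul P a.1)
      mul_smul := fun g h a => Subtype.ext (mul_smul g h a.1) }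
  have h := hP.card_modEq_card_fixedPoints {a : α // φ a = v}
  have e1 : Nat.card {a : α // φ a = v} = (Finset.univ.filter fun a => φ a = v).card := by
    rw [Nat.card_eq_fintype_card, Fintype.card_subtype]
  have e2 : Nat.card (MulAction.fixedPoints P {a : α // φ a = v}) =
      ((Finset.univ.filter (· ∈ MulAction.fixedPoints P α)).filter fun a => φ a = v).card := by
    rw [Finset.filter_filter, ← Fintype.card_subtype, ← Nat.card_eq_fintype_card]
    exact Nat.card_congr
      { toFun := fun a => ⟨a.1.1, fun g => congrArg Subtype.val (a.2 g), a.1.2⟩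
        invFun := fun a => ⟨⟨a.1, a.2.2⟩, fun g => Subtype.ext (a.2.1 g)⟩
        left_inv := fun _ => rfl
        right_inv := fun _ => rfl }
  rw [e1, e2] at h
  obtain ⟨d, hd⟩ := Nat.modEq_iff_dvd.1 h.symm
  have : (((Finset.univ.filter fun a => φ a = v).card : ℕ) : ℂ) -
      (((Finset.univ.filter (· ∈ MulAction.fixedPoints P α)).filter fun a => φ a = v).card : ℂ) =
      ((d * p : ℤ) : ℂ) := by
    rw [mul_comm, ← hd]; push_cast; ring
  rw [this]
  exact (memLocalIdeal_intCast_iff hM _).2 (dvd_mul_left _ _)

open scoped Classical in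
/-- The Brauer map: modulo `M`, truncation to the centraliser `H` of the `p`-group `P` is
multiplicative on class functions. -/
theorem memLocalIdeal_conv_res_sub [Fintype G] (hM : Cfsg.IsPModular p M) {P H : Subgroup G}
    [Fintype H] (hP : IsPGroup p P) (hH : ∀ a : G, a ∈ H ↔ ∀ u ∈ P, u * a = a * u)
    {f h : G → ℂ} (hf : Cfsg.IsClassFunction G f) (hh : Cfsg.IsClassFunction G h)
    (hfR : ∀ g, Cfsg.MemLocalRing M (f g)) (hhR : ∀ g, Cfsg.MemLocalRing M (h g)) (z : H) :
    Cfsg.MemLocalIdeal M
      (conv f h (z : G) - conv (fun a : H => f (a : G)) (fun a : H => h (a : G)) z) := by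
  letI : MulAction P G := MulAction.compHom G ((MulAut.conj : G →* MulAut G).comp P.subtype)
  have hs : ∀ (u : P) (a : G), u • a = (u : G) * a * (u : G)⁻¹ := fun _ _ => rfl
  have hfix : ∀ a, a ∈ MulAction.fixedPoints P G ↔ a ∈ H := by
    intro a
    rw [hH]
    constructor
    · intro h u hu
      have := h ⟨u, hu⟩
      rw [hs] at this
      exact mul_inv_eq_iff_eq_mul.1 this
    · intro h u
      rw [hs, h u.1 u.2, mul_inv_cancel_right]
  have key := memLocalIdeal_sum_sub_fixed hM hP (fun a : G => f a * h (a⁻¹ * (z : G)))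
    (fun a => (localRing hM).mul_mem (hfR a) (hhR _)) fun u a => by
      simp only [hs]
      rw [hf a (u : G), show ((u : G) * a * (u : G)⁻¹)⁻¹ * (z : G) =
        (u : G) * (a⁻¹ * ((u : G)⁻¹ * (z : G) * u)) * (u : G)⁻¹ by group,
        show (u : G)⁻¹ * (z : G) * u = (z : G) by
          rw [mul_assoc, ← (hH _).1 z.2 u u.2, inv_mul_cancel_left], hh]
  rw [Finset.filter_congr fun a _ => hfix a,
    Finset.sum_subtype _ (fun a => by simp : ∀ a, a ∈ Finset.univ.filter (· ∈ H) ↔ a ∈ H)] at key
  simpa [conv] using key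

theorem isClassFunction_res (H : Subgroup G) {f : G → ℂ} (hf : Cfsg.IsClassFunction G f) :
    Cfsg.IsClassFunction H fun a : H => f (a : G) := fun a k => by
  simpa using hf (a : G) (k : G)

/-- The central character of `ξ` after the Brauer map is a homomorphism modulo `M`. -/
theorem isCenHom_res [Fintype G] (hM : Cfsg.IsPModular p M) {P H : Subgroup G} [Fintype H]
    (hP : IsPGroup p P) (hH : ∀ a : G, a ∈ H ↔ ∀ u ∈ P, u * a = a * u)
    (ξ : Cfsg.IrrCharacter H) :
    IsCenHom (G := G) M fun f => omega (ξ : H → ℂ) fun a : H => f (a : G) where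
  map_add f h := omega_add _ (fun a : H => f (a : G)) (fun a : H => h (a : G))
  map_smul c f := omega_smul _ c (fun a : H => f (a : G))
  mem f hf hfR := memLocalRing_omega hM ξ.2 (isClassFunction_res H hf) fun a => hfR a
  map_conv f h hf hh hfR hhR := by
    classical
    have : Finite (ConjClasses H) := Quotient.finite _
    have := Fintype.ofFinite (ConjClasses H)
    rw [← omega_conv ξ.2 (isClassFunction_res H hf) (isClassFunction_res H hh), ← omega_sub]
    rw [omega_eq_sum_classes (Char.isClassFunction_of_isIrr ξ.2)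
      (fun a k => by
        simp only [Pi.sub_apply, isClassFunction_res H (isClassFunction_conv hf hh) a k,
          isClassFunction_conv (isClassFunction_res H hf) (isClassFunction_res H hh) a k])]
    exact memLocalIdeal_sum hM _ fun C _ => memLocalIdeal_mul_right hM
      (memLocalIdeal_conv_res_sub hM hP hH hf hh hfR hhR _) (memLocalRing_centralChar hM ξ.2 _)
  map_delta := by
    classical
    have : (fun a : H => delta G (a : G)) = delta H := by
      funext a; simp [delta]
    rw [this, omega_delta (Char.IsIrr.one_ne_zero ξ.2), sub_self]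
    exact memLocalIdeal_zero hM

end Cfsg.Agent.Blocks
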