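import Cfsg.Agent.Blocks.SecondMain
import Cfsg.Agent.BlockThms.DefectGroup

/-!
# Sections meeting a defect group
-/

namespace Cfsg.Agent.Blocks

open scoped ComplexConjugate
open Cfsg.Agent Cfsg.Agent.DefectThms

universe u

variable {G : Type u} [Group G] [Fintype G] {p : ℕ} {M : Ideal Cfsg.AlgInt}

theorem exists_apply_not_mem_of_omega {χ : Cfsg.IrrCharacter G} (hM : Cfsg.IsPModular p M)
    {f : G → ℂ} (hf : Cfsg.IsClassFunction G f)
    (h : ¬ Cfsg.MemLocalIdeal M (omega (χ : G → ℂ) f)) :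
    ∃ c, ¬ Cfsg.MemLocalIdeal M (f c) := by
  classical
  by_contra! hall
  have : Finite (ConjClasses G) := Quotient.finite _
  have := Fintype.ofFinite (ConjClasses G)
  refine h ?_
  rw [omega_eq_sum_classes (Char.isClassFunction_of_isIrr χ.2) hf]
  exact memLocalIdeal_sum hM _ fun C _ =>
    memLocalIdeal_mul_right hM (hall _) (memLocalRing_centralChar hM χ.2 _)

/-- A `p`-subgroup centralising an element with unit idempotent coefficient is contained in a
conjugate of any defect group. -/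
theorem exists_conj_le_of_centralizer [Fact p.Prime] (hM : Cfsg.IsPModular p M)
    {B : Set (Cfsg.IrrCharacter G)} (hB : Cfsg.IsPBlock M B) {D : Subgroup G}
    (hD : Cfsg.IsDefectGroup p M B D) {c : G}
    (hc : ¬ Cfsg.MemLocalIdeal M (Cfsg.blockCoeff B c)) {R : Subgroup G} (hR : IsPGroup p R)
    (hRc : R ≤ Subgroup.centralizer ({c} : Set G)) :
    ∃ k, R.map (MulAut.conj k).toMonoidHom ≤ D := by
  obtain ⟨g, hg, hgD⟩ := isDefectGroup_iff.1 hD
  obtain ⟨S, hS, hRS⟩ := exists_le_isSylC hR hRc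
  obtain ⟨k, hk⟩ := exists_conj_le_of_unit_coeff hM hB hg hgD hc hS
  exact ⟨k, (Subgroup.map_mono hRS).trans hk⟩

/-- If no conjugate of the `p`-element `x` lies in the defect group, no block of `C(x)` induces
the block. -/
theorem inducing_eq_empty [Fact p.Prime] (hM : Cfsg.IsPModular p M)
    {B : Set (Cfsg.IrrCharacter G)} (hB : Cfsg.IsPBlock M B) {D : Subgroup G}
    (hD : Cfsg.IsDefectGroup p M B D) {x : G} (hx : ∃ k, orderOf x = p ^ k) {H : Subgroup G}
    [Fintype H] (hH : ∀ a : G, a ∈ H ↔ x * a = a * x) (hno : ∀ k : G, k * x * k⁻¹ ∉ D) :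
    inducing M H B = ∅ := by
  classical
  obtain ⟨e, he⟩ := hx
  have hP : IsPGroup p (Subgroup.zpowers x) :=
    IsPGroup.of_card (n := e) (by rw [Nat.card_zpowers, he])
  rw [Set.eq_empty_iff_forall_notMem]
  intro ψ hψ
  obtain ⟨c, hc⟩ := exists_apply_not_mem_of_omega hM
    (isClassFunction_res H (isClassFunction_blockCoeff B)) hψ
  have hle : Subgroup.zpowers x ≤ Subgroup.centralizer ({(c : G)} : Set G) :=
    Subgroup.zpowers_le.2 (Subgroup.mem_centralizer_singleton_iff.2 ((hH _).1 c.2))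
  obtain ⟨k, hk⟩ := exists_conj_le_of_centralizer hM hB hD hc hP hle
  exact hno k (hk ⟨x, Subgroup.mem_zpowers x, rfl⟩)

/-- A character vanishes at elements whose `p`-part has no conjugate in a defect group. -/
theorem eq_zero_of_pPart_notMem [Fact p.Prime] (hM : Cfsg.IsPModular p M)
    {B : Set (Cfsg.IrrCharacter G)} (hB : Cfsg.IsPBlock M B) {D : Subgroup G}
    (hD : Cfsg.IsDefectGroup p M B D) {χ : Cfsg.IrrCharacter G} (hχ : χ ∈ B) {g : G}
    (hno : ∀ k : G, k * pPartOf p g * k⁻¹ ∉ D) : (χ : G → ℂ) g = 0 := by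
  classical
  set x := pPartOf p g with hx
  set H := Subgroup.centralizer ({x} : Set G) with hHdef
  have hH : ∀ a : G, a ∈ H ↔ x * a = a * x := fun a => by
    rw [hHdef, Subgroup.mem_centralizer_singleton_iff]; exact eq_comm
  have hxo := orderOf_pPartOf hM.1 g
  let s : H := ⟨pPrimePartOf p g, (hH _).2 (commute_pPartOf_pPrimePartOf g).eq⟩
  have hs : ¬ p ∣ orderOf s := by
    rw [← Subgroup.orderOf_coe]; exact not_dvd_orderOf_pPrimePartOf hM.1 g
  have h := section_identity hM hxo hH hB hs hs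
  rw [inducing_eq_empty hM hB hD hxo hH hno, finsum_mem_empty,
    finsum_mem_eq_finite_toFinset_sum _ B.toFinite] at h
  have e : x * (s : G) = g := pPartOf_mul_pPrimePartOf hM.1 g
  rw [e] at h
  simp only [Complex.mul_conj, ← Complex.ofReal_sum, Complex.ofReal_eq_zero] at h
  exact Complex.normSq_eq_zero.1 ((Finset.sum_eq_zero_iff_of_nonneg fun ψ _ =>
    Complex.normSq_nonneg _).1 h χ (B.toFinite.mem_toFinset.2 hχ))

/-- At an element whose centraliser has p-part `p ^ d`, a height zero character is a unit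
multiple of its central character. -/
theorem memLocalIdeal_centralChar_iff_of_height_zero (hM : Cfsg.IsPModular p M)
    {B : Set (Cfsg.IrrCharacter G)} {χ : Cfsg.IrrCharacter G} (hχ : χ ∈ B)
    (h0 : Cfsg.blockHeight p B (χ : G → ℂ) = 0) {g : G}
    (hg : (Nat.card (Subgroup.centralizer ({g} : Set G))).factorization p =
      Cfsg.blockDefect p B) :
    Cfsg.MemLocalIdeal M (Cfsg.centralChar (χ : G → ℂ) g) ↔
      Cfsg.MemLocalIdeal M ((χ : G → ℂ) g) := by
  have hp := hM.1
  have hc := Char.IsIrr.isCharacter χ.2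
  set n := Cfsg.charDegree (χ : G → ℂ) with hn
  set i := (Subgroup.centralizer ({g} : Set G)).index with hi
  set m := BlockChar.minVal p B
  have hn0 : n ≠ 0 := (charDegree_pos χ.2).ne'
  have hi0 : i ≠ 0 := Subgroup.index_ne_zero_of_finite
  have hvn : n.factorization p = m := by
    have h1 := BlockChar.minVal_le (p := p) hχ
    rw [BlockChar.blockHeight_eq, Nat.sub_eq_zero_iff_le] at h0
    exact le_antisymm h0 h1
  have hvi : i.factorization p = m := by
    have h1 : (i * Nat.card (Subgroup.centralizer ({g} : Set G))).factorization p =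
        (Nat.card G).factorization p := by rw [hi, Subgroup.index_mul_card]
    rw [Nat.factorization_mul hi0 Nat.card_pos.ne', Finsupp.coe_add, Pi.add_apply, hg,
      BlockChar.blockDefect_eq] at h1
    have h2 := BlockChar.degree_val_le (p := p) χ
    rw [← hn, hvn] at h2
    have hm : m = BlockChar.minVal p B := rfl
    omega
  have hn' : ¬ p ∣ n / p ^ m := hvn ▸ Nat.not_dvd_ordCompl hp hn0
  have hi' : ¬ p ∣ i / p ^ m := hvi ▸ Nat.not_dvd_ordCompl hp hi0
  have hne : ((n / p ^ m : ℕ) : ℂ) ≠ 0 := Nat.cast_ne_zero.2 fun e => hn' (e ▸ dvd_zero p)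
  have key : ((n / p ^ m : ℕ) : ℂ) * Cfsg.centralChar (χ : G → ℂ) g =
      ((i / p ^ m : ℕ) : ℂ) * (χ : G → ℂ) g := by
    have e1 : p ^ m * (n / p ^ m) = n := hvn ▸ Nat.ordProj_mul_ordCompl_eq_self n p
    have e2 : p ^ m * (i / p ^ m) = i := hvi ▸ Nat.ordProj_mul_ordCompl_eq_self i p
    rw [Cfsg.centralChar, ← charDegree_cast hc, ← hn, ← hi]
    conv_lhs => rw [show (n : ℂ) = ((p ^ m * (n / p ^ m) : ℕ) : ℂ) by rw [e1],
      show (i : ℂ) = ((p ^ m * (i / p ^ m) : ℕ) : ℂ) by rw [e2]]
    have : (p : ℂ) ≠ 0 := Nat.cast_ne_zero.2 hp.ne_zero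
    push_cast
    field_simp
  have hωR := memLocalRing_centralChar hM χ.2 g
  have hχR := memLocalRing_char hM hc g
  constructor
  · intro h
    have h1 := memLocalIdeal_mul_left hM (memLocalRing_natCast hM (n / p ^ m)) h
    rw [key] at h1
    exact (memLocalIdeal_of_mul hM (memLocalRing_natCast hM _) hχR h1).resolve_left
      fun h => hi' ((memLocalIdeal_natCast_iff hM _).1 h)
  · intro h
    have h1 := memLocalIdeal_mul_left hM (memLocalRing_natCast hM (i / p ^ m)) h
    rw [← key] at h1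
    exact (memLocalIdeal_of_mul hM (memLocalRing_natCast hM _) hωR h1).resolve_left
      fun h => hn' ((memLocalIdeal_natCast_iff hM _).1 h)

/-- A height zero character is a unit at the product of a `p`-element and a defect class
representative commuting with it. -/
theorem not_memLocalIdeal_char_mul (hM : Cfsg.IsPModular p M) {B : Set (Cfsg.IrrCharacter G)}
    (hB : Cfsg.IsPBlock M B) {y : G} (hy : Cfsg.IsDefectClass M B y) {x : G}
    (hx : ∃ k, orderOf x = p ^ k) (hxy : Commute x y) {χ : Cfsg.IrrCharacter G} (hχ : χ ∈ B)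
    (h0 : Cfsg.blockHeight p B (χ : G → ℂ) = 0) :
    ¬ Cfsg.MemLocalIdeal M ((χ : G → ℂ) (x * y)) := by
  obtain ⟨hv, hreg⟩ := BlockChar.factorization_centralizer_eq hM hB hy
  intro h
  refine hy.2.2 χ hχ ((memLocalIdeal_centralChar_iff_of_height_zero hM hχ h0 hv).2 ?_)
  have hc := memLocalIdeal_char_sub_pPrimePart hM (Char.IsIrr.isCharacter χ.2) (x * y)
  rw [(parts_mul hM.1 hxy hx hreg).2] at hc
  simpa using memLocalIdeal_add hM hc h

/-- The defect group of a block of `C(Q)` inducing `B` lies, together with `Q`, in a conjugate of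
the defect group of `B`. -/
theorem exists_conj_sup_le_of_inducing [Fact p.Prime] (hM : Cfsg.IsPModular p M)
    {B : Set (Cfsg.IrrCharacter G)} (hB : Cfsg.IsPBlock M B) {D : Subgroup G}
    (hD : Cfsg.IsDefectGroup p M B D) {Q H : Subgroup G} [Fintype H] (hQ : IsPGroup p Q)
    (hH : ∀ a : G, a ∈ H ↔ ∀ u ∈ Q, u * a = a * u) {b : Set (Cfsg.IrrCharacter H)}
    (hb : Cfsg.IsPBlock M b) (hsub : b ⊆ inducing M H B) {E : Subgroup H}
    (hE : Cfsg.IsDefectGroup p M b E) :
    ∃ k, (Q ⊔ E.map H.subtype).map (MulAut.conj k).toMonoidHom ≤ D := by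
  classical
  set C : Subgroup H := Subgroup.centralizer (E : Set H) with hCdef
  have hEp : IsPGroup p E := isPGroup_of_isDefectGroup hE
  have hC : ∀ a : H, a ∈ C ↔ ∀ u ∈ E, u * a = a * u := fun a => Subgroup.mem_centralizer_iff
  obtain ⟨c, hc, hcE⟩ := isDefectGroup_iff.1 hE
  have hcC : c ∈ C := Subgroup.mem_centralizer_iff.2 fun u hu =>
    Subgroup.mem_centralizer_singleton_iff.1 (hcE.1 hu)
  obtain ⟨ξ, hξ⟩ : (inducing M C b).Nonempty := by
    rw [Set.nonempty_iff_ne_empty]
    intro he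
    have := memLocalIdeal_res_blockCoeff_sub hM hEp hC hb ⟨c, hcC⟩
    rw [he] at this
    simp only [Cfsg.blockCoeff, finsum_mem_empty, mul_zero, sub_zero] at this
    exact hc.2.1 this
  set Φ : (H → ℂ) → ℂ := fun f => omega (ξ : C → ℂ) fun a : C => f (a : H) with hΦ
  have hΦh : IsCenHom M Φ := isCenHom_res hM hEp hC ξ
  set e := Cfsg.blockCoeff b with he
  set F : H → ℂ := fun a => Cfsg.blockCoeff B (a : G) with hF
  set f := Cfsg.blockCoeff (inducing M H B) with hf
  have hFc := isClassFunction_res H (isClassFunction_blockCoeff B)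
  have hfR : ∀ a, Cfsg.MemLocalRing M (f a) := memLocalRing_blockCoeff_union hM
    fun ψ hψ θ h => mem_inducing_of_sameBlock hM hB hψ h
  have hef : conv e f = e := eq_blockCoeff (isClassFunction_conv (isClassFunction_blockCoeff b)
    (isClassFunction_blockCoeff _)) b fun ψ => by
      rw [omega_conv ψ.2 (isClassFunction_blockCoeff b) (isClassFunction_blockCoeff _),
        omega_blockCoeff, omega_blockCoeff]
      by_cases hψ : ψ ∈ b
      · simp [hψ, hsub hψ]
      · simp [hψ]
  have h1 := hΦh.map_conv e f (isClassFunction_blockCoeff b) (isClassFunction_blockCoeff _)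
    (memLocalRing_blockCoeff hM hb) hfR
  rw [hef] at h1
  have hΦf : ¬ Cfsg.MemLocalIdeal M (Φ f) := fun h => hξ (by
    have h2 := memLocalIdeal_mul_left hM
      (hΦh.mem e (isClassFunction_blockCoeff b) (memLocalRing_blockCoeff hM hb)) h
    simpa [hΦ] using memLocalIdeal_add hM h1 h2)
  obtain ⟨z, hz⟩ := exists_apply_not_mem_of_omega hM
    (isClassFunction_res C (isClassFunction_blockCoeff _)) hΦf
  have hzB : ¬ Cfsg.MemLocalIdeal M (Cfsg.blockCoeff B ((z : H) : G)) := fun h => hz (by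
    have := memLocalIdeal_sub hM h (memLocalIdeal_res_blockCoeff_sub hM hQ hH hB (z : H))
    simpa using this)
  have hQn : E.map H.subtype ≤ Subgroup.normalizer (Q : Set G) := by
    rintro _ ⟨u, -, rfl⟩
    exact Subgroup.centralizer_le_normalizer _ (Subgroup.mem_centralizer_iff.2 ((hH _).1 u.2))
  have hR : IsPGroup p (Q ⊔ E.map H.subtype : Subgroup G) :=
    IsPGroup.to_sup_of_normal_left' hQ (hEp.map _) hQn
  refine exists_conj_le_of_centralizer hM hB hD hzB hR (sup_le (fun u hu => ?_) ?_)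
  · exact Subgroup.mem_centralizer_singleton_iff.2 ((hH _).1 (z : H).2 u hu)
  · rintro _ ⟨u, hu, rfl⟩
    exact Subgroup.mem_centralizer_singleton_iff.2
      (congrArg Subtype.val ((hC _).1 z.2 u hu))

/-- The `p`-part of a unit class of a block lies in the centre of a defect group. -/
theorem exists_conj_pPart_mem_of_unit [Fact p.Prime] (hM : Cfsg.IsPModular p M)
    {B : Set (Cfsg.IrrCharacter G)} (hB : Cfsg.IsPBlock M B) {P : Subgroup G}
    (hP : Cfsg.IsDefectGroup p M B P) {χ : Cfsg.IrrCharacter G} (hχ : χ ∈ B) {g : G}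
    (hg : ¬ Cfsg.MemLocalIdeal M (Cfsg.centralChar (χ : G → ℂ) g)) :
    ∃ x, IsConj g x ∧ x ∈ Subgroup.centralizer (P : Set G) ∧ pPartOf p x ∈ P := by
  classical
  have hPp := isPGroup_of_isDefectGroup hP
  set H := Subgroup.centralizer (P : Set G) with hHdef
  have hH : ∀ a : G, a ∈ H ↔ ∀ u ∈ P, u * a = a * u := fun a => Subgroup.mem_centralizer_iff
  obtain ⟨c, hc, hcP⟩ := isDefectGroup_iff.1 hP
  have hcH : c ∈ H := Subgroup.mem_centralizer_iff.2 fun u hu =>
    Subgroup.mem_centralizer_singleton_iff.1 (hcP.1 hu)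
  obtain ⟨ψ, hψ⟩ : (inducing M H B).Nonempty := by
    rw [Set.nonempty_iff_ne_empty]
    intro he
    have := memLocalIdeal_res_blockCoeff_sub hM hPp hH hB ⟨c, hcH⟩
    rw [he] at this
    simp only [Cfsg.blockCoeff, finsum_mem_empty, mul_zero, sub_zero] at this
    exact hc.2.1 this
  obtain ⟨χ', hχ', hiff⟩ := inducing_zero_or_one hM hPp hH hB ψ
  have hu : ¬ Cfsg.MemLocalIdeal M (omega (ψ : H → ℂ) fun a : H => classInd g (a : G)) := by
    intro h
    have h1 := hχ' _ (isClassFunction_classInd g) (Blocks.memLocalRing_classInd hM g)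
    rw [omega_classInd (Char.isClassFunction_of_isIrr χ'.2)] at h1
    have h2 := IsPBlock.sameBlock hM hB (hiff.2 hψ) hχ g
    apply hg
    have h3 := memLocalIdeal_sub hM (memLocalIdeal_sub hM h h1) h2
    simpa using h3
  obtain ⟨y, hy⟩ : ∃ y : H, IsConj g (y : G) ∧
      ¬ Cfsg.MemLocalIdeal M (Cfsg.centralChar (ψ : H → ℂ) y) := by
    by_contra! hall
    have : Finite (ConjClasses H) := Quotient.finite _
    have := Fintype.ofFinite (ConjClasses H)
    refine hu ?_
    rw [omega_eq_sum_classes (Char.isClassFunction_of_isIrr ψ.2)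
      (isClassFunction_res H (isClassFunction_classInd g))]
    refine memLocalIdeal_sum hM _ fun K _ => ?_
    rw [classInd_apply]
    split_ifs with h
    · rw [one_mul]; exact hall _ h
    · rw [zero_mul]; exact memLocalIdeal_zero hM
  refine ⟨y, hy.1, y.2, ?_⟩
  set b := Cfsg.blockOf M (ψ : H → ℂ)
  have hb : Cfsg.IsPBlock M b := isPBlock_blockOf ψ
  obtain ⟨E, hE⟩ := exists_defectGroup hM hb
  have hsub : b ⊆ inducing M H B := fun θ hθ =>
    mem_inducing_of_sameBlock hM hB hψ (mem_blockOf.1 hθ)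
  obtain ⟨k, hk⟩ := exists_conj_sup_le_of_inducing hM hB hP hPp hH hb hsub hE
  have hEP : E.map H.subtype ≤ P := by
    have heq : P.map (MulAut.conj k).toMonoidHom = P :=
      Subgroup.eq_of_le_of_card_ge ((Subgroup.map_mono le_sup_left).trans hk)
        (le_of_eq (card_map_conj P k).symm)
    intro u hu
    have h1 : k * u * k⁻¹ ∈ P := hk ⟨u, Subgroup.mem_sup_right hu, rfl⟩
    rw [← heq] at h1
    obtain ⟨v, hv, hvu⟩ := h1
    exact (MulAut.conj k).injective hvu ▸ hv
  have hne : (ψ : H → ℂ) y ≠ 0 := fun h => hy.2 (by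
    rw [Cfsg.centralChar, h, mul_zero, zero_div]; exact memLocalIdeal_zero hM)
  obtain ⟨k', hk'⟩ : ∃ k' : H, k' * pPartOf p y * k'⁻¹ ∈ E := by
    by_contra! hall
    exact hne (eq_zero_of_pPart_notMem hM hb hE (mem_blockOf_self hM ψ) hall)
  have he : ((pPartOf p y : H) : G) = pPartOf p (y : G) := by
    rw [pPartOf, pPartOf, Subgroup.coe_pow, Subgroup.orderOf_coe]
  have h2 : (k' : G) * ((pPartOf p y : H) : G) * (k' : G)⁻¹ ∈ P := hEP ⟨_, hk', by simp⟩
  rw [← he]
  have h3 : (k' : G) * ((pPartOf p y : H) : G) = ((pPartOf p y : H) : G) * (k' : G) := by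
    have h4 : ((pPartOf p y : H) : G) = (k' : G)⁻¹ *
        ((k' : G) * ((pPartOf p y : H) : G) * (k' : G)⁻¹) * (k' : G) := by group
    rw [mul_assoc _ _ (k' : G), (hH _).1 k'.2 _ h2, inv_mul_cancel_left] at h4
    exact ((hH _).1 k'.2 _ (h4 ▸ h2)).symm
  rwa [h3, mul_inv_cancel_right] at h2

end Cfsg.Agent.Blocks
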