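import Cfsg.Agent.Blocks.SecondMain
import Cfsg.Agent.Blocks.Rank
import Cfsg.Agent.Char.Basic

/-!
# `k - l` for the blocks lying over a block, as a sum over the p-elements

For a homomorphism `φ : K →* G` and a character `χ₀` of `G`, `over M φ χ₀` is the union of the
blocks of `K` inducing (along `φ`) the block of `χ₀`.
-/

namespace Cfsg.Agent.Blocks

open scoped ComplexConjugate
open Cfsg.Agent

universe u

variable {G : Type u} [Group G] {p : ℕ} {M : Ideal Cfsg.AlgInt}

/-- The characters of `K` whose central character, pushed along `φ`, is that of `χ₀` modulo `M`. -/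
def over (M : Ideal Cfsg.AlgInt) {K : Type u} [Group K] [Fintype K] (φ : K →* G) (χ₀ : G → ℂ) :
    Set (Cfsg.IrrCharacter K) :=
  {ψ | ∀ g : G, Cfsg.MemLocalIdeal M
    (omega (ψ : K → ℂ) (fun a => classInd g (φ a)) - Cfsg.centralChar χ₀ g)}

/-- The rank of `over M φ χ₀`, times the order of `K`. -/
noncomputable def overReg (p : ℕ) (M : Ideal Cfsg.AlgInt) {K : Type u} [Group K] [Fintype K]
    (φ : K →* G) (χ₀ : G → ℂ) : ℂ :=
  ∑ a : K, if p ∣ orderOf a then 0 else
    ∑ᶠ ψ ∈ over M φ χ₀, (ψ : K → ℂ) a * conj ((ψ : K → ℂ) a)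

variable {K : Type u} [Group K] [Fintype K]

theorem isClassFunction_classInd_comp (φ : K →* G) (g : G) :
    Cfsg.IsClassFunction K (fun a => classInd g (φ a)) := fun a k => by
  show classInd g (φ (k * a * k⁻¹)) = classInd g (φ a)
  rw [map_mul, map_mul, map_inv]
  exact isClassFunction_classInd g (φ a) (φ k)

theorem memLocalRing_classInd_comp (hM : Cfsg.IsPModular p M) (φ : K →* G) (g : G) (a : K) :
    Cfsg.MemLocalRing M (classInd g (φ a)) :=
  memLocalRing_classInd hM g (φ a)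

theorem over_sameBlock (hM : Cfsg.IsPModular p M) (φ : K →* G) (χ₀ : G → ℂ)
    {ψ ξ : Cfsg.IrrCharacter K} (hψ : ψ ∈ over M φ χ₀)
    (h : Cfsg.SameBlock M (ψ : K → ℂ) (ξ : K → ℂ)) : ξ ∈ over M φ χ₀ := fun g => by
  have h1 := memLocalIdeal_omega_sub hM ψ.2 ξ.2 (isClassFunction_classInd_comp φ g)
    (memLocalRing_classInd_comp hM φ g) h
  simpa using memLocalIdeal_sub hM (hψ g) h1

theorem over_id [Fintype G] (hM : Cfsg.IsPModular p M) {B : Set (Cfsg.IrrCharacter G)}
    (hB : Cfsg.IsPBlock M B) {χ₀ : Cfsg.IrrCharacter G} (hχ₀ : χ₀ ∈ B) :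
    over M (MonoidHom.id G) (χ₀ : G → ℂ) = B := by
  ext ψ
  have e : ∀ g, omega (ψ : G → ℂ) (fun a => classInd g (MonoidHom.id G a)) =
      Cfsg.centralChar (ψ : G → ℂ) g :=
    fun g => omega_classInd (Char.isClassFunction_of_isIrr ψ.2) g
  constructor
  · intro h
    exact IsPBlock.mem_of_sameBlock hM hB hχ₀ (sameBlock_symm fun g => e g ▸ h g)
  · intro h g
    rw [e]
    exact IsPBlock.sameBlock hM hB h hχ₀ g

theorem mem_over_subtype_iff [Fintype G] (hM : Cfsg.IsPModular p M) (N : Subgroup G) [Fintype N]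
    {b : Set (Cfsg.IrrCharacter G)} (hb : Cfsg.IsPBlock M b) {χ₀ : Cfsg.IrrCharacter G}
    (hχ₀ : χ₀ ∈ b) (ψ : Cfsg.IrrCharacter N) :
    ψ ∈ over M N.subtype (χ₀ : G → ℂ) ↔
      ∃ β : Set (Cfsg.IrrCharacter N), ψ ∈ β ∧ Cfsg.IsInducedBlock M N β b := by
  constructor
  · intro h
    refine ⟨Cfsg.blockOf M (ψ : N → ℂ), mem_blockOf_self hM ψ, isPBlock_blockOf ψ, hb,
      fun ξ hξ χ hχ g => ?_⟩
    rw [inducedCentralChar_eq_omega]
    have h1 := over_sameBlock hM N.subtype _ h (mem_blockOf.1 hξ) g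
    have h2 := IsPBlock.sameBlock hM hb hχ₀ hχ g
    simpa using memLocalIdeal_add hM h1 h2
  · rintro ⟨β, hψ, -, -, hind⟩ g
    have := hind ψ hψ χ₀ hχ₀ g
    rwa [inducedCentralChar_eq_omega] at this

omit [Fintype K] in
theorem orderOf_equiv {K' : Type u} [Group K'] (e : K' ≃* K) (a : K') : orderOf (e a) = orderOf a :=
  orderOf_injective e.toMonoidHom e.injective a

theorem overReg_comp_equiv {K' : Type u} [Group K'] [Fintype K'] (e : K' ≃* K) (φ : K →* G)
    (χ₀ : G → ℂ) : overReg p M (φ.comp e.toMonoidHom) χ₀ = overReg p M φ χ₀ := by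
  classical
  let E : Cfsg.IrrCharacter K ≃ Cfsg.IrrCharacter K' :=
    { toFun := fun ψ => ⟨fun a => (ψ : K → ℂ) (e a), (Char.isIrrCharacter_comp_equiv e).2 ψ.2⟩
      invFun := fun ψ => ⟨fun a => (ψ : K' → ℂ) (e.symm a),
        (Char.isIrrCharacter_comp_equiv e.symm).2 ψ.2⟩
      left_inv := fun ψ => Subtype.ext (funext fun a => by simp)
      right_inv := fun ψ => Subtype.ext (funext fun a => by simp) }
  have hmem : ∀ ψ, E ψ ∈ over M (φ.comp e.toMonoidHom) χ₀ ↔ ψ ∈ over M φ χ₀ := by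
    intro ψ
    refine forall_congr' fun g => ?_
    have : omega (E ψ : K' → ℂ) (fun a => classInd g (φ.comp e.toMonoidHom a)) =
        omega (ψ : K → ℂ) (fun a => classInd g (φ a)) := by
      show (∑ a : K', classInd g (φ (e a)) * (ψ : K → ℂ) (e a)) / (ψ : K → ℂ) (e 1) = _
      rw [map_one, omega]
      congr 1
      exact Fintype.sum_equiv e.toEquiv _ _ fun a => rfl
    rw [this]
  refine Fintype.sum_equiv e.toEquiv _ _ fun a => ?_
  simp only [MulEquiv.toEquiv_eq_coe, MulEquiv.coe_toEquiv, orderOf_equiv]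
  refine if_congr Iff.rfl rfl ?_
  rw [finsum_mem_eq_finite_toFinset_sum _ (Set.toFinite _),
    finsum_mem_eq_finite_toFinset_sum _ (Set.toFinite (over M φ χ₀))]
  exact (Finset.sum_equiv E (fun ψ => by rw [Set.Finite.mem_toFinset, Set.Finite.mem_toFinset, hmem]) fun ψ _ => rfl).symm

/-- `overReg` depends only on the image of an injective homomorphism. -/
theorem overReg_eq_of_range {K' : Type u} [Group K'] [Fintype K'] {φ : K →* G} {φ' : K' →* G}
    (hφ : Function.Injective φ) (hφ' : Function.Injective φ') (h : φ'.range = φ.range)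
    (χ₀ : G → ℂ) : overReg p M φ' χ₀ = overReg p M φ χ₀ := by
  set e : K' ≃* K := ((MonoidHom.ofInjective hφ').trans (MulEquiv.subgroupCongr h)).trans
    (MonoidHom.ofInjective hφ).symm
  have : φ' = φ.comp e.toMonoidHom := by
    ext a
    have h1 : ∀ y : φ.range, φ ((MonoidHom.ofInjective hφ).symm y) = (y : G) := fun y => by
      conv_rhs => rw [← (MonoidHom.ofInjective hφ).apply_symm_apply y]
      rfl
    show φ' a = φ ((MonoidHom.ofInjective hφ).symm _)
    rw [h1]
    rfl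
  rw [this, overReg_comp_equiv]

open scoped Classical in
/-- The rank of a union of blocks. -/
theorem card_mul_blockRank_union (hM : Cfsg.IsPModular p M) {A : Set (Cfsg.IrrCharacter K)}
    (hA : ∀ ψ ∈ A, ∀ ξ : Cfsg.IrrCharacter K,
      Cfsg.SameBlock M (ψ : K → ℂ) (ξ : K → ℂ) → ξ ∈ A) :
    (Nat.card K : ℂ) * (Cfsg.blockRank p A : ℂ) =
      ∑ x : K, if p ∣ orderOf x then 0 else
        ∑ᶠ χ ∈ A, (χ : K → ℂ) x * conj ((χ : K → ℂ) x) := by
  let ev : Cfsg.IrrCharacter K → ((K → ℂ) →ₗ[ℂ] ℂ) := fun χ =>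
    { toFun := fun f => Cfsg.classInner f (χ : K → ℂ)
      map_add' := fun f g => Char.classInner_add_left _ _ _
      map_smul' := fun c f => Char.classInner_smul_left _ _ _ }
  set S := A.toFinite.toFinset with hS
  let P : (K → ℂ) →ₗ[ℂ] (K → ℂ) :=
    ∑ χ ∈ S, (ev χ).smulRight (Cfsg.pRegularPart p (χ : K → ℂ))
  set V := Submodule.span ℂ
    ((fun χ : Cfsg.IrrCharacter K => Cfsg.pRegularPart p (χ : K → ℂ)) '' A) with hV
  have hP : ∀ f, P f = ∑ χ ∈ S,
      Cfsg.classInner f (χ : K → ℂ) • Cfsg.pRegularPart p (χ : K → ℂ) := by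
    intro f
    simp [P, ev]
  have hfix : ∀ χ : Cfsg.IrrCharacter K, χ ∈ A →
      P (Cfsg.pRegularPart p (χ : K → ℂ)) = Cfsg.pRegularPart p (χ : K → ℂ) := by
    intro χ hχ
    rw [hP]
    set B := Cfsg.blockOf M (χ : K → ℂ)
    have hB : Cfsg.IsPBlock M B := isPBlock_blockOf χ
    have hχB : χ ∈ B := mem_blockOf_self hM χ
    funext x
    have e := congrFun (pRegularPart_eq_sum hM hB hχB) x
    simp only [Finset.sum_apply, Pi.smul_apply, smul_eq_mul, ite_apply, Pi.zero_apply] at e ⊢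
    rw [← Finset.sum_filter] at e
    have hsub : Finset.univ.filter (fun φ => φ ∈ B) ⊆ S := fun φ hφ =>
      A.toFinite.mem_toFinset.2 (hA χ hχ φ (mem_blockOf.1 (Finset.mem_filter.1 hφ).2))
    rw [← Finset.sum_subset hsub fun φ _ hφ => by
      rw [classInner_pRegularPart_eq_zero hM hB hχB (fun h => hφ (Finset.mem_filter.2
        ⟨Finset.mem_univ φ, h⟩)), zero_mul]]
    by_cases hx : p ∣ orderOf x
    · rw [pRegularPart_apply p (χ : K → ℂ) x, if_pos hx]
      exact Finset.sum_eq_zero fun φ _ => by rw [pRegularPart_apply, if_pos hx, mul_zero]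
    · rw [e]
      exact Finset.sum_congr rfl fun φ _ => by rw [pRegularPart_apply p (φ : K → ℂ), if_neg hx]
  have hproj : LinearMap.IsProj V P := by
    refine ⟨fun f => ?_, fun f hf => ?_⟩
    · rw [hP]
      exact V.sum_mem fun χ hχ => V.smul_mem _
        (Submodule.subset_span ⟨χ, A.toFinite.mem_toFinset.1 hχ, rfl⟩)
    · induction hf using Submodule.span_induction with
      | mem x hx =>
        obtain ⟨χ, hχ, rfl⟩ := hx
        exact hfix χ hχ
      | zero => simp
      | add a b _ _ ha hb => simp [ha, hb]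
      | smul c a _ ha => simp [ha]
  have htr := hproj.trace
  simp only [P, map_sum, LinearMap.trace_smulRight] at htr
  rw [Cfsg.blockRank, ← hV, ← htr, Finset.mul_sum]
  simp only [finsum_mem_eq_finite_toFinset_sum _ A.toFinite]
  rw [show (∑ x : K, if p ∣ orderOf x then (0 : ℂ) else
      ∑ χ ∈ S, (χ : K → ℂ) x * conj ((χ : K → ℂ) x)) = ∑ x : K, ∑ χ ∈ S,
      if p ∣ orderOf x then (0 : ℂ) else (χ : K → ℂ) x * conj ((χ : K → ℂ) x) from
    Finset.sum_congr rfl fun x _ => by split_ifs <;> simp, Finset.sum_comm]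
  refine Finset.sum_congr rfl fun χ _ => ?_
  show (Nat.card K : ℂ) * Cfsg.classInner (Cfsg.pRegularPart p (χ : K → ℂ)) (χ : K → ℂ) = _
  rw [Cfsg.classInner, ← mul_assoc,
    mul_inv_cancel₀ (Nat.cast_ne_zero.2 Nat.card_pos.ne'), one_mul]
  exact Finset.sum_congr rfl fun x _ => by rw [pRegularPart_apply, ite_mul, zero_mul]

theorem card_mul_blockRank_over (hM : Cfsg.IsPModular p M) (φ : K →* G) (χ₀ : G → ℂ) :
    (Nat.card K : ℂ) * (Cfsg.blockRank p (over M φ χ₀) : ℂ) = overReg p M φ χ₀ := by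
  classical
  exact card_mul_blockRank_union hM fun ψ hψ ξ h => over_sameBlock hM φ χ₀ hψ h

/-- The second main theorem for `over`, for two regular elements. -/
theorem over_section_identity_pair (hM : Cfsg.IsPModular p M) (φ : K →* G) (χ₀ : G → ℂ) {x : K}
    (hx : ∃ k, orderOf x = p ^ k) [Fintype (Subgroup.centralizer ({x} : Set K))]
    {a b : Subgroup.centralizer ({x} : Set K)} (ha : ¬ p ∣ orderOf a) (hb : ¬ p ∣ orderOf b) :
    ∑ᶠ χ ∈ over M φ χ₀, (χ : K → ℂ) (x * (a : K)) * conj ((χ : K → ℂ) (x * (b : K))) =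
      ∑ᶠ ψ ∈ over M (φ.comp (Subgroup.centralizer ({x} : Set K)).subtype) χ₀,
        (ψ : Subgroup.centralizer ({x} : Set K) → ℂ) a *
          conj ((ψ : Subgroup.centralizer ({x} : Set K) → ℂ) b) := by
  classical
  let L := Subgroup.centralizer ({x} : Set K)
  obtain ⟨k, hk⟩ := hx
  have hP : IsPGroup p (Subgroup.zpowers x) :=
    IsPGroup.of_card (n := k) (by rw [Nat.card_zpowers, hk])
  have hH : ∀ a : K, a ∈ L ↔ x * a = a * x := mem_centralizer_iff_comm x
  have hH' : ∀ a : K, a ∈ L ↔ ∀ u ∈ Subgroup.zpowers x, u * a = a * u := fun a => by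
    rw [hH]
    exact ⟨fun h u ⟨i, hi⟩ => hi ▸ ((show Commute x a from h).zpow_left i).eq,
      fun h => h x (Subgroup.mem_zpowers x)⟩
  let T := (over M φ χ₀).toFinite.toFinset.image
    fun χ : Cfsg.IrrCharacter K => Cfsg.blockOf M (χ : K → ℂ)
  have hT : ∀ B ∈ T, Cfsg.IsPBlock M B ∧ B ⊆ over M φ χ₀ := by
    intro B hB
    obtain ⟨χ, hχ, rfl⟩ := Finset.mem_image.1 hB
    exact ⟨isPBlock_blockOf χ, fun ξ hξ => over_sameBlock hM φ χ₀
      ((Set.Finite.mem_toFinset _).1 hχ) (mem_blockOf.1 hξ)⟩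
  -- the inducing block of each character of `L`
  have hkey : ∀ ψ : Cfsg.IrrCharacter L, ψ ∈ over M (φ.comp L.subtype) χ₀ ↔
      ∃ B ∈ T, ψ ∈ inducing M L B := by
    intro ψ
    obtain ⟨χ', hχ', -⟩ := inducing_zero_or_one hM hP hH' (isPBlock_principalBlock M) ψ
    have hcongr : ∀ g, Cfsg.MemLocalIdeal M
        (omega (ψ : L → ℂ) (fun a => classInd g ((φ.comp L.subtype) a)) -
          omega (χ' : K → ℂ) (fun a => classInd g (φ a))) := fun g =>
      hχ' (fun a => classInd g (φ a)) (isClassFunction_classInd_comp φ g)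
        (memLocalRing_classInd_comp hM φ g)
    have hiff : ψ ∈ over M (φ.comp L.subtype) χ₀ ↔ χ' ∈ over M φ χ₀ :=
      forall_congr' fun g => ⟨fun h => by simpa using memLocalIdeal_sub hM h (hcongr g),
        fun h => by simpa using memLocalIdeal_add hM (hcongr g) h⟩
    rw [hiff]
    constructor
    · intro h
      refine ⟨_, Finset.mem_image_of_mem _ ((Set.Finite.mem_toFinset _).2 h), fun hd => ?_⟩
      have h2 := hχ' _ (isClassFunction_blockCoeff (Cfsg.blockOf M (χ' : K → ℂ)))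
        (memLocalRing_blockCoeff hM (isPBlock_blockOf χ'))
      rw [omega_blockCoeff, if_pos (mem_blockOf_self hM χ')] at h2
      exact not_memLocalIdeal_one hM (by simpa using memLocalIdeal_sub hM hd h2)
    · rintro ⟨B, hBT, hψB⟩
      obtain ⟨hB, hBsub⟩ := hT B hBT
      refine hBsub ?_
      by_contra hc
      have h2 := hχ' _ (isClassFunction_blockCoeff B) (memLocalRing_blockCoeff hM hB)
      rw [omega_blockCoeff, if_neg hc, sub_zero] at h2
      exact hψB h2
  have hdisj : ∀ B ∈ T, ∀ B' ∈ T, ∀ ψ, ψ ∈ inducing M L B → ψ ∈ inducing M L B' → B = B' := by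
    intro B hB B' hB' ψ h h'
    obtain ⟨χ, hχ⟩ := IsPBlock.nonempty hM (hT B hB).1
    obtain ⟨χ', hχ'⟩ := IsPBlock.nonempty hM (hT B' hB').1
    have hb := isPBlock_blockOf (M := M) ψ
    have i1 := (mem_inducing_iff hM hP hH' (hT B hB).1 hb (mem_blockOf_self hM ψ)).1 h
    have i2 := (mem_inducing_iff hM hP hH' (hT B' hB').1 hb (mem_blockOf_self hM ψ)).1 h'
    have : χ' ∈ B := IsPBlock.mem_of_sameBlock hM (hT B hB).1 hχ fun g => by
      simpa using memLocalIdeal_sub hM (i2.2.2 ψ (mem_blockOf_self hM ψ) χ' hχ' g)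
        (i1.2.2 ψ (mem_blockOf_self hM ψ) χ hχ g)
    rw [IsPBlock.eq_blockOf hM (hT B hB).1 this, IsPBlock.eq_blockOf hM (hT B' hB').1 hχ']
  have e1 : (over M φ χ₀).toFinite.toFinset = T.biUnion fun B => B.toFinite.toFinset := by
    ext χ
    simp only [Finset.mem_biUnion, Set.Finite.mem_toFinset]
    exact ⟨fun h => ⟨_, Finset.mem_image_of_mem _ ((Set.Finite.mem_toFinset _).2 h),
      mem_blockOf_self hM χ⟩, fun ⟨B, hB, h⟩ => (hT B hB).2 h⟩
  have e2 : (over M (φ.comp L.subtype) χ₀).toFinite.toFinset =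
      T.biUnion fun B => (inducing M L B).toFinite.toFinset := by
    ext ψ
    simp only [Finset.mem_biUnion, Set.Finite.mem_toFinset]
    exact hkey ψ
  have d1 : (T : Set (Set (Cfsg.IrrCharacter K))).PairwiseDisjoint
      fun B => B.toFinite.toFinset := by
    intro B hB B' hB' hne
    refine Finset.disjoint_left.2 fun χ h h' => hne ?_
    rw [IsPBlock.eq_blockOf hM (hT B hB).1 ((Set.Finite.mem_toFinset _).1 h),
      IsPBlock.eq_blockOf hM (hT B' hB').1 ((Set.Finite.mem_toFinset _).1 h')]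
  have d2 : (T : Set (Set (Cfsg.IrrCharacter K))).PairwiseDisjoint
      fun B => (inducing M L B).toFinite.toFinset := fun B hB B' hB' hne =>
    Finset.disjoint_left.2 fun ψ h h' => hne
      (hdisj B hB B' hB' ψ ((Set.Finite.mem_toFinset _).1 h) ((Set.Finite.mem_toFinset _).1 h'))
  change _ = ∑ᶠ ψ ∈ over M (φ.comp L.subtype) χ₀, (ψ : L → ℂ) a * conj ((ψ : L → ℂ) b)
  rw [finsum_mem_eq_finite_toFinset_sum _ (over M φ χ₀).toFinite,
    finsum_mem_eq_finite_toFinset_sum _ (over M (φ.comp L.subtype) χ₀).toFinite, e1, e2,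
    Finset.sum_biUnion d1, Finset.sum_biUnion d2]
  refine Finset.sum_congr rfl fun B hB => ?_
  rw [← finsum_mem_eq_finite_toFinset_sum _ B.toFinite,
    ← finsum_mem_eq_finite_toFinset_sum _ (inducing M L B).toFinite]
  exact section_identity hM ⟨k, hk⟩ hH (hT B hB).1 ha hb

/-- The second main theorem for `over`. -/
theorem over_section_identity (hM : Cfsg.IsPModular p M) (φ : K →* G) (χ₀ : G → ℂ) {x : K}
    (hx : ∃ k, orderOf x = p ^ k) [Fintype (Subgroup.centralizer ({x} : Set K))]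
    {a : Subgroup.centralizer ({x} : Set K)} (ha : ¬ p ∣ orderOf a) :
    ∑ᶠ χ ∈ over M φ χ₀, (χ : K → ℂ) (x * (a : K)) * conj ((χ : K → ℂ) (x * (a : K))) =
      ∑ᶠ ψ ∈ over M (φ.comp (Subgroup.centralizer ({x} : Set K)).subtype) χ₀,
        (ψ : Subgroup.centralizer ({x} : Set K) → ℂ) a *
          conj ((ψ : Subgroup.centralizer ({x} : Set K) → ℂ) a) :=
  over_section_identity_pair hM φ χ₀ hx ha ha

open scoped Classical in
/-- `|K| (k - l)` is the sum over the nontrivial p-elements `x` of `|C(x)| l`. -/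
theorem card_mul_card_sub_blockRank (hM : Cfsg.IsPModular p M) (φ : K →* G) (χ₀ : G → ℂ) :
    (Nat.card K : ℂ) * ((Nat.card (over M φ χ₀) : ℂ) - (Cfsg.blockRank p (over M φ χ₀) : ℂ)) =
      ∑ x ∈ Finset.univ.filter (fun x : K => x ≠ 1 ∧ ∃ k : ℕ, orderOf x = p ^ k),
        overReg p M (φ.comp (Subgroup.centralizer ({x} : Set K)).subtype) χ₀ := by
  have hp := hM.1
  set A := over M φ χ₀
  set F : K → ℂ := fun g => ∑ᶠ χ ∈ A, (χ : K → ℂ) g * conj ((χ : K → ℂ) g) with hF
  have hk : (Nat.card K : ℂ) * (Nat.card A : ℂ) = ∑ g, F g := by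
    simp only [hF, finsum_mem_eq_finite_toFinset_sum _ A.toFinite]
    rw [Finset.sum_comm, Nat.card_coe_set_eq, Set.ncard_eq_toFinset_card _ A.toFinite,
      Finset.sum_congr rfl (g := fun _ => (Nat.card K : ℂ)) fun χ _ => ?_, Finset.sum_const,
      nsmul_eq_mul, mul_comm]
    have h := Char.classInner_irr_self χ.2
    rwa [Cfsg.classInner, inv_mul_eq_iff_eq_mul₀ (Nat.cast_ne_zero.2 Nat.card_pos.ne'),
      mul_one] at h
  set S := Finset.univ.filter (fun x : K => x ≠ 1 ∧ ∃ k : ℕ, orderOf x = p ^ k) with hS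
  have hone : (1 : K) ∉ S := by simp [hS]
  rw [mul_sub, hk, card_mul_blockRank_over hM, sub_eq_iff_eq_add,
    ← Finset.sum_fiberwise_of_maps_to (g := pPartOf p) (t := insert 1 S)
      (fun g _ => ?_), Finset.sum_insert hone, add_comm]
  · congr 1
    · refine Finset.sum_congr rfl fun x hx => ?_
      have hxo := (Finset.mem_filter.1 hx).2.2
      rw [sum_pPart_fiber hp hxo F]
      refine Finset.sum_congr rfl fun a _ => ?_
      split_ifs with h
      · rfl
      · exact over_section_identity hM φ χ₀ hxo h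
    · rw [Finset.sum_filter]
      refine Finset.sum_congr rfl fun g _ => ?_
      simp only [pPartOf_eq_one_iff hp, ite_not]
      rfl
  · rw [Finset.mem_insert]
    by_cases h : pPartOf p g = 1
    · exact Or.inl h
    · exact Or.inr (Finset.mem_filter.2 ⟨Finset.mem_univ _, h, orderOf_pPartOf hp g⟩)

end Cfsg.Agent.Blocks
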