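import Cfsg.Agent.Blocks.CoveringNormal
import Cfsg.Agent.Char.Glauberman.AboveSolvable
import Cfsg.Agent.Char.Glauberman.Statement
import Cfsg.Agent.Layer.PConstraint
import Cfsg.Agent.Coprime.PCoreTools
import Cfsg.Agent.S0631

/-!
# The block over an invariant character of the p'-core of a p-constrained group

For a p-constrained group and an invariant irreducible character `θ` of `K = O_{p'}(G)` the
characters over `θ` form one block; it has full defect and is of principal type.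
-/

namespace Cfsg.Agent.Blocks

open scoped ComplexConjugate
open Cfsg.Agent

universe u

variable {G : Type u} [Group G] [Fintype G] {p : ℕ} [Fact p.Prime] {M : Ideal Cfsg.AlgInt}

/-- The block of a character of a p'-group is that character alone. -/
theorem blockOf_eq_singleton_of_not_dvd (hM : Cfsg.IsPModular p M) (hp : ¬ p ∣ Nat.card G)
    (θ : Cfsg.IrrCharacter G) : Cfsg.blockOf M (θ : G → ℂ) = {θ} := by
  refine BlockThms.blockOf_eq_singleton hM θ fun hd => hp (hd.trans ?_)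
  obtain ⟨c, hc⟩ := Char.IsIrr.degree_dvd_card θ.2
    (charDegree_cast (Char.IsIrr.isCharacter θ.2)).symm
  rw [hc, Nat.mul_div_cancel_left _ (charDegree_pos θ.2)]
  exact dvd_mul_left _ _

theorem exists_invariant_block_of_pConstrained (hM : Cfsg.IsPModular p M)
    (hcon : Cfsg.IsPConstrained p G) {K : Subgroup G} [hK : K.Normal] [Fintype K]
    (hKdef : K = Cfsg.pPrimeCore p G) (θ : Cfsg.IrrCharacter K)
    (hθ : ∀ g : G, Char.conjFun g (θ : K → ℂ) = θ) :
    ∃ B : Set (Cfsg.IrrCharacter G), Cfsg.IsPBlock M B ∧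
      (∀ χ : Cfsg.IrrCharacter G, χ ∈ B ↔
        Cfsg.classInner (fun n : K => (χ : G → ℂ) n) (θ : K → ℂ) ≠ 0) ∧
      (∀ S : Sylow p G, Cfsg.IsDefectGroup p M B (S : Subgroup G)) ∧
      (∀ D : Subgroup G, Cfsg.IsDefectGroup p M B D → ∃ S : Sylow p G, D = (S : Subgroup G)) ∧
      ∀ x : G, Cfsg.blockCoeff B x = Cfsg.extendByZero K (Cfsg.blockCoeff ({θ} : Set _)) x := by
  classical
  have hp := hM.1
  set L := Cfsg.pPrimePCore p G with hL
  haveI hLn : L.Normal := @Subgroup.normal_of_characteristic _ _ _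
    Coprime.pPrimePCore_characteristic
  have := Fintype.ofFinite L
  have hKL : K ≤ L := fun x hx => by
    rw [hL, Cfsg.pPrimePCore, Subgroup.mem_comap, QuotientGroup.mk'_apply,
      (QuotientGroup.eq_one_iff x).2 (hKdef ▸ hx)]
    exact one_mem _
  have hKp : ¬ p ∣ Nat.card K := by
    rw [hKdef]; exact Core.not_dvd_card_pPrimeCore
  set K' := K.subgroupOf L with hK'
  have := Fintype.ofFinite K'
  have hKn : K'.Normal := hK.subgroupOf L
  have hK'p : ¬ p ∣ Nat.card K' := by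
    rwa [hK', Nat.card_congr (Subgroup.subgroupOfEquivOfLe hKL).toEquiv]
  have hidx : ∃ k : ℕ, K'.index = p ^ k := by
    have h3 : K.relIndex L = Nat.card (Cfsg.pCore p (G ⧸ Cfsg.pPrimeCore p G)) := by
      conv_lhs => arg 1; rw [hKdef, ← QuotientGroup.ker_mk' (Cfsg.pPrimeCore p G)]
      rw [← MonoidHom.comap_bot, Subgroup.relIndex_comap, Subgroup.relIndex_bot_left, hL,
        Cfsg.pPrimePCore,
        Subgroup.map_comap_eq_self_of_surjective (QuotientGroup.mk'_surjective _)]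
    obtain ⟨k, hk⟩ := IsPGroup.iff_card.1
      (Core.pCore_isPGroup (p := p) (G := G ⧸ Cfsg.pPrimeCore p G))
    exact ⟨k, by rw [← hk, ← h3]; rfl⟩
  set θ' : Cfsg.IrrCharacter K' :=
    Char.Glauberman.irrEquiv (Subgroup.subgroupOfEquivOfLe hKL) θ with hθ'
  have hθ'inv : ∀ l : L, Char.conjFun l (θ' : K' → ℂ) = θ' := by
    intro l
    funext n
    exact congrFun (hθ l) (Subgroup.subgroupOfEquivOfLe hKL n)
  -- being over `θ` is seen at every constituent on `L`
  have hover : ∀ (χ : Cfsg.IrrCharacter G) (η : Cfsg.IrrCharacter L),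
      Cfsg.classInner (fun l : L => (χ : G → ℂ) l) (η : L → ℂ) ≠ 0 →
      (Cfsg.classInner (fun n : K => (χ : G → ℂ) n) (θ : K → ℂ) ≠ 0 ↔
        Cfsg.classInner (fun n : K' => (η : L → ℂ) n) (θ' : K' → ℂ) ≠ 0) := by
    intro χ η hη
    have hfwd : ∀ φ : Cfsg.IrrCharacter K,
        Cfsg.classInner (fun n : K' => (η : L → ℂ) n)
          (Char.Glauberman.irrEquiv (Subgroup.subgroupOfEquivOfLe hKL) φ : K' → ℂ) ≠ 0 →
        Cfsg.classInner (fun n : K => (χ : G → ℂ) n) (φ : K → ℂ) ≠ 0 := by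
      intro φ hφ
      rw [Char.Glauberman.mult_spec, Ne, Nat.cast_eq_zero] at hη hφ ⊢
      exact Char.Glauberman.mult_trans K L hKL χ η φ hη hφ
    refine ⟨fun h => ?_, hfwd θ⟩
    obtain ⟨ζ, hζ⟩ := Char.exists_constituent_res (N := K') η.2
    obtain ⟨φ, rfl⟩ :=
      (Char.Glauberman.irrEquiv (Subgroup.subgroupOfEquivOfLe hKL)).surjective ζ
    obtain ⟨g, hg⟩ := Char.mem_orbit.1
      (Char.constituent_mem_orbit χ.2 θ.2 φ.2 h (hfwd φ hζ))
    rw [show φ = θ from Subtype.ext (hg.symm.trans (hθ g))] at hζ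
    exact hζ
  -- the block of `L` over `θ'`
  have hb0 : Cfsg.IsPBlock M ({θ'} : Set (Cfsg.IrrCharacter K')) :=
    ⟨θ', (blockOf_eq_singleton_of_not_dvd hM hK'p θ').symm⟩
  obtain ⟨b, ⟨hb, η₀, hη₀, θ₁, hθ₁, hη₀θ⟩, hbuniq⟩ := BlockThms.existsUnique_covering hM hidx hb0
  rw [Set.mem_singleton_iff] at hθ₁
  subst θ₁
  have hbiff : ∀ η : Cfsg.IrrCharacter L,
      η ∈ b ↔ Cfsg.classInner (fun n : K' => (η : L → ℂ) n) (θ' : K' → ℂ) ≠ 0 := by
    intro η
    refine ⟨fun h => ?_, fun h => ?_⟩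
    · exact BlockThms.constituent_iff_of_sameBlock hM hK'p
        (IsPBlock.sameBlock hM hb hη₀ h) θ' hη₀θ
    · exact IsPBlock.mem_of_sameBlock hM hb hη₀
        ((BlockThms.sameBlock_iff_common hM hK'p hidx η₀ η).2 ⟨θ', hη₀θ, h⟩)
  have hbinv : ∀ (g : G) (η : Cfsg.IrrCharacter L), η ∈ b →
      (⟨_, Char.isIrr_conjFun g η.2⟩ : Cfsg.IrrCharacter L) ∈ b := by
    intro g η hη
    have hne : Cfsg.indFun L (η : L → ℂ) ≠ 0 := fun h => by
      have h1 := congrFun h 1
      rw [Char.indFun_apply_one, Pi.zero_apply, mul_eq_zero] at h1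
      exact h1.elim (fun h2 => Subgroup.index_ne_zero_of_finite (Nat.cast_eq_zero.1 h2))
        (Char.IsIrr.one_ne_zero η.2)
    obtain ⟨χ, hχ⟩ :=
      Char.IsChar.exists_constituent (Char.isCharacter_indFun L (Char.IsIrr.isCharacter η.2)) hne
    rw [Char.classInner_indFun_left L _ (Char.isClassFunction_of_isIrr χ.2)] at hχ
    have hcη : Cfsg.classInner (fun l : L => (χ : G → ℂ) l) (η : L → ℂ) ≠ 0 := by
      rw [← Char.classInner_conj_symm, map_ne_zero]; exact hχ
    have hcg : Cfsg.classInner (fun l : L => (χ : G → ℂ) l) (Char.conjFun g (η : L → ℂ)) ≠ 0 := by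
      rw [← Char.conjFun_res g (Char.isClassFunction_of_isIrr χ.2), Char.classInner_conjFun]
      exact hcη
    exact (hbiff _).2 ((hover χ ⟨_, Char.isIrr_conjFun g η.2⟩ hcg).1
      ((hover χ η hcη).2 ((hbiff η).1 hη)))
  -- its defect group is a Sylow subgroup of `L`
  obtain ⟨P₁, hP₁⟩ := DefectThms.exists_defectGroup hM hb
  have hbdef : Cfsg.blockDefect p b = (Nat.card L).factorization p := by
    obtain ⟨-, -, h⟩ := DefectThms.fong hM hb0
      (fun l φ hφ => by
        rw [Set.mem_singleton_iff] at hφ ⊢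
        subst hφ
        exact Subtype.ext (hθ'inv l))
      hb ⟨η₀, hη₀, θ', rfl, hη₀θ⟩
      (fun b' hb' hc' => le_of_eq (congrArg _ (hbuniq b' ⟨hb', hc'⟩))) hP₁
    have h0 : Cfsg.blockDefect p ({θ'} : Set (Cfsg.IrrCharacter K')) = 0 := by
      rw [Cfsg.blockDefect, Nat.factorization_eq_zero_of_not_dvd hK'p, Nat.zero_sub]
    rw [h, h0, zero_add, ← Subgroup.index_mul_card K',
      Nat.factorization_mul Subgroup.index_ne_zero_of_finite Nat.card_pos.ne', Finsupp.add_apply,
      Nat.factorization_eq_zero_of_not_dvd hK'p, add_zero]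
  let S₁ : Sylow p L := Sylow.ofCard P₁ (by
    rw [BlockChar.card_defectGroup hM hb hP₁, hbdef])
  have hC : Subgroup.centralizer ((P₁.map L.subtype : Subgroup G) : Set G) ≤ L := by
    have h := hcon S₁
    exact h
  -- the block of `G`
  obtain ⟨χ₀, hχ₀, hχ₀θ⟩ : ∃ χ : Cfsg.IrrCharacter G,
      Cfsg.classInner (fun l : L => (χ : G → ℂ) l) (η₀ : L → ℂ) ≠ 0 ∧
        Cfsg.classInner (fun n : K => (χ : G → ℂ) n) (θ : K → ℂ) ≠ 0 := by
    have hne : Cfsg.indFun L (η₀ : L → ℂ) ≠ 0 := fun h => by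
      have h1 := congrFun h 1
      rw [Char.indFun_apply_one, Pi.zero_apply, mul_eq_zero] at h1
      exact h1.elim (fun h2 => Subgroup.index_ne_zero_of_finite (Nat.cast_eq_zero.1 h2))
        (Char.IsIrr.one_ne_zero η₀.2)
    obtain ⟨χ, hχ⟩ :=
      Char.IsChar.exists_constituent (Char.isCharacter_indFun L (Char.IsIrr.isCharacter η₀.2)) hne
    rw [Char.classInner_indFun_left L _ (Char.isClassFunction_of_isIrr χ.2)] at hχ
    have hcη : Cfsg.classInner (fun l : L => (χ : G → ℂ) l) (η₀ : L → ℂ) ≠ 0 := by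
      rw [← Char.classInner_conj_symm, map_ne_zero]; exact hχ
    exact ⟨χ, hcη, (hover χ η₀ hcη).2 hη₀θ⟩
  set B := Cfsg.blockOf M (χ₀ : G → ℂ) with hBdef
  have hB : Cfsg.IsPBlock M B := isPBlock_blockOf χ₀
  have hcov : ∃ χ ∈ B, ∃ η ∈ b,
      Cfsg.classInner (fun l : L => (χ : G → ℂ) l) (η : L → ℂ) ≠ 0 :=
    ⟨χ₀, mem_blockOf_self hM χ₀, η₀, hη₀, hχ₀⟩
  have hiff : ∀ χ : Cfsg.IrrCharacter G, χ ∈ B ↔
      Cfsg.classInner (fun n : K => (χ : G → ℂ) n) (θ : K → ℂ) ≠ 0 := by
    intro χ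
    obtain ⟨η, hη⟩ := Char.exists_constituent_res (N := L) χ.2
    refine ⟨fun h => (hover χ η hη).2 ((hbiff η).1 ?_), fun h => ?_⟩
    · exact constituent_mem hM hb hbinv hB hcov h hη
    · rw [eq_of_covering hM hb hbinv hP₁ hC hB (isPBlock_blockOf χ) hcov
        ⟨χ, mem_blockOf_self hM χ, η, (hbiff η).2 ((hover χ η hη).1 h), hη⟩]
      exact mem_blockOf_self hM χ
  have hfull : Cfsg.blockDefect p B = (Nat.card G).factorization p := by
    obtain ⟨D, hD⟩ := DefectThms.exists_defectGroup hM hB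
    obtain ⟨-, -, h⟩ := DefectThms.fong hM hb hbinv hB hcov
      (fun B' hB' hc' => le_of_eq (congrArg _ (eq_of_covering hM hb hbinv hP₁ hC hB' hB hc' hcov)))
      hD
    rw [h, hbdef, ← Subgroup.index_mul_card L,
      Nat.factorization_mul Subgroup.index_ne_zero_of_finite Nat.card_pos.ne', Finsupp.add_apply]
    ring
  have hsyl : ∀ D : Subgroup G, Cfsg.IsDefectGroup p M B D →
      ∃ S : Sylow p G, D = (S : Subgroup G) := fun D hD =>
    ⟨Sylow.ofCard D (by rw [BlockChar.card_defectGroup hM hB hD, hfull]), rfl⟩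
  refine ⟨B, hB, hiff, fun S => ?_, hsyl, ?_⟩
  · obtain ⟨D, hD⟩ := DefectThms.exists_defectGroup hM hB
    obtain ⟨T, rfl⟩ := hsyl D hD
    obtain ⟨g, rfl⟩ := MulAction.exists_smul_eq G T S
    rw [Sylow.coe_subgroup_smul]
    exact DefectThms.isDefectGroup_conj hD g
  · have hθc : ∀ g : G, Char.conjFun g (Cfsg.blockCoeff ({θ} : Set _)) =
        Cfsg.blockCoeff ({θ} : Set _) := by
      intro g
      funext n
      simp only [Char.conjFun_eq_comp]
      rw [blockCoeff_eq_sum, blockCoeff_eq_sum]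
      simp only [Set.mem_singleton_iff, Finset.sum_ite_eq', Finset.mem_univ, if_true]
      rw [show (θ : K → ℂ) (MulAut.conjNormal g n) = (θ : K → ℂ) n from by
        have := congrFun (hθ g) n
        rwa [Char.conjFun_eq_comp] at this]
    refine congrFun (Eq.symm (eq_blockCoeff (BlockThms.isClassFunction_extend hθc) B fun χ => ?_))
    obtain ⟨φ, hφ⟩ := Char.exists_constituent_res (N := K) χ.2
    rw [BlockThms.omega_res_eq χ.2 φ.2 hφ (BlockThms.isClassFunction_extend hθc)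
      (fun g hg => Char.extendByZero_of_not_mem K _ hg),
      show (fun n : K => Cfsg.extendByZero K (Cfsg.blockCoeff ({θ} : Set _)) (n : G)) =
        Cfsg.blockCoeff ({θ} : Set _) from funext fun n => Char.extendByZero_coe K _ n,
      omega_blockCoeff]
    refine if_congr ⟨fun h => ?_, fun h => ?_⟩ rfl rfl
    · rw [hiff, ← Set.mem_singleton_iff.1 h]; exact hφ
    · obtain ⟨g, hg⟩ := Char.mem_orbit.1
        (Char.constituent_mem_orbit χ.2 θ.2 φ.2 ((hiff χ).1 h) hφ)
      exact Set.mem_singleton_iff.2 (Subtype.ext (hg.symm.trans (hθ g)))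

/-- The block is of principal type. -/
theorem existsUnique_inducing_of_pConstrained (hM : Cfsg.IsPModular p M)
    (hcon : Cfsg.IsPConstrained p G) {K : Subgroup G} [hK : K.Normal] [Fintype K]
    (hKdef : K = Cfsg.pPrimeCore p G) (θ : Cfsg.IrrCharacter K)
    (hθ : ∀ g : G, Char.conjFun g (θ : K → ℂ) = θ)
    {B : Set (Cfsg.IrrCharacter G)} (hB : Cfsg.IsPBlock M B)
    (hBiff : ∀ χ : Cfsg.IrrCharacter G, χ ∈ B ↔
      Cfsg.classInner (fun n : K => (χ : G → ℂ) n) (θ : K → ℂ) ≠ 0)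
    {R : Subgroup G} (hR : IsPGroup p R) :
    ∃! f : Set (Cfsg.IrrCharacter (Subgroup.centralizer (R : Set G))),
      Cfsg.IsInducedBlock M (Subgroup.centralizer (R : Set G)) f B := by
  classical
  set C := Subgroup.centralizer (R : Set G) with hCdef
  have := Fintype.ofFinite C
  obtain ⟨B₀, hB₀, hB₀iff, -, -, hcoeff⟩ :=
    exists_invariant_block_of_pConstrained hM hcon hKdef θ hθ
  obtain rfl : B₀ = B := Set.ext fun χ => (hB₀iff χ).trans (hBiff χ).symm
  have hKp : ¬ p ∣ Nat.card K := by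
    rw [hKdef]; exact Core.not_dvd_card_pPrimeCore
  set KC := K.subgroupOf C with hKC
  have := Fintype.ofFinite KC
  have hKCn : KC.Normal := hK.subgroupOf C
  have hKCp : ¬ p ∣ Nat.card KC := fun h => hKp (h.trans (by
    rw [hKC, Nat.card_congr ((K.subgroupOf C).equivMapOfInjective _
      (Subgroup.subtype_injective C)).toEquiv, Subgroup.subgroupOf_map_subtype]
    exact Subgroup.card_dvd_of_le inf_le_left))
  have hconC : Cfsg.IsPConstrained p C := (Cfsg.Agent.S0631.result hcon R hR).2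
  have hKCdef : KC = Cfsg.pPrimeCore p C := by
    refine le_antisymm (Core.le_pPrimeCore (Nat.coprime_comm.1
      ((Fact.out : p.Prime).coprime_iff_not_dvd.2 hKCp))) fun x hx => ?_
    rw [hKC, Subgroup.mem_subgroupOf, hKdef]
    exact Layer.pPrimeCore_centralizer_le hcon hR ⟨x, hx, rfl⟩
  -- the Glauberman correspondent
  set Cg : Subgroup G := K ⊓ C with hCg
  have := Fintype.ofFinite Cg
  obtain ⟨hcorr, -⟩ := Char.Glauberman.correspondence K R (fun s _ g hg => hK.conj_mem g hg s) p hR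
    (Or.inl hKp) Cg hCg inf_le_left
  obtain ⟨β₀, ⟨m₀, hm₀, hd₀⟩, huniq⟩ := hcorr θ fun s _ g g' e => by
    have h := congrFun (hθ s) g
    rw [Char.conjFun_apply] at h
    rw [show g' = ⟨s * g * s⁻¹, hK.conj_mem g g.2 s⟩ from Subtype.ext e]
    exact h
  let e : KC ≃* Cg :=
    { toFun := fun n => ⟨((n : C) : G), Subgroup.mem_subgroupOf.1 n.2, (n : C).2⟩
      invFun := fun n => ⟨⟨(n : G), n.2.2⟩, Subgroup.mem_subgroupOf.2 n.2.1⟩
      left_inv := fun _ => rfl
      right_inv := fun _ => rfl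
      map_mul' := fun _ _ => rfl }
  let r : KC → ℂ := fun n => (θ : K → ℂ) ⟨((n : C) : G), Subgroup.mem_subgroupOf.1 n.2⟩
  have hr : ∀ β : Cfsg.IrrCharacter Cg,
      Cfsg.classInner r (Char.Glauberman.irrEquiv e β : KC → ℂ) =
        Cfsg.classInner (fun c : Cg => (θ : K → ℂ) ⟨c, c.2.1⟩) (β : Cg → ℂ) := by
    intro β
    rw [Cfsg.classInner, Cfsg.classInner, Nat.card_congr e.toEquiv]
    exact congrArg _ (Fintype.sum_equiv e.toEquiv _ _ fun c => rfl)
  set θs := Char.Glauberman.irrEquiv e β₀ with hθs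
  have hθsm : Cfsg.classInner r (θs : KC → ℂ) = (m₀ : ℂ) := (hr β₀).trans hm₀
  have hunique : ∀ η : Cfsg.IrrCharacter KC, ∀ m : ℕ,
      Cfsg.classInner r (η : KC → ℂ) = (m : ℂ) → ¬ p ∣ m → η = θs := by
    intro η m hm hd
    obtain ⟨β, rfl⟩ := (Char.Glauberman.irrEquiv e).surjective η
    rw [hθs, huniq β ⟨m, (hr β).symm.trans hm, hd⟩]
  have hθsinv : ∀ c : C, Char.conjFun c (θs : KC → ℂ) = θs := by
    intro c
    refine congrArg Subtype.val
      (hunique ⟨_, Char.isIrr_conjFun c θs.2⟩ m₀ ?_ hd₀)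
    have : Char.conjFun c r = r := by
      funext n
      exact congrFun (hθ (c : G)) ⟨((n : C) : G), Subgroup.mem_subgroupOf.1 n.2⟩
    rw [← this, Char.classInner_conjFun, hθsm]
  obtain ⟨f₀, hf₀, hf₀iff, -⟩ :=
    exists_invariant_block_of_pConstrained hM hconC hKCdef θs hθsinv
  -- the value of the Brauer image of the idempotent
  have hEc := isClassFunction_res C (isClassFunction_blockCoeff B₀)
  have hE0 : ∀ c : C, c ∉ KC → Cfsg.blockCoeff B₀ (c : G) = 0 := fun c hc => by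
    rw [hcoeff]
    exact Char.extendByZero_of_not_mem K _ fun h => hc (Subgroup.mem_subgroupOf.2 h)
  have hθdeg := CharArith.irr_degree_spec θ
  have hdvd : ∀ {H : Type u} [Group H] [Fintype H] (η : Cfsg.IrrCharacter H),
      ¬ p ∣ Nat.card H → ¬ p ∣ Cfsg.charDegree (η : H → ℂ) := fun η hH h =>
    hH (h.trans (CharArith.charDegree_dvd_card η.2))
  have hval : ∀ (ψ : Cfsg.IrrCharacter C) (η : Cfsg.IrrCharacter KC),
      Cfsg.classInner (fun n : KC => (ψ : C → ℂ) n) (η : KC → ℂ) ≠ 0 →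
      ∀ m : ℕ, Cfsg.classInner r (η : KC → ℂ) = (m : ℂ) →
      (¬ Cfsg.MemLocalIdeal M (omega (ψ : C → ℂ) fun c : C => Cfsg.blockCoeff B₀ (c : G)) ↔
        ¬ p ∣ m) := by
    intro ψ η hη m hm
    have h1 : omega (ψ : C → ℂ) (fun c : C => Cfsg.blockCoeff B₀ (c : G)) =
        ((Cfsg.charDegree (θ : K → ℂ) * Nat.card KC * m : ℕ) : ℂ) *
          (((Nat.card K * Cfsg.charDegree (η : KC → ℂ) : ℕ) : ℂ))⁻¹ := by
      rw [BlockThms.omega_res_eq ψ.2 η.2 hη hEc hE0, omega]
      have h2 : ∀ n : KC, Cfsg.blockCoeff B₀ ((n : C) : G) =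
          (Nat.card K : ℂ)⁻¹ * ((θ : K → ℂ) 1 * conj (r n)) := by
        intro n
        rw [hcoeff, Char.extendByZero_of_mem K _ (Subgroup.mem_subgroupOf.1 n.2),
          blockCoeff_eq_sum]
        simp only [Set.mem_singleton_iff, Finset.sum_ite_eq', Finset.mem_univ, if_true]
        rfl
      have h3 : ∑ n : KC, conj (r n) * (η : KC → ℂ) n = (Nat.card KC : ℂ) * (m : ℂ) := by
        have h4 : Cfsg.classInner (η : KC → ℂ) r = (m : ℂ) := by
          rw [← Char.classInner_conj_symm, hm, map_natCast]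
        rw [Cfsg.classInner, inv_mul_eq_iff_eq_mul₀ (Nat.cast_ne_zero.2 Nat.card_pos.ne')] at h4
        rw [← h4]
        exact Finset.sum_congr rfl fun n _ => mul_comm _ _
      simp only [h2, mul_assoc, ← Finset.mul_sum, h3, hθdeg.1, (CharArith.irr_degree_spec η).1]
      push_cast
      rw [mul_inv, div_eq_mul_inv]
      ring
    rw [h1]
    have hden : ¬ p ∣ Nat.card K * Cfsg.charDegree (η : KC → ℂ) := fun h =>
      ((Fact.out : p.Prime).dvd_mul.1 h).elim hKp (hdvd η hKCp)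
    constructor
    · intro h hd
      exact h (memLocalIdeal_mul_right hM
        ((memLocalIdeal_natCast_iff hM _).2 (dvd_mul_of_dvd_right hd _))
        (memLocalRing_natCast_inv hM hden))
    · intro hd h
      rcases memLocalIdeal_of_mul hM (memLocalRing_natCast hM _)
        (memLocalRing_natCast_inv hM hden) h with h' | h'
      · rw [memLocalIdeal_natCast_iff hM, (Fact.out : p.Prime).dvd_mul,
          (Fact.out : p.Prime).dvd_mul] at h'
        exact h'.elim (fun h' => h'.elim (hdvd θ hKp) hKCp) hd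
      · have := memLocalIdeal_mul_left hM (memLocalRing_natCast hM
          (Nat.card K * Cfsg.charDegree (η : KC → ℂ))) h'
        rw [mul_inv_cancel₀ (Nat.cast_ne_zero.2 (show Nat.card K * Cfsg.charDegree (η : KC → ℂ) ≠ 0 from
          fun h0 => hden (h0 ▸ dvd_zero p)))] at this
        exact not_memLocalIdeal_one hM this
  refine ⟨f₀, ?_, fun f hf => ?_⟩
  · obtain ⟨ψ, hψ⟩ := IsPBlock.nonempty hM hf₀
    have hmem : ∀ a : G, a ∈ C ↔ ∀ u ∈ R, u * a = a * u := fun a => Subgroup.mem_centralizer_iff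
    have hΦ := isCenHom_res hM hR hmem ψ
    obtain ⟨χ, hχ⟩ := hΦ.exists_char hM
    have hu := (hval ψ θs ((hf₀iff ψ).1 hψ) m₀ hθsm).2 hd₀
    have hχB : χ ∈ B₀ := by
      by_contra hn
      apply hu
      have := hχ _ (isClassFunction_blockCoeff B₀) (memLocalRing_blockCoeff hM hB₀)
      rwa [omega_blockCoeff, if_neg hn, sub_zero] at this
    refine ⟨hf₀, hB₀, fun ξ hξ φ hφ g => ?_⟩
    have e1 := memLocalIdeal_omega_sub hM ξ.2 ψ.2
      (f := fun c : C => classInd g (c : G)) (isClassFunction_res C (isClassFunction_classInd g))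
      (fun c => memLocalRing_classInd hM _ _) (IsPBlock.sameBlock hM hf₀ hξ hψ)
    have e2 := hχ _ (isClassFunction_classInd g) (memLocalRing_classInd hM g)
    have e3 := IsPBlock.sameBlock hM hB₀ hχB hφ g
    rw [omega_classInd (Char.isClassFunction_of_isIrr χ.2)] at e2
    rw [← BlockThms.omega_classInd_res]
    simpa using memLocalIdeal_add hM (memLocalIdeal_add hM e1 e2) e3
  · obtain ⟨ψ, hψ⟩ := IsPBlock.nonempty hM hf.1
    obtain ⟨χ, hχ⟩ := IsPBlock.nonempty hM hB₀
    obtain ⟨η, hη⟩ := Char.exists_constituent_res (N := KC) ψ.2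
    obtain ⟨m, hm⟩ := Char.classInner_isCharacter_eq_natCast
      (χ := r) (ψ := (η : KC → ℂ))
      (Char.isCharacter_comp
        ({ toFun := fun n => ⟨((n : C) : G), Subgroup.mem_subgroupOf.1 n.2⟩
           map_one' := rfl
           map_mul' := fun _ _ => rfl } : KC →* K) (Char.IsIrr.isCharacter θ.2))
      (Char.IsIrr.isCharacter η.2)
    have h := BlockThms.memLocalIdeal_omega_res_sub hM C (Char.isClassFunction_of_isIrr χ.2)
      (isClassFunction_blockCoeff B₀) (memLocalRing_blockCoeff hM hB₀) (hf.2.2 ψ hψ χ hχ)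
    rw [omega_blockCoeff, if_pos hχ] at h
    have hu : ¬ Cfsg.MemLocalIdeal M
        (omega (ψ : C → ℂ) fun c : C => Cfsg.blockCoeff B₀ (c : G)) := fun h' =>
      not_memLocalIdeal_one hM (by simpa using memLocalIdeal_sub hM h' h)
    rw [hunique η m hm ((hval ψ η hη m hm).1 hu)] at hη
    rw [IsPBlock.eq_blockOf hM hf.1 hψ, IsPBlock.eq_blockOf hM hf₀ ((hf₀iff ψ).2 hη)]

end Cfsg.Agent.Blocks
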