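import Cfsg.Agent.Blocks.Idempotent
import Mathlib.RingTheory.Ideal.GoingUp
import Mathlib.RingTheory.PrincipalIdealDomain

/-!
# Central idempotents modulo `M`, and homomorphisms from the centre modulo `M`
-/

namespace Cfsg.Agent.Blocks

open scoped ComplexConjugate
open Cfsg.Agent

universe u

variable {G : Type u} [Group G] {p : ℕ} {M : Ideal Cfsg.AlgInt}

theorem memLocalIdeal_natCast_self (hM : Cfsg.IsPModular p M) :
    Cfsg.MemLocalIdeal M (p : ℂ) := (memLocalIdeal_natCast_iff hM p).2 dvd_rfl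

/-- A power of an element of the local ideal is divisible by `p` in the local ring. -/
theorem exists_pow_eq_mul (hM : Cfsg.IsPModular p M) {z : ℂ} (hz : Cfsg.MemLocalIdeal M z) :
    ∃ n : ℕ, ∀ m, n ≤ m → ∃ r, Cfsg.MemLocalRing M r ∧ z ^ m = (p : ℂ) * r := by
  obtain ⟨a, b, ha, hb, rfl⟩ := hz
  let ι : Cfsg.AlgInt →+* localRing hM :=
    { toFun := fun x => ⟨(x : ℂ), memLocalRing_coe hM x⟩
      map_one' := rfl
      map_zero' := rfl
      map_mul' := fun _ _ => rfl
      map_add' := fun _ _ => rfl }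
  have hzR : Cfsg.MemLocalRing M ((a : ℂ) / (b : ℂ)) := ⟨a, b, hb, rfl⟩
  have hrad : ι a ∈ (Ideal.span {(p : localRing hM)}).radical := by
    rw [Ideal.radical_eq_sInf, Ideal.mem_sInf]
    rintro J ⟨hJ, hJprime⟩
    have := hJprime
    set P := Ideal.comap ι J with hP
    have hpP : (p : Cfsg.AlgInt) ∈ P := by
      rw [hP, Ideal.mem_comap, map_natCast]
      exact hJ (Ideal.subset_span rfl)
    have hcomap : (Ideal.comap (algebraMap ℤ Cfsg.AlgInt) P).IsMaximal := by
      have h1 : Ideal.span {(p : ℤ)} ≤ Ideal.comap (algebraMap ℤ Cfsg.AlgInt) P := by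
        rw [Ideal.span_le]
        intro x hx
        rw [Set.mem_singleton_iff] at hx
        subst hx
        simpa using hpP
      have hmax : (Ideal.span {(p : ℤ)}).IsMaximal :=
        PrincipalIdealRing.isMaximal_of_irreducible (Nat.prime_iff_prime_int.1 hM.1).irreducible
      have hne : Ideal.comap (algebraMap ℤ Cfsg.AlgInt) P ≠ ⊤ := Ideal.IsPrime.ne_top inferInstance
      exact hmax.eq_of_le hne h1 ▸ hmax
    have hPmax : P.IsMaximal := Ideal.isMaximal_of_isIntegral_of_isMaximal_comap P hcomap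
    have hPM : P ≤ M := by
      intro x hx
      by_contra hxM
      have hu : IsUnit (ι x) := by
        refine IsUnit.of_mul_eq_one ⟨(x : ℂ)⁻¹, memLocalRing_inv (memLocalRing_coe hM x)
          fun h => hxM ((memLocalIdeal_coe_iff hM x).1 h)⟩ (Subtype.ext ?_)
        exact mul_inv_cancel₀ (coe_ne_zero_of_notMem hxM)
      exact hJprime.ne_top (Ideal.eq_top_of_isUnit_mem _ (Ideal.mem_comap.1 hx) hu)
    exact (hPmax.eq_of_le hM.2.1.ne_top hPM ▸ ha : a ∈ P)
  obtain ⟨n, hn⟩ := hrad
  obtain ⟨c, hc⟩ := Ideal.mem_span_singleton.1 hn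
  refine ⟨n, fun m hm => ⟨(c : ℂ) * ((b : ℂ) ^ n)⁻¹ * ((a : ℂ) / (b : ℂ)) ^ (m - n), ?_, ?_⟩⟩
  · refine (localRing hM).mul_mem ((localRing hM).mul_mem c.2 ?_) ((localRing hM).pow_mem hzR _)
    rw [← inv_pow]
    exact (localRing hM).pow_mem (memLocalRing_inv (memLocalRing_coe hM b)
      fun h => hb ((memLocalIdeal_coe_iff hM b).1 h)) _
  · have hc' : (a : ℂ) ^ n = (p : ℂ) * (c : ℂ) := by
      have := congrArg Subtype.val hc
      simpa [ι] using this
    have hd : ((a : ℂ) / (b : ℂ)) ^ n = (p : ℂ) * (c : ℂ) * ((b : ℂ) ^ n)⁻¹ := by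
      rw [div_pow, hc', div_eq_mul_inv]
    conv_lhs => rw [← Nat.add_sub_cancel' hm, pow_add, hd]
    ring

section
variable [Fintype G]

theorem memLocalRing_conv (hM : Cfsg.IsPModular p M) {f h : G → ℂ}
    (hf : ∀ x, Cfsg.MemLocalRing M (f x)) (hh : ∀ x, Cfsg.MemLocalRing M (h x)) (z : G) :
    Cfsg.MemLocalRing M (conv f h z) :=
  (localRing hM).sum_mem fun _ _ => (localRing hM).mul_mem (hf _) (hh _)

theorem memLocalIdeal_conv_sub (hM : Cfsg.IsPModular p M) {f f' h h' : G → ℂ}
    (hf : ∀ x, Cfsg.MemLocalIdeal M (f x - f' x)) (hh : ∀ x, Cfsg.MemLocalIdeal M (h x - h' x))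
    (hf' : ∀ x, Cfsg.MemLocalRing M (f' x)) (hhR : ∀ x, Cfsg.MemLocalRing M (h x)) (z : G) :
    Cfsg.MemLocalIdeal M (conv f h z - conv f' h' z) := by
  rw [conv, conv, ← Finset.sum_sub_distrib]
  refine memLocalIdeal_sum hM _ fun g _ => ?_
  rw [show f g * h (g⁻¹ * z) - f' g * h' (g⁻¹ * z) =
    (f g - f' g) * h (g⁻¹ * z) + f' g * (h (g⁻¹ * z) - h' (g⁻¹ * z)) by ring]
  exact memLocalIdeal_add hM (memLocalIdeal_mul_right hM (hf g) (hhR _))
    (memLocalIdeal_mul_left hM (hf' g) (hh _))

open scoped Classical in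
/-- A central idempotent modulo `M` is congruent to the idempotent with the same central
character values modulo `M`. -/
theorem memLocalIdeal_sub_blockCoeff (hM : Cfsg.IsPModular p M) {e : G → ℂ}
    (he : Cfsg.IsClassFunction G e) (heR : ∀ x, Cfsg.MemLocalRing M (e x))
    (hidem : ∀ x, Cfsg.MemLocalIdeal M (conv e e x - e x)) {A : Set (Cfsg.IrrCharacter G)}
    (hA : ∀ x, Cfsg.MemLocalRing M (Cfsg.blockCoeff A x))
    (hω : ∀ χ : Cfsg.IrrCharacter G,
      Cfsg.MemLocalIdeal M (omega (χ : G → ℂ) e - if χ ∈ A then 1 else 0)) (x : G) :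
    Cfsg.MemLocalIdeal M (e x - Cfsg.blockCoeff A x) := by
  set f := Cfsg.blockCoeff A with hf
  have hfc : Cfsg.IsClassFunction G f := isClassFunction_blockCoeff A
  set g : G → ℂ := fun y => e y - f y with hg
  have hgc : Cfsg.IsClassFunction G g := fun y k => by simp [hg, he y k, hfc y k]
  have hgR : ∀ y, Cfsg.MemLocalRing M (g y) := fun y => (localRing hM).sub_mem (heR y) (hA y)
  have hff : conv f f = f := blockCoeff_conv A
  -- `g * g * g ≡ g`
  have hcube : ∀ y, Cfsg.MemLocalIdeal M (conv g (conv g g) y - g y) := by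
    intro y
    have heeR := memLocalRing_conv hM heR heR
    have hex : conv g (conv g g) = fun y =>
        conv e (conv e e) y - 3 * conv f (conv e e) y + 3 * conv f e y - f y := by
      have h1 := isClassFunction_conv he he
      have h2 := isClassFunction_conv he h1
      have h3 := isClassFunction_conv hfc h1
      have h4 := isClassFunction_conv hfc he
      refine classFun_ext_omega (isClassFunction_conv hgc (isClassFunction_conv hgc hgc))
        (fun w k => by simp only [h2 w k, h3 w k, h4 w k, hfc w k]) fun χ => ?_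
      rw [show (fun y => conv e (conv e e) y - 3 * conv f (conv e e) y + 3 * conv f e y - f y) =
        conv e (conv e e) - (3 : ℂ) • conv f (conv e e) + (3 : ℂ) • conv f e - f from rfl,
        omega_sub, omega_add, omega_sub, omega_smul, omega_smul,
        omega_conv χ.2 hgc (isClassFunction_conv hgc hgc), omega_conv χ.2 hgc hgc,
        omega_conv χ.2 he h1, omega_conv χ.2 hfc h1, omega_conv χ.2 hfc he, omega_conv χ.2 he he,
        show g = e - f from rfl, omega_sub, hf, omega_blockCoeff]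
      split_ifs <;> ring
    have a1 : Cfsg.MemLocalIdeal M (conv e (conv e e) y - e y) := by
      have := memLocalIdeal_add hM (memLocalIdeal_conv_sub hM (f := e) (f' := e)
        (fun w => by rw [sub_self]; exact memLocalIdeal_zero hM) hidem heR heeR y) (hidem y)
      simpa using this
    have a2 : Cfsg.MemLocalIdeal M (conv f (conv e e) y - conv f e y) :=
      memLocalIdeal_conv_sub hM (f := f) (f' := f)
        (fun w => by rw [sub_self]; exact memLocalIdeal_zero hM) hidem hA heeR y
    rw [hex]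
    simp only [hg]
    rw [show conv e (conv e e) y - 3 * conv f (conv e e) y + 3 * conv f e y - f y - (e y - f y) =
      (conv e (conv e e) y - e y) - 3 * (conv f (conv e e) y - conv f e y) by ring]
    exact memLocalIdeal_sub hM a1
      (memLocalIdeal_mul_left hM (by exact_mod_cast memLocalRing_natCast hM 3) a2)
  let gs : ℕ → G → ℂ := fun k => Nat.rec g (fun _ h => conv h (conv g g)) k
  have hgs0 : gs 0 = g := rfl
  have hgsS : ∀ k, gs (k + 1) = conv (gs k) (conv g g) := fun _ => rfl
  have hgsc : ∀ k, Cfsg.IsClassFunction G (gs k) := by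
    intro k
    induction k with
    | zero => exact hgc
    | succ k ih => exact isClassFunction_conv ih (isClassFunction_conv hgc hgc)
  have hgsR : ∀ k y, Cfsg.MemLocalRing M (gs k y) := by
    intro k
    induction k with
    | zero => exact hgR
    | succ k ih => exact memLocalRing_conv hM ih (memLocalRing_conv hM hgR hgR)
  have hcong : ∀ k y, Cfsg.MemLocalIdeal M (gs k y - g y) := by
    intro k
    induction k with
    | zero => intro y; simpa [hgs0] using memLocalIdeal_zero hM
    | succ k ih =>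
      intro y
      have h1 := memLocalIdeal_conv_sub hM ih
        (fun w => by rw [sub_self]; exact memLocalIdeal_zero hM) hgR
        (h := conv g g) (h' := conv g g) (memLocalRing_conv hM hgR hgR) y
      have := memLocalIdeal_add hM h1 (hcube y)
      rw [hgsS]
      simpa using this
  have hωgs : ∀ k (χ : Cfsg.IrrCharacter G),
      omega (χ : G → ℂ) (gs k) = omega (χ : G → ℂ) g ^ (2 * k + 1) := by
    intro k χ
    induction k with
    | zero => simp [hgs0]
    | succ k ih =>
      rw [hgsS, omega_conv χ.2 (hgsc k) (isClassFunction_conv hgc hgc),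
        omega_conv χ.2 hgc hgc, ih]
      ring
  have hgM : ∀ χ : Cfsg.IrrCharacter G, Cfsg.MemLocalIdeal M (omega (χ : G → ℂ) g) := fun χ => by
    rw [show g = e - f from rfl, omega_sub, hf, omega_blockCoeff]
    exact hω χ
  choose N hN using fun χ => exists_pow_eq_mul hM (hgM χ)
  set n := Finset.univ.sup N
  set c := (Nat.card G).factorization p with hc
  set k := n * (c + 1) with hk
  have hsmall : ∀ χ : Cfsg.IrrCharacter G, ∃ r, Cfsg.MemLocalRing M r ∧
      omega (χ : G → ℂ) g ^ (2 * k + 1) = (p : ℂ) ^ (c + 1) * r := by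
    intro χ
    obtain ⟨r, hr, e1⟩ := hN χ n (Finset.le_sup (Finset.mem_univ χ))
    refine ⟨r ^ (c + 1) * omega (χ : G → ℂ) g ^ (k + 1), (localRing hM).mul_mem
      ((localRing hM).pow_mem hr _) ((localRing hM).pow_mem (memLocalRing_of_memLocalIdeal
        (hgM χ)) _), ?_⟩
    rw [show 2 * k + 1 = n * (c + 1) + (k + 1) by omega, pow_add, pow_mul, e1, mul_pow]
    ring
  choose r hr hre using hsmall
  have hval : gs k x = (p : ℂ) * (((Nat.card G / p ^ c : ℕ) : ℂ)⁻¹ *
      ∑ χ : Cfsg.IrrCharacter G, (χ : G → ℂ) 1 * r χ * conj ((χ : G → ℂ) x)) := by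
    rw [apply_eq_sum_omega (hgsc k)]
    have hsplit : (Nat.card G : ℂ)⁻¹ =
        ((p ^ c : ℕ) : ℂ)⁻¹ * ((Nat.card G / p ^ c : ℕ) : ℂ)⁻¹ := by
      rw [← mul_inv, ← Nat.cast_mul, Nat.ordProj_mul_ordCompl_eq_self]
    rw [hsplit, Finset.mul_sum, Finset.mul_sum, Finset.mul_sum]
    refine Finset.sum_congr rfl fun χ _ => ?_
    rw [hωgs, hre]
    have : (p : ℂ) ≠ 0 := Nat.cast_ne_zero.2 hM.1.ne_zero
    push_cast
    field_simp
    ring
  have hlast : Cfsg.MemLocalIdeal M (gs k x) := by
    rw [hval]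
    refine memLocalIdeal_mul_right hM (memLocalIdeal_natCast_self hM)
      ((localRing hM).mul_mem (memLocalRing_natCast_inv hM
        (Nat.not_dvd_ordCompl hM.1 Nat.card_pos.ne')) ((localRing hM).sum_mem fun χ _ => ?_))
    refine (localRing hM).mul_mem ((localRing hM).mul_mem
      (memLocalRing_char hM (Char.IsIrr.isCharacter χ.2) _) (hr χ)) ?_
    rw [← Char.IsChar.inv_eq_conj (Char.IsIrr.isCharacter χ.2)]
    exact memLocalRing_char hM (Char.IsIrr.isCharacter χ.2) _
  have := memLocalIdeal_sub hM hlast (hcong k x)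
  simpa [hg] using this

open scoped Classical in
/-- A union of blocks has local integral idempotent coefficients. -/
theorem memLocalRing_blockCoeff_union (hM : Cfsg.IsPModular p M) {A : Set (Cfsg.IrrCharacter G)}
    (hA : ∀ χ ∈ A, ∀ ψ : Cfsg.IrrCharacter G,
      Cfsg.SameBlock M (χ : G → ℂ) (ψ : G → ℂ) → ψ ∈ A) (x : G) :
    Cfsg.MemLocalRing M (Cfsg.blockCoeff A x) := by
  let F := Finset.univ.filter (· ∈ A)
  let E : Cfsg.IrrCharacter G → Cfsg.IrrCharacter G → ℂ := fun χ₀ χ =>
    if χ ∈ Cfsg.blockOf M (χ₀ : G → ℂ) then 1 else 0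
  have hE : ∀ χ₀, IsLocalCentral M (E χ₀) := fun χ₀ =>
    ⟨Cfsg.blockCoeff (Cfsg.blockOf M (χ₀ : G → ℂ)), isClassFunction_blockCoeff _,
      memLocalRing_blockCoeff hM (isPBlock_blockOf χ₀), fun χ => omega_blockCoeff _ χ⟩
  have h1 := IsLocalCentral.const (G := G) hM (c := 1) (localRing hM).one_mem
  obtain ⟨f, hf, hfR, hfv⟩ := h1.sub hM (IsLocalCentral.prod hM F
    (Φ := fun χ₀ χ => 1 - E χ₀ χ) fun χ₀ _ => h1.sub hM (hE χ₀))
  rw [← eq_blockCoeff hf A fun χ => ?_]
  · exact hfR x
  rw [hfv]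
  dsimp only
  by_cases hχ : χ ∈ A
  · rw [if_pos hχ, Finset.prod_eq_zero (Finset.mem_filter.2 ⟨Finset.mem_univ χ, hχ⟩)
      (by simp [E, mem_blockOf_self hM χ]), sub_zero]
  · rw [if_neg hχ, Finset.prod_eq_one, sub_self]
    intro χ₀ hχ₀
    have : χ ∉ Cfsg.blockOf M (χ₀ : G → ℂ) := fun h =>
      hχ (hA χ₀ (Finset.mem_filter.1 hχ₀).2 χ h)
    simp [E, this]

/-! ## homomorphisms modulo `M` -/

/-- A map on functions which induces an algebra homomorphism modulo `M` from the centre of
the group algebra over the local ring to the residue field. -/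
structure IsCenHom (M : Ideal Cfsg.AlgInt) (Φ : (G → ℂ) → ℂ) : Prop where
  map_add : ∀ f h : G → ℂ, Φ (f + h) = Φ f + Φ h
  map_smul : ∀ (c : ℂ) (f : G → ℂ), Φ (c • f) = c * Φ f
  mem : ∀ f : G → ℂ, Cfsg.IsClassFunction G f → (∀ g, Cfsg.MemLocalRing M (f g)) →
    Cfsg.MemLocalRing M (Φ f)
  map_conv : ∀ f h : G → ℂ, Cfsg.IsClassFunction G f → Cfsg.IsClassFunction G h →
    (∀ g, Cfsg.MemLocalRing M (f g)) → (∀ g, Cfsg.MemLocalRing M (h g)) →
      Cfsg.MemLocalIdeal M (Φ (conv f h) - Φ f * Φ h)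
  map_delta : Cfsg.MemLocalIdeal M (Φ (delta G) - 1)

theorem IsCenHom.map_zero {Φ : (G → ℂ) → ℂ} (h : IsCenHom M Φ) : Φ 0 = 0 := by
  simpa using h.map_smul 0 0

theorem IsCenHom.map_sum {Φ : (G → ℂ) → ℂ} (h : IsCenHom M Φ) {ι : Type*} (s : Finset ι)
    (f : ι → G → ℂ) : Φ (∑ i ∈ s, f i) = ∑ i ∈ s, Φ (f i) := by
  classical
  induction s using Finset.induction_on with
  | empty => simpa using h.map_zero
  | insert i s hi ih => rw [Finset.sum_insert hi, Finset.sum_insert hi, h.map_add, ih]

theorem IsCenHom.map_sub {Φ : (G → ℂ) → ℂ} (h : IsCenHom M Φ) (f f' : G → ℂ) :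
    Φ (f - f') = Φ f - Φ f' := by
  rw [show f - f' = f + (-1 : ℂ) • f' by simp [sub_eq_add_neg], h.map_add, h.map_smul]
  ring

theorem eq_sum_classInd [Fintype (ConjClasses G)] {f : G → ℂ}
    (hf : Cfsg.IsClassFunction G f) : f = ∑ C : ConjClasses G, f C.out • classInd C.out := by
  classical
  funext x
  simp only [Finset.sum_apply, Pi.smul_apply, classInd_apply, smul_eq_mul, mul_ite, mul_one,
    mul_zero]
  have hout : ∀ C : ConjClasses G, ∀ g, ConjClasses.mk g = C → IsConj g C.out := fun C g hg =>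
    ConjClasses.mk_eq_mk_iff_isConj.1 (hg.trans (Quotient.out_eq C).symm)
  rw [Finset.sum_eq_single (ConjClasses.mk x)]
  · rw [if_pos (hout _ x rfl).symm, Char.classFun_isConj hf (hout _ x rfl)]
  · intro C _ hC
    rw [if_neg fun h => hC ((Quotient.out_eq C).symm.trans (ConjClasses.mk_eq_mk_iff_isConj.2 h))]
  · simp

omit [Fintype G] in
theorem memLocalRing_classInd (hM : Cfsg.IsPModular p M) (g x : G) :
    Cfsg.MemLocalRing M (classInd g x) := by
  classical
  rw [classInd_apply]
  split
  · exact (localRing hM).one_mem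
  · exact (localRing hM).zero_mem

/-- Every homomorphism modulo `M` is the central character of some irreducible character. -/
theorem IsCenHom.exists_char (hM : Cfsg.IsPModular p M) {Φ : (G → ℂ) → ℂ} (h : IsCenHom M Φ) :
    ∃ χ : Cfsg.IrrCharacter G, ∀ f : G → ℂ, Cfsg.IsClassFunction G f →
      (∀ g, Cfsg.MemLocalRing M (f g)) →
        Cfsg.MemLocalIdeal M (Φ f - omega (χ : G → ℂ) f) := by
  classical
  suffices hex : ∃ χ : Cfsg.IrrCharacter G, ∀ g : G,
      Cfsg.MemLocalIdeal M (Φ (classInd g) - Cfsg.centralChar (χ : G → ℂ) g) by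
    obtain ⟨χ, hχ⟩ := hex
    refine ⟨χ, fun f hf hfR => ?_⟩
    have : Finite (ConjClasses G) := Quotient.finite _
    have := Fintype.ofFinite (ConjClasses G)
    rw [omega_eq_sum_classes (Char.isClassFunction_of_isIrr χ.2) hf]
    conv => arg 2; arg 1; rw [eq_sum_classInd hf, h.map_sum]
    rw [← Finset.sum_sub_distrib]
    refine memLocalIdeal_sum hM _ fun C _ => ?_
    rw [h.map_smul, ← mul_sub]
    exact memLocalIdeal_mul_left hM (hfR _) (hχ _)
  by_contra hne
  simp only [not_exists, not_forall] at hne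
  choose gf hgf using hne
  -- the product of all the factors vanishes
  have key : ∀ s : Finset (Cfsg.IrrCharacter G), ∃ f : G → ℂ, Cfsg.IsClassFunction G f ∧
      (∀ g, Cfsg.MemLocalRing M (f g)) ∧ ¬ Cfsg.MemLocalIdeal M (Φ f) ∧
      ∀ χ ∈ s, omega (χ : G → ℂ) f = 0 := by
    intro s
    induction s using Finset.induction_on with
    | empty =>
      refine ⟨delta G, isClassFunction_delta, fun g => ?_, fun hd => ?_, by simp⟩
      · exact classInd_one (G := G) ▸ memLocalRing_classInd hM 1 g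
      · have := memLocalIdeal_sub hM hd h.map_delta
        exact not_memLocalIdeal_one hM (by simpa using this)
    | insert ψ s hψ ih =>
      obtain ⟨f, hf, hfR, hfΦ, hfω⟩ := ih
      set c := Cfsg.centralChar (ψ : G → ℂ) (gf ψ) with hc
      set k : G → ℂ := classInd (gf ψ) - c • delta G with hk
      have hkc : Cfsg.IsClassFunction G k := fun a b => by
        simp [hk, isClassFunction_classInd (gf ψ) a b, isClassFunction_delta a b]
      have hcR : Cfsg.MemLocalRing M c := memLocalRing_centralChar hM ψ.2 _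
      have hkR : ∀ g, Cfsg.MemLocalRing M (k g) := fun g =>
        (localRing hM).sub_mem (memLocalRing_classInd hM _ g) ((localRing hM).mul_mem hcR
          (classInd_one (G := G) ▸ memLocalRing_classInd hM 1 g))
      refine ⟨conv f k, isClassFunction_conv hf hkc, memLocalRing_conv hM hfR hkR, fun hd => ?_, ?_⟩
      · have h1 : Cfsg.MemLocalIdeal M (Φ f * Φ k) := by
          have := memLocalIdeal_sub hM hd (h.map_conv f k hf hkc hfR hkR)
          simpa using this
        have h2 := (memLocalIdeal_of_mul hM (h.mem f hf hfR) (h.mem k hkc hkR) h1).resolve_left hfΦ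
        rw [hk, h.map_sub, h.map_smul] at h2
        apply hgf ψ
        have h3 := memLocalIdeal_add hM h2 (memLocalIdeal_mul_left hM hcR h.map_delta)
        rw [show Φ (classInd (gf ψ)) - c = Φ (classInd (gf ψ)) - c * Φ (delta G) +
          c * (Φ (delta G) - 1) by ring]
        exact h3
      · intro χ hχ
        rw [omega_conv χ.2 hf hkc]
        rcases Finset.mem_insert.1 hχ with rfl | hχ
        · rw [show k = classInd (gf χ) - c • delta G from rfl, omega_sub, omega_smul,
            omega_classInd (Char.isClassFunction_of_isIrr χ.2),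
            omega_delta (Char.IsIrr.one_ne_zero χ.2), mul_one, hc, sub_self, mul_zero]
        · rw [hfω χ hχ, zero_mul]
  obtain ⟨f, hf, -, hfΦ, hfω⟩ := key Finset.univ
  have : f = 0 := classFun_ext_omega hf (fun _ _ => rfl) fun χ => by
    rw [hfω χ (Finset.mem_univ χ)]; simp [omega]
  rw [this, h.map_zero] at hfΦ
  exact hfΦ (memLocalIdeal_zero hM)

end

end Cfsg.Agent.Blocks
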