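import Cfsg.Agent.BlockThms.DefectGroup
import Cfsg.Agent.BlockChar.DegreeSum
import Mathlib.LinearAlgebra.Matrix.Rank

/-!
# The counting matrix of the classes with defect group `D`

For elements `x i` whose centralizers all have `D` as a Sylow p-subgroup the numbers of pairs
`(y, z)` of conjugates with `z y⁻¹` in a Sylow p-subgroup, read modulo `M`, factor through the
central characters of the blocks with defect group `D`.
-/

namespace Cfsg.Agent.Blocks

open scoped ComplexConjugate
open Cfsg.Agent

universe u v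

variable {G : Type u} [Group G] [Fintype G] {p : ℕ} {M : Ideal Cfsg.AlgInt}

/-- The multiplicity of the trivial character in the restriction of `χ` to `S`. -/
noncomputable def trivMult (S : Subgroup G) [Fintype S] (χ : Cfsg.IrrCharacter G) : ℂ :=
  (Nat.card S : ℂ)⁻¹ * ∑ u : S, (χ : G → ℂ) (u : G)

theorem exists_nat_trivMult (S : Subgroup G) [Fintype S] (χ : Cfsg.IrrCharacter G) :
    ∃ n : ℕ, trivMult S χ = (n : ℂ) := by
  obtain ⟨n, hn⟩ := Char.classInner_isCharacter_eq_natCast
    (Char.isCharacter_res S (Char.IsIrr.isCharacter χ.2)) (Char.isCharacter_one (G := S))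
  refine ⟨n, ?_⟩
  rw [← hn, Cfsg.classInner, trivMult]
  congr 1
  exact Finset.sum_congr rfl fun u _ => by simp

theorem conj_apply_eq_apply_inv (χ : Cfsg.IrrCharacter G) (g : G) :
    conj ((χ : G → ℂ) g) = (χ : G → ℂ) g⁻¹ :=
  (Char.IsChar.inv_eq_conj (Char.IsIrr.isCharacter χ.2) g).symm

theorem centralChar_inv_eq_conj (χ : Cfsg.IrrCharacter G) (g : G) :
    Cfsg.centralChar (χ : G → ℂ) g⁻¹ = conj (Cfsg.centralChar (χ : G → ℂ) g) := by
  have e : Subgroup.centralizer ({g⁻¹} : Set G) = Subgroup.centralizer ({g} : Set G) := by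
    ext a
    rw [Subgroup.mem_centralizer_singleton_iff, Subgroup.mem_centralizer_singleton_iff]
    exact ⟨fun h => (Commute.inv_right_iff.1 (h : Commute a g⁻¹)).eq,
      fun h => ((show Commute a g from h).inv_right).eq⟩
  simp only [Cfsg.centralChar, e, ← conj_apply_eq_apply_inv, map_mul, map_div₀, Complex.conj_natCast]
  rw [(CharArith.irr_degree_spec χ).1, Complex.conj_natCast]

/-- The number of pairs of conjugates of `a` and `c` with quotient in `S`. -/
noncomputable def pairCount (S : Subgroup G) (a c : G) : ℕ :=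
  Nat.card {yz : G × G // IsConj a yz.1 ∧ IsConj c yz.2 ∧ yz.2 * yz.1⁻¹ ∈ S}

theorem index_centralizer_ne_zero (g : G) :
    ((Subgroup.centralizer ({g} : Set G)).index : ℂ) ≠ 0 :=
  Nat.cast_ne_zero.2 Subgroup.index_ne_zero_of_finite

/-- The pairs of conjugates with quotient in `S`, through the characters. -/
theorem sum_trivMult_mul (S : Subgroup G) [Fintype S] (a c : G) :
    ∑ χ : Cfsg.IrrCharacter G,
        trivMult S χ * (conj ((χ : G → ℂ) a) * Cfsg.centralChar (χ : G → ℂ) c) =
      (Nat.card G : ℂ) * (pairCount S a c : ℂ) /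
        (((Subgroup.centralizer ({a} : Set G)).index : ℂ) * (Nat.card S : ℂ)) := by
  classical
  have hS : (Nat.card S : ℂ) ≠ 0 := Nat.cast_ne_zero.2 Nat.card_pos.ne'
  have hG : (Nat.card G : ℂ) ≠ 0 := Nat.cast_ne_zero.2 Nat.card_pos.ne'
  set F := conv (classInd c) (classInd a⁻¹) with hF
  have hFc : Cfsg.IsClassFunction G F :=
    isClassFunction_conv (isClassFunction_classInd c) (isClassFunction_classInd a⁻¹)
  have h1 : ∀ u : S, (Nat.card G : ℂ) * F u =
      ((Subgroup.centralizer ({a} : Set G)).index : ℂ) * ∑ χ : Cfsg.IrrCharacter G,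
        conj ((χ : G → ℂ) u) * (conj ((χ : G → ℂ) a) * Cfsg.centralChar (χ : G → ℂ) c) := by
    intro u
    rw [apply_eq_sum_omega hFc, ← mul_assoc, mul_inv_cancel₀ hG, one_mul, Finset.mul_sum]
    refine Finset.sum_congr rfl fun χ _ => ?_
    have hχ := Char.isClassFunction_of_isIrr χ.2
    rw [hF, omega_conv χ.2 (isClassFunction_classInd c) (isClassFunction_classInd a⁻¹),
      omega_classInd hχ, omega_classInd hχ, centralChar_inv_eq_conj]
    simp only [Cfsg.centralChar, map_mul, map_div₀, Complex.conj_natCast,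
      (CharArith.irr_degree_spec χ).1]
    have h0 : (Cfsg.charDegree (χ : G → ℂ) : ℂ) ≠ 0 :=
      Nat.cast_ne_zero.2 (CharArith.irr_degree_spec χ).2.ne'
    field_simp
  have h2 : ∑ u : S, F u = (pairCount S a c : ℂ) := by
    have h3 : ∀ z : G, ∀ u : G, classInd a⁻¹ (z⁻¹ * u) = classInd a (u⁻¹ * z) := by
      intro z u
      simp only [classInd_apply]
      refine if_congr ?_ rfl rfl
      rw [isConj_iff, isConj_iff]
      constructor
      · rintro ⟨k, hk⟩
        refine ⟨k, ?_⟩
        rw [show u⁻¹ * z = (z⁻¹ * u)⁻¹ by group, ← hk]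
        group
      · rintro ⟨k, hk⟩
        refine ⟨k, ?_⟩
        rw [show z⁻¹ * u = (u⁻¹ * z)⁻¹ by group, ← hk]
        group
    have h4 : (pairCount S a c : ℂ) = ∑ w : S × G,
        if IsConj c w.2 ∧ IsConj a ((w.1 : G)⁻¹ * w.2) then (1 : ℂ) else 0 := by
      rw [Finset.sum_boole, pairCount, ← Fintype.card_subtype, ← Nat.card_eq_fintype_card]
      congr 1
      refine Nat.card_congr
        ⟨fun t => ⟨(⟨t.1.2 * t.1.1⁻¹, t.2.2.2⟩, t.1.2), t.2.2.1, by simpa using t.2.1⟩,
          fun w => ⟨(((w.1.1 : G))⁻¹ * w.1.2, w.1.2), w.2.2, w.2.1, by simp⟩, fun t => ?_,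
          fun w => ?_⟩
      · exact Subtype.ext (Prod.ext (by simp) rfl)
      · exact Subtype.ext (Prod.ext (Subtype.ext (by simp)) rfl)
    rw [h4, Fintype.sum_prod_type]
    refine Finset.sum_congr rfl fun u _ => ?_
    simp only [hF, conv]
    refine Finset.sum_congr rfl fun z _ => ?_
    rw [h3, classInd_apply, classInd_apply]
    split_ifs with h h' h'' <;> simp_all
  have h5 : ∀ χ : Cfsg.IrrCharacter G,
      ∑ u : S, conj ((χ : G → ℂ) u) = (Nat.card S : ℂ) * trivMult S χ := by
    intro χ
    rw [trivMult, ← mul_assoc, mul_inv_cancel₀ hS, one_mul]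
    refine Fintype.sum_equiv (Equiv.inv S) _ _ fun u => ?_
    rw [conj_apply_eq_apply_inv]
    simp
  rw [← h2, Finset.mul_sum, Finset.sum_congr rfl fun u _ => h1 u, ← Finset.mul_sum,
    Finset.sum_comm, Finset.sum_congr rfl fun χ _ => (Finset.sum_mul _ _ _).symm]
  simp only [h5, mul_assoc, ← Finset.mul_sum]
  rw [mul_div_mul_left _ _ (index_centralizer_ne_zero a), mul_div_cancel_left₀ _ hS]

section Res

variable (hM : Cfsg.IsPModular p M)
include hM

theorem resFun_sum {ι : Type*} (s : Finset ι) (f : ι → ℂ)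
    (hf : ∀ i ∈ s, Cfsg.MemLocalRing M (f i)) :
    resFun hM (∑ i ∈ s, f i) = ∑ i ∈ s, resFun hM (f i) := by
  classical
  induction s using Finset.induction_on with
  | empty => simpa using resFun_coe hM 0
  | insert i s hi ih =>
    rw [Finset.sum_insert hi, Finset.sum_insert hi, resFun_add hM (hf i (Finset.mem_insert_self i s))
      ((localRing hM).sum_mem fun j hj => hf j (Finset.mem_insert_of_mem hj)),
      ih fun j hj => hf j (Finset.mem_insert_of_mem hj)]

theorem resFun_natCast (n : ℕ) : resFun hM (n : ℂ) = (n : Cfsg.AlgInt ⧸ M) := by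
  rw [← coe_natCast, resFun_coe, map_natCast]

theorem resFun_eq_of_sub_mem {x y : ℂ} (hx : Cfsg.MemLocalRing M x) (hy : Cfsg.MemLocalRing M y)
    (h : Cfsg.MemLocalIdeal M (x - y)) : resFun hM x = resFun hM y :=
  (residue_eq_iff hM ⟨x, hx⟩ ⟨y, hy⟩).2 h

end Res

variable {ι : Type v} {D : Subgroup G} (x : ι → G) (hx : ∀ i, DefectThms.IsSylC p (x i) D)

section Defect

variable [Fact p.Prime] (hM : Cfsg.IsPModular p M)
include hx hM

omit [Fact p.Prime] in
theorem index_factorization (i : ι) :
    (Subgroup.centralizer ({x i} : Set G)).index.factorization p +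
      (Nat.card D).factorization p = (Nat.card G).factorization p := by
  have e := congrArg (fun n => n.factorization p)
    (Subgroup.index_mul_card (Subgroup.centralizer ({x i} : Set G)))
  rw [Nat.factorization_mul Subgroup.index_ne_zero_of_finite Nat.card_pos.ne'] at e
  have h2 : (Nat.card D).factorization p =
      (Nat.card (Subgroup.centralizer ({x i} : Set G))).factorization p := by
    rw [(hx i).2.2, hM.1.factorization_pow, Finsupp.single_eq_same]
  rw [h2]
  exact e

omit [Fact p.Prime] in
/-- The class length of `x i` divided by its p-part. -/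
theorem not_dvd_indexPart (i : ι) :
    ¬ p ∣ (Subgroup.centralizer ({x i} : Set G)).index /
      p ^ ((Nat.card G).factorization p - (Nat.card D).factorization p) := by
  have h := index_factorization x hx hM i
  rw [show (Nat.card G).factorization p - (Nat.card D).factorization p =
    (Subgroup.centralizer ({x i} : Set G)).index.factorization p by omega]
  exact Nat.not_dvd_ordCompl hM.1 Subgroup.index_ne_zero_of_finite

omit [Fact p.Prime] in
theorem index_eq_mul (i : ι) :
    (Subgroup.centralizer ({x i} : Set G)).index =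
      p ^ ((Nat.card G).factorization p - (Nat.card D).factorization p) *
        ((Subgroup.centralizer ({x i} : Set G)).index /
          p ^ ((Nat.card G).factorization p - (Nat.card D).factorization p)) := by
  have h := index_factorization x hx hM i
  rw [show (Nat.card G).factorization p - (Nat.card D).factorization p =
    (Subgroup.centralizer ({x i} : Set G)).index.factorization p by omega]
  exact (Nat.ordProj_mul_ordCompl_eq_self _ p).symm

omit [Fact p.Prime] in
/-- A value at `x i` of a character of a block of defect at most that of `D`. -/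
theorem apply_eq_centralChar_mul {B : Set (Cfsg.IrrCharacter G)} {χ : Cfsg.IrrCharacter G}
    (hχ : χ ∈ B) (hd : Cfsg.blockDefect p B ≤ (Nat.card D).factorization p) (i : ι) :
    (χ : G → ℂ) (x i) = Cfsg.centralChar (χ : G → ℂ) (x i) *
      (((p ^ ((Nat.card D).factorization p - Cfsg.blockDefect p B) : ℕ) : ℂ) *
        (BlockChar.redDeg p B χ : ℂ) *
        (((Subgroup.centralizer ({x i} : Set G)).index /
          p ^ ((Nat.card G).factorization p - (Nat.card D).factorization p) : ℕ) : ℂ)⁻¹) := by
  have hidx := index_eq_mul x hx hM i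
  have hk := not_dvd_indexPart x hx hM i
  have hfac := index_factorization x hx hM i
  set k := (Subgroup.centralizer ({x i} : Set G)).index /
    p ^ ((Nat.card G).factorization p - (Nat.card D).factorization p) with hkdef
  set a := (Nat.card G).factorization p with ha
  set d := (Nat.card D).factorization p with hd'
  obtain ⟨hdeg, -, hb0⟩ := BlockChar.redDeg_mul (B := B) hM.1 hχ
  have h1 := (BlockChar.minVal_le (p := p) hχ).trans (BlockChar.degree_val_le χ)
  rw [BlockChar.blockDefect_eq, ← ha] at hd ⊢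
  rw [← ha] at h1
  have hmv : BlockChar.minVal p B = a - d + (d - (a - BlockChar.minVal p B)) := by omega
  have hp0 : (p : ℂ) ≠ 0 := Nat.cast_ne_zero.2 hM.1.ne_zero
  have hk0 : (k : ℂ) ≠ 0 := Nat.cast_ne_zero.2 fun e => hk (e ▸ dvd_zero p)
  have hr0 : (BlockChar.redDeg p B χ : ℂ) ≠ 0 := Nat.cast_ne_zero.2 hb0.ne'
  rw [Cfsg.centralChar, (CharArith.irr_degree_spec χ).1, hdeg]
  conv_rhs => rw [hidx]
  generalize BlockChar.redDeg p B χ = r at hr0 ⊢
  rw [show p ^ BlockChar.minVal p B = p ^ (a - d) * p ^ (d - (a - BlockChar.minVal p B)) by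
    rw [← pow_add, ← hmv]]
  push_cast
  field_simp

/-- The conjugate value, through the central character at the inverse. -/
theorem conj_apply_eq_centralChar_mul {B : Set (Cfsg.IrrCharacter G)} {χ : Cfsg.IrrCharacter G}
    (hχ : χ ∈ B) (hd : Cfsg.blockDefect p B ≤ (Nat.card D).factorization p) (i : ι) :
    conj ((χ : G → ℂ) (x i)) = Cfsg.centralChar (χ : G → ℂ) (x i)⁻¹ *
      (((p ^ ((Nat.card D).factorization p - Cfsg.blockDefect p B) : ℕ) : ℂ) *
        (BlockChar.redDeg p B χ : ℂ) *
        (((Subgroup.centralizer ({x i} : Set G)).index /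
          p ^ ((Nat.card G).factorization p - (Nat.card D).factorization p) : ℕ) : ℂ)⁻¹) := by
  rw [apply_eq_centralChar_mul x hx hM hχ hd i, centralChar_inv_eq_conj]
  simp

/-- The blocks with defect group `D`, through a member. -/
theorem isDefectGroup_or_mem {χ : Cfsg.IrrCharacter G} {B : Set (Cfsg.IrrCharacter G)}
    (hB : Cfsg.IsPBlock M B) (hχ : χ ∈ B) (hnot : ¬ Cfsg.IsDefectGroup p M B D) (i j : ι) :
    Cfsg.MemLocalIdeal M (conj ((χ : G → ℂ) (x i)) * Cfsg.centralChar (χ : G → ℂ) (x j)) := by
  by_cases hj : Cfsg.MemLocalIdeal M (Cfsg.centralChar (χ : G → ℂ) (x j))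
  · exact memLocalIdeal_mul_left hM
      (memLocalRing_char hM (Char.isCharacter_conj (Char.IsIrr.isCharacter χ.2)) (x i)) hj
  refine memLocalIdeal_mul_right hM ?_ (memLocalRing_centralChar hM χ.2 _)
  obtain ⟨g, hg⟩ := exists_isDefectClass hM hB
  obtain ⟨D', hD'⟩ := DefectThms.exists_isSylC p g
  obtain ⟨k, S, hS, hle⟩ := DefectThms.exists_le_isSylC_of_unit hM hB hg hD' hχ hj
  obtain ⟨c, -, hc⟩ := (hx j).exists_conj_le (hD'.2.1.map _) (hle.trans hS.1)
  rw [DefectThms.map_conj_map_conj] at hc
  have hdef : Cfsg.IsDefectGroup p M B D' := DefectThms.isDefectGroup_iff.2 ⟨g, hg, hD'⟩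
  have hcard := BlockChar.card_defectGroup hM hB hdef
  have hlt : Cfsg.blockDefect p B < (Nat.card D).factorization p := by
    by_contra hle'
    push_neg at hle'
    refine hnot ?_
    have e : D'.map (MulAut.conj (c * k)).toMonoidHom = D := by
      refine Subgroup.eq_of_le_of_card_ge hc ?_
      rw [DefectThms.card_map_conj, hcard, (hx j).2.2]
      refine Nat.pow_le_pow_right hM.1.pos ?_
      rwa [(hx j).2.2, hM.1.factorization_pow, Finsupp.single_eq_same] at hle'
    exact e ▸ DefectThms.isDefectGroup_conj hdef (c * k)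
  rw [conj_apply_eq_centralChar_mul x hx hM hχ hlt.le i]
  refine memLocalIdeal_mul_left hM (memLocalRing_centralChar hM χ.2 _) ?_
  refine memLocalIdeal_mul_right hM (memLocalIdeal_mul_right hM ?_ (memLocalRing_natCast hM _))
    (memLocalRing_natCast_inv hM (not_dvd_indexPart x hx hM i))
  exact (memLocalIdeal_natCast_iff hM _).2 (dvd_pow_self p (by omega))

open Classical in
/-- The scaled counting numbers are integers and, modulo `M`, factor through the blocks with
defect group `D`. -/
theorem classMatrix_factor (S : Sylow p G) [Fintype (S : Subgroup G)] (i j : ι) :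
    ∃ n : ℕ, pairCount (S : Subgroup G) (x i) (x j) =
        p ^ ((Nat.card G).factorization p - (Nat.card D).factorization p) * n ∧
      ((Nat.card G / p ^ (Nat.card G).factorization p : ℕ) : Cfsg.AlgInt ⧸ M) * n =
        (((Subgroup.centralizer ({x i} : Set G)).index /
          p ^ ((Nat.card G).factorization p - (Nat.card D).factorization p) : ℕ) :
            Cfsg.AlgInt ⧸ M) *
        ∑ χ : {χ : Cfsg.IrrCharacter G //
            Cfsg.IsDefectGroup p M (Cfsg.blockOf M (χ : G → ℂ)) D},
          resFun hM (trivMult (S : Subgroup G) χ.1 * conj ((χ.1 : G → ℂ) (x i))) *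
            resFun hM (Cfsg.centralChar (χ.1 : G → ℂ) (x j)) := by
  classical
  set q := p ^ ((Nat.card G).factorization p - (Nat.card D).factorization p) with hq
  set k := (Subgroup.centralizer ({x i} : Set G)).index / q with hk
  set m := Nat.card G / p ^ (Nat.card G).factorization p with hm
  set A := ∑ χ : Cfsg.IrrCharacter G, trivMult (S : Subgroup G) χ *
    (conj ((χ : G → ℂ) (x i)) * Cfsg.centralChar (χ : G → ℂ) (x j)) with hA
  have htR : ∀ χ, IsIntegral ℤ (trivMult (S : Subgroup G) χ) := fun χ => by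
    obtain ⟨n, hn⟩ := exists_nat_trivMult (S : Subgroup G) χ
    exact hn ▸ isIntegral_natCast n
  have hcR : ∀ χ : Cfsg.IrrCharacter G, IsIntegral ℤ (conj ((χ : G → ℂ) (x i))) := fun χ =>
    Char.IsChar.isIntegral (Char.isCharacter_conj (Char.IsIrr.isCharacter χ.2)) _
  have hAi : IsIntegral ℤ A := IsIntegral.sum _ fun χ _ =>
    (htR χ).mul ((hcR χ).mul (isIntegral_centralChar χ.2 _))
  have hidx := index_eq_mul x hx hM i
  rw [← hq, ← hk] at hidx
  have hk0 : (k : ℂ) ≠ 0 := Nat.cast_ne_zero.2 fun e =>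
    not_dvd_indexPart x hx hM i (by rw [← hq, ← hk, e]; exact dvd_zero p)
  have hS : Nat.card (S : Subgroup G) = p ^ (Nat.card G).factorization p := S.card_eq_multiplicity
  have hG : Nat.card G = Nat.card (S : Subgroup G) * m := by
    rw [hS]; exact (Nat.ordProj_mul_ordCompl_eq_self _ p).symm
  have hS0 : (Nat.card (S : Subgroup G) : ℂ) ≠ 0 := Nat.cast_ne_zero.2 Nat.card_pos.ne'
  have hq0 : (q : ℂ) ≠ 0 := Nat.cast_ne_zero.2 (pow_ne_zero _ hM.1.ne_zero)
  have hmain : (m : ℂ) * (pairCount (S : Subgroup G) (x i) (x j) : ℂ) = (q : ℂ) * (k : ℂ) * A := by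
    rw [hA, sum_trivMult_mul, hidx, hG]
    push_cast
    field_simp
  obtain ⟨n, hn⟩ : q ∣ pairCount (S : Subgroup G) (x i) (x j) := by
    have h1 : (k : ℂ) * A = ((((m * pairCount (S : Subgroup G) (x i) (x j) : ℕ) : ℚ) / q : ℚ) : ℂ) := by
      push_cast
      rw [eq_div_iff hq0]
      linear_combination -hmain
    obtain ⟨z, hz⟩ := exists_int_of_isIntegral_rat ((isIntegral_natCast k).mul hAi) _ h1
    have h2 : ((q : ℤ)) ∣ ((m * pairCount (S : Subgroup G) (x i) (x j) : ℕ) : ℤ) := by
      refine ⟨z, ?_⟩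
      have : ((m * pairCount (S : Subgroup G) (x i) (x j) : ℕ) : ℂ) = (q : ℂ) * (z : ℂ) := by
        rw [← hz, ← mul_assoc, ← hmain]; push_cast; rfl
      exact_mod_cast this
    refine (Nat.Coprime.dvd_of_dvd_mul_left ?_ (Int.natCast_dvd_natCast.1 h2))
    exact ((hM.1.coprime_iff_not_dvd.2
      (Nat.not_dvd_ordCompl hM.1 Nat.card_pos.ne'))).pow_left _
  refine ⟨n, hn, ?_⟩
  have e : (m : ℂ) * (n : ℂ) = (k : ℂ) * A := by
    refine mul_left_cancel₀ hq0 ?_
    rw [← mul_assoc (q : ℂ) (k : ℂ), ← hmain, hn]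
    push_cast
    ring
  have hAR := memLocalRing_of_isIntegral hM hAi
  have e' := congrArg (resFun hM) e
  rw [resFun_mul hM (memLocalRing_natCast hM m) (memLocalRing_natCast hM n),
    resFun_mul hM (memLocalRing_natCast hM k) hAR, resFun_natCast, resFun_natCast,
    resFun_natCast] at e'
  rw [e']
  congr 1
  rw [hA, resFun_sum hM _ _ fun χ _ => memLocalRing_of_isIntegral hM
    ((htR χ).mul ((hcR χ).mul (isIntegral_centralChar χ.2 _)))]
  rw [← Finset.sum_filter_add_sum_filter_not Finset.univ
    (fun χ : Cfsg.IrrCharacter G => Cfsg.IsDefectGroup p M (Cfsg.blockOf M (χ : G → ℂ)) D)]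
  rw [Finset.sum_eq_zero (s := Finset.univ.filter fun χ : Cfsg.IrrCharacter G =>
    ¬ Cfsg.IsDefectGroup p M (Cfsg.blockOf M (χ : G → ℂ)) D) (fun χ hχ => ?_), add_zero,
    Finset.sum_subtype (p := fun χ : Cfsg.IrrCharacter G =>
      Cfsg.IsDefectGroup p M (Cfsg.blockOf M (χ : G → ℂ)) D) _ (fun χ => by simp)]
  · refine Finset.sum_congr rfl fun χ _ => ?_
    rw [← resFun_mul hM (memLocalRing_of_isIntegral hM ((htR _).mul (hcR _)))
      (memLocalRing_centralChar hM χ.1.2 _), mul_assoc]
  · rw [resFun_eq_zero_iff hM (memLocalRing_of_isIntegral hM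
      ((htR χ).mul ((hcR χ).mul (isIntegral_centralChar χ.2 _))))]
    exact memLocalIdeal_mul_left hM (memLocalRing_of_isIntegral hM (htR χ))
      (isDefectGroup_or_mem x hx hM (isPBlock_blockOf χ) (mem_blockOf_self hM χ)
        (Finset.mem_filter.1 hχ).2 i j)

end Defect

/-- Rows spanning everything contain a basis. -/
theorem exists_rows_det_ne_zero {K : Type*} [Field K] {T : Type*} {r : ℕ}
    (L : T → Fin r → K) (hL : Submodule.span K (Set.range L) = ⊤) :
    ∃ t : Fin r → T, Function.Injective (fun i => L (t i)) ∧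
      (Matrix.of fun i => L (t i)).det ≠ 0 := by
  classical
  obtain ⟨f, hf, -, hli⟩ := Submodule.exists_fun_fin_finrank_span_eq K (Set.range L)
  have hr : Module.finrank K (Submodule.span K (Set.range L)) = r := by
    rw [hL, finrank_top, Module.finrank_fin_fun]
  choose t ht using hf
  refine ⟨fun i => t (Fin.cast hr.symm i), ?_, ?_⟩
  · intro i j h
    simp only [ht] at h
    exact Fin.cast_injective _ (hli.injective h)
  · have h : LinearIndependent K (Matrix.of fun i => L (t (Fin.cast hr.symm i))).row := by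
      rw [show (Matrix.of fun i => L (t (Fin.cast hr.symm i))).row = f ∘ Fin.cast hr.symm from
        funext fun i => ht _]
      exact hli.comp _ (Fin.cast_injective hr.symm)
    exact ((Matrix.isUnit_iff_isUnit_det _).1
      (Matrix.linearIndependent_rows_iff_isUnit.1 h)).ne_zero

end Cfsg.Agent.Blocks
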