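import Cfsg.Agent.Blocks.FongReynolds
import Cfsg.Agent.Blocks.ClassMatrix
import Cfsg.Agent.BlockThms.Fong

/-!
# Blocks over an invariant block whose defect group has its centralizer inside the normal subgroup

If `b` is an invariant block of the normal subgroup `N` with defect group `Q`, then the defect
groups of a covering block contain `Q`; if moreover `C_G(Q) ≤ N` then `b` induces its unique
covering block.

In the group algebra over the residue field the centralizer of `N` is graded by `G/N`, and the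
product of components of inverse degrees lands among the central nilpotent elements, so the
idempotent of a covering block has a component in `N` which is a unit at `b`.
-/

namespace Cfsg.Agent.Blocks

open scoped ComplexConjugate
open Cfsg.Agent

universe u

/-! ## Ring theory -/

/-- A central idempotent in the left ideal generated by central nilpotent elements vanishes. -/
theorem eq_zero_of_mem_span_nilpotent {A : Type*} [Ring A] {e : A} (hid : e * e = e)
    (hc : ∀ a, Commute e a)
    (he : e ∈ Ideal.span {z : A | (∀ a, Commute z a) ∧ IsNilpotent z}) : e = 0 := by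
  have key : ∀ (n : ℕ) (c : Fin n → A) (z : Fin n → A), (∀ i a, Commute (z i) a) →
      (∀ i, IsNilpotent (z i)) → ∀ (s : Finset (Fin n)) (y : A), (∀ a, Commute y a) →
        y = y * ∑ i ∈ s, c i * z i → y = 0 := by
    intro n c z hz hn s
    induction s using Finset.induction_on with
    | empty => intro y _ h; simpa using h
    | insert v s hv ih =>
      intro y hy h
      obtain ⟨m, hm⟩ := hn v
      suffices ∀ d, y * z v ^ (m - d) = 0 by simpa using this m
      intro d
      induction d with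
      | zero => simp [hm]
      | succ d hd =>
        by_cases hmd : m ≤ d
        · rwa [Nat.sub_eq_zero_of_le (by omega), ← Nat.sub_eq_zero_of_le hmd]
        set j := m - (d + 1) with hj
        rw [show m - d = j + 1 by omega] at hd
        refine ih _ (fun a => (hy a).mul_left ((hz v a).pow_left j)) ?_
        have e0 : y * z v ^ j * (c v * z v) = 0 := by
          rw [mul_assoc y, ← mul_assoc (z v ^ j), ((hz v (c v)).pow_left j).eq, mul_assoc (c v),
            ← pow_succ, ← mul_assoc y, (hy (c v)).eq, mul_assoc, hd, mul_zero]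
        calc y * z v ^ j = (y * ∑ i ∈ insert v s, c i * z i) * z v ^ j := by rw [← h]
          _ = y * z v ^ j * ∑ i ∈ insert v s, c i * z i := by
            rw [mul_assoc y (z v ^ j), ((hz v _).pow_left j).eq, mul_assoc]
          _ = _ := by rw [Finset.sum_insert hv, mul_add, e0, zero_add]
  obtain ⟨n, c, z, he'⟩ := Submodule.mem_span_set'.1 he
  refine key n c (fun i => (z i : A)) (fun i => (z i).2.1) (fun i => (z i).2.2) Finset.univ e hc ?_
  rw [show ∑ i : Fin n, c i * (z i : A) = e from he', hid]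

/-- A central idempotent, with components of a grading by a finite group, lies in a left ideal
containing the trivial component and every product of a component of non-trivial degree with an
element of the inverse degree. -/
theorem mem_of_graded {A Q : Type*} [Ring A] [Group Q] [Fintype Q] (H : Q → A → Prop)
    (hmul : ∀ g h x y, H g x → H h y → H (g * h) (x * y)) {J : Ideal A}
    {e : A} (hid : e * e = e) (hc : ∀ a, Commute e a) (c : Q → A)
    (hJ : ∀ g y, g ≠ 1 → H g⁻¹ y → c g * y ∈ J) (hsum : ∑ q, c q = e) (hH : ∀ q, q ≠ 1 → H q (c q))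
    (h1 : c 1 ∈ J) : e ∈ J := by
  classical
  have hstep : ∀ x : A, x * e = ∑ q, e * (x * c q) := fun x => by
    rw [← Finset.mul_sum, ← Finset.mul_sum, hsum, ← mul_assoc, (hc x).eq, mul_assoc, hid]
  have claim : ∀ (n : ℕ) (U : Finset Q), Fintype.card Q ≤ U.card + n → ∀ (g : Q) (x : A), g ∉ U →
      H g x → (∀ u ∈ U, ∀ y, H (g⁻¹ * u) y → x * y ∈ J) → x * e ∈ J := by
    intro n
    induction n with
    | zero =>
      intro U hU g x hg _ _
      exact absurd (Finset.eq_univ_of_card U (le_antisymm (Finset.card_le_univ U) (by simpa using hU))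
        ▸ Finset.mem_univ g) hg
    | succ n ih =>
      intro U hU g x hg hx hinv
      rw [hstep]
      refine J.sum_mem fun q _ => ?_
      by_cases hq : q = 1
      · exact J.mul_mem_left _ (J.mul_mem_left _ (hq ▸ h1))
      by_cases hu : g * q ∈ U
      · exact J.mul_mem_left _ (hinv _ hu _ (by simpa using hH q hq))
      rw [(hc _).eq]
      refine ih (insert g U) ?_ (g * q) _ ?_ (hmul _ _ _ _ hx (hH q hq)) fun u hu' y hy => ?_
      · rw [Finset.card_insert_of_notMem hg]; omega
      · rw [Finset.mem_insert, not_or]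
        exact ⟨by simpa using hq, hu⟩
      rw [mul_assoc]
      rcases Finset.mem_insert.1 hu' with rfl | hu'
      · refine J.mul_mem_left _ (hJ q _ hq ?_)
        simpa using hy
      · refine hinv u hu' _ ?_
        have := hmul _ _ _ _ (hH q hq) hy
        simpa [mul_assoc] using this
  suffices h2 : (∑ q, c q) * e ∈ J by rwa [hsum, hid] at h2
  rw [Finset.sum_mul]
  refine J.sum_mem fun q _ => ?_
  by_cases hq : q = 1
  · rw [← (hc _).eq]
    exact J.mul_mem_left _ (hq ▸ h1)
  refine claim (Fintype.card Q) {1} (by simp) q _ (by simpa using hq) (hH q hq) fun u hu y hy => ?_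
  rw [Finset.mem_singleton] at hu
  subst hu
  exact hJ q _ hq (by simpa using hy)

/-! ## Reduction modulo `M` -/

variable {G : Type u} [Group G] [Fintype G] {p : ℕ} {M : Ideal Cfsg.AlgInt}

/-- The group algebra over the residue field. -/
abbrev ModAlg (G : Type u) [Group G] (M : Ideal Cfsg.AlgInt) : Type _ :=
  MonoidAlgebra (Cfsg.AlgInt ⧸ M) G

/-- Reduction modulo `M` of a function. -/
noncomputable def redFun (hM : Cfsg.IsPModular p M) (f : G → ℂ) : ModAlg G M :=
  ∑ g, MonoidAlgebra.single g (resFun hM (f g))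

theorem coeff_redFun (hM : Cfsg.IsPModular p M) (f : G → ℂ) (z : G) :
    (redFun hM f).coeff z = resFun hM (f z) := by
  classical
  simp [redFun, Finsupp.single_apply]

theorem redFun_mul (hM : Cfsg.IsPModular p M) {f h : G → ℂ}
    (hf : ∀ g, Cfsg.MemLocalRing M (f g)) (hh : ∀ g, Cfsg.MemLocalRing M (h g)) :
    redFun hM f * redFun hM h = redFun hM (conv f h) := by
  classical
  simp only [redFun, Finset.sum_mul, Finset.mul_sum, MonoidAlgebra.single_mul_single]
  have e : ∀ a : G, ∑ b : G, MonoidAlgebra.single (a * b) (resFun hM (f a) * resFun hM (h b)) =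
      ∑ z : G, (MonoidAlgebra.single z (resFun hM (f a * h (a⁻¹ * z))) : ModAlg G M) := fun a =>
    Fintype.sum_equiv (Equiv.mulLeft a) _ _ fun b => by
      simp [resFun_mul hM (hf a) (hh b)]
  rw [Finset.sum_comm, Finset.sum_congr rfl fun a _ => e a, Finset.sum_comm]
  refine Finset.sum_congr rfl fun z _ => ?_
  rw [conv, resFun_sum hM _ _ fun a _ => (localRing hM).mul_mem (hf a) (hh _)]
  exact (map_sum (MonoidAlgebra.singleAddHom z) _ _).symm

theorem redFun_eq_zero (hM : Cfsg.IsPModular p M) {f : G → ℂ}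
    (hf : ∀ g, Cfsg.MemLocalRing M (f g)) :
    redFun hM f = 0 ↔ ∀ g, Cfsg.MemLocalIdeal M (f g) := by
  refine ⟨fun h g => (resFun_eq_zero_iff hM (hf g)).1 ?_, fun h => ?_⟩
  · rw [← coeff_redFun hM f g, h]; simp
  · exact Finset.sum_eq_zero fun g _ => by
      rw [(resFun_eq_zero_iff hM (hf g)).2 (h g)]; simp

/-- A central element with all central character values in the ideal is nilpotent modulo `M`. -/
theorem exists_cpow_memLocalIdeal (hM : Cfsg.IsPModular p M) {f : G → ℂ}
    (hf : Cfsg.IsClassFunction G f) (hfR : ∀ g, Cfsg.MemLocalRing M (f g))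
    (hω : ∀ χ : Cfsg.IrrCharacter G, Cfsg.MemLocalIdeal M (omega (χ : G → ℂ) f)) :
    ∃ k : ℕ, ∀ x, Cfsg.MemLocalIdeal M (BlockChar.cpow f (k + 1) x) := by
  classical
  choose N hN using fun χ => exists_pow_eq_mul hM (hω χ)
  set n := Finset.univ.sup N
  set c := (Nat.card G).factorization p with hc
  refine ⟨n * (c + 1), fun x => ?_⟩
  have hcc : ∀ k, Cfsg.IsClassFunction G (BlockChar.cpow f (k + 1)) := fun k => by
    induction k with
    | zero => rwa [BlockChar.cpow_one]
    | succ k ih => rw [BlockChar.cpow_succ]; exact isClassFunction_conv hf ih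
  have hom : ∀ k (χ : Cfsg.IrrCharacter G),
      omega (χ : G → ℂ) (BlockChar.cpow f (k + 1)) = omega (χ : G → ℂ) f ^ (k + 1) := by
    intro k χ
    induction k with
    | zero => rw [BlockChar.cpow_one, pow_one]
    | succ k ih =>
      rw [BlockChar.cpow_succ, omega_conv χ.2 hf (hcc k), ih, pow_succ' _ (k + 1)]
  have hsmall : ∀ χ : Cfsg.IrrCharacter G, ∃ r, Cfsg.MemLocalRing M r ∧
      omega (χ : G → ℂ) f ^ (n * (c + 1) + 1) = (p : ℂ) ^ (c + 1) * r := by
    intro χ
    obtain ⟨r, hr, e1⟩ := hN χ n (Finset.le_sup (Finset.mem_univ χ))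
    refine ⟨r ^ (c + 1) * omega (χ : G → ℂ) f, (localRing hM).mul_mem
      ((localRing hM).pow_mem hr _) (memLocalRing_of_memLocalIdeal (hω χ)), ?_⟩
    rw [pow_succ, pow_mul, e1, mul_pow]
    ring
  choose r hr hre using hsmall
  have hval : BlockChar.cpow f (n * (c + 1) + 1) x =
      (p : ℂ) * (((Nat.card G / p ^ c : ℕ) : ℂ)⁻¹ *
        ∑ χ : Cfsg.IrrCharacter G, (χ : G → ℂ) 1 * r χ * conj ((χ : G → ℂ) x)) := by
    rw [apply_eq_sum_omega (hcc _)]
    have hsplit : (Nat.card G : ℂ)⁻¹ =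
        ((p ^ c : ℕ) : ℂ)⁻¹ * ((Nat.card G / p ^ c : ℕ) : ℂ)⁻¹ := by
      rw [← mul_inv, ← Nat.cast_mul, Nat.ordProj_mul_ordCompl_eq_self]
    rw [hsplit, Finset.mul_sum, Finset.mul_sum, Finset.mul_sum]
    refine Finset.sum_congr rfl fun χ _ => ?_
    rw [hom, hre]
    have : (p : ℂ) ≠ 0 := Nat.cast_ne_zero.2 hM.1.ne_zero
    push_cast
    field_simp
    ring
  rw [hval]
  refine memLocalIdeal_mul_right hM (memLocalIdeal_natCast_self hM)
    ((localRing hM).mul_mem (memLocalRing_natCast_inv hM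
      (Nat.not_dvd_ordCompl hM.1 Nat.card_pos.ne')) ((localRing hM).sum_mem fun χ _ => ?_))
  refine (localRing hM).mul_mem ((localRing hM).mul_mem
    (memLocalRing_char hM (Char.IsIrr.isCharacter χ.2) _) (hr χ)) ?_
  rw [← Char.IsChar.inv_eq_conj (Char.IsIrr.isCharacter χ.2)]
  exact memLocalRing_char hM (Char.IsIrr.isCharacter χ.2) _

/-! ## Covering blocks -/

variable {N : Subgroup G} [hN : N.Normal] [Fintype N]

/-- Invariance under conjugation by `N`. -/
def NInv (N : Subgroup G) (f : G → ℂ) : Prop := ∀ n ∈ N, ∀ y, f (n * y * n⁻¹) = f y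

theorem NInv.conv {f h : G → ℂ} (hf : NInv N f) (hh : NInv N h) : NInv N (conv f h) := by
  intro n hn y
  refine Fintype.sum_equiv (MulAut.conj n⁻¹).toEquiv _ _ fun a => ?_
  simp only [MulEquiv.toEquiv_eq_coe, MulEquiv.coe_toEquiv, MulAut.conj_apply, inv_inv]
  have e1 : f (n⁻¹ * a * n) = f a := by simpa using hf n⁻¹ (N.inv_mem hn) a
  have e2 : h ((n⁻¹ * a * n)⁻¹ * y) = h (a⁻¹ * (n * y * n⁻¹)) := by
    rw [← hh n hn]; congr 1; group
  rw [e1, e2]

theorem conv_support {f h : G → ℂ} {q r : G ⧸ N} (hf : ∀ y : G, (y : G ⧸ N) ≠ q → f y = 0)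
    (hh : ∀ y : G, (y : G ⧸ N) ≠ r → h y = 0) {y : G} (hy : (y : G ⧸ N) ≠ q * r) :
    conv f h y = 0 := by
  refine Finset.sum_eq_zero fun a _ => ?_
  by_cases ha : (a : G ⧸ N) = q
  · rw [hh (a⁻¹ * y) ?_, mul_zero]
    intro e
    exact hy (by rw [← ha, ← e, ← QuotientGroup.mk_mul, mul_inv_cancel_left])
  · rw [hf a ha, zero_mul]

variable [Fact p.Prime] (hM : Cfsg.IsPModular p M) {b : Set (Cfsg.IrrCharacter N)}
  (hb : Cfsg.IsPBlock M b)
  (hinv : ∀ (g : G) (θ : Cfsg.IrrCharacter N), θ ∈ b →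
    (⟨_, Char.isIrr_conjFun g θ.2⟩ : Cfsg.IrrCharacter N) ∈ b)
include hM hb hinv

local notation "sbc" => Cfsg.subgroupBlockCoeff

omit [Fact p.Prime] in
theorem isInv_sbc_top : Cfsg.IsClassFunction G (sbc N b) := by
  have hT : ∀ g : G, g ∈ (⊤ : Subgroup G) ↔ ∀ θ ∈ b, ∀ θ' : Cfsg.IrrCharacter N,
      (∀ n : N, (θ' : N → ℂ) n = (θ : N → ℂ) ⟨g * n * g⁻¹, hN.conj_mem n n.2 g⟩) → θ' ∈ b := by
    refine fun g => ⟨fun _ θ hθ θ' he => ?_, fun _ => Subgroup.mem_top g⟩
    convert hinv g θ hθ
    refine funext fun n => ?_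
    exact he n
  intro y k
  have := Fintype.ofFinite (⊤ : Subgroup G)
  exact isInv_sbc_block hM hb hT k (Subgroup.mem_top k) y

omit [Fact p.Prime] in
theorem constituent_mem {B : Set (Cfsg.IrrCharacter G)} (hB : Cfsg.IsPBlock M B)
    (hcov : ∃ χ ∈ B, ∃ θ ∈ b, Cfsg.classInner (fun n : N => (χ : G → ℂ) n) (θ : N → ℂ) ≠ 0)
    {χ : Cfsg.IrrCharacter G} (hχ : χ ∈ B) {η : Cfsg.IrrCharacter N}
    (hη : Cfsg.classInner (fun n : N => (χ : G → ℂ) n) (η : N → ℂ) ≠ 0) : η ∈ b := by
  obtain ⟨χ₀, hχ₀, θ, hθ, hc⟩ := hcov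
  obtain ⟨g, θ', hθ', he⟩ := BlockThms.covering_orbit hM hB hb hχ₀ hθ hc hχ hη
  convert hinv g θ' hθ'
  refine funext fun n => ?_
  exact he n

omit [Fact p.Prime] in
theorem conv_blockCoeff_sbc {B : Set (Cfsg.IrrCharacter G)} (hB : Cfsg.IsPBlock M B)
    (hcov : ∃ χ ∈ B, ∃ θ ∈ b, Cfsg.classInner (fun n : N => (χ : G → ℂ) n) (θ : N → ℂ) ≠ 0) :
    conv (Cfsg.blockCoeff B) (sbc N b) = Cfsg.blockCoeff B := by
  classical
  have hec := isInv_sbc_top hM hb hinv
  refine classFun_ext_omega (isClassFunction_conv (isClassFunction_blockCoeff B) hec)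
    (isClassFunction_blockCoeff B) fun χ => ?_
  rw [omega_conv χ.2 (isClassFunction_blockCoeff B) hec, omega_blockCoeff]
  split_ifs with hχ
  · obtain ⟨η, hη⟩ := Char.exists_constituent_res (N := N) χ.2
    rw [BlockThms.omega_res_eq χ.2 η.2 hη hec fun y hy => BrauerPairs.sbc_of_notMem b hy,
      show (fun n : N => sbc N b (n : G)) = Cfsg.blockCoeff b from
        funext fun n => BrauerPairs.sbc_apply b n, omega_blockCoeff,
      if_pos (constituent_mem hM hb hinv hB hcov hχ hη), mul_one]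
  · rw [zero_mul]

variable {Q : Subgroup N} (hQ : Cfsg.IsDefectGroup p M b Q)
include hQ

/-- The idempotent of a covering block has a unit coefficient at an element centralizing a
conjugate of `Q`. -/
theorem exists_unit_coeff_centralizing {B : Set (Cfsg.IrrCharacter G)} (hB : Cfsg.IsPBlock M B)
    (hcov : ∃ χ ∈ B, ∃ θ ∈ b, Cfsg.classInner (fun n : N => (χ : G → ℂ) n) (θ : N → ℂ) ≠ 0) :
    ∃ (a : G) (c : N), ¬ Cfsg.MemLocalIdeal M (Cfsg.blockCoeff B a) ∧
      ∀ q ∈ Q, ((c * q * c⁻¹ : N) : G) * a = a * ((c * q * c⁻¹ : N) : G) := by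
  classical
  by_contra! hne
  set eb : G → ℂ := sbc N b with heb
  have hebR : ∀ y, Cfsg.MemLocalRing M (eb y) := fun y => BrauerPairs.memLocalRing_sbc hM hb y
  set E := Cfsg.blockCoeff B with hE
  have hEc : Cfsg.IsClassFunction G E := isClassFunction_blockCoeff B
  have hER : ∀ y, Cfsg.MemLocalRing M (E y) := memLocalRing_blockCoeff hM hB
  let S : Subring (ModAlg G M) :=
    Subring.centralizer (Set.range fun n : N => MonoidAlgebra.single (n : G) 1)
  -- `N`-invariant functions give elements of the centralizer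
  have hmemS : ∀ {f : G → ℂ}, NInv N f → redFun hM f ∈ S := by
    intro f hf
    rw [Subring.mem_centralizer_iff]
    rintro _ ⟨n, rfl⟩
    simp only [redFun, Finset.mul_sum, Finset.sum_mul, MonoidAlgebra.single_mul_single, one_mul,
      mul_one]
    refine Fintype.sum_equiv (MulAut.conj (n : G)).toEquiv _ _ fun y => ?_
    simp only [MulEquiv.toEquiv_eq_coe, MulEquiv.coe_toEquiv, MulAut.conj_apply, hf _ n.2 y]
    congr 1
    group
  -- and those supported on `N` are central there
  have hcen : ∀ {f : G → ℂ}, (∀ y : G, (y : G ⧸ N) ≠ 1 → f y = 0) →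
      ∀ a ∈ S, Commute (redFun hM f) a := by
    intro f hf a ha
    refine Commute.sum_left _ _ _ fun y _ => ?_
    by_cases hy : (y : G ⧸ N) = 1
    · have h1 : Commute (MonoidAlgebra.single y (1 : Cfsg.AlgInt ⧸ M)) a :=
        Subring.mem_centralizer_iff.1 ha _ ⟨⟨y, (QuotientGroup.eq_one_iff y).1 hy⟩, rfl⟩
      have e : (MonoidAlgebra.single y (resFun hM (f y)) : ModAlg G M) =
          MonoidAlgebra.single 1 (resFun hM (f y)) * MonoidAlgebra.single y 1 := by
        rw [MonoidAlgebra.single_mul_single, one_mul, mul_one]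
      rw [e]
      exact Commute.mul_left (MonoidAlgebra.single_commute (fun m => Commute.one_left m)
        (fun r => Commute.all _ r) a) h1
    · rw [hf y hy, show resFun hM (0 : ℂ) = 0 from
        (resFun_eq_zero_iff hM (localRing hM).zero_mem).2 (memLocalIdeal_zero hM)]
      simp
  -- nilpotency
  have hnil : ∀ {f : G → ℂ}, (∀ y, Cfsg.MemLocalRing M (f y)) →
      (∀ y : G, (y : G ⧸ N) ≠ 1 → f y = 0) → NInv N f → conv f eb = f →
      (∀ η ∈ b, Cfsg.MemLocalIdeal M (omega ((η : Cfsg.IrrCharacter N) : N → ℂ)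
        fun n : N => f (n : G))) →
      IsNilpotent (redFun hM f) := by
    intro f hfR hf0 hfi hfe hω
    have hf0' : ∀ y, y ∉ N → f y = 0 := fun y hy => hf0 y fun h => hy ((QuotientGroup.eq_one_iff y).1 h)
    set fN : N → ℂ := fun n => f (n : G) with hfN
    have hfc : Cfsg.IsClassFunction N fN := fun a k => hfi k k.2 a
    obtain ⟨k, hk⟩ := exists_cpow_memLocalIdeal (G := N) hM hfc (fun n => hfR n) fun η => by
      by_cases hη : η ∈ b
      · exact hω η hη
      · have h1 : fN = conv fN (Cfsg.blockCoeff b) := funext fun n => by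
          rw [show Cfsg.blockCoeff b = fun m : N => eb (m : G) from
            funext fun m => (BrauerPairs.sbc_apply b m).symm, hfN,
            ← BrauerPairs.conv_of_supported hf0', hfe]
        rw [h1, omega_conv η.2 hfc (isClassFunction_blockCoeff b), omega_blockCoeff, if_neg hη,
          mul_zero]
        exact memLocalIdeal_zero hM
    have hR : ∀ j y, Cfsg.MemLocalRing M (BlockChar.cpow f (j + 1) y) := by
      intro j
      induction j with
      | zero => intro y; rw [BlockChar.cpow_one]; exact hfR y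
      | succ j ih => intro y; rw [BlockChar.cpow_succ]; exact memLocalRing_conv hM hfR ih y
    have hj : ∀ j, redFun hM f ^ (j + 1) = redFun hM (BlockChar.cpow f (j + 1)) ∧
        (∀ y, y ∉ N → BlockChar.cpow f (j + 1) y = 0) ∧
        ∀ n : N, BlockChar.cpow f (j + 1) (n : G) = BlockChar.cpow fN (j + 1) n := by
      intro j
      induction j with
      | zero =>
        refine ⟨by rw [pow_one, BlockChar.cpow_one], ?_, fun n => ?_⟩
        · rw [BlockChar.cpow_one]; exact hf0'
        · rw [BlockChar.cpow_one, BlockChar.cpow_one]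
      | succ j ih =>
        refine ⟨?_, fun y hy => ?_, fun n => ?_⟩
        · rw [pow_succ', ih.1, redFun_mul hM hfR (hR j), ← BlockChar.cpow_succ]
        · rw [BlockChar.cpow_succ]
          exact BrauerPairs.conv_eq_zero_of_notMem hf0' ih.2.1 hy
        · rw [BlockChar.cpow_succ f (j + 1), BlockChar.cpow_succ fN (j + 1),
            BrauerPairs.conv_of_supported hf0']
          simp only [ih.2.2, hfN]
    refine ⟨k + 1, ?_⟩
    rw [(hj k).1, redFun_eq_zero hM (hR k)]
    intro y
    by_cases hy : y ∈ N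
    · rw [(hj k).2.2 ⟨y, hy⟩]; exact hk _
    · rw [(hj k).2.1 y hy]; exact memLocalIdeal_zero hM
  let H : G ⧸ N → S → Prop := fun q x => ∃ f : G → ℂ, (∀ y, Cfsg.MemLocalRing M (f y)) ∧
    (∀ y : G, (y : G ⧸ N) ≠ q → f y = 0) ∧ NInv N f ∧ conv f eb = f ∧
      (x : ModAlg G M) = redFun hM f
  let J : Ideal S := Ideal.span {z : S | (∀ a, Commute z a) ∧ IsNilpotent z}
  have hmemJ : ∀ {f : G → ℂ} (x : S), (x : ModAlg G M) = redFun hM f →
      (∀ y, Cfsg.MemLocalRing M (f y)) → (∀ y : G, (y : G ⧸ N) ≠ 1 → f y = 0) → NInv N f →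
      conv f eb = f →
      (∀ η ∈ b, Cfsg.MemLocalIdeal M (omega ((η : Cfsg.IrrCharacter N) : N → ℂ)
        fun n : N => f (n : G))) → x ∈ J := by
    intro f x hx h1 h2 h3 h4 h5
    refine Ideal.subset_span ⟨fun a => Subtype.ext ?_, ?_⟩
    · show (x : ModAlg G M) * a = a * x
      rw [hx]
      exact (hcen h2 a a.2).eq
    · obtain ⟨k, hk⟩ := hnil h1 h2 h3 h4 h5
      exact ⟨k, Subtype.ext (by rw [SubmonoidClass.coe_pow, hx, hk]; rfl)⟩
  have hmul : ∀ g h x y, H g x → H h y → H (g * h) (x * y) := by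
    rintro g h x y ⟨f, hfR, hfs, hfi, hfe, hx⟩ ⟨k, hkR, hks, hki, hke, hy⟩
    refine ⟨conv f k, memLocalRing_conv hM hfR hkR, fun z hz => conv_support hfs hks hz,
      hfi.conv hki, ?_, ?_⟩
    · rw [conv_assoc, hke]
    · rw [Subring.coe_mul, hx, hy, redFun_mul hM hfR hkR]
  -- the components of the idempotent
  let F : G ⧸ N → G → ℂ := fun q y => if (y : G ⧸ N) = q then E y else 0
  have hFR : ∀ q y, Cfsg.MemLocalRing M (F q y) := fun q y => by
    simp only [F]; split
    exacts [hER y, (localRing hM).zero_mem]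
  have hFs : ∀ q (y : G), (y : G ⧸ N) ≠ q → F q y = 0 := fun q y h => if_neg h
  have hFi : ∀ q, NInv N (F q) := fun q n hn y => by
    have e : ((n * y * n⁻¹ : G) : G ⧸ N) = (y : G ⧸ N) := by
      simp [QuotientGroup.eq_one_iff n |>.2 hn]
    simp only [F, e, hEc y n]
  have hFe : ∀ q, conv (F q) eb = F q := fun q => by
    funext y
    by_cases hy : (y : G ⧸ N) = q
    · simp only [F, if_pos hy]
      conv_rhs => rw [hE, ← conv_blockCoeff_sbc hM hb hinv hB hcov]
      refine Finset.sum_congr rfl fun a _ => ?_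
      dsimp only
      by_cases ha : (a : G ⧸ N) = q
      · rw [if_pos ha]
      · rw [heb, BrauerPairs.sbc_of_notMem b (g := a⁻¹ * y) fun h => ha ?_, mul_zero, mul_zero]
        rw [← hy, QuotientGroup.eq]
        exact h
    · rw [hFs q y hy]
      exact conv_support (hFs q) (r := 1) (fun z hz => BrauerPairs.sbc_of_notMem b fun h =>
        hz ((QuotientGroup.eq_one_iff z).2 h)) (by simpa using hy)
  have hEi : NInv N E := fun n _ y => hEc y n
  let e : S := ⟨redFun hM E, hmemS hEi⟩
  have hid : e * e = e := Subtype.ext (by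
    show redFun hM E * redFun hM E = redFun hM E
    rw [redFun_mul hM hER hER, hE, blockCoeff_conv])
  have hec : ∀ a : S, Commute e a := by
    intro a
    refine Subtype.ext ?_
    show redFun hM E * (a : ModAlg G M) = a * redFun hM E
    apply MonoidAlgebra.ext
    ext z
    rw [MonoidAlgebra.coeff_mul_apply_left, MonoidAlgebra.coeff_mul_apply_right]
    rw [Finsupp.sum_fintype _ _ (by simp), Finsupp.sum_fintype _ _ (by simp)]
    refine Fintype.sum_equiv (MulAut.conj z⁻¹).toEquiv _ _ fun y => ?_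
    simp only [MulEquiv.toEquiv_eq_coe, MulEquiv.coe_toEquiv, MulAut.conj_apply, coeff_redFun]
    rw [hEc y z⁻¹, mul_comm, show z * (z⁻¹ * y * z⁻¹⁻¹)⁻¹ = y⁻¹ * z by group]
  let c₀ : G ⧸ N → S := fun q => ⟨redFun hM (F q), hmemS (hFi q)⟩
  have hsum : ∑ q, c₀ q = e := by
    refine Subtype.ext ?_
    rw [AddSubmonoidClass.coe_finsetSum]
    show ∑ q, redFun hM (F q) = redFun hM E
    simp only [redFun]
    rw [Finset.sum_comm]
    refine Finset.sum_congr rfl fun y _ => ?_
    rw [Finset.sum_eq_single (y : G ⧸ N)]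
    · simp [F]
    · intro q _ hq
      rw [hFs q y (Ne.symm hq), show resFun hM (0 : ℂ) = 0 from
        (resFun_eq_zero_iff hM (localRing hM).zero_mem).2 (memLocalIdeal_zero hM)]
      simp
    · simp
  have hJ : ∀ g y, g ≠ 1 → H g⁻¹ y → c₀ g * y ∈ J := by
    rintro g y hg ⟨k, hkR, hks, hki, hke, hy⟩
    set f := F g with hf
    have hfR := hFR g
    have hfs := hFs g
    have hfi : NInv N f := hFi g
    have hfe := hFe g
    have hx : ((c₀ g : S) : ModAlg G M) = redFun hM f := rfl
    have hs : ∀ z : G, (z : G ⧸ N) ≠ 1 → conv f k z = 0 := fun z hz =>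
      conv_support hfs hks (by simpa using hz)
    refine hmemJ _ (by rw [Subring.coe_mul, hx, hy, redFun_mul hM hfR hkR])
      (memLocalRing_conv hM hfR hkR) hs (hfi.conv hki) (by rw [conv_assoc, hke]) fun η hη => ?_
    have : Finite (ConjClasses N) := Quotient.finite _
    have := Fintype.ofFinite (ConjClasses N)
    rw [omega_eq_sum_classes (Char.isClassFunction_of_isIrr η.2) fun a j => hfi.conv hki j j.2 a]
    refine memLocalIdeal_sum hM _ fun C _ => ?_
    by_cases hu : Cfsg.MemLocalIdeal M (Cfsg.centralChar (η : N → ℂ) C.out)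
    · exact memLocalIdeal_mul_left hM (memLocalRing_conv hM hfR hkR _) hu
    refine memLocalIdeal_mul_right hM ?_ (memLocalRing_centralChar hM η.2 _)
    obtain ⟨d, hd, hdQ⟩ := DefectThms.isDefectGroup_iff.1 hQ
    obtain ⟨c, T, hT, hcT⟩ := DefectThms.exists_le_isSylC_of_unit hM hb hd hdQ hη hu
    set P : Subgroup G := (Q.map (MulAut.conj c).toMonoidHom).map N.subtype with hP
    have hPp : IsPGroup p P := ((hdQ.2.1.map _).map _)
    letI : MulAction P G := MulAction.compHom G ((MulAut.conj : G →* MulAut G).comp P.subtype)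
    have hs' : ∀ (w : P) (a : G), w • a = (w : G) * a * (w : G)⁻¹ := fun _ _ => rfl
    have hPN : P ≤ N := Subgroup.map_subtype_le _
    set z : G := ((C.out : N) : G) with hz
    have hzP : ∀ w : P, (w : G) * z * (w : G)⁻¹ = z := by
      rintro ⟨w, hw⟩
      obtain ⟨t, ht, rfl⟩ := Subgroup.mem_map.1 hw
      have := Subgroup.mem_centralizer_singleton_iff.1 (hT.1 (hcT ht))
      rw [hz, mul_inv_eq_iff_eq_mul]
      exact congrArg Subtype.val this
    have key := memLocalIdeal_sum_sub_fixed hM hPp (fun a => f a * k (a⁻¹ * z))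
      (fun a => (localRing hM).mul_mem (hfR a) (hkR _)) fun w a => by
        simp only [hs']
        rw [hfi _ (hPN w.2) a, ← hki _ (hPN w.2) (a⁻¹ * z)]
        congr 2
        conv_lhs => rw [← hzP w]
        group
    refine (Eq.mp (congrArg _ (sub_add_cancel _ _)) (memLocalIdeal_add hM key
      (memLocalIdeal_sum hM _ fun a ha => ?_)))
    refine memLocalIdeal_mul_right hM ?_ (hkR _)
    simp only [hf, F]
    split_ifs
    · refine Classical.not_not.1 fun hE' => ?_
      obtain ⟨q, hq, hne'⟩ := hne a c hE'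
      refine hne' ?_
      have h1 := (Finset.mem_filter.1 ha).2
        ⟨_, Subgroup.mem_map.2 ⟨_, Subgroup.mem_map.2 ⟨q, hq, rfl⟩, rfl⟩⟩
      rw [hs'] at h1
      exact mul_inv_eq_iff_eq_mul.1 h1
    · exact memLocalIdeal_zero hM
  have h1 : c₀ 1 ∈ J := hmemJ _ rfl (hFR 1) (hFs 1) (hFi 1) (hFe 1) fun η hη => by
    have hres : (fun n : N => F 1 (n : G)) = fun n : N => E (n : G) := funext fun n =>
      if_pos ((QuotientGroup.eq_one_iff (n : G)).2 n.2)
    rw [hres]
    have : Finite (ConjClasses N) := Quotient.finite _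
    have := Fintype.ofFinite (ConjClasses N)
    rw [omega_eq_sum_classes (Char.isClassFunction_of_isIrr η.2) (isClassFunction_res N hEc)]
    refine memLocalIdeal_sum hM _ fun C _ => ?_
    by_cases hu : Cfsg.MemLocalIdeal M (Cfsg.centralChar (η : N → ℂ) C.out)
    · exact memLocalIdeal_mul_left hM (hER _) hu
    refine memLocalIdeal_mul_right hM (Classical.not_not.1 fun hE' => ?_)
      (memLocalRing_centralChar hM η.2 _)
    obtain ⟨d, hd, hdQ⟩ := DefectThms.isDefectGroup_iff.1 hQ
    obtain ⟨c, T, hT, hcT⟩ := DefectThms.exists_le_isSylC_of_unit hM hb hd hdQ hη hu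
    obtain ⟨q, hq, hne'⟩ := hne _ c hE'
    exact hne' (congrArg Subtype.val (Subgroup.mem_centralizer_singleton_iff.1
      (hT.1 (hcT (Subgroup.mem_map.2 ⟨q, hq, rfl⟩)))))
  have hmem := mem_of_graded H hmul hid hec c₀ hJ hsum
    (fun q _ => ⟨F q, hFR q, hFs q, hFi q, hFe q, rfl⟩) h1
  have he0 := congrArg Subtype.val (eq_zero_of_mem_span_nilpotent hid hec hmem)
  have hE0 := (redFun_eq_zero hM hER).1 he0
  obtain ⟨χ, hχ⟩ := IsPBlock.nonempty hM hB
  have : Finite (ConjClasses G) := Quotient.finite _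
  have := Fintype.ofFinite (ConjClasses G)
  refine not_memLocalIdeal_one hM ?_
  have h := omega_blockCoeff B χ
  rw [if_pos hχ, ← hE, omega_eq_sum_classes (Char.isClassFunction_of_isIrr χ.2) hEc] at h
  rw [← h]
  exact memLocalIdeal_sum hM _ fun C _ =>
    memLocalIdeal_mul_right hM (hE0 _) (memLocalRing_centralChar hM χ.2 _)

/-- A defect group of a covering block contains `Q`. -/
theorem exists_defectGroup_ge {B : Set (Cfsg.IrrCharacter G)} (hB : Cfsg.IsPBlock M B)
    (hcov : ∃ χ ∈ B, ∃ θ ∈ b, Cfsg.classInner (fun n : N => (χ : G → ℂ) n) (θ : N → ℂ) ≠ 0) :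
    ∃ D : Subgroup G, Cfsg.IsDefectGroup p M B D ∧ Q.map N.subtype ≤ D := by
  classical
  obtain ⟨a, k, hae, hak⟩ := exists_unit_coeff_centralizing hM hb hinv hQ hB hcov
  obtain ⟨d, hd, hdQ⟩ := DefectThms.isDefectGroup_iff.1 hQ
  set D' := (Q.map (MulAut.conj k).toMonoidHom).map N.subtype with hD'
  have hD'le : D' ≤ Subgroup.centralizer ({a} : Set G) := by
    rintro _ ⟨_, ⟨t, ht, rfl⟩, rfl⟩
    rw [Subgroup.mem_centralizer_singleton_iff]
    exact hak t ht
  obtain ⟨T, hT, hD'T⟩ :=
    DefectThms.exists_le_isSylC ((hdQ.2.1.map _).map _ : IsPGroup p D') hD'le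
  obtain ⟨E, hE⟩ := DefectThms.exists_defectGroup hM hB
  obtain ⟨gE, hgE, hgEE⟩ := DefectThms.isDefectGroup_iff.1 hE
  obtain ⟨c, hc⟩ := DefectThms.exists_conj_le_of_unit_coeff hM hB hgE hgEE hae hT
  refine ⟨E.map (MulAut.conj (c * (k : G))⁻¹).toMonoidHom, DefectThms.isDefectGroup_conj hE _, ?_⟩
  intro y hy
  obtain ⟨t, ht, rfl⟩ := Subgroup.mem_map.1 hy
  refine ⟨c * ((k : G) * (t : G) * (k : G)⁻¹) * c⁻¹, hc ⟨_, hD'T ⟨_, ⟨t, ht, rfl⟩, rfl⟩, rfl⟩, ?_⟩
  simp only [MulEquiv.coe_toMonoidHom, MulAut.conj_apply, Subgroup.coe_subtype]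
  group

variable (hC : Subgroup.centralizer ((Q.map N.subtype : Subgroup G) : Set G) ≤ N)
include hC

/-- `b` induces each block covering it. -/
theorem isInducedBlock_of_covering {B : Set (Cfsg.IrrCharacter G)} (hB : Cfsg.IsPBlock M B)
    (hcov : ∃ χ ∈ B, ∃ θ ∈ b, Cfsg.classInner (fun n : N => (χ : G → ℂ) n) (θ : N → ℂ) ≠ 0) :
    Cfsg.IsInducedBlock M N b B := by
  classical
  refine ⟨hb, hB, fun ξ hξ χ hχ g => ?_⟩
  by_cases hg : g ∈ N
  · simpa using memLocalIdeal_neg ((BlockThms.covering_iff hM hB hb).1 hcov χ hχ ξ hξ ⟨g, hg⟩)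
  · have h0 : Cfsg.inducedCentralChar N (ξ : N → ℂ) g = 0 := by
      rw [← BlockThms.omega_classInd_res, omega, Finset.sum_eq_zero, zero_div]
      intro x _
      rw [classInd_apply, if_neg, zero_mul]
      intro hc'
      obtain ⟨t, ht⟩ := isConj_iff.1 hc'.symm
      exact hg (ht ▸ hN.conj_mem _ x.2 t)
    rw [h0, zero_sub]
    refine memLocalIdeal_neg ?_
    by_contra hu
    obtain ⟨D, hD, hQD⟩ := exists_defectGroup_ge hM hb hinv hQ hB hcov
    obtain ⟨d, hd, hdD⟩ := DefectThms.isDefectGroup_iff.1 hD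
    obtain ⟨k, S, hS, hkS⟩ := DefectThms.exists_le_isSylC_of_unit hM hB hd hdD hχ hu
    apply hg
    have hconj : k⁻¹ * g * k ∈ N := by
      refine hC (Subgroup.mem_centralizer_iff.2 fun y hy => ?_)
      have h1 := Subgroup.mem_centralizer_singleton_iff.1
        (hS.1 (hkS (Subgroup.mem_map.2 ⟨y, hQD hy, rfl⟩)))
      simp only [MulEquiv.coe_toMonoidHom, MulAut.conj_apply] at h1
      calc y * (k⁻¹ * g * k) = k⁻¹ * ((k * y * k⁻¹) * g) * k := by group
        _ = k⁻¹ * (g * (k * y * k⁻¹)) * k := by rw [h1]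
        _ = k⁻¹ * g * k * y := by group
    simpa [mul_assoc] using hN.conj_mem _ hconj k

/-- There is only one covering block. -/
theorem eq_of_covering {B₁ B₂ : Set (Cfsg.IrrCharacter G)} (h₁ : Cfsg.IsPBlock M B₁)
    (h₂ : Cfsg.IsPBlock M B₂)
    (c₁ : ∃ χ ∈ B₁, ∃ θ ∈ b, Cfsg.classInner (fun n : N => (χ : G → ℂ) n) (θ : N → ℂ) ≠ 0)
    (c₂ : ∃ χ ∈ B₂, ∃ θ ∈ b, Cfsg.classInner (fun n : N => (χ : G → ℂ) n) (θ : N → ℂ) ≠ 0) :
    B₁ = B₂ :=
  induced_unique hM (isInducedBlock_of_covering hM hb hinv hQ hC h₁ c₁)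
    (isInducedBlock_of_covering hM hb hinv hQ hC h₂ c₂)

end Cfsg.Agent.Blocks
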