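import Cfsg.Agent.Blocks.Modular
import Mathlib.LinearAlgebra.Matrix.Charpoly.Eigs
import Mathlib.LinearAlgebra.Matrix.Block
import Mathlib.FieldTheory.IsAlgClosed.Spectrum
import Mathlib.Analysis.Complex.Polynomial.Basic

/-!
# Traces of periodic matrices over the local ring

A matrix `A` over the local ring with `A ^ (m + 1) = A`, `p ∤ m`, has as eigenvalues `0` and
`m`-th roots of unity, which are distinct modulo `M`; so its trace is determined by the
characteristic polynomial of its reduction modulo `M`.
-/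

namespace Cfsg.Agent.Blocks

open Polynomial

variable {p : ℕ} {M : Ideal Cfsg.AlgInt}

open scoped Classical in
/-- The sum of the lifts of the roots of `P` that are `m`-th roots of unity. -/
noncomputable def liftRoots (hM : Cfsg.IsPModular p M) (m : ℕ)
    (P : Polynomial (Cfsg.AlgInt ⧸ M)) : ℂ :=
  ∑ z ∈ Polynomial.nthRootsFinset m (1 : ℂ), z * (P.rootMultiplicity (resFun hM z) : ℂ)

theorem liftRoots_one (hM : Cfsg.IsPModular p M) (m : ℕ) : liftRoots hM m 1 = 0 := by
  have := isPrime hM
  refine Finset.sum_eq_zero fun z _ => ?_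
  rw [rootMultiplicity_eq_zero (by simp [IsRoot])]
  simp

theorem liftRoots_mul (hM : Cfsg.IsPModular p M) (m : ℕ) {P Q : Polynomial (Cfsg.AlgInt ⧸ M)}
    (hP : P.Monic) (hQ : Q.Monic) :
    liftRoots hM m (P * Q) = liftRoots hM m P + liftRoots hM m Q := by
  have := isPrime hM
  simp only [liftRoots, ← Finset.sum_add_distrib, ← mul_add]
  refine Finset.sum_congr rfl fun z _ => ?_
  rw [rootMultiplicity_mul (mul_ne_zero hP.ne_zero hQ.ne_zero)]
  push_cast; rfl

theorem liftRoots_prod (hM : Cfsg.IsPModular p M) (m : ℕ) {ι : Type*} (s : Finset ι)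
    {P : ι → Polynomial (Cfsg.AlgInt ⧸ M)} (hP : ∀ i ∈ s, (P i).Monic) :
    liftRoots hM m (∏ i ∈ s, P i) = ∑ i ∈ s, liftRoots hM m (P i) := by
  classical
  induction s using Finset.induction_on with
  | empty => simp [liftRoots_one]
  | insert i s hi ih =>
    rw [Finset.prod_insert hi, Finset.sum_insert hi,
      liftRoots_mul hM m (hP i (Finset.mem_insert_self i s))
        (monic_prod_of_monic _ _ fun j hj => hP j (Finset.mem_insert_of_mem hj)),
      ih fun j hj => hP j (Finset.mem_insert_of_mem hj)]

/-- the reduction modulo `M` of a complex matrix -/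
noncomputable def redMatrix (hM : Cfsg.IsPModular p M) {n : Type*} (A : Matrix n n ℂ) :
    Matrix n n (Cfsg.AlgInt ⧸ M) :=
  A.map (resFun hM)

theorem eigen_of_pow_succ_eq {n : Type*} [Fintype n] [DecidableEq n] {A : Matrix n n ℂ} {m : ℕ}
    (hA : A ^ (m + 1) = A) {r : ℂ} (hr : r ∈ A.charpoly.roots) : r = 0 ∨ r ^ m = 1 := by
  rcases isEmpty_or_nonempty n with hn | hn
  · simp at hr
  have h1 : r ∈ spectrum ℂ A :=
    Matrix.mem_spectrum_iff_isRoot_charpoly.2 (isRoot_of_mem_roots hr)
  have h2 := spectrum.subset_polynomial_aeval A (X ^ (m + 1) - X : ℂ[X]) ⟨r, h1, rfl⟩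
  simp only [map_sub, map_pow, aeval_X, hA, sub_self, spectrum.zero_eq, eval_sub, eval_pow, eval_X,
    Set.mem_singleton_iff] at h2
  rcases eq_or_ne r 0 with h | h
  · exact Or.inl h
  · right
    rw [sub_eq_zero, pow_succ] at h2
    exact (mul_eq_right₀ h).1 h2

theorem trace_eq_liftRoots (hM : Cfsg.IsPModular p M) {n : Type*} [Fintype n] [DecidableEq n] {A : Matrix n n ℂ}
    {m : ℕ} (hm : ¬ p ∣ m) (hA : A ^ (m + 1) = A) (hR : ∀ i j, Cfsg.MemLocalRing M (A i j)) :
    A.trace = liftRoots hM m (redMatrix hM A).charpoly := by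
  classical
  have := isPrime hM
  have hm0 : 0 < m := Nat.pos_of_ne_zero fun e => hm (e ▸ dvd_zero p)
  have hz : ∀ {r : ℂ}, r ^ m = 1 → r ≠ 0 := fun h e => by simp [e, hm0.ne'] at h
  set S := A.charpoly.roots with hSdef
  have hS : ∀ r ∈ S, r = 0 ∨ r ^ m = 1 := fun r hr => eigen_of_pow_succ_eq hA hr
  have hSR : ∀ r ∈ S, Cfsg.MemLocalRing M r := fun r hr => by
    rcases hS r hr with h | h
    · rw [h]; exact (localRing hM).zero_mem
    · exact memLocalRing_of_isIntegral hM (isIntegral_of_pow_eq_one hm0 h)
  have hprod : A.charpoly = (S.map fun r => X - C r).prod :=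
    (IsAlgClosed.splits A.charpoly).eq_prod_roots_of_monic A.charpoly_monic
  -- the same over the local ring
  let A' : Matrix n n (localRing hM) := Matrix.of fun i j => ⟨A i j, hR i j⟩
  let S' : Multiset (localRing hM) := S.attach.map fun r => ⟨r.1, hSR r.1 r.2⟩
  have hS' : S'.map (localRing hM).subtype = S := by simp [S']
  have hA' : A'.map (localRing hM).subtype = A := by ext; rfl
  have h1 : A'.charpoly = (S'.map fun r => X - C r).prod := by
    apply Polynomial.map_injective (localRing hM).subtype Subtype.coe_injective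
    rw [← Matrix.charpoly_map, hA', Polynomial.map_multiset_prod, hprod, Multiset.map_map,
      ← hS', Multiset.map_map]
    simp [Function.comp_def]
  have h2 : (redMatrix hM A).charpoly = (S.map fun r => X - C (resFun hM r)).prod := by
    have e : redMatrix hM A = A'.map (residue hM) := by ext; rfl
    rw [e, Matrix.charpoly_map, h1, Polynomial.map_multiset_prod, Multiset.map_map, ← hS',
      Multiset.map_map]
    simp [Function.comp_def, residue_apply, S', ← Multiset.attach_map_val' S fun r => X - C (resFun hM r)]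
  have h3 : ∀ z, z ^ m = 1 →
      (redMatrix hM A).charpoly.rootMultiplicity (resFun hM z) = S.count z := by
    intro z hz1
    rw [← count_roots, h2, show (S.map fun r => X - C (resFun hM r)) =
      (S.map (resFun hM)).map fun r => X - C r by rw [Multiset.map_map]; rfl,
      roots_multiset_prod_X_sub_C, Multiset.count_map, Multiset.count_eq_card_filter_eq]
    congr 1
    refine Multiset.filter_congr fun r hr => ⟨fun e => ?_, fun e => by rw [e]⟩
    let a : Cfsg.AlgInt := ⟨z, isIntegral_of_pow_eq_one hm0 hz1⟩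
    have ea : resFun hM z = Ideal.Quotient.mk M a := resFun_coe hM a
    rcases hS r hr with h | h
    · exfalso
      have h0 : resFun hM (0 : ℂ) = 0 := map_zero (residue hM)
      rw [h, h0, ea, Ideal.Quotient.eq_zero_iff_mem] at e
      have h1 : a ^ m ∈ M := M.pow_mem_of_mem e m hm0
      rw [show a ^ m = 1 from Subtype.ext (by simpa [a] using hz1)] at h1
      exact one_notMem hM h1
    · let b : Cfsg.AlgInt := ⟨r, isIntegral_of_pow_eq_one hm0 h⟩
      have eb : resFun hM r = Ideal.Quotient.mk M b := resFun_coe hM b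
      rw [ea, eb, Ideal.Quotient.eq] at e
      exact congrArg Subtype.val (eq_of_sub_mem_of_pow_eq_one hM hm (x := a) (y := b)
        (Subtype.ext (by simpa [a] using hz1)) (Subtype.ext (by simpa [b] using h)) e)
  rw [Matrix.trace_eq_sum_roots_charpoly, liftRoots]
  have h4 : ∀ z ∈ Polynomial.nthRootsFinset m (1 : ℂ),
      z * ((redMatrix hM A).charpoly.rootMultiplicity (resFun hM z) : ℂ) = S.count z • z := by
    intro z hz'
    rw [h3 z ((mem_nthRootsFinset hm0 1).1 hz'), nsmul_eq_mul, mul_comm]
  rw [Finset.sum_congr rfl h4, Finset.sum_multiset_count, ← hSdef,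
    ← Finset.sum_subset (s₁ := S.toFinset.filter (· ≠ 0)) (s₂ := Polynomial.nthRootsFinset m (1 : ℂ))]
  · refine (Finset.sum_filter_of_ne (p := fun z : ℂ => z ≠ 0) fun z _ hne h0 => hne ?_).symm
    simp [h0]
  · intro z hz'
    rw [Finset.mem_filter, Multiset.mem_toFinset] at hz'
    exact (mem_nthRootsFinset hm0 1).2 ((hS z hz'.1).resolve_left hz'.2)
  · intro z hz' hz''
    rw [Finset.mem_filter, Multiset.mem_toFinset, not_and_or] at hz''
    rcases hz'' with h | h
    · simp [Multiset.count_eq_zero.2 h]
    · simp [not_not.1 h]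

end Cfsg.Agent.Blocks
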