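import Mathlib
import Cfsg.Agent.Blocks.PrimeCoreBlock
import Cfsg.Agent.BlockThms.Normal

/-!
# The principal block of a p-constrained group

It consists of the irreducible characters with `O_{p'}` in the kernel.
-/

set_option autoImplicit false

namespace Cfsg.Agent.Blocks

open Cfsg.Agent

universe u

variable {G : Type u} [Group G] [Finite G] {p : ℕ} [Fact p.Prime] {M : Ideal Cfsg.AlgInt}

/-- The principal block of a p-constrained group. -/
theorem mem_principalBlock_iff_of_pConstrained (hM : Cfsg.IsPModular p M)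
    (hcon : Cfsg.IsPConstrained p G) (χ : Cfsg.IrrCharacter G) :
    χ ∈ Cfsg.principalBlock M G ↔
      ∀ n ∈ Cfsg.pPrimeCore p G, (χ : G → ℂ) n = (χ : G → ℂ) 1 := by
  classical
  have := Fintype.ofFinite G
  set K := Cfsg.pPrimeCore p G with hK
  have := Fintype.ofFinite K
  obtain ⟨B, hB, hiff, -⟩ := exists_invariant_block_of_pConstrained hM hcon hK (triv K)
    fun g => funext fun n => by rw [Char.conjFun_apply]; rfl
  have hiff' : ∀ ψ : Cfsg.IrrCharacter G,
      ψ ∈ B ↔ ∀ n ∈ K, (ψ : G → ℂ) n = (ψ : G → ℂ) 1 := fun ψ =>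
    (hiff ψ).trans (BlockThms.triv_constituent_iff ψ.2)
  have htriv : triv G ∈ B := (hiff' _).2 fun n _ => rfl
  rw [principalBlock_eq, ← IsPBlock.eq_blockOf hM hB htriv]
  exact hiff' χ

/-- The principal block of a p-solvable group. -/
theorem mem_principalBlock_iff_of_isPSolvable (hM : Cfsg.IsPModular p M)
    (hsol : Cfsg.IsPSolvable p G) (χ : Cfsg.IrrCharacter G) :
    χ ∈ Cfsg.principalBlock M G ↔
      ∀ n ∈ Cfsg.pPrimeCore p G, (χ : G → ℂ) n = (χ : G → ℂ) 1 :=
  mem_principalBlock_iff_of_pConstrained hM (Layer.isPConstrained_of_isPSolvable hsol) χ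

end Cfsg.Agent.Blocks
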