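import Cfsg.Agent.Blocks.SecondMain
import Cfsg.Agent.Blocks.Rank
import Cfsg.Agent.BlockThms.Eta
import Cfsg.Agent.BlockChar.RegInner

/-!
# The contributions of a subsection

Let `x` be a p-element with centraliser `H` and `b` a block of `H` inducing the block `B`.  The
matrix `contrib` of the subsection `(x, b)` is `p ^ d` times a projection of trace `l(b)`, its
entries are algebraic integers, and an entry is a unit exactly when both characters have height
zero in `B`.
-/

namespace Cfsg.Agent.Blocks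

open scoped ComplexConjugate
open Cfsg.Agent

universe u

variable {G : Type u} [Group G] [Fintype G] {p : ℕ} {M : Ideal Cfsg.AlgInt}

/-- The multiplicity of `η` in `c ↦ χ (x c)`. -/
noncomputable def shiftCoef (x : G) (H : Subgroup G) [Fintype H] (χ : Cfsg.IrrCharacter G)
    (η : Cfsg.IrrCharacter H) : ℂ :=
  Cfsg.classInner (fun c : H => (χ : G → ℂ) (x * (c : G))) (η : H → ℂ)

/-- The contribution of the subsection `(x, b)` to `(χ, φ)`, scaled by `p ^ d(b)`. -/
noncomputable def contrib (p : ℕ) (x : G) {H : Subgroup G} [Fintype H]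
    (b : Set (Cfsg.IrrCharacter H)) (χ φ : Cfsg.IrrCharacter G) : ℂ :=
  ∑ η ∈ (Set.toFinite b).toFinset, ∑ η' ∈ (Set.toFinite b).toFinset,
    shiftCoef x H χ η * conj (shiftCoef x H φ η') * BlockChar.regM p b η η'

variable {x : G} {H : Subgroup G} [Fintype H]

omit [Fintype G] in
theorem mem_center_of_centralizer (hH : ∀ a : G, a ∈ H ↔ x * a = a * x) (hxH : x ∈ H) :
    (⟨x, hxH⟩ : H) ∈ Subgroup.center H :=
  Subgroup.mem_center_iff.2 fun a => Subtype.ext ((hH _).1 a.2).symm

theorem exists_nat_mult (χ : Cfsg.IrrCharacter G) (η : Cfsg.IrrCharacter H) :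
    ∃ n : ℕ, Cfsg.classInner (fun c : H => (χ : G → ℂ) (c : G)) (η : H → ℂ) = (n : ℂ) :=
  Char.classInner_isCharacter_eq_natCast (Char.isCharacter_res H (Char.IsIrr.isCharacter χ.2))
    (Char.IsIrr.isCharacter η.2)

/-- The multiplicity of `η` in the restriction of `χ`. -/
noncomputable def resMult (χ : Cfsg.IrrCharacter G) (η : Cfsg.IrrCharacter H) : ℕ :=
  (exists_nat_mult χ η).choose

theorem resMult_spec (χ : Cfsg.IrrCharacter G) (η : Cfsg.IrrCharacter H) :
    Cfsg.classInner (fun c : H => (χ : G → ℂ) (c : G)) (η : H → ℂ) = (resMult χ η : ℂ) :=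
  (exists_nat_mult χ η).choose_spec

theorem res_eq_sum_resMult (χ : Cfsg.IrrCharacter G) (c : H) :
    (χ : G → ℂ) (c : G) = ∑ η : Cfsg.IrrCharacter H, (resMult χ η : ℂ) * (η : H → ℂ) c := by
  have h := congrFun (Char.classFun_expansion
    (isClassFunction_res H (Char.isClassFunction_of_isIrr χ.2))) c
  rw [h, Finset.sum_apply]
  exact Finset.sum_congr rfl fun η _ => by
    rw [Pi.smul_apply, smul_eq_mul, resMult_spec χ η]

variable (hH : ∀ a : G, a ∈ H ↔ x * a = a * x)
include hH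

omit [Fintype G] [Fintype H] in
theorem self_mem_centralizer : x ∈ H := (hH x).2 rfl

/-- The scalar by which `x` acts in `η`. -/
noncomputable def shiftScalar (η : Cfsg.IrrCharacter H) : ℂ :=
  Cfsg.centralChar (η : H → ℂ) ⟨x, self_mem_centralizer hH⟩

omit [Fintype G] in
theorem irr_shift (η : Cfsg.IrrCharacter H) (c : H) :
    (η : H → ℂ) (⟨x, self_mem_centralizer hH⟩ * c) = shiftScalar hH η * (η : H → ℂ) c :=
  irr_mul_central η.2 (mem_center_of_centralizer hH _) c

omit [Fintype G] in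
theorem irr_shift_pow (η : Cfsg.IrrCharacter H) (j : ℕ) (c : H) :
    (η : H → ℂ) (⟨x, self_mem_centralizer hH⟩ ^ j * c) =
      shiftScalar hH η ^ j * (η : H → ℂ) c := by
  induction j with
  | zero => simp
  | succ j ih => rw [pow_succ', mul_assoc, irr_shift hH, ih, pow_succ', mul_assoc]

omit [Fintype G] in
theorem shiftScalar_pow (η : Cfsg.IrrCharacter H) {q : ℕ} (hq : x ^ q = 1) :
    shiftScalar hH η ^ q = 1 := by
  have h := irr_shift_pow hH η q 1
  rw [show (⟨x, self_mem_centralizer hH⟩ : H) ^ q = 1 from Subtype.ext (by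
    rw [Subgroup.coe_pow]; exact hq), one_mul] at h
  exact mul_right_cancel₀ (Char.IsIrr.one_ne_zero η.2) (by rw [one_mul, ← h])

omit [Fintype G] in
theorem shiftScalar_of_pow (η : Cfsg.IrrCharacter H) {j : ℕ}
    (hH' : ∀ a : G, a ∈ H ↔ x ^ j * a = a * x ^ j) :
    shiftScalar hH' η = shiftScalar hH η ^ j := by
  have h := irr_shift hH' η 1
  have h' := irr_shift_pow hH η j 1
  have e : (⟨x, self_mem_centralizer hH⟩ : H) ^ j = ⟨x ^ j, self_mem_centralizer hH'⟩ :=
    Subtype.ext (Subgroup.coe_pow H _ j)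
  rw [e, h] at h'
  exact mul_right_cancel₀ (Char.IsIrr.one_ne_zero η.2) h'

omit [Fintype G] in
theorem shiftScalar_congr (hM : Cfsg.IsPModular p M) (η : Cfsg.IrrCharacter H)
    (hx : ∃ k, orderOf x = p ^ k) :
    IsIntegral ℤ (shiftScalar hH η) ∧ Cfsg.MemLocalIdeal M (shiftScalar hH η - 1) := by
  obtain ⟨k, hk⟩ := hx
  have h1 : shiftScalar hH η ^ p ^ k = 1 :=
    shiftScalar_pow hH η (hk ▸ pow_orderOf_eq_one x)
  have hi := isIntegral_of_pow_eq_one (pow_pos hM.1.pos k) h1
  refine ⟨hi, ?_⟩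
  have h2 := sub_one_mem_of_pow_prime_pow hM (z := ⟨shiftScalar hH η, hi⟩) (k := k)
    (Subtype.ext (by simpa using h1))
  exact (memLocalIdeal_coe_iff hM _).2 h2

theorem shiftCoef_eq (χ : Cfsg.IrrCharacter G) (η : Cfsg.IrrCharacter H) :
    shiftCoef x H χ η = shiftScalar hH η * (resMult χ η : ℂ) := by
  classical
  have e : (fun c : H => (χ : G → ℂ) (x * (c : G))) =
      ∑ η' : Cfsg.IrrCharacter H, ((resMult χ η' : ℂ) * shiftScalar hH η') • (η' : H → ℂ) := by
    funext c
    rw [Finset.sum_apply]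
    have h := res_eq_sum_resMult χ (⟨x, self_mem_centralizer hH⟩ * c)
    rw [Subgroup.coe_mul] at h
    rw [h]
    exact Finset.sum_congr rfl fun η' _ => by
      rw [irr_shift hH, Pi.smul_apply, smul_eq_mul, mul_assoc]
  rw [shiftCoef, e, Char.classInner_sum_left,
    Finset.sum_eq_single η (fun η' _ hne => by
      rw [Char.classInner_smul_left, Char.classInner_irrChar, if_neg hne, mul_zero])
      (fun h => absurd (Finset.mem_univ η) h),
    Char.classInner_smul_left, Char.classInner_irrChar, if_pos rfl, mul_one, mul_comm]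

variable {b : Set (Cfsg.IrrCharacter H)} {B : Set (Cfsg.IrrCharacter G)}

theorem isIntegral_contrib (hM : Cfsg.IsPModular p M) (hx : ∃ k, orderOf x = p ^ k)
    (χ φ : Cfsg.IrrCharacter G) : IsIntegral ℤ (contrib p x b χ φ) := by
  refine IsIntegral.sum _ fun η hη => IsIntegral.sum _ fun η' _ => ?_
  obtain ⟨k, hk⟩ := BlockChar.exists_int_regM hM ((Set.Finite.mem_toFinset _).1 hη) η'
  rw [shiftCoef_eq hH, shiftCoef_eq hH, hk, map_mul, Complex.conj_natCast]
  exact (((shiftScalar_congr hH hM η hx).1.mul (isIntegral_natCast _)).mul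
    (((shiftScalar_congr hH hM η' hx).1.map (starRingEnd ℂ).toIntAlgHom).mul
      (isIntegral_natCast _))).mul (isIntegral_intCast k)

theorem contrib_conj (hM : Cfsg.IsPModular p M) (χ φ : Cfsg.IrrCharacter G) :
    conj (contrib p x b χ φ) = contrib p x b φ χ := by
  simp only [contrib, map_sum]
  rw [Finset.sum_comm]
  refine Finset.sum_congr rfl fun η hη => Finset.sum_congr rfl fun η' hη' => ?_
  obtain ⟨k, hk⟩ := BlockChar.exists_int_regM hM ((Set.Finite.mem_toFinset _).1 hη') η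
  rw [BlockChar.regM_comm hM η' η, hk]
  simp only [map_mul, Complex.conj_conj, map_intCast]
  ring

/-- `contrib` is the regular inner product of the `b`-parts of the shifted characters. -/
theorem contrib_eq_sum_regular (χ φ : Cfsg.IrrCharacter G) :
    contrib p x b χ φ = ((p ^ Cfsg.blockDefect p b : ℕ) : ℂ) / (Nat.card H : ℂ) *
      ∑ c : H, if p ∣ orderOf c then 0 else
        Cfsg.blockPart b (fun a : H => (χ : G → ℂ) (x * (a : G))) c *
          conj (Cfsg.blockPart b (fun a : H => (φ : G → ℂ) (x * (a : G))) c) := by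
  classical
  set T := (Set.toFinite b).toFinset
  have hbp : ∀ (χ : Cfsg.IrrCharacter G) (c : H),
      Cfsg.blockPart b (fun a : H => (χ : G → ℂ) (x * (a : G))) c =
        ∑ η ∈ T, shiftCoef x H χ η * (η : H → ℂ) c := by
    intro χ c
    rw [Cfsg.blockPart, finsum_mem_eq_finite_toFinset_sum _ (Set.toFinite b)]
    refine Finset.sum_congr rfl fun η _ => ?_
    rw [shiftCoef]
    congr! 2
  simp only [contrib, BlockChar.regM, BlockChar.regSum, Finset.mul_sum]
  rw [Finset.sum_congr rfl (fun η _ => Finset.sum_comm), Finset.sum_comm]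
  refine Finset.sum_congr rfl fun c _ => ?_
  by_cases hc : p ∣ orderOf c
  · simp [Cfsg.IsPRegular, hc]
  · have hc' : Cfsg.IsPRegular p c := hc
    simp only [if_neg hc, if_pos hc', hbp, map_sum, map_mul]
    rw [Finset.sum_mul_sum]
    simp only [Finset.mul_sum]
    exact Finset.sum_congr rfl fun η _ => Finset.sum_congr rfl fun η' _ => by ring

variable (hM : Cfsg.IsPModular p M) (hx : ∃ k, orderOf x = p ^ k)
  (hind : Cfsg.IsInducedBlock M H b B)
include hM hx hind

omit hH hx in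
/-- Column sums of the `b`-parts over `B` give the kernel of `b`. -/
theorem sum_blockPart_mul (hH : ∀ a : G, a ∈ H ↔ x * a = a * x) (hx : ∃ k, orderOf x = p ^ k)
    {y y' : H} (hy : ¬ p ∣ orderOf y) (hy' : ¬ p ∣ orderOf y') :
    ∑ᶠ φ ∈ B, Cfsg.blockPart b (fun a : H => (φ : G → ℂ) (x * (a : G))) y *
        conj (Cfsg.blockPart b (fun a : H => (φ : G → ℂ) (x * (a : G))) y') =
      ∑ᶠ ψ ∈ b, (ψ : H → ℂ) y * conj ((ψ : H → ℂ) y') := by
  classical
  obtain ⟨hb, hB, hcong⟩ := hind
  obtain ⟨k, hk⟩ := hx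
  have hP : IsPGroup p (Subgroup.zpowers x) :=
    IsPGroup.of_card (n := k) (by rw [Nat.card_zpowers, hk])
  have hH' : ∀ c : G, c ∈ H ↔ ∀ u ∈ Subgroup.zpowers x, u * c = c * u := by
    intro c
    rw [hH]
    exact ⟨fun h u ⟨i, hi⟩ => hi ▸ ((show Commute x c from h).zpow_left i).eq,
      fun h => h x (Subgroup.mem_zpowers x)⟩
  set A := inducing M H B with hA
  have hsub : ∀ ψ ∈ b, ψ ∈ A := fun ψ hψ =>
    (mem_inducing_iff hM hP hH' hB hb hψ).2 ⟨hb, hB, hcong⟩
  set W : H → H → ℂ := fun s c => ∑ᶠ ψ ∈ b, (ψ : H → ℂ) s * conj ((ψ : H → ℂ) c) with hW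
  have hW0 : ∀ s c : H, ¬ p ∣ orderOf s → p ∣ orderOf c → W s c = 0 := fun s c hs hc =>
    weak_orthogonality hM hb hs hc
  have hn : (Nat.card H : ℂ) ≠ 0 := Nat.cast_ne_zero.2 Nat.card_pos.ne'
  have hker : ∀ c', ∑ c, W y c * ∑ᶠ ψ ∈ A, (ψ : H → ℂ) c * conj ((ψ : H → ℂ) c') =
      (Nat.card H : ℂ) * W y c' := by
    intro c'
    simp only [hW, finsum_mem_eq_finite_toFinset_sum _ (Set.toFinite b),
      finsum_mem_eq_finite_toFinset_sum _ (Set.toFinite A)]
    simp only [Finset.sum_mul_sum]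
    rw [Finset.sum_comm, Finset.mul_sum]
    refine Finset.sum_congr rfl fun ψ hψ => ?_
    rw [Finset.sum_comm, Finset.sum_eq_single_of_mem ψ
      ((Set.Finite.mem_toFinset _).2 (hsub ψ ((Set.Finite.mem_toFinset _).1 hψ))) fun φ _ hne => ?_]
    · rw [Finset.sum_congr rfl (g := fun c : H => ((ψ : H → ℂ) y * conj ((ψ : H → ℂ) c')) *
        (conj ((ψ : H → ℂ) c) * (ψ : H → ℂ) c)) (fun c _ => by ring), ← Finset.mul_sum,
        sum_conj_mul_eq, if_pos rfl]
      ring
    · rw [Finset.sum_congr rfl (g := fun c : H => ((ψ : H → ℂ) y * conj ((φ : H → ℂ) c')) *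
        (conj ((ψ : H → ℂ) c) * (φ : H → ℂ) c)) (fun c _ => by ring), ← Finset.mul_sum,
        sum_conj_mul_eq, if_neg hne, mul_zero]
  rw [finsum_mem_eq_finite_toFinset_sum _ B.toFinite]
  simp only [blockPart_eq_kernel, map_mul, map_inv₀, map_natCast, map_sum]
  have e : ∀ φ : Cfsg.IrrCharacter G,
      (Nat.card H : ℂ)⁻¹ * (∑ c : H, (φ : G → ℂ) (x * (c : G)) * W y c) *
        ((Nat.card H : ℂ)⁻¹ * ∑ c' : H, conj ((φ : G → ℂ) (x * (c' : G))) * conj (W y' c')) =
      (Nat.card H : ℂ)⁻¹ * (Nat.card H : ℂ)⁻¹ * ∑ c' : H, conj (W y' c') * ∑ c : H,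
        W y c * ((φ : G → ℂ) (x * (c : G)) * conj ((φ : G → ℂ) (x * (c' : G)))) := by
    intro φ
    rw [mul_mul_mul_comm, Finset.sum_mul_sum, Finset.sum_comm]
    simp only [Finset.mul_sum]
    exact Finset.sum_congr rfl fun c' _ => Finset.sum_congr rfl fun c _ => by ring
  have e2 : ∀ φ : Cfsg.IrrCharacter G,
      (Nat.card H : ℂ)⁻¹ * (∑ c : H, (φ : G → ℂ) (x * (c : G)) *
        ∑ᶠ ψ ∈ b, (ψ : H → ℂ) y * conj ((ψ : H → ℂ) c)) *
        ((Nat.card H : ℂ)⁻¹ * ∑ c' : H, conj ((φ : G → ℂ) (x * (c' : G))) *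
          conj (∑ᶠ ψ ∈ b, (ψ : H → ℂ) y' * conj ((ψ : H → ℂ) c'))) =
      (Nat.card H : ℂ)⁻¹ * (Nat.card H : ℂ)⁻¹ * ∑ c' : H, conj (W y' c') * ∑ c : H,
        W y c * ((φ : G → ℂ) (x * (c : G)) * conj ((φ : G → ℂ) (x * (c' : G)))) := e
  simp only [e2]
  rw [← Finset.mul_sum, Finset.sum_comm]
  have e4 : ∀ c' : H, ∑ φ ∈ B.toFinite.toFinset, conj (W y' c') * ∑ c : H,
      W y c * ((φ : G → ℂ) (x * (c : G)) * conj ((φ : G → ℂ) (x * (c' : G)))) =
      (Nat.card H : ℂ) * (W y c' * conj (W y' c')) := by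
    intro c'
    rw [← Finset.mul_sum, Finset.sum_comm]
    simp only [← Finset.mul_sum]
    by_cases hc' : p ∣ orderOf c'
    · simp [hW0 y' c' hy' hc']
    rw [← mul_assoc, ← hker c', mul_comm]
    congr 1
    refine Finset.sum_congr rfl fun c _ => ?_
    by_cases hc : p ∣ orderOf c
    · simp [hW0 y c hy hc]
    · rw [← section_identity hM ⟨k, hk⟩ hH hB hc hc',
        finsum_mem_eq_finite_toFinset_sum _ B.toFinite]
  simp only [e4, ← Finset.mul_sum]
  have e5 : ∑ c' : H, W y c' * conj (W y' c') = (Nat.card H : ℂ) * W y y' := by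
    simp only [hW, finsum_mem_eq_finite_toFinset_sum _ (Set.toFinite b), map_sum, map_mul,
      Complex.conj_conj, Finset.sum_mul_sum]
    rw [Finset.sum_comm, Finset.mul_sum]
    refine Finset.sum_congr rfl fun ψ hψ => ?_
    rw [Finset.sum_comm, Finset.sum_eq_single_of_mem ψ hψ fun φ _ hne => ?_]
    · rw [Finset.sum_congr rfl (g := fun c : H => ((ψ : H → ℂ) y * conj ((ψ : H → ℂ) y')) *
        (conj ((ψ : H → ℂ) c) * (ψ : H → ℂ) c)) (fun c _ => by ring), ← Finset.mul_sum,
        sum_conj_mul_eq, if_pos rfl]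
      ring
    · rw [Finset.sum_congr rfl (g := fun c : H => ((ψ : H → ℂ) y * conj ((φ : H → ℂ) y')) *
        (conj ((ψ : H → ℂ) c) * (φ : H → ℂ) c)) (fun c _ => by ring), ← Finset.mul_sum,
        sum_conj_mul_eq, if_neg hne, mul_zero]
  rw [e5]
  show _ = W y y'
  field_simp

/-- The trace of the contributions is `p ^ d l(b)`. -/
theorem sum_contrib_self :
    ∑ᶠ χ ∈ B, contrib p x b χ χ =
      ((p ^ Cfsg.blockDefect p b : ℕ) : ℂ) * (Cfsg.blockRank p b : ℂ) := by
  classical
  have hn : (Nat.card H : ℂ) ≠ 0 := Nat.cast_ne_zero.2 Nat.card_pos.ne'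
  have h := card_mul_blockRank hM hind.1
  rw [finsum_mem_eq_finite_toFinset_sum _ B.toFinite]
  simp only [contrib_eq_sum_regular hH]
  rw [← Finset.mul_sum, Finset.sum_comm]
  have e : ∀ c : H, (∑ φ ∈ B.toFinite.toFinset, if p ∣ orderOf c then (0 : ℂ) else
      Cfsg.blockPart b (fun a : H => (φ : G → ℂ) (x * (a : G))) c *
        conj (Cfsg.blockPart b (fun a : H => (φ : G → ℂ) (x * (a : G))) c)) =
      if p ∣ orderOf c then 0 else ∑ᶠ ψ ∈ b, (ψ : H → ℂ) c * conj ((ψ : H → ℂ) c) := by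
    intro c
    split_ifs with hc
    · simp
    · rw [← sum_blockPart_mul hM hind hH hx hc hc,
        finsum_mem_eq_finite_toFinset_sum _ B.toFinite]
  simp only [e]
  rw [← h]
  field_simp

/-- The contributions are `p ^ d` times a projection. -/
theorem sum_contrib_mul (χ ψ : Cfsg.IrrCharacter G) :
    ∑ᶠ φ ∈ B, contrib p x b χ φ * contrib p x b φ ψ =
      ((p ^ Cfsg.blockDefect p b : ℕ) : ℂ) * contrib p x b χ ψ := by
  classical
  have hb := hind.1
  have hn : (Nat.card H : ℂ) ≠ 0 := Nat.cast_ne_zero.2 Nat.card_pos.ne'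
  set R : Cfsg.IrrCharacter G → H → ℂ := fun φ c => if p ∣ orderOf c then 0 else
    Cfsg.blockPart b (fun a : H => (φ : G → ℂ) (x * (a : G))) c with hR
  set N : ℂ := ((p ^ Cfsg.blockDefect p b : ℕ) : ℂ)
  have hc : ∀ φ φ' : Cfsg.IrrCharacter G,
      contrib p x b φ φ' = N / (Nat.card H : ℂ) * ∑ c, R φ c * conj (R φ' c) := by
    intro φ φ'
    rw [contrib_eq_sum_regular hH]
    congr 1
    refine Finset.sum_congr rfl fun c _ => ?_
    simp only [hR]
    split_ifs <;> simp
  set W : H → H → ℂ := fun s c => ∑ᶠ η ∈ b, (η : H → ℂ) s * conj ((η : H → ℂ) c) with hW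
  -- the kernel reproduces the regular part of a block part
  have hrep : ∀ c', ¬ p ∣ orderOf c' → ∑ c, R χ c * W c' c = (Nat.card H : ℂ) * R χ c' := by
    intro c' hc'
    have e1 : ∑ c, R χ c * W c' c =
        ∑ c, Cfsg.blockPart b (fun a : H => (χ : G → ℂ) (x * (a : G))) c * W c' c := by
      refine Finset.sum_congr rfl fun c _ => ?_
      simp only [hR]
      split_ifs with h
      · rw [show W c' c = 0 from weak_orthogonality hM hb hc' h, mul_zero, mul_zero]
      · rfl
    rw [e1]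
    simp only [hR, if_neg hc', blockPart_eq_kernel]
    simp only [Finset.mul_sum, Finset.sum_mul]
    rw [Finset.sum_comm]
    refine Finset.sum_congr rfl fun z _ => ?_
    have e5 : ∑ c : H, W c z * W c' c = (Nat.card H : ℂ) * W c' z := by
      simp only [hW, finsum_mem_eq_finite_toFinset_sum _ (Set.toFinite b), Finset.sum_mul_sum]
      rw [Finset.sum_comm, Finset.mul_sum]
      refine Finset.sum_congr rfl fun η hη => ?_
      rw [Finset.sum_comm, Finset.sum_eq_single_of_mem η hη fun η' _ hne => ?_]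
      · rw [Finset.sum_congr rfl (g := fun c : H => ((η : H → ℂ) c' * conj ((η : H → ℂ) z)) *
          (conj ((η : H → ℂ) c) * (η : H → ℂ) c)) (fun c _ => by ring), ← Finset.mul_sum,
          sum_conj_mul_eq, if_pos rfl]
        ring
      · rw [Finset.sum_congr rfl (g := fun c : H => ((η' : H → ℂ) c' * conj ((η : H → ℂ) z)) *
          (conj ((η' : H → ℂ) c) * (η : H → ℂ) c)) (fun c _ => by ring), ← Finset.mul_sum,
          sum_conj_mul_eq, if_neg (Ne.symm hne), mul_zero]
    calc ∑ c : H, (Nat.card H : ℂ)⁻¹ * ((χ : G → ℂ) (x * (z : G)) * W c z) * W c' c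
        = (Nat.card H : ℂ)⁻¹ * (χ : G → ℂ) (x * (z : G)) * ∑ c : H, W c z * W c' c := by
          rw [Finset.mul_sum]; exact Finset.sum_congr rfl fun c _ => by ring
      _ = _ := by rw [e5]; field_simp; rfl
  rw [finsum_mem_eq_finite_toFinset_sum _ B.toFinite]
  simp only [hc]
  set S := B.toFinite.toFinset
  have hcol : ∀ c c' : H, R χ c * conj (R ψ c') * ∑ φ ∈ S, conj (R φ c) * R φ c' =
      R χ c * conj (R ψ c') * W c' c := by
    intro c c'
    by_cases h1 : p ∣ orderOf c
    · simp [hR, h1]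
    by_cases h2 : p ∣ orderOf c'
    · simp [hR, h2]
    congr 1
    simp only [hR, if_neg h1, if_neg h2]
    have h := sum_blockPart_mul hM hind hH hx h2 h1
    rw [finsum_mem_eq_finite_toFinset_sum _ B.toFinite] at h
    show _ = ∑ᶠ η ∈ b, _
    rw [← h]
    exact Finset.sum_congr rfl fun φ _ => mul_comm _ _
  calc ∑ φ ∈ S, N / (Nat.card H : ℂ) * (∑ c, R χ c * conj (R φ c)) *
        (N / (Nat.card H : ℂ) * ∑ c', R φ c' * conj (R ψ c'))
      = N / (Nat.card H : ℂ) * (N / (Nat.card H : ℂ)) * ∑ c', ∑ c,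
          R χ c * conj (R ψ c') * ∑ φ ∈ S, conj (R φ c) * R φ c' := by
        simp only [Finset.mul_sum, Finset.sum_mul]
        refine (Finset.sum_congr rfl fun φ _ => ?_).trans
          (Finset.sum_comm.trans (Finset.sum_congr rfl fun c' _ => Finset.sum_comm))
        exact Finset.sum_congr rfl fun c' _ => Finset.sum_congr rfl fun c _ => by ring
    _ = N / (Nat.card H : ℂ) * (N / (Nat.card H : ℂ)) * ∑ c',
          (Nat.card H : ℂ) * (R χ c' * conj (R ψ c')) := by
        congr 1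
        refine Finset.sum_congr rfl fun c' _ => ?_
        simp only [hcol]
        by_cases h2 : p ∣ orderOf c'
        · simp [hR, h2]
        · rw [← mul_assoc, ← hrep c' h2, Finset.sum_mul]
          exact Finset.sum_congr rfl fun c _ => by ring
    _ = _ := by
        rw [← Finset.mul_sum]
        field_simp

omit hx in
/-- The weighted multiplicity of `χ` in `b` is a unit exactly when `χ` has height zero. -/
theorem resMult_redDeg_unit_iff {χ : Cfsg.IrrCharacter G} (hχ : χ ∈ B) :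
    Cfsg.MemLocalIdeal M (∑ η ∈ (Set.toFinite b).toFinset,
      ((resMult χ η * BlockChar.redDeg p b η : ℕ) : ℂ)) ↔
      Cfsg.blockHeight p B (χ : G → ℂ) ≠ 0 := by
  classical
  obtain ⟨hb, hB, hcong⟩ := hind
  obtain ⟨η₀, hη₀, hh₀⟩ := BlockThms.exists_height_zero hM hb
  obtain ⟨χ₀, hχ₀, hhχ₀⟩ := BlockThms.exists_height_zero hM hB
  set T := (Set.toFinite b).toFinset
  set m := Nat.card H / p ^ (Nat.card H).factorization p with hm
  have hmu : ¬ p ∣ m := Nat.not_dvd_ordCompl hM.1 Nat.card_pos.ne'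
  have hW00 := BlockChar.not_memLocalIdeal_omega_regConj hM hb hη₀ hη₀ hh₀
  set W := fun η : Cfsg.IrrCharacter H => omega (η : H → ℂ) (BlockChar.regConj p (η₀ : H → ℂ))
  obtain ⟨hr₀, -, hr₀pos⟩ := BlockChar.redDeg_mul (B := b) hM.1 hη₀
  have hr₀u : ¬ p ∣ BlockChar.redDeg p b η₀ := (BlockChar.not_dvd_redDeg_iff hM.1 hη₀).2 hh₀
  set r₀ := BlockChar.redDeg p b η₀
  set Ω := omega (η₀ : H → ℂ) (BlockThms.eta p fun a : H => (χ : G → ℂ) (a : G)) with hΩ
  -- the exact identity
  have key : ∑ η ∈ T, ((resMult χ η * BlockChar.redDeg p b η : ℕ) : ℂ) * W η = (r₀ : ℂ) * Ω := by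
    have e1 : ∀ η ∈ T, ((resMult χ η * BlockChar.redDeg p b η : ℕ) : ℂ) * W η =
        (resMult χ η : ℂ) * ((m : ℂ) * BlockChar.regM p b η η₀) := by
      intro η hη
      rw [BlockChar.regM_eq hM.1 ((Set.Finite.mem_toFinset _).1 hη) η₀]
      push_cast
      ring
    rw [Finset.sum_congr rfl e1]
    have e2 : ∀ η ∈ Finset.univ, η ∉ T →
        (resMult χ η : ℂ) * ((m : ℂ) * BlockChar.regM p b η η₀) = 0 := by
      intro η _ hη
      rw [← BlockChar.regM_comm hM η η₀, BlockChar.regM]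
      have h := classInner_pRegularPart_eq_zero hM hb hη₀
        (ψ := η) (fun h => hη ((Set.Finite.mem_toFinset _).2 h))
      rw [Cfsg.classInner, mul_eq_zero, inv_eq_zero] at h
      have h' := h.resolve_left (Nat.cast_ne_zero.2 Nat.card_pos.ne')
      have : BlockChar.regSum p (fun w : H => (η₀ : H → ℂ) w * conj ((η : H → ℂ) w)) = 0 := by
        rw [← h', BlockChar.regSum]
        refine Finset.sum_congr rfl fun w _ => ?_
        rw [pRegularPart_apply]
        by_cases hw : p ∣ orderOf w <;> simp [Cfsg.IsPRegular, hw]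
      rw [this, mul_zero, mul_zero, mul_zero]
    rw [Finset.sum_subset (Finset.subset_univ T) e2]
    have e3 : ∑ η : Cfsg.IrrCharacter H, (resMult χ η : ℂ) *
        BlockChar.regSum p (fun w : H => (η : H → ℂ) w * conj ((η₀ : H → ℂ) w)) =
        (η₀ : H → ℂ) 1 * Ω := by
      rw [hΩ, omega, mul_div_cancel₀ _ (Char.IsIrr.one_ne_zero η₀.2),
        BlockThms.sum_eta_mul_comm (χ := fun a : H => (χ : G → ℂ) (a : G))
          (Char.isCharacter_res H (Char.IsIrr.isCharacter χ.2)) (Char.IsIrr.isCharacter η₀.2)]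
      simp only [BlockChar.regSum, Finset.mul_sum]
      rw [Finset.sum_comm]
      refine Finset.sum_congr rfl fun w _ => ?_
      by_cases hw : Cfsg.IsPRegular p w
      · simp only [if_pos hw, BlockThms.eta_of_regular _ hw]
        rw [res_eq_sum_resMult χ w, Finset.mul_sum]
        exact Finset.sum_congr rfl fun η _ => by ring
      · simp [if_neg hw, BlockThms.eta_of_singular _ hw]
    have e4 : ∀ η : Cfsg.IrrCharacter H,
        (resMult χ η : ℂ) * ((m : ℂ) * BlockChar.regM p b η η₀) =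
        (m : ℂ) * (((p ^ Cfsg.blockDefect p b : ℕ) : ℂ) / (Nat.card H : ℂ)) *
          ((resMult χ η : ℂ) *
            BlockChar.regSum p (fun w : H => (η : H → ℂ) w * conj ((η₀ : H → ℂ) w))) := by
      intro η; rw [BlockChar.regM]; ring
    rw [Finset.sum_congr rfl fun η _ => e4 η, ← Finset.mul_sum, e3]
    rw [← mul_assoc]
    congr 1
    have hd : Cfsg.blockDefect p b + BlockChar.minVal p b = (Nat.card H).factorization p := by
      have h1 := (BlockChar.minVal_le (p := p) hη₀).trans (BlockChar.degree_val_le η₀)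
      rw [BlockChar.blockDefect_eq]
      omega
    rw [(CharArith.irr_degree_spec η₀).1, hr₀]
    have hG : (Nat.card H : ℂ) = (p : ℂ) ^ (Nat.card H).factorization p * (m : ℂ) := by
      exact_mod_cast (Nat.ordProj_mul_ordCompl_eq_self (Nat.card H) p).symm
    have hm0 : (m : ℂ) ≠ 0 := Nat.cast_ne_zero.2 (Nat.ordCompl_pos p Nat.card_pos.ne').ne'
    have hp0 : (p : ℂ) ≠ 0 := Nat.cast_ne_zero.2 hM.1.ne_zero
    rw [hG, ← hd]
    push_cast
    field_simp
    ring
  -- the value of `Ω` modulo `M`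
  have hΩc : Cfsg.MemLocalIdeal M (Ω - omega (χ : G → ℂ) (BlockThms.eta p (χ : G → ℂ))) :=
    BlockThms.memLocalIdeal_omega_eta_res_sub hM H χ χ (η₀ : H → ℂ) (hcong η₀ hη₀ χ hχ)
  have hΩR : Cfsg.MemLocalRing M Ω :=
    memLocalRing_omega hM η₀.2 (BlockThms.isClassFunction_eta
      (isClassFunction_res H (Char.isClassFunction_of_isIrr χ.2)))
      (BlockThms.memLocalRing_eta hM (Char.isCharacter_res H (Char.IsIrr.isCharacter χ.2)))
  have hΩiff : Cfsg.MemLocalIdeal M Ω ↔ Cfsg.blockHeight p B (χ : G → ℂ) ≠ 0 := by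
    constructor
    · intro h h0
      refine BlockThms.not_memLocalIdeal_omega_eta hM χ ?_ ?_
      · rwa [← IsPBlock.eq_blockOf hM hB hχ]
      · simpa using memLocalIdeal_sub hM h hΩc
    · intro hne
      have hWχ : Cfsg.MemLocalIdeal M (omega (χ : G → ℂ) (BlockChar.regConj p (χ : G → ℂ))) := by
        have hr : p ∣ BlockChar.redDeg p B χ := by
          by_contra hr
          exact hne ((BlockChar.not_dvd_redDeg_iff hM.1 hχ).1 hr)
        have h1 : Cfsg.MemLocalIdeal M (BlockChar.regM p B χ₀ χ) := by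
          rw [← BlockChar.regM_comm hM]
          exact (BlockChar.regM_memLocalIdeal_iff hM hχ χ₀).2 (Or.inl hr)
        rcases (BlockChar.regM_memLocalIdeal_iff hM hχ₀ χ).1 h1 with h2 | h2
        · exact absurd h2 ((BlockChar.not_dvd_redDeg_iff hM.1 hχ₀).2 hhχ₀)
        · exact BlockChar.omega_regConj_congr hM hB hχ₀ hχ χ h2
      have : omega (χ : G → ℂ) (BlockThms.eta p (χ : G → ℂ)) =
          omega (χ : G → ℂ) (BlockChar.regConj p (χ : G → ℂ)) := rfl
      rw [this] at hΩc
      simpa using memLocalIdeal_add hM hΩc hWχ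
  rw [← hΩiff]
  set X := ∑ η ∈ T, ((resMult χ η * BlockChar.redDeg p b η : ℕ) : ℂ) with hX
  have hXR : Cfsg.MemLocalRing M X :=
    (localRing hM).sum_mem fun η _ => memLocalRing_natCast hM _
  have hWR : Cfsg.MemLocalRing M (W η₀) :=
    memLocalRing_of_isIntegral hM (BlockChar.isIntegral_omega_regConj η₀ η₀)
  have hdiff : Cfsg.MemLocalIdeal M ((r₀ : ℂ) * Ω - X * W η₀) := by
    rw [← key, hX, Finset.sum_mul, ← Finset.sum_sub_distrib]
    refine memLocalIdeal_sum hM _ fun η hη => ?_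
    rw [← mul_sub]
    exact memLocalIdeal_mul_left hM (memLocalRing_natCast hM _) (memLocalIdeal_omega_sub hM η.2 η₀.2
      (BlockChar.isClassFunction_regConj (Char.isClassFunction_of_isIrr η₀.2))
      (BlockChar.regConj_memLocalRing hM η₀)
      (IsPBlock.sameBlock hM hb ((Set.Finite.mem_toFinset _).1 hη) hη₀))
  constructor
  · intro h
    have h1 : Cfsg.MemLocalIdeal M ((r₀ : ℂ) * Ω) := by
      simpa using memLocalIdeal_add hM hdiff (memLocalIdeal_mul_right hM h hWR)
    exact (memLocalIdeal_of_mul hM (memLocalRing_natCast hM _) hΩR h1).resolve_left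
      (mt (memLocalIdeal_natCast_iff hM _).1 hr₀u)
  · intro h
    have h1 : Cfsg.MemLocalIdeal M (X * W η₀) := by
      simpa using memLocalIdeal_sub hM (memLocalIdeal_mul_left hM (memLocalRing_natCast hM r₀) h)
        hdiff
    exact (memLocalIdeal_of_mul hM hXR hWR h1).resolve_right hW00

/-- An entry is a unit exactly when both characters have height zero. -/
theorem contrib_memLocalIdeal_iff {χ φ : Cfsg.IrrCharacter G} (hχ : χ ∈ B) (hφ : φ ∈ B) :
    Cfsg.MemLocalIdeal M (contrib p x b χ φ) ↔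
      Cfsg.blockHeight p B (χ : G → ℂ) ≠ 0 ∨ Cfsg.blockHeight p B (φ : G → ℂ) ≠ 0 := by
  classical
  have hb := hind.1
  obtain ⟨η₀, hη₀, hh₀⟩ := BlockThms.exists_height_zero hM hb
  set T := (Set.toFinite b).toFinset
  set m := Nat.card H / p ^ (Nat.card H).factorization p with hm
  have hmu : ¬ p ∣ m := Nat.not_dvd_ordCompl hM.1 Nat.card_pos.ne'
  set r := BlockChar.redDeg p b
  have hr₀u : ¬ p ∣ r η₀ := (BlockChar.not_dvd_redDeg_iff hM.1 hη₀).2 hh₀
  have hW00 := BlockChar.not_memLocalIdeal_omega_regConj hM hb hη₀ hη₀ hh₀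
  set W : Cfsg.IrrCharacter H → Cfsg.IrrCharacter H → ℂ :=
    fun η η' => omega (η : H → ℂ) (BlockChar.regConj p (η' : H → ℂ)) with hW
  have hWR : ∀ η η', Cfsg.MemLocalRing M (W η η') := fun η η' =>
    memLocalRing_of_isIntegral hM (BlockChar.isIntegral_omega_regConj η η')
  have hWc : ∀ η ∈ T, ∀ η' : Cfsg.IrrCharacter H,
      Cfsg.MemLocalIdeal M (W η η' - W η₀ η') := fun η hη η' =>
    memLocalIdeal_omega_sub hM η.2 η₀.2
      (BlockChar.isClassFunction_regConj (Char.isClassFunction_of_isIrr η'.2))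
      (BlockChar.regConj_memLocalRing hM η')
      (IsPBlock.sameBlock hM hb ((Set.Finite.mem_toFinset _).1 hη) hη₀)
  -- `r₀ m regM ≡ r r' W₀₀`
  have hreg : ∀ η ∈ T, ∀ η' ∈ T, Cfsg.MemLocalIdeal M
      ((r η₀ : ℂ) * ((m : ℂ) * BlockChar.regM p b η η') - (r η : ℂ) * (r η' : ℂ) * W η₀ η₀) := by
    intro η hη η' hη'
    have e1 := BlockChar.regM_eq hM.1 ((Set.Finite.mem_toFinset _).1 hη) η'
    have e2 := BlockChar.regM_eq hM.1 hη₀ η'
    have e3 := BlockChar.regM_eq hM.1 ((Set.Finite.mem_toFinset _).1 hη') η₀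
    rw [BlockChar.regM_comm hM] at e3
    have e : (r η₀ : ℂ) * ((m : ℂ) * BlockChar.regM p b η η') - (r η : ℂ) * (r η' : ℂ) * W η₀ η₀ =
        (r η₀ : ℂ) * (r η : ℂ) * (W η η' - W η₀ η') +
          (r η : ℂ) * (r η' : ℂ) * (W η' η₀ - W η₀ η₀) := by
      have e4 : (r η₀ : ℂ) * W η₀ η' = (r η' : ℂ) * W η' η₀ := by
        simp only [hW, r]; rw [← e2, ← e3]
      rw [hm, e1]
      simp only [hW, r] at e4 ⊢
      linear_combination (r η : ℂ) * e4
    rw [e]
    exact memLocalIdeal_add hM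
      (memLocalIdeal_mul_left hM ((localRing hM).mul_mem (memLocalRing_natCast hM _)
        (memLocalRing_natCast hM _)) (hWc η hη η'))
      (memLocalIdeal_mul_left hM ((localRing hM).mul_mem (memLocalRing_natCast hM _)
        (memLocalRing_natCast hM _)) (hWc η' hη' η₀))
  set X : Cfsg.IrrCharacter G → ℂ := fun χ =>
    ∑ η ∈ T, ((resMult χ η * r η : ℕ) : ℂ)
  have hXR : ∀ χ, Cfsg.MemLocalRing M (X χ) := fun χ =>
    (localRing hM).sum_mem fun η _ => memLocalRing_natCast hM _
  have hmain : Cfsg.MemLocalIdeal M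
      ((r η₀ : ℂ) * (m : ℂ) * contrib p x b χ φ - X χ * X φ * W η₀ η₀) := by
    simp only [X, contrib]
    rw [Finset.sum_mul_sum]
    simp only [Finset.mul_sum, Finset.sum_mul]
    rw [← Finset.sum_sub_distrib]
    refine memLocalIdeal_sum hM _ fun η hη => ?_
    rw [← Finset.sum_sub_distrib]
    refine memLocalIdeal_sum hM _ fun η' hη' => ?_
    obtain ⟨kk, hkk⟩ := BlockChar.exists_int_regM hM ((Set.Finite.mem_toFinset _).1 hη) η'
    rw [shiftCoef_eq hH, shiftCoef_eq hH, map_mul, Complex.conj_natCast]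
    obtain ⟨hi, hc⟩ := shiftScalar_congr hH hM η hx
    obtain ⟨hi', hc'⟩ := shiftScalar_congr hH hM η' hx
    obtain ⟨q, hq⟩ := hx
    have hcc : Cfsg.MemLocalIdeal M (conj (shiftScalar hH η') - 1) := by
      have h1 : conj (shiftScalar hH η') ^ p ^ q = 1 := by
        rw [← map_pow, shiftScalar_pow hH η' (hq ▸ pow_orderOf_eq_one x), map_one]
      exact (memLocalIdeal_coe_iff hM _).2 (sub_one_mem_of_pow_prime_pow hM
        (z := ⟨_, isIntegral_of_pow_eq_one (pow_pos hM.1.pos q) h1⟩) (Subtype.ext (by simpa using h1)))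
    have h12 : Cfsg.MemLocalIdeal M (shiftScalar hH η * conj (shiftScalar hH η') - 1) := by
      have := memLocalIdeal_add hM
        (memLocalIdeal_mul_left hM (memLocalRing_of_isIntegral hM hi) hcc) hc
      simpa [mul_sub] using this
    have e : (r η₀ : ℂ) * (m : ℂ) * (shiftScalar hH η * (resMult χ η : ℂ) *
        (conj (shiftScalar hH η') * (resMult φ η' : ℂ)) * BlockChar.regM p b η η') -
        ((resMult χ η * r η : ℕ) : ℂ) * ((resMult φ η' * r η' : ℕ) : ℂ) * W η₀ η₀ =
      (resMult χ η : ℂ) * (resMult φ η' : ℂ) * ((r η₀ : ℂ) * (m : ℂ) * BlockChar.regM p b η η') *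
          (shiftScalar hH η * conj (shiftScalar hH η') - 1) +
        (resMult χ η : ℂ) * (resMult φ η' : ℂ) *
          ((r η₀ : ℂ) * ((m : ℂ) * BlockChar.regM p b η η') -
            (r η : ℂ) * (r η' : ℂ) * W η₀ η₀) := by
      push_cast
      ring
    rw [e]
    refine memLocalIdeal_add hM (memLocalIdeal_mul_left hM ?_ h12)
      (memLocalIdeal_mul_left hM ((localRing hM).mul_mem (memLocalRing_natCast hM _)
        (memLocalRing_natCast hM _)) (hreg η hη η' hη'))
    rw [hkk]
    exact (localRing hM).mul_mem ((localRing hM).mul_mem (memLocalRing_natCast hM _)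
      (memLocalRing_natCast hM _)) ((localRing hM).mul_mem ((localRing hM).mul_mem
      (memLocalRing_natCast hM _) (memLocalRing_natCast hM _))
      (memLocalRing_of_isIntegral hM (isIntegral_intCast _)))
  have hPR := memLocalRing_of_isIntegral hM (isIntegral_contrib hH (b := b) hM hx χ φ)
  rw [← resMult_redDeg_unit_iff hH hM hind hχ, ← resMult_redDeg_unit_iff hH hM hind hφ]
  constructor
  · intro h
    have h1 : Cfsg.MemLocalIdeal M (X χ * X φ * W η₀ η₀) := by
      simpa using memLocalIdeal_sub hM (memLocalIdeal_mul_left hM ((localRing hM).mul_mem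
        (memLocalRing_natCast hM (r η₀)) (memLocalRing_natCast hM m)) h) hmain
    exact memLocalIdeal_of_mul hM (hXR χ) (hXR φ)
      ((memLocalIdeal_of_mul hM ((localRing hM).mul_mem (hXR χ) (hXR φ)) (hWR _ _) h1).resolve_right
        hW00)
  · intro h
    have h0 : Cfsg.MemLocalIdeal M (X χ * X φ) :=
      h.elim (fun h => memLocalIdeal_mul_right hM h (hXR φ))
        (fun h => memLocalIdeal_mul_left hM (hXR χ) h)
    have h1 : Cfsg.MemLocalIdeal M ((r η₀ : ℂ) * (m : ℂ) * contrib p x b χ φ) := by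
      simpa using memLocalIdeal_add hM hmain (memLocalIdeal_mul_right hM h0 (hWR η₀ η₀))
    refine ((memLocalIdeal_of_mul hM ((localRing hM).mul_mem (memLocalRing_natCast hM _)
      (memLocalRing_natCast hM _)) hPR h1).resolve_left fun h2 => ?_)
    rw [← Nat.cast_mul, memLocalIdeal_natCast_iff hM] at h2
    exact (hM.1.dvd_mul.1 h2).elim hr₀u hmu

end Cfsg.Agent.Blocks
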