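import Cfsg.Agent.Blocks.Modular
import Cfsg.Agent.Char.Ortho
import Mathlib.RingTheory.Finiteness.Basic
import Mathlib.RingTheory.IntegralClosure.IsIntegral.Basic
import Mathlib.Algebra.MonoidAlgebra.Module

/-!
# The centre of the group algebra, seen as class functions, and central characters

`omega χ f` is the scalar by which the central element `∑ f g • g` acts in a representation
affording the irreducible character `χ`.
-/

namespace Cfsg.Agent.Blocks

open scoped ComplexConjugate
open Cfsg.Agent

universe u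

variable {G : Type u} [Group G]

/-- the coefficient function of the identity element -/
noncomputable def delta (G : Type u) [Group G] : G → ℂ :=
  open Classical in fun g => if g = 1 then 1 else 0

/-- the indicator function of the conjugacy class of `g` -/
noncomputable def classInd (g : G) : G → ℂ :=
  open Classical in fun x => if IsConj g x then 1 else 0

theorem classInd_apply (g x : G) [Decidable (IsConj g x)] :
    classInd g x = if IsConj g x then 1 else 0 := by
  rw [classInd]; congr

theorem isClassFunction_classInd (g : G) : Cfsg.IsClassFunction G (classInd g) := by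
  classical
  intro x k
  simp only [classInd_apply]
  exact if_congr ⟨fun e => e.trans (isConj_iff.2 ⟨k, rfl⟩).symm,
    fun e => e.trans (isConj_iff.2 ⟨k, rfl⟩)⟩ rfl rfl

theorem classInd_one : classInd (1 : G) = delta G := by
  classical
  funext x
  simp [classInd_apply, delta, eq_comm]

theorem isClassFunction_delta : Cfsg.IsClassFunction G (delta G) :=
  classInd_one (G := G) ▸ isClassFunction_classInd 1

variable [Fintype G]

/-- the central character of `χ`, on the centre of the group algebra -/
noncomputable def omega (χ : G → ℂ) (f : G → ℂ) : ℂ := (∑ g, f g * χ g) / χ 1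

/-- the product of the group algebra -/
noncomputable def conv (f f' : G → ℂ) : G → ℂ := fun z => ∑ g, f g * f' (g⁻¹ * z)

theorem omega_add (χ f f' : G → ℂ) : omega χ (f + f') = omega χ f + omega χ f' := by
  simp [omega, add_mul, Finset.sum_add_distrib, add_div]

theorem omega_sub (χ f f' : G → ℂ) : omega χ (f - f') = omega χ f - omega χ f' := by
  simp [omega, sub_mul, Finset.sum_sub_distrib, sub_div]

theorem omega_smul (χ : G → ℂ) (c : ℂ) (f : G → ℂ) : omega χ (c • f) = c * omega χ f := by
  simp only [omega, Pi.smul_apply, smul_eq_mul]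
  rw [← mul_div_assoc, Finset.mul_sum]
  simp only [mul_assoc]

theorem omega_sum {ι : Type*} (χ : G → ℂ) (s : Finset ι) (f : ι → G → ℂ) :
    omega χ (∑ i ∈ s, f i) = ∑ i ∈ s, omega χ (f i) := by
  simp only [omega, Finset.sum_apply, Finset.sum_mul]
  rw [Finset.sum_comm, Finset.sum_div]

theorem omega_delta {χ : G → ℂ} (h : χ 1 ≠ 0) : omega χ (delta G) = 1 := by
  classical
  simp [omega, delta, h]

theorem omega_classInd {χ : G → ℂ} (hχ : Cfsg.IsClassFunction G χ) (g : G) :
    omega χ (classInd g) = Cfsg.centralChar χ g := by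
  classical
  simp only [omega, classInd_apply, ite_mul, one_mul, zero_mul, ← Finset.sum_filter,
    Cfsg.centralChar]
  rw [Finset.sum_congr rfl (g := fun _ => χ g)
    (fun x hx => (Char.classFun_isConj hχ (Finset.mem_filter.1 hx).2).symm),
    Finset.sum_const, nsmul_eq_mul, ← Fintype.card_subtype, ← Nat.card_eq_fintype_card,
    Char.card_isConj_eq_index]

theorem isClassFunction_conv {f f' : G → ℂ} (hf : Cfsg.IsClassFunction G f)
    (hf' : Cfsg.IsClassFunction G f') : Cfsg.IsClassFunction G (conv f f') := by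
  intro z k
  simp only [conv]
  refine Fintype.sum_equiv (MulAut.conj k⁻¹).toEquiv _ _ fun g => ?_
  simp only [MulEquiv.toEquiv_eq_coe, MulEquiv.coe_toEquiv, MulAut.conj_apply, inv_inv]
  have h1 : f g = f (k⁻¹ * g * k) := by
    have := hf g k⁻¹
    rw [inv_inv] at this
    exact this.symm
  have h2 : f' (g⁻¹ * (k * z * k⁻¹)) = f' ((k⁻¹ * g * k)⁻¹ * z) := by
    have := hf' ((k⁻¹ * g * k)⁻¹ * z) k
    rw [← this]
    congr 1
    group
  rw [h1, h2]

/-- An irreducible representation affording `χ` sends a central element to `omega χ f`. -/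
theorem sum_smul_rep_eq_omega {V : Type*} [AddCommGroup V] [Module ℂ V] [FiniteDimensional ℂ V]
    (ρ : Representation ℂ G V) (hρ : ρ.IsIrreducible) {f : G → ℂ}
    (hf : Cfsg.IsClassFunction G f) :
    (∑ g, f g • ρ g) = omega ρ.character f • (LinearMap.id : V →ₗ[ℂ] V) := by
  obtain ⟨c, h1, h2⟩ := Char.sum_smul_rep_eq_scalar ρ hρ hf
  obtain ⟨hn, -⟩ := Char.isIrreducible_iff.1 hρ
  have hd : (Module.finrank ℂ V : ℂ) ≠ 0 := Nat.cast_ne_zero.2 Module.finrank_pos.ne'
  rw [h1]
  congr 1
  rw [omega, Representation.char_one, eq_div_iff hd, h2]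

theorem omega_conv {χ : G → ℂ} (hχ : Cfsg.IsIrrCharacter G χ) {f f' : G → ℂ}
    (hf : Cfsg.IsClassFunction G f) (hf' : Cfsg.IsClassFunction G f') :
    omega χ (conv f f') = omega χ f * omega χ f' := by
  obtain ⟨n, ρ, hρ, rfl⟩ := hχ
  have h : (∑ z, conv f f' z • ρ z) = (∑ g, f g • ρ g) * ∑ h, f' h • ρ h := by
    simp only [conv, Finset.sum_smul]
    rw [Finset.sum_comm, Finset.sum_mul]
    refine Finset.sum_congr rfl fun g _ => ?_
    rw [Finset.mul_sum]
    refine (Fintype.sum_equiv (Equiv.mulLeft g) _ _ fun h => ?_).symm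
    rw [Equiv.coe_mulLeft, inv_mul_cancel_left, map_mul, smul_mul_smul_comm]
  rw [sum_smul_rep_eq_omega ρ hρ (isClassFunction_conv hf hf'), sum_smul_rep_eq_omega ρ hρ hf,
    sum_smul_rep_eq_omega ρ hρ hf', smul_mul_smul_comm] at h
  have h' := congrArg (LinearMap.trace ℂ (Fin n → ℂ)) h
  simp only [map_smul, ← Module.End.one_eq_id, mul_one, LinearMap.trace_one, smul_eq_mul] at h'
  obtain ⟨hn, -⟩ := Char.isIrreducible_iff.1 hρ
  exact mul_right_cancel₀ (Nat.cast_ne_zero.2 Module.finrank_pos.ne') h'

/-- Recovering a class function from its central character values. -/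
theorem apply_eq_sum_omega {f : G → ℂ} (hf : Cfsg.IsClassFunction G f) (x : G) :
    f x = (Nat.card G : ℂ)⁻¹ *
      ∑ χ : Cfsg.IrrCharacter G, (χ : G → ℂ) 1 * omega (χ : G → ℂ) f * conj ((χ : G → ℂ) x) := by
  classical
  have hG : (Nat.card G : ℂ) ≠ 0 := Nat.cast_ne_zero.2 Nat.card_pos.ne'
  rw [eq_inv_mul_iff_mul_eq₀ hG]
  have h1 : ∀ χ : Cfsg.IrrCharacter G,
      (χ : G → ℂ) 1 * omega (χ : G → ℂ) f * conj ((χ : G → ℂ) x) =
        ∑ g, f g * ((χ : G → ℂ) g * conj ((χ : G → ℂ) x)) := fun χ => by
    rw [omega, mul_div_cancel₀ _ (Char.IsIrr.one_ne_zero χ.2), Finset.sum_mul]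
    exact Finset.sum_congr rfl fun g _ => mul_assoc _ _ _
  simp only [h1]
  rw [Finset.sum_comm]
  simp only [← Finset.mul_sum, Char.second_orthogonality, mul_ite, mul_zero, ← Finset.sum_filter]
  have h2 : ∀ g ∈ Finset.univ.filter (fun g => IsConj g x),
      f g * (Nat.card (Subgroup.centralizer ({g} : Set G)) : ℂ) =
        f x * (Nat.card (Subgroup.centralizer ({x} : Set G)) : ℂ) := by
    intro g hg
    have hc := (Finset.mem_filter.1 hg).2
    rw [Char.classFun_isConj hf hc]
    congr 2
    refine Nat.eq_of_mul_eq_mul_right (Nat.pos_of_ne_zero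
      (Subgroup.index_ne_zero_of_finite (H := Subgroup.centralizer ({x} : Set G)))) ?_
    rw [Subgroup.card_mul_index]
    have : (Subgroup.centralizer ({x} : Set G)).index =
        (Subgroup.centralizer ({g} : Set G)).index := by
      rw [← Char.card_isConj_eq_index, ← Char.card_isConj_eq_index]
      exact Nat.card_congr (Equiv.subtypeEquivRight fun y => ⟨hc.trans, hc.symm.trans⟩)
    rw [this, Subgroup.card_mul_index]
  rw [Finset.sum_congr rfl h2, Finset.sum_const, nsmul_eq_mul, ← Fintype.card_subtype,
    ← Nat.card_eq_fintype_card,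
    Nat.card_congr (Equiv.subtypeEquivRight fun y => (isConj_comm : IsConj y x ↔ IsConj x y)),
    Char.card_isConj_eq_index, ← Subgroup.card_mul_index (Subgroup.centralizer ({x} : Set G))]
  push_cast
  ring

/-- a class function is determined by its central character values -/
theorem classFun_ext_omega {f f' : G → ℂ} (hf : Cfsg.IsClassFunction G f)
    (hf' : Cfsg.IsClassFunction G f')
    (h : ∀ χ : Cfsg.IrrCharacter G, omega (χ : G → ℂ) f = omega (χ : G → ℂ) f') : f = f' := by
  funext x
  rw [apply_eq_sum_omega hf, apply_eq_sum_omega hf']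
  simp only [h]

/-- Splitting a sum of a class function times a character over the classes. -/
theorem omega_eq_sum_classes [Fintype (ConjClasses G)] {χ f : G → ℂ}
    (hχ : Cfsg.IsClassFunction G χ) (hf : Cfsg.IsClassFunction G f) :
    omega χ f = ∑ C : ConjClasses G, f C.out * Cfsg.centralChar χ C.out := by
  classical
  have hout : ∀ C : ConjClasses G, ∀ g, ConjClasses.mk g = C → IsConj g C.out := fun C g hg =>
    ConjClasses.mk_eq_mk_iff_isConj.1 (hg.trans (Quotient.out_eq C).symm)
  have hsum : f = ∑ C : ConjClasses G, f C.out • classInd C.out := by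
    funext x
    simp only [Finset.sum_apply, Pi.smul_apply, classInd_apply, smul_eq_mul, mul_ite, mul_one,
      mul_zero]
    rw [Finset.sum_eq_single (ConjClasses.mk x)]
    · rw [if_pos (hout _ x rfl).symm, Char.classFun_isConj hf (hout _ x rfl)]
    · intro C _ hC
      rw [if_neg fun h => hC ((Quotient.out_eq C).symm.trans (ConjClasses.mk_eq_mk_iff_isConj.2 h))]
    · simp
  conv_lhs => rw [hsum]
  simp only [omega_sum, omega_smul, omega_classInd hχ]

/-- central character values are algebraic integers -/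
theorem isIntegral_omega {χ : G → ℂ} (hχ : Cfsg.IsIrrCharacter G χ) {f : G → ℂ}
    (hf : Cfsg.IsClassFunction G f) (hint : ∀ g, ∃ m : ℤ, f g = m) :
    IsIntegral ℤ (omega χ f) := by
  obtain ⟨n, ρ, hρ, rfl⟩ := hχ
  choose m hm using hint
  let a : MonoidAlgebra ℤ G := ∑ g, MonoidAlgebra.single g (m g)
  have : IsIntegral ℤ a := IsIntegral.of_finite ℤ a
  have h := this.map (MonoidAlgebra.lift ℤ (Module.End ℂ (Fin n → ℂ)) G ρ)
  have he : MonoidAlgebra.lift ℤ (Module.End ℂ (Fin n → ℂ)) G ρ a =
      algebraMap ℂ (Module.End ℂ (Fin n → ℂ)) (omega ρ.character f) := by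
    rw [Algebra.algebraMap_eq_smul_one, Module.End.one_eq_id, ← sum_smul_rep_eq_omega ρ hρ hf,
      map_sum]
    refine Finset.sum_congr rfl fun g _ => ?_
    rw [MonoidAlgebra.lift_single, hm]
    exact (Int.cast_smul_eq_zsmul ℂ (m g) (ρ g)).symm
  rw [he] at h
  obtain ⟨hn, -⟩ := Char.isIrreducible_iff.1 hρ
  exact (isIntegral_algebraMap_iff
    (FaithfulSMul.algebraMap_injective ℂ (Module.End ℂ (Fin n → ℂ)))).mp h

omit [Fintype G] in
theorem isIntegral_centralChar [Finite G] {χ : G → ℂ} (hχ : Cfsg.IsIrrCharacter G χ) (g : G) :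
    IsIntegral ℤ (Cfsg.centralChar χ g) := by
  classical
  have := Fintype.ofFinite G
  rw [← omega_classInd (Char.isClassFunction_of_isIrr hχ)]
  refine isIntegral_omega hχ (isClassFunction_classInd g) fun x => ?_
  rw [classInd_apply]
  split
  · exact ⟨1, by simp⟩
  · exact ⟨0, by simp⟩

end Cfsg.Agent.Blocks
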