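import Cfsg.Agent.Blocks.Subsection
import Cfsg.Agent.BlockChar.Galois
import Mathlib.Analysis.SpecialFunctions.Log.Basic

/-!
# Averaging the contributions over the powers of the element

The contributions of `(x ^ k, b)`, `k` prime to the order of `x`, are the algebraic conjugates
of those of `(x, b)`.  The mean square of a nonvanishing one is at least one, and for `p = 2`
the mean of a diagonal one is a rational integer, odd at the characters of height zero.
-/

namespace Cfsg.Agent.Blocks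

open scoped ComplexConjugate
open Cfsg.Agent

universe u

section Roots

variable {ι : Type*} (s : Finset ι) (c : ι → ℤ) (w : ι → ℂ) {q : ℕ} [NeZero q]

theorem pow_val_mul_eq {z : ℂ} (hz : z ^ q = 1) (j k : (ZMod q)ˣ) :
    z ^ ((j * k : (ZMod q)ˣ) : ZMod q).val = (z ^ (k : ZMod q).val) ^ (j : ZMod q).val := by
  rw [← pow_mul, Units.val_mul, ZMod.val_mul, mul_comm ((k : ZMod q).val) _]
  exact (pow_eq_pow_mod _ hz).symm

/-- The product over all the conjugates of an integral combination of roots of unity is a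
rational integer. -/
theorem exists_int_prod_conjugates (hw : ∀ i ∈ s, w i ^ q = 1) :
    ∃ n : ℤ, ∏ k : (ZMod q)ˣ, ∑ i ∈ s, (c i : ℂ) * w i ^ (k : ZMod q).val = (n : ℂ) := by
  classical
  have hi : ∀ i ∈ s, IsIntegral ℤ (w i) := fun i h =>
    isIntegral_of_pow_eq_one (NeZero.pos q) (hw i h)
  have hz : IsIntegral ℤ (∏ k : (ZMod q)ˣ, ∑ i ∈ s, (c i : ℂ) * w i ^ (k : ZMod q).val) :=
    IsIntegral.prod _ fun k _ => IsIntegral.sum _ fun i h =>
      (isIntegral_intCast _).mul ((hi i h).pow _)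
  refine BlockChar.exists_int_of_galois_fixed hz fun ψ => ?_
  obtain ⟨j, hj, hψ⟩ := BlockChar.exists_powMap ψ q
  set μ : {i // i ∈ s} → BlockChar.QBar := fun i =>
    ⟨w i.1, BlockChar.mem_qBar_of_isIntegral (hi i.1 i.2)⟩ with hμ
  have hμq : ∀ i, μ i ^ q = 1 := fun i => Subtype.ext (by simpa [hμ] using hw i.1 i.2)
  have e : (⟨_, BlockChar.mem_qBar_of_isIntegral hz⟩ : BlockChar.QBar) =
      ∏ k : (ZMod q)ˣ, ∑ i ∈ s.attach, (c i.1 : BlockChar.QBar) * μ i ^ (k : ZMod q).val := by
    refine Subtype.ext ?_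
    push_cast
    refine Finset.prod_congr rfl fun k _ => ?_
    rw [← Finset.sum_attach]
  rw [e, map_prod]
  refine Fintype.prod_equiv (Equiv.mulLeft (ZMod.unitOfCoprime j hj)) _ _ fun k => ?_
  rw [map_sum, Equiv.coe_mulLeft, ← Finset.sum_attach (s := s)]
  refine Finset.sum_congr rfl fun i _ => ?_
  rw [map_mul, map_intCast, map_pow, hψ _ (hμq i), pow_val_mul_eq (hw i.1 i.2),
    ZMod.coe_unitOfCoprime, ZMod.val_natCast, ← pow_mul (w i.1) _ (j % q), ← pow_mul]
  congr 1
  show w i.1 ^ (j * (k : ZMod q).val) = _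
  rw [pow_eq_pow_mod _ (hw i.1 i.2), pow_eq_pow_mod ((k : ZMod q).val * (j % q)) (hw i.1 i.2),
    Nat.mul_mod_mod, mul_comm j]

/-- The mean square of a nowhere vanishing family of conjugates is at least one. -/
theorem card_units_le_sum_normSq (hw : ∀ i ∈ s, w i ^ q = 1)
    (hne : ∀ k : (ZMod q)ˣ, ∑ i ∈ s, (c i : ℂ) * w i ^ (k : ZMod q).val ≠ 0) :
    (Fintype.card (ZMod q)ˣ : ℝ) ≤
      ∑ k : (ZMod q)ˣ, Complex.normSq (∑ i ∈ s, (c i : ℂ) * w i ^ (k : ZMod q).val) := by
  classical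
  obtain ⟨n, hn⟩ := exists_int_prod_conjugates s c w hw
  have hn0 : n ≠ 0 := by
    rintro rfl
    obtain ⟨k, -, hk⟩ := Finset.prod_eq_zero_iff.1 (hn.trans Int.cast_zero)
    exact hne k hk
  have h1 : 1 ≤ ∏ k : (ZMod q)ˣ,
      Complex.normSq (∑ i ∈ s, (c i : ℂ) * w i ^ (k : ZMod q).val) := by
    rw [← map_prod, hn, Complex.normSq_intCast, ← Int.cast_mul]
    have : (0 : ℤ) < n * n := mul_self_pos.2 hn0
    exact_mod_cast this
  have hpos : ∀ k : (ZMod q)ˣ,
      0 < Complex.normSq (∑ i ∈ s, (c i : ℂ) * w i ^ (k : ZMod q).val) :=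
    fun k => Complex.normSq_pos.2 (hne k)
  have h2 := Finset.sum_le_sum (s := Finset.univ) fun k _ => Real.log_le_sub_one_of_pos (hpos k)
  rw [← Real.log_prod fun k _ => (hpos k).ne', Finset.sum_sub_distrib, Finset.sum_const,
    Finset.card_univ, nsmul_one] at h2
  linarith [Real.log_nonneg h1]

/-- `1`, `-1` or `0` as `z` is `1`, `-1` or neither. -/
noncomputable def rootSign (z : ℂ) : ℤ :=
  open Classical in if z = 1 then 1 else if z = -1 then -1 else 0

theorem rootSign_conj (z : ℂ) : rootSign (conj z) = rootSign z := by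
  simp only [rootSign, map_eq_one_iff (starRingEnd ℂ) (starRingEnd ℂ).injective]
  by_cases h : z = 1
  · simp [h]
  · simp only [h, if_false]
    by_cases h' : z = -1
    · simp [h']
    · rw [if_neg h', if_neg]
      intro h2
      exact h' (by simpa using congrArg conj h2)

/-- The sum of a `2 ^ m`-th root of unity over the exponents prime to two. -/
theorem sum_units_pow_two {m : ℕ} {z : ℂ} (hz : z ^ 2 ^ m = 1) :
    ∑ k : (ZMod (2 ^ m))ˣ, z ^ (k : ZMod (2 ^ m)).val =
      (rootSign z : ℂ) * (Fintype.card (ZMod (2 ^ m))ˣ : ℂ) := by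
  classical
  rcases m with - | m
  · rw [pow_zero, pow_one] at hz
    simp [hz, rootSign]
  have hodd : ∀ k : (ZMod (2 ^ (m + 1)))ˣ, Odd (k : ZMod (2 ^ (m + 1))).val := fun k => by
    have h := ZMod.val_coe_unit_coprime k
    rw [Nat.coprime_pow_right_iff (Nat.succ_pos m), Nat.coprime_two_right] at h
    exact h
  by_cases h1 : z = 1
  · simp [h1, rootSign]
  by_cases h2 : z = -1
  · rw [rootSign, if_neg h1, if_pos h2, h2, Finset.sum_congr rfl fun k _ => (hodd k).neg_one_pow]
    simp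
  rw [rootSign, if_neg h1, if_neg h2, Int.cast_zero, zero_mul]
  have h : ∑ k : (ZMod (2 ^ (m + 1)))ˣ, z ^ (k : ZMod (2 ^ (m + 1))).val =
      ∑ j ∈ Finset.range (2 ^ m), z * (z ^ 2) ^ j := by
    refine Finset.sum_nbij' (fun k => (k : ZMod (2 ^ (m + 1))).val / 2)
      (fun j => ZMod.unitOfCoprime (2 * j + 1)
        ((Nat.coprime_two_right.2 ⟨j, rfl⟩).pow_right _)) ?_ ?_ ?_ ?_ ?_
    · intro k _
      have := ZMod.val_lt (k : ZMod (2 ^ (m + 1)))
      rw [Finset.mem_range]
      have h2 : 2 ^ (m + 1) = 2 ^ m * 2 := pow_succ 2 m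
      omega
    · intro j _
      exact Finset.mem_univ _
    · intro k _
      obtain ⟨j, hj⟩ := hodd k
      refine Units.ext ?_
      rw [ZMod.coe_unitOfCoprime, show 2 * ((k : ZMod (2 ^ (m + 1))).val / 2) + 1 =
        (k : ZMod (2 ^ (m + 1))).val by omega, ZMod.natCast_zmod_val]
    · intro j hj
      rw [Finset.mem_range] at hj
      simp only [ZMod.coe_unitOfCoprime, ZMod.val_natCast]
      rw [Nat.mod_eq_of_lt (by rw [pow_succ]; omega)]
      omega
    · intro k _
      obtain ⟨j, hj⟩ := hodd k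
      rw [hj, show (2 * j + 1) / 2 = j by omega, pow_succ', pow_mul]
  rw [h, ← Finset.mul_sum, geom_sum_eq (fun h => (sq_eq_one_iff.1 h).elim h1 h2), ← pow_mul,
    ← pow_succ', hz, sub_self, zero_div, mul_zero]

end Roots

variable {G : Type u} [Group G] [Fintype G] {p : ℕ} {M : Ideal Cfsg.AlgInt}
variable {x : G} {H : Subgroup G} [Fintype H]
variable {b : Set (Cfsg.IrrCharacter H)} {B : Set (Cfsg.IrrCharacter G)}

/-- The integral coefficient of a pair in the contribution. -/
noncomputable def pairCoef (p : ℕ) (b : Set (Cfsg.IrrCharacter H)) (χ φ : Cfsg.IrrCharacter G)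
    (i : Cfsg.IrrCharacter H × Cfsg.IrrCharacter H) : ℤ :=
  open Classical in
  if h : ∃ k : ℤ, BlockChar.regM p b i.1 i.2 = (k : ℂ) then
    (resMult χ i.1 : ℤ) * (resMult φ i.2 : ℤ) * h.choose else 0

variable (hH : ∀ a : G, a ∈ H ↔ x * a = a * x)
include hH

/-- The root of unity of a pair. -/
noncomputable def pairRoot (i : Cfsg.IrrCharacter H × Cfsg.IrrCharacter H) : ℂ :=
  shiftScalar hH i.1 * conj (shiftScalar hH i.2)

omit [Fintype G] in
theorem centralizer_pow {j : ℕ} (hj : j.Coprime (orderOf x)) :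
    ∀ a : G, a ∈ H ↔ x ^ j * a = a * x ^ j := by
  obtain ⟨m, hm⟩ := exists_pow_eq_self_of_coprime hj
  intro a
  rw [hH a]
  exact ⟨fun h => ((show Commute x a from h).pow_left j).eq,
    fun h => hm ▸ ((show Commute (x ^ j) a from h).pow_left m).eq⟩

omit [Fintype G] in
theorem pairRoot_pow (i : Cfsg.IrrCharacter H × Cfsg.IrrCharacter H) {q : ℕ} (hq : x ^ q = 1) :
    pairRoot hH i ^ q = 1 := by
  rw [pairRoot, mul_pow, ← map_pow, shiftScalar_pow hH _ hq, shiftScalar_pow hH _ hq, map_one,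
    one_mul]

variable (hM : Cfsg.IsPModular p M)
include hM

/-- The contributions of the powers of `x` are conjugate integral combinations. -/
theorem contrib_pow_eq (χ φ : Cfsg.IrrCharacter G) {j : ℕ} (hj : j.Coprime (orderOf x)) :
    contrib p (x ^ j) b χ φ =
      ∑ i ∈ (Set.toFinite b).toFinset ×ˢ (Set.toFinite b).toFinset,
        (pairCoef p b χ φ i : ℂ) * pairRoot hH i ^ j := by
  have hH' := centralizer_pow hH hj
  rw [contrib, Finset.sum_product]
  refine Finset.sum_congr rfl fun η hη => Finset.sum_congr rfl fun η' _ => ?_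
  have h := BlockChar.exists_int_regM hM ((Set.Finite.mem_toFinset _).1 hη) η'
  rw [pairCoef, dif_pos h, shiftCoef_eq hH', shiftCoef_eq hH', shiftScalar_of_pow hH _ hH',
    shiftScalar_of_pow hH _ hH', pairRoot, mul_pow]
  conv_lhs => rw [h.choose_spec, map_mul, map_pow, Complex.conj_natCast]
  push_cast
  ring

variable (hx : ∃ k, orderOf x = p ^ k) (hind : Cfsg.IsInducedBlock M H b B)
include hx hind

/-- The squares of the entries of a row add up to the scaled diagonal entry. -/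
theorem sum_normSq_contrib_row {χ : Cfsg.IrrCharacter G} :
    ∑ φ ∈ B.toFinite.toFinset, Complex.normSq (contrib p x b χ φ) =
      (p ^ Cfsg.blockDefect p b : ℕ) * (contrib p x b χ χ).re := by
  have h := congrArg Complex.re (sum_contrib_mul hH hM hx hind χ χ)
  rw [finsum_mem_eq_finite_toFinset_sum _ B.toFinite, Complex.re_sum] at h
  refine (Finset.sum_congr rfl fun φ _ => ?_).trans (h.trans (by
    rw [Complex.mul_re, Complex.natCast_re, Complex.natCast_im, zero_mul, sub_zero]))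
  rw [← contrib_conj hH hM χ φ, Complex.mul_conj, Complex.ofReal_re]

omit hind in
theorem pow_hyps (k : (ZMod (orderOf x))ˣ) :
    (∀ a : G, a ∈ H ↔ x ^ (k : ZMod (orderOf x)).val * a =
      a * x ^ (k : ZMod (orderOf x)).val) ∧
    ∃ n, orderOf (x ^ (k : ZMod (orderOf x)).val) = p ^ n := by
  obtain ⟨n, hn⟩ := hx
  exact ⟨centralizer_pow hH (ZMod.val_coe_unit_coprime k),
    n, by rw [(ZMod.val_coe_unit_coprime k).symm.orderOf_pow, hn]⟩

/-- The mean square of an entry between characters of height zero is at least one. -/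
theorem card_units_le_sum_normSq_contrib [NeZero (orderOf x)] {χ φ : Cfsg.IrrCharacter G}
    (hχ : χ ∈ B) (hφ : φ ∈ B) (h0χ : Cfsg.blockHeight p B (χ : G → ℂ) = 0)
    (h0φ : Cfsg.blockHeight p B (φ : G → ℂ) = 0) :
    (Fintype.card (ZMod (orderOf x))ˣ : ℝ) ≤ ∑ k : (ZMod (orderOf x))ˣ,
      Complex.normSq (contrib p (x ^ (k : ZMod (orderOf x)).val) b χ φ) := by
  have e := fun k : (ZMod (orderOf x))ˣ =>
    contrib_pow_eq hH hM (b := b) χ φ (ZMod.val_coe_unit_coprime k)
  simp only [e]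
  refine card_units_le_sum_normSq _ _ _ (fun i _ => pairRoot_pow hH i (pow_orderOf_eq_one x))
    fun k h => ?_
  obtain ⟨hH', hx'⟩ := pow_hyps hH hM hx k
  rw [← e k] at h
  have h2 := (contrib_memLocalIdeal_iff hH' hM hx' hind hχ hφ).1 (h ▸ memLocalIdeal_zero hM)
  exact h2.elim (fun h => h h0χ) (fun h => h h0φ)

/-- The number of characters of height zero is at most the root of `p ^ (2 d) l`. -/
theorem height_zero_card_sq_le :
    Nat.card {χ : Cfsg.IrrCharacter G // χ ∈ B ∧ Cfsg.blockHeight p B (χ : G → ℂ) = 0} ^ 2 ≤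
      p ^ (2 * Cfsg.blockDefect p b) * Cfsg.blockRank p b := by
  classical
  have : NeZero (orderOf x) := ⟨(orderOf_pos x).ne'⟩
  set S := B.toFinite.toFinset
  set B0 := S.filter fun χ : Cfsg.IrrCharacter G => Cfsg.blockHeight p B (χ : G → ℂ) = 0 with hB0
  have hcard : Nat.card {χ : Cfsg.IrrCharacter G //
      χ ∈ B ∧ Cfsg.blockHeight p B (χ : G → ℂ) = 0} = B0.card := by
    rw [Nat.card_eq_fintype_card, Fintype.card_subtype]
    congr 1
    ext χ
    simp [hB0, S]
  rw [hcard]
  set N : ℝ := ((p ^ Cfsg.blockDefect p b : ℕ) : ℝ) with hN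
  have h1 : (B0.card : ℝ) ^ 2 * Fintype.card (ZMod (orderOf x))ˣ ≤
      ∑ χ ∈ S, ∑ φ ∈ S, ∑ k : (ZMod (orderOf x))ˣ,
        Complex.normSq (contrib p (x ^ (k : ZMod (orderOf x)).val) b χ φ) := by
    have hsub : B0 ⊆ S := fun χ h => (Finset.mem_filter.1 h).1
    refine le_trans ?_ (Finset.sum_le_sum_of_subset_of_nonneg hsub
      fun χ _ _ => Finset.sum_nonneg fun φ _ => Finset.sum_nonneg fun k _ =>
        Complex.normSq_nonneg _)
    refine le_trans ?_ (Finset.sum_le_sum fun χ _ => Finset.sum_le_sum_of_subset_of_nonneg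
      hsub fun φ _ _ => Finset.sum_nonneg fun k _ => Complex.normSq_nonneg _)
    refine le_trans (le_of_eq ?_) (Finset.sum_le_sum fun χ hχ => Finset.sum_le_sum fun φ hφ =>
      card_units_le_sum_normSq_contrib hH hM hx hind
        ((Set.Finite.mem_toFinset _).1 (Finset.mem_filter.1 hχ).1)
        ((Set.Finite.mem_toFinset _).1 (Finset.mem_filter.1 hφ).1)
        (Finset.mem_filter.1 hχ).2 (Finset.mem_filter.1 hφ).2)
    simp only [Finset.sum_const, nsmul_eq_mul, ← hB0]
    ring
  have h2 : ∑ χ ∈ S, ∑ φ ∈ S, ∑ k : (ZMod (orderOf x))ˣ,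
      Complex.normSq (contrib p (x ^ (k : ZMod (orderOf x)).val) b χ φ) =
      N ^ 2 * (Cfsg.blockRank p b : ℝ) * Fintype.card (ZMod (orderOf x))ˣ := by
    rw [Finset.sum_congr rfl fun χ _ => Finset.sum_comm, Finset.sum_comm]
    have e : ∀ k : (ZMod (orderOf x))ˣ, ∑ χ ∈ S, ∑ φ ∈ S,
        Complex.normSq (contrib p (x ^ (k : ZMod (orderOf x)).val) b χ φ) =
        N ^ 2 * (Cfsg.blockRank p b : ℝ) := by
      intro k
      obtain ⟨hH', hx'⟩ := pow_hyps hH hM hx k
      rw [Finset.sum_congr rfl fun χ _ => sum_normSq_contrib_row hH' hM hx' hind (χ := χ),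
        ← Finset.mul_sum, ← Complex.re_sum, ← finsum_mem_eq_finite_toFinset_sum _ B.toFinite,
        sum_contrib_self hH' hM hx' hind, Complex.mul_re, Complex.natCast_re, Complex.natCast_im,
        zero_mul, sub_zero, Complex.natCast_re, hN]
      ring
    rw [Finset.sum_congr rfl fun k _ => e k, Finset.sum_const, Finset.card_univ, nsmul_eq_mul]
    ring
  have hpos : (0 : ℝ) < Fintype.card (ZMod (orderOf x))ˣ := Nat.cast_pos.2 Fintype.card_pos
  have h3 := le_of_mul_le_mul_right (h1.trans h2.le) hpos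
  rw [hN] at h3
  have : ((B0.card ^ 2 : ℕ) : ℝ) ≤
      (((p ^ Cfsg.blockDefect p b) ^ 2 * Cfsg.blockRank p b : ℕ) : ℝ) := by push_cast at h3 ⊢; exact h3
  rw [← pow_mul, mul_comm _ 2] at this
  exact_mod_cast this

omit hx hind in
theorem pairRoot_sub_one_mem (hx : ∃ k, orderOf x = p ^ k)
    (i : Cfsg.IrrCharacter H × Cfsg.IrrCharacter H) :
    Cfsg.MemLocalIdeal M (pairRoot hH i - 1) := by
  obtain ⟨k, hk⟩ := hx
  have h := pairRoot_pow hH i (hk ▸ pow_orderOf_eq_one x)
  exact (memLocalIdeal_coe_iff hM _).2 (sub_one_mem_of_pow_prime_pow hM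
    (z := ⟨_, isIntegral_of_pow_eq_one (pow_pos hM.1.pos k) h⟩) (Subtype.ext (by simpa using h)))

omit hM hx hind in
theorem rootSign_pairRoot_diag (hq : ∃ q, 0 < q ∧ x ^ q = 1) (η : Cfsg.IrrCharacter H) :
    rootSign (pairRoot hH (η, η)) = 1 := by
  obtain ⟨q, hq0, hq⟩ := hq
  have h := shiftScalar_pow hH η hq
  have h1 : ‖shiftScalar hH η‖ = 1 := Complex.norm_eq_one_of_pow_eq_one h hq0.ne'
  rw [rootSign, if_pos]
  rw [pairRoot, Complex.mul_conj, Complex.normSq_eq_norm_sq, h1]
  simp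

omit hx hind in
theorem pairCoef_swap (χ : Cfsg.IrrCharacter G)
    {i : Cfsg.IrrCharacter H × Cfsg.IrrCharacter H} (h1 : i.1 ∈ b) (h2 : i.2 ∈ b) :
    pairCoef p b χ χ i.swap = pairCoef p b χ χ i := by
  have h := BlockChar.exists_int_regM hM h1 i.2
  have h' := BlockChar.exists_int_regM hM h2 i.1
  rw [pairCoef, pairCoef, dif_pos h, dif_pos (show ∃ k : ℤ,
    BlockChar.regM p b i.swap.1 i.swap.2 = (k : ℂ) from h')]
  have e : (h'.choose : ℂ) = (h.choose : ℂ) := by
    rw [← h.choose_spec, ← h'.choose_spec, BlockChar.regM_comm hM]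
  show (resMult χ i.2 : ℤ) * (resMult χ i.1 : ℤ) * h'.choose = _
  rw [mul_comm (resMult χ i.2 : ℤ)]
  congr 1
  exact_mod_cast e

omit hH hM hx hind in
/-- The mean of a diagonal contribution over the powers of `x`, for `p = 2`. -/
theorem exists_mean_contrib {M : Ideal Cfsg.AlgInt} (hM : Cfsg.IsPModular 2 M)
    (hH : ∀ a : G, a ∈ H ↔ x * a = a * x) (hx : ∃ k, orderOf x = 2 ^ k)
    (hind : Cfsg.IsInducedBlock M H b B) [NeZero (orderOf x)] {χ : Cfsg.IrrCharacter G}
    (hχ : χ ∈ B) :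
    ∃ a : ℤ, (∑ k : (ZMod (orderOf x))ˣ,
      (contrib 2 (x ^ (k : ZMod (orderOf x)).val) b χ χ).re =
        (a : ℝ) * Fintype.card (ZMod (orderOf x))ˣ) ∧
      (Cfsg.blockHeight 2 B (χ : G → ℂ) = 0 → Odd a) := by
  classical
  set T := (Set.toFinite b).toFinset ×ˢ (Set.toFinite b).toFinset with hT
  set c := pairCoef 2 b χ χ with hc
  set w := pairRoot hH with hw
  refine ⟨∑ i ∈ T, c i * rootSign (w i), ?_, fun h0 => ?_⟩
  · have e : ∑ k : (ZMod (orderOf x))ˣ, contrib 2 (x ^ (k : ZMod (orderOf x)).val) b χ χ =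
        ((∑ i ∈ T, c i * rootSign (w i) : ℤ) : ℂ) * Fintype.card (ZMod (orderOf x))ˣ := by
      rw [Finset.sum_congr rfl fun k _ =>
        contrib_pow_eq hH hM (b := b) χ χ (ZMod.val_coe_unit_coprime k), Finset.sum_comm,
        Int.cast_sum, Finset.sum_mul]
      refine Finset.sum_congr rfl fun i _ => ?_
      rw [← Finset.mul_sum, Int.cast_mul, mul_assoc]
      congr 1
      obtain ⟨m, hm⟩ := hx
      have key : ∀ q : ℕ, ∀ _ : NeZero q, q = 2 ^ m → w i ^ q = 1 →
          ∑ k : (ZMod q)ˣ, w i ^ (k : ZMod q).val =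
            (rootSign (w i) : ℂ) * (Fintype.card (ZMod q)ˣ : ℂ) := by
        rintro _ _ rfl h1
        convert sum_units_pow_two (m := m) h1
      exact key _ inferInstance hm (pairRoot_pow hH i (pow_orderOf_eq_one x))
    have e' := congrArg Complex.re e
    rw [Complex.re_sum] at e'
    rw [e']
    simp
  · have h1 : ¬ Cfsg.MemLocalIdeal M (contrib 2 (x ^ 1) b χ χ) := by
      rw [pow_one, contrib_memLocalIdeal_iff hH hM hx hind hχ hχ]
      exact fun h => h.elim (fun h => h h0) (fun h => h h0)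
    have h2 : ¬ Cfsg.MemLocalIdeal M (((∑ i ∈ T, c i : ℤ)) : ℂ) := by
      intro hmem
      refine h1 ?_
      rw [contrib_pow_eq hH hM χ χ (Nat.coprime_one_left _)]
      have hd : Cfsg.MemLocalIdeal M (∑ i ∈ T, (c i : ℂ) * w i ^ 1 - ((∑ i ∈ T, c i : ℤ) : ℂ)) := by
        rw [Int.cast_sum, ← Finset.sum_sub_distrib]
        refine memLocalIdeal_sum hM _ fun i _ => ?_
        rw [pow_one, ← mul_sub_one]
        exact memLocalIdeal_mul_left hM (memLocalRing_of_isIntegral hM (isIntegral_intCast _))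
          (pairRoot_sub_one_mem hH hM hx i)
      have h' := memLocalIdeal_add hM hd hmem
      rw [sub_add_cancel] at h'
      exact h'
    have hodd : Odd (∑ i ∈ T, c i) := by
      rcases Int.even_or_odd (∑ i ∈ T, c i) with ⟨t, ht⟩ | h
      · refine absurd ?_ h2
        rw [ht, ← two_mul, Int.cast_mul, Int.cast_ofNat, show (2 : ℂ) = ((2 : ℕ) : ℂ) by norm_num]
        exact memLocalIdeal_mul_right hM
          ((memLocalIdeal_natCast_iff hM _).2 (dvd_refl 2))
          (memLocalRing_of_isIntegral hM (isIntegral_intCast _))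
      · exact h
    have heven : (((∑ i ∈ T, (c i - c i * rootSign (w i))) : ℤ) : ZMod 2) = 0 := by
      rw [Int.cast_sum]
      refine Finset.sum_involution (fun i _ => i.swap) (fun i hi => ?_) (fun i hi hne heq => ?_)
        (fun i hi => ?_) (fun i _ => Prod.swap_swap i)
      · obtain ⟨hi1, hi2⟩ := Finset.mem_product.1 hi
        rw [Set.Finite.mem_toFinset] at hi1 hi2
        have e1 : c i.swap = c i := pairCoef_swap hH hM χ hi1 hi2
        have e2 : rootSign (w i.swap) = rootSign (w i) := by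
          rw [← rootSign_conj (w i)]
          congr 1
          simp only [hw, pairRoot, map_mul, Complex.conj_conj, Prod.fst_swap, Prod.snd_swap]
          exact mul_comm _ _
        rw [e1, e2, CharTwo.add_self_eq_zero]
      · refine hne ?_
        have h12 : i.1 = i.2 := (congrArg Prod.fst heq).symm
        have e : rootSign (w i) = 1 := by
          rw [hw, show i = (i.1, i.1) from Prod.ext rfl h12.symm]
          exact rootSign_pairRoot_diag hH ⟨_, orderOf_pos x, pow_orderOf_eq_one x⟩ i.1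
        rw [e, mul_one, sub_self, Int.cast_zero]
      · obtain ⟨hi1, hi2⟩ := Finset.mem_product.1 hi
        exact Finset.mem_product.2 ⟨hi2, hi1⟩
    have heven' := (ZMod.intCast_zmod_eq_zero_iff_dvd _ 2).1 heven
    rw [Finset.sum_sub_distrib] at heven'
    have h3 : Even ((∑ i ∈ T, c i) - ∑ i ∈ T, c i * rootSign (w i)) :=
      even_iff_two_dvd.2 (by simpa using heven')
    rcases Int.even_or_odd (∑ i ∈ T, c i * rootSign (w i)) with h | h
    · exact absurd ((Int.even_sub.1 h3).2 h) (Int.not_even_iff_odd.2 hodd)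
    · exact h

omit hH hM hx hind in
/-- The means bound the number of characters of height zero. -/
theorem exists_means_two {M : Ideal Cfsg.AlgInt} (hM : Cfsg.IsPModular 2 M)
    (hH : ∀ a : G, a ∈ H ↔ x * a = a * x) (hx : ∃ k, orderOf x = 2 ^ k)
    (hind : Cfsg.IsInducedBlock M H b B) :
    ∃ a : {χ : Cfsg.IrrCharacter G // χ ∈ B ∧ Cfsg.blockHeight 2 B (χ : G → ℂ) = 0} → ℤ,
      (∀ χ, Odd (a χ) ∧ 0 < a χ ∧
        (Nat.card {χ : Cfsg.IrrCharacter G // χ ∈ B ∧ Cfsg.blockHeight 2 B (χ : G → ℂ) = 0} : ℤ) -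
          1 ≤ a χ * ((2 ^ Cfsg.blockDefect 2 b : ℕ) - a χ)) ∧
      ∑ᶠ χ, a χ ≤ (Cfsg.blockRank 2 b : ℤ) * (2 ^ Cfsg.blockDefect 2 b : ℕ) := by
  classical
  have : NeZero (orderOf x) := ⟨(orderOf_pos x).ne'⟩
  set K := (ZMod (orderOf x))ˣ
  set P := fun (k : K) (χ φ : Cfsg.IrrCharacter G) =>
    contrib 2 (x ^ (k : ZMod (orderOf x)).val) b χ φ with hP
  set N : ℝ := ((2 ^ Cfsg.blockDefect 2 b : ℕ) : ℝ) with hN
  set S := B.toFinite.toFinset
  have hK : (0 : ℝ) < Fintype.card K := Nat.cast_pos.2 Fintype.card_pos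
  have hrow : ∀ (k : K) (χ : Cfsg.IrrCharacter G),
      ∑ φ ∈ S, Complex.normSq (P k χ φ) = N * (P k χ χ).re := fun k χ =>
    sum_normSq_contrib_row (pow_hyps hH hM hx k).1 hM (pow_hyps hH hM hx k).2 hind
  have hN0 : 0 < N := Nat.cast_pos.2 (pow_pos two_pos _)
  have hpos : ∀ (k : K) (χ : Cfsg.IrrCharacter G), 0 ≤ (P k χ χ).re := fun k χ =>
    nonneg_of_mul_nonneg_right ((hrow k χ) ▸ Finset.sum_nonneg fun φ _ => Complex.normSq_nonneg _)
      hN0
  choose a ha using fun χ : {χ : Cfsg.IrrCharacter G //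
      χ ∈ B ∧ Cfsg.blockHeight 2 B (χ : G → ℂ) = 0} => exists_mean_contrib hM hH hx hind χ.2.1
  refine ⟨a, fun χ => ⟨(ha χ).2 χ.2.2, ?_, ?_⟩, ?_⟩
  · have h0 : (0 : ℝ) ≤ (a χ : ℝ) * Fintype.card K := by
      rw [← (ha χ).1]
      exact Finset.sum_nonneg fun k _ => hpos k χ
    have h1 : (0 : ℤ) ≤ a χ := by exact_mod_cast nonneg_of_mul_nonneg_left h0 hK
    rcases h1.lt_or_eq with h | h
    · exact h
    · exact absurd (h ▸ (ha χ).2 χ.2.2) (by simp)
  · set B0 := S.filter fun φ : Cfsg.IrrCharacter G => Cfsg.blockHeight 2 B (φ : G → ℂ) = 0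
      with hB0
    have hcard : Nat.card {χ : Cfsg.IrrCharacter G //
        χ ∈ B ∧ Cfsg.blockHeight 2 B (χ : G → ℂ) = 0} = B0.card := by
      rw [Nat.card_eq_fintype_card, Fintype.card_subtype]
      congr 1
      ext φ
      simp [hB0, S]
    rw [hcard]
    have hmem : χ.1 ∈ B0 := Finset.mem_filter.2 ⟨(Set.Finite.mem_toFinset _).2 χ.2.1, χ.2.2⟩
    have h1 : ((B0.card : ℝ) - 1) * Fintype.card K ≤
        ∑ k : K, (N * (P k χ χ).re - (P k χ χ).re ^ 2) := by
      have e : ((B0.card : ℝ) - 1) = ((B0.erase χ.1).card : ℝ) := by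
        rw [Finset.card_erase_of_mem hmem,
          Nat.cast_sub (Finset.card_pos.2 ⟨_, hmem⟩), Nat.cast_one]
      rw [e, ← nsmul_eq_mul, ← Finset.sum_const]
      refine (Finset.sum_le_sum fun φ hφ => card_units_le_sum_normSq_contrib hH hM hx hind χ.2.1
        ((Set.Finite.mem_toFinset _).1 (Finset.mem_filter.1 (Finset.mem_of_mem_erase hφ)).1) χ.2.2
        (Finset.mem_filter.1 (Finset.mem_of_mem_erase hφ)).2).trans ?_
      rw [Finset.sum_comm]
      refine Finset.sum_le_sum fun k _ => ?_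
      have h2 := hrow k χ
      rw [← Finset.add_sum_erase S _ (Finset.filter_subset _ _ hmem)] at h2
      have h3 : ∑ φ ∈ B0.erase χ.1, Complex.normSq (P k χ φ) ≤
          ∑ φ ∈ S.erase χ.1, Complex.normSq (P k χ φ) :=
        Finset.sum_le_sum_of_subset_of_nonneg
          (Finset.erase_subset_erase _ (Finset.filter_subset _ _))
          fun φ _ _ => Complex.normSq_nonneg _
      have him : (P k χ χ).im = 0 := by
        have h4 := congrArg Complex.im (contrib_conj (pow_hyps hH hM hx k).1 hM (b := b) χ.1 χ.1)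
        rw [Complex.conj_im] at h4
        simp only [hP]
        linarith
      rw [Complex.normSq_apply (P k χ χ), him] at h2
      simp only [hP] at h2 h3 ⊢
      nlinarith
    have h4 : ∑ k : K, (N * (P k χ χ).re - (P k χ χ).re ^ 2) ≤
        Fintype.card K * ((a χ : ℝ) * (N - a χ)) := by
      have h5 : (0 : ℝ) ≤ ∑ k : K, ((P k χ χ).re - a χ) ^ 2 :=
        Finset.sum_nonneg fun k _ => sq_nonneg _
      simp only [sub_sq, Finset.sum_add_distrib, Finset.sum_sub_distrib, Finset.sum_const,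
        Finset.card_univ, nsmul_eq_mul, ← Finset.mul_sum, ← Finset.sum_mul] at h5
      rw [Finset.sum_sub_distrib, ← Finset.mul_sum]
      have e1 : ∑ k : K, (P k χ χ).re = (a χ : ℝ) * Fintype.card K := (ha χ).1
      rw [e1] at h5 ⊢
      nlinarith
    have h6 : ((B0.card : ℝ) - 1) ≤ (a χ : ℝ) * (N - a χ) :=
      le_of_mul_le_mul_right ((h1.trans h4).trans (le_of_eq (mul_comm _ _))) hK
    rw [hN] at h6
    exact_mod_cast h6
  · rw [finsum_eq_sum_of_fintype]
    have h1 : (∑ χ, (a χ : ℝ)) * Fintype.card K ≤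
        N * (Cfsg.blockRank 2 b : ℝ) * Fintype.card K := by
      rw [Finset.sum_mul, Finset.sum_congr rfl fun χ _ => ((ha χ).1).symm, Finset.sum_comm]
      have e : ∀ k : K, ∑ χ : {χ : Cfsg.IrrCharacter G //
          χ ∈ B ∧ Cfsg.blockHeight 2 B (χ : G → ℂ) = 0}, (P k χ χ).re ≤
          N * (Cfsg.blockRank 2 b : ℝ) := by
        intro k
        rw [← Finset.sum_subtype (S.filter fun φ : Cfsg.IrrCharacter G =>
          Cfsg.blockHeight 2 B (φ : G → ℂ) = 0) (fun φ => by simp [S])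
          (fun φ => (P k φ φ).re)]
        refine (Finset.sum_le_sum_of_subset_of_nonneg (Finset.filter_subset _ _)
          fun φ _ _ => hpos k φ).trans (le_of_eq ?_)
        simp only [hP]
        rw [← Complex.re_sum, ← finsum_mem_eq_finite_toFinset_sum _ B.toFinite,
          sum_contrib_self (pow_hyps hH hM hx k).1 hM (pow_hyps hH hM hx k).2 hind,
          Complex.mul_re, Complex.natCast_re, Complex.natCast_im, zero_mul, sub_zero,
          Complex.natCast_re, hN]
      refine (Finset.sum_le_sum fun k _ => e k).trans (le_of_eq ?_)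
      rw [Finset.sum_const, Finset.card_univ, nsmul_eq_mul, mul_comm]
    have h2 := le_of_mul_le_mul_right h1 hK
    rw [hN, mul_comm (((2 ^ _ : ℕ) : ℝ))] at h2
    exact_mod_cast h2

end Cfsg.Agent.Blocks
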