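import Cfsg.Agent.Blocks.ExtendedFirstMain
import Cfsg.Agent.BlockThms.Normal
import Cfsg.Agent.BlockThms.DefectCor
import Cfsg.Agent.Char.CliffordCorr

/-!
# The Fong-Reynolds correspondence

Blocks of the stabilizer `T` of a block `b` of a normal subgroup `N` covering `b` correspond to
the blocks of `G` covering `b`, by induction of characters.
-/

namespace Cfsg.Agent.Blocks

open scoped ComplexConjugate
open Cfsg.Agent

universe u

variable {G : Type u} [Group G] [Fintype G] {p : ℕ} {M : Ideal Cfsg.AlgInt}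

local notation "sbc" => Cfsg.subgroupBlockCoeff

theorem conv_assoc (f h k : G → ℂ) : conv (conv f h) k = conv f (conv h k) := by
  funext z
  simp only [conv, Finset.sum_mul, Finset.mul_sum]
  rw [Finset.sum_comm]
  refine Finset.sum_congr rfl fun a _ => ?_
  refine Fintype.sum_equiv (Equiv.mulLeft a⁻¹) _ _ fun b => ?_
  simp only [Equiv.coe_mulLeft, mul_inv_rev, inv_inv]
  rw [mul_assoc (f a)]
  congr 3
  group

/-- Conjugation respects the convolution. -/
theorem conv_comp_conj (q : G) (f h : G → ℂ) :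
    conv (fun y => f (q⁻¹ * y * q)) (fun y => h (q⁻¹ * y * q)) =
      fun y => conv f h (q⁻¹ * y * q) := by
  funext z
  simp only [conv]
  refine Fintype.sum_equiv (MulAut.conj q⁻¹).toEquiv _ _ fun a => ?_
  simp only [MulEquiv.toEquiv_eq_coe, MulEquiv.coe_toEquiv, MulAut.conj_apply, inv_inv]
  congr 2
  group

/-- The central character of an induced character. -/
theorem omega_indFun {T : Subgroup G} [Fintype T] (ψ : T → ℂ) {f : G → ℂ}
    (hf : Cfsg.IsClassFunction G f) :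
    omega (Cfsg.indFun T ψ) f = omega ψ fun t : T => f (t : G) := by
  have h := Char.classInner_indFun_left T ψ (χ := fun g => conj (f g))
    (fun g k => by simp [hf g k])
  simp only [Cfsg.classInner, Complex.conj_conj] at h
  have hG : (Nat.card G : ℂ) ≠ 0 := Nat.cast_ne_zero.2 Nat.card_pos.ne'
  have hT : (Nat.card T : ℂ) ≠ 0 := Nat.cast_ne_zero.2 Nat.card_pos.ne'
  have hi : (T.index : ℂ) ≠ 0 := Nat.cast_ne_zero.2 Subgroup.index_ne_zero_of_finite
  rw [inv_mul_eq_iff_eq_mul₀ hG] at h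
  have h1 : ∑ g, f g * Cfsg.indFun T ψ g = (T.index : ℂ) * ∑ t : T, f (t : G) * ψ t := by
    rw [Finset.sum_congr rfl fun g _ => mul_comm (f g) _, h, ← Subgroup.index_mul_card T,
      Finset.sum_congr rfl fun (t : T) _ => mul_comm (ψ t) (f (t : G))]
    push_cast
    field_simp
  rw [omega, omega, h1, Char.indFun_apply_one, mul_div_mul_left _ _ hi]

variable {N T : Subgroup G} [hN : N.Normal] [Fintype N] [Fintype T] (hNT : N ≤ T)
  {b : Set (Cfsg.IrrCharacter N)}

/-- `ψ` lies over a member of `b`. -/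
def OverBlock (b : Set (Cfsg.IrrCharacter N)) (ψ : T → ℂ) : Prop :=
  ∃ θ ∈ b, Cfsg.classInner (fun n : N => ψ ⟨(n : G), hNT n.2⟩) (θ : N → ℂ) ≠ 0

/-- The degree of the part of a character of `N` in `b`. -/
noncomputable def degPart (b : Set (Cfsg.IrrCharacter N)) (f : N → ℂ) : ℂ :=
  ∑ n : N, sbc N b (n : G) * f n

omit hN in
open scoped Classical in
theorem degPart_irr (η : Cfsg.IrrCharacter N) :
    degPart b (η : N → ℂ) = if η ∈ b then (η : N → ℂ) 1 else 0 := by
  have h := omega_blockCoeff b η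
  rw [omega, div_eq_iff (Char.IsIrr.one_ne_zero η.2), ite_mul, one_mul, zero_mul] at h
  simp only [degPart, BrauerPairs.sbc_apply]
  exact h

omit hN in
theorem degPart_eq_sum {f : N → ℂ} (hf : Cfsg.IsClassFunction N f) :
    degPart b f =
      ∑ η : Cfsg.IrrCharacter N, Cfsg.classInner f (η : N → ℂ) * degPart b (η : N → ℂ) := by
  conv_lhs => rw [Char.classFun_expansion hf]
  simp only [degPart, Finset.sum_apply, Pi.smul_apply, smul_eq_mul, Finset.mul_sum]
  rw [Finset.sum_comm]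
  exact Finset.sum_congr rfl fun η _ => Finset.sum_congr rfl fun n _ => by ring

omit hN in
theorem exists_degPart_eq_natCast {f : N → ℂ} (hf : Cfsg.IsCharacter N f) :
    ∃ k : ℕ, degPart b f = k ∧ (k = 0 ↔ ∀ η ∈ b, Cfsg.classInner f (η : N → ℂ) = 0) ∧
      ((∀ η : Cfsg.IrrCharacter N, η ∉ b → Cfsg.classInner f (η : N → ℂ) = 0) ↔
        (k : ℂ) = f 1) := by
  classical
  choose m hm using fun η : Cfsg.IrrCharacter N =>
    Char.classInner_isCharacter_eq_natCast hf (Char.IsIrr.isCharacter η.2)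
  have hd : ∀ η : Cfsg.IrrCharacter N, (η : N → ℂ) 1 = (Cfsg.charDegree (η : N → ℂ) : ℂ) :=
    fun η => (CharArith.irr_degree_spec η).1
  refine ⟨∑ η : Cfsg.IrrCharacter N,
    if η ∈ b then m η * Cfsg.charDegree (η : N → ℂ) else 0, ?_, ?_, ?_⟩
  · rw [degPart_eq_sum (Char.isClassFunction_of_isCharacter hf), Nat.cast_sum]
    refine Finset.sum_congr rfl fun η _ => ?_
    rw [degPart_irr]
    split_ifs <;> simp [hm, hd]
  · simp only [Finset.sum_eq_zero_iff, Finset.mem_univ, true_implies, hm, Nat.cast_eq_zero]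
    refine forall_congr' fun η => ?_
    by_cases h : η ∈ b <;> simp [h, (CharArith.irr_degree_spec η).2.ne']
  · have h1 : f 1 = ((∑ η : Cfsg.IrrCharacter N, m η * Cfsg.charDegree (η : N → ℂ) : ℕ) : ℂ) := by
      conv_lhs => rw [Char.classFun_expansion (Char.isClassFunction_of_isCharacter hf)]
      push_cast
      simp [Finset.sum_apply, hm, hd]
    rw [h1, Nat.cast_inj, Finset.sum_eq_sum_iff_of_le fun η _ => by split_ifs <;> simp]
    simp only [Finset.mem_univ, true_implies, hm, Nat.cast_eq_zero]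
    refine forall_congr' fun η => ?_
    by_cases h : η ∈ b <;> simp [h, (CharArith.irr_degree_spec η).2.ne', eq_comm]

omit hN in
/-- A block of `N` that meets the restriction carries a positive part of the degree. -/
theorem degPart_ne_zero_iff {f : N → ℂ} (hf : Cfsg.IsCharacter N f) :
    degPart b f ≠ 0 ↔ ∃ η ∈ b, Cfsg.classInner f (η : N → ℂ) ≠ 0 := by
  obtain ⟨k, hk, h0, -⟩ := exists_degPart_eq_natCast (b := b) hf
  rw [hk, ne_eq, Nat.cast_eq_zero, h0]
  push Not
  rfl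

variable (hM : Cfsg.IsPModular p M) (hb : Cfsg.IsPBlock M b)
  (hT : ∀ g : G, g ∈ T ↔ ∀ θ ∈ b, ∀ θ' : Cfsg.IrrCharacter N,
    (∀ n : N, (θ' : N → ℂ) n = (θ : N → ℂ) ⟨g * n * g⁻¹, hN.conj_mem n n.2 g⟩) → θ' ∈ b)
include hM hb hT

omit [Fintype T] in
/-- The stabilizer, read on the conjugates. -/
theorem mem_of_conjFun_mem {g : G} {θ θ' : Cfsg.IrrCharacter N} (hθ : θ ∈ b) (hθ' : θ' ∈ b)
    (h : Char.conjFun g (θ : N → ℂ) = (θ' : N → ℂ)) : g ∈ T := by
  rw [hT]
  intro η hη η' he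
  refine IsPBlock.mem_of_sameBlock hM hb hθ' ?_
  rw [show (η' : N → ℂ) = Char.conjFun g (η : N → ℂ) from funext fun n => by
    rw [he n, Char.conjFun_apply], ← h]
  exact BlockThms.sameBlock_conjFun θ.2 η.2 (IsPBlock.sameBlock hM hb hθ hη) g

omit hM hb [Fintype T] in
theorem conjFun_mem {t : G} (ht : t ∈ T) {θ : Cfsg.IrrCharacter N} (hθ : θ ∈ b) :
    (⟨_, Char.isIrr_conjFun t θ.2⟩ : Cfsg.IrrCharacter N) ∈ b :=
  (hT t).1 ht θ hθ _ fun n => by
    show Char.conjFun t (θ : N → ℂ) n = _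
    rw [Char.conjFun_apply]

/-- The idempotent of `b` is invariant under `T`. -/
theorem isInv_sbc_block : BrauerPairs.IsInv (T : Set G) (sbc N b) := by
  intro t ht z
  have hg : ∀ y, y ∈ N ↔ t⁻¹ * y * t⁻¹⁻¹ ∈ N := fun y => by
    rw [inv_inv]
    refine ⟨fun h => by simpa using hN.conj_mem y h t⁻¹, fun h => ?_⟩
    simpa [mul_assoc] using hN.conj_mem _ h t
  have h := (BrauerPairs.stabilizes_iff_isInv hM hb hg).1 (fun θ hθ θ' he => ?_) t⁻¹
    (Set.mem_singleton _) (t * z * t⁻¹)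
  · rw [show t⁻¹ * (t * z * t⁻¹) * t⁻¹⁻¹ = z by group] at h
    exact h.symm
  · refine (hT t).1 ht θ hθ θ' fun n => he ⟨_, hN.conj_mem n n.2 t⟩ n ?_
    simp [mul_assoc]

include hNT in
omit hT in
/-- Two characters of `T` over `b` whose inductions share a block share a block. -/
theorem sameBlock_of_induced (hT : ∀ g : G, g ∈ T ↔ ∀ θ ∈ b, ∀ θ' : Cfsg.IrrCharacter N,
      (∀ n : N, (θ' : N → ℂ) n = (θ : N → ℂ) ⟨g * n * g⁻¹, hN.conj_mem n n.2 g⟩) → θ' ∈ b)
    {ψ ψ' : Cfsg.IrrCharacter T}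
    (hψ : omega (ψ : T → ℂ) (fun t : T => sbc N b (t : G)) = 1)
    (hψ' : omega (ψ' : T → ℂ) (fun t : T => sbc N b (t : G)) = 1)
    (h : ∀ F : G → ℂ, Cfsg.IsClassFunction G F → (∀ g, Cfsg.MemLocalRing M (F g)) →
      Cfsg.MemLocalIdeal M (omega (ψ : T → ℂ) (fun t : T => F (t : G)) -
        omega (ψ' : T → ℂ) (fun t : T => F (t : G)))) :
    Cfsg.SameBlock M (ψ : T → ℂ) (ψ' : T → ℂ) := by
  classical
  have hinv := isInv_sbc_block hM hb hT
  set E : G → ℂ := sbc N b with hE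
  have hEs : ∀ y, y ∉ N → E y = 0 := fun y hy => BrauerPairs.sbc_of_notMem b hy
  have hEc : Cfsg.IsClassFunction T fun t : T => E (t : G) := hinv.isClassFunction_res
  intro a
  set f : T → ℂ := classInd a with hf
  set Hf : G → ℂ := Cfsg.extendByZero T f with hHf
  have hHs : ∀ y, y ∉ T → Hf y = 0 := fun y hy => Char.extendByZero_of_not_mem T f hy
  set K : G → ℂ := conv Hf E with hK
  have hKs : ∀ y, y ∉ T → K y = 0 := fun y hy =>
    BrauerPairs.conv_eq_zero_of_notMem hHs (fun z hz => hEs z fun h' => hz (hNT h')) hy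
  have hKT : ∀ t : T, K (t : G) = conv f (fun s : T => E (s : G)) t := fun t => by
    rw [hK, BrauerPairs.conv_of_supported hHs]
    congr 1
    funext s
    rw [hHf, Char.extendByZero_coe]
  have hKinv : ∀ t ∈ T, ∀ y, K (t * y * t⁻¹) = K y := by
    intro t ht y
    by_cases hy : y ∈ T
    · have h1 := hKT ⟨y, hy⟩
      have h2 := hKT (⟨t, ht⟩ * ⟨y, hy⟩ * ⟨t, ht⟩⁻¹)
      simp only [Subgroup.coe_mul, Subgroup.coe_inv] at h1 h2
      rw [h1, h2]
      exact isClassFunction_conv (isClassFunction_classInd a) hEc _ _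
    · rw [hKs y hy, hKs _ fun h' => hy (by
        simpa [mul_assoc] using T.mul_mem (T.mul_mem (T.inv_mem ht) h') ht)]
  let F : G → ℂ := fun y => ∑ q : G ⧸ T, K (q.out⁻¹ * y * q.out)
  have hFc : Cfsg.IsClassFunction G F := by
    intro y k
    refine Fintype.sum_equiv (MulAction.toPerm k⁻¹) _ _ fun q => ?_
    obtain ⟨t, ht⟩ : ∃ t : T, (k⁻¹ • q).out = k⁻¹ * q.out * t := by
      have e : (((k⁻¹ • q).out : G) : G ⧸ T) = ((k⁻¹ * q.out : G) : G ⧸ T) := by
        rw [QuotientGroup.out_eq']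
        conv_lhs => rw [← QuotientGroup.out_eq' q]
        rfl
      exact ⟨⟨(k⁻¹ * q.out)⁻¹ * (k⁻¹ • q).out, QuotientGroup.eq.1 e.symm⟩,
        (mul_inv_cancel_left _ _).symm⟩
    simp only [MulAction.toPerm_apply]
    rw [ht, ← hKinv t t.2 ((k⁻¹ * q.out * (t : G))⁻¹ * y * (k⁻¹ * q.out * (t : G)))]
    congr 1
    group
  have hfR : ∀ y, Cfsg.MemLocalRing M (Hf y) := fun y => by
    by_cases hy : y ∈ T
    · rw [hHf, Char.extendByZero_of_mem T f hy]
      exact memLocalRing_classInd hM a _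
    · rw [hHs y hy]
      exact (localRing hM).zero_mem
  have hFR : ∀ y, Cfsg.MemLocalRing M (F y) := fun y =>
    (localRing hM).sum_mem fun q _ =>
      memLocalRing_conv hM hfR (fun z => BrauerPairs.memLocalRing_sbc hM hb z) _
  -- multiplying by `E` isolates the piece of the trivial coset
  have key : ∀ t : T, conv (fun s : T => F (s : G)) (fun s : T => E (s : G)) t =
      conv f (fun s : T => E (s : G)) t := by
    intro t
    rw [← hKT]
    have e1 : conv (fun s : T => F (s : G)) (fun s : T => E (s : G)) t = conv F E (t : G) := by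
      simp only [conv]
      have hfilt : ∑ g, F g * E (g⁻¹ * (t : G)) =
          ∑ g ∈ Finset.univ.filter (· ∈ T), F g * E (g⁻¹ * (t : G)) := by
        refine (Finset.sum_subset (Finset.subset_univ _) fun g _ hg => ?_).symm
        rw [hEs _ fun h' => hg (Finset.mem_filter.2 ⟨Finset.mem_univ _, ?_⟩), mul_zero]
        have := T.mul_mem t.2 (T.inv_mem (hNT h'))
        simpa using this
      rw [hfilt, Finset.sum_subtype (p := (· ∈ T)) _ (fun g => by simp)]
      rfl
    rw [e1]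
    have e2 : conv F E (t : G) =
        ∑ q : G ⧸ T, conv (fun y => K (q.out⁻¹ * y * q.out)) E (t : G) := by
      simp only [conv, F, Finset.sum_mul]
      exact Finset.sum_comm
    rw [e2, Finset.sum_eq_single (((1 : G)) : G ⧸ T)]
    · have ho : ((((1 : G) : G ⧸ T)).out : G) ∈ T := by
        simpa using QuotientGroup.eq.1 (QuotientGroup.out_eq' (((1 : G)) : G ⧸ T)).symm
      rw [show (fun y => K ((((1 : G) : G ⧸ T)).out⁻¹ * y * (((1 : G) : G ⧸ T)).out)) = K from
        funext fun y => by simpa using hKinv _ (T.inv_mem ho) y, hK, conv_assoc,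
        BrauerPairs.conv_sbc_self]
    · intro q _ hq
      set s := q.out with hs
      have hsT : s ∉ T := fun h' => hq (by
        rw [← QuotientGroup.out_eq' q, QuotientGroup.eq]; simpa [hs] using h')
      have hg : ∀ y, y ∈ N ↔ s * y * s⁻¹ ∈ N := fun y =>
        ⟨fun h' => hN.conj_mem y h' s, fun h' => by simpa [mul_assoc] using hN.conj_mem _ h' s⁻¹⟩
      have hne : BrauerPairs.mapBlock (BlockChar.conjIso N N s hg) b ≠ b := by
        intro heq
        refine hsT ((hT s).2 fun θ hθ θ' he => ?_)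
        have h2 : BrauerPairs.compIrr (BlockChar.conjIso N N s hg) θ ∈ b :=
          (Set.ext_iff.1 heq θ).2 hθ
        convert h2 using 1
        exact Subtype.ext (funext fun n => he n)
      have hdisj : Disjoint (BrauerPairs.mapBlock (BlockChar.conjIso N N s hg) b) b :=
        Set.disjoint_left.2 fun φ h1 h2 =>
          hne (BrauerPairs.eq_of_mem hM (BrauerPairs.isPBlock_mapBlock _ hb) hb h1 h2)
      rw [show (fun y => K (s⁻¹ * y * s)) = conv (fun y => Hf (s⁻¹ * y * s))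
          (sbc N (BrauerPairs.mapBlock (BlockChar.conjIso N N s hg) b)) by
        rw [show sbc N (BrauerPairs.mapBlock (BlockChar.conjIso N N s hg) b) =
          fun y => E (s⁻¹ * y * s) from funext fun y => BrauerPairs.sbc_mapBlock N N s hg b y,
          conv_comp_conj], conv_assoc, BrauerPairs.conv_sbc_disjoint hdisj]
      simp [conv]
    · simp
  have hFT : Cfsg.IsClassFunction T fun s : T => F (s : G) := isClassFunction_res T hFc
  have e : ∀ φ : Cfsg.IrrCharacter T, omega (φ : T → ℂ) (fun s : T => E (s : G)) = 1 →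
      omega (φ : T → ℂ) (fun s : T => F (s : G)) = Cfsg.centralChar (φ : T → ℂ) a := by
    intro φ hφ
    have h1 := omega_conv φ.2 hFT hEc
    rw [funext key, omega_conv φ.2 (isClassFunction_classInd a) hEc, hφ, mul_one, mul_one,
      omega_classInd (Char.isClassFunction_of_isIrr φ.2)] at h1
    exact h1.symm
  rw [← e ψ hψ, ← e ψ' hψ']
  exact h F hFc hFR

omit [Fintype G] hM hb hT hN [Fintype T] [Fintype N] in
theorem isCharacter_resTo [Finite G] {f : T → ℂ} (hf : Cfsg.IsCharacter T f) :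
    Cfsg.IsCharacter N (fun n : N => f ⟨(n : G), hNT n.2⟩) :=
  Char.isCharacter_comp (Subgroup.inclusion hNT) hf

include hNT in
omit hT in
theorem omega_sbc_block (hT : ∀ g : G, g ∈ T ↔ ∀ θ ∈ b, ∀ θ' : Cfsg.IrrCharacter N,
      (∀ n : N, (θ' : N → ℂ) n = (θ : N → ℂ) ⟨g * n * g⁻¹, hN.conj_mem n n.2 g⟩) → θ' ∈ b)
    (ψ : Cfsg.IrrCharacter T) :
    omega (ψ : T → ℂ) (fun t : T => sbc N b (t : G)) =
        degPart b (fun n : N => (ψ : T → ℂ) ⟨(n : G), hNT n.2⟩) / (ψ : T → ℂ) 1 ∧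
      (omega (ψ : T → ℂ) (fun t : T => sbc N b (t : G)) = 0 ∨
        omega (ψ : T → ℂ) (fun t : T => sbc N b (t : G)) = 1) := by
  classical
  constructor
  · rw [omega, degPart]
    congr 1
    rw [← Finset.sum_subset (Finset.subset_univ (Finset.univ.image (Subgroup.inclusion hNT)))
      fun t _ ht => ?_, Finset.sum_image fun a _ b _ h => Subgroup.inclusion_injective hNT h]
    · rfl
    · rw [BrauerPairs.sbc_of_notMem b fun h => ht (Finset.mem_image.2
        ⟨⟨t, h⟩, Finset.mem_univ _, rfl⟩), zero_mul]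
  · have hE : Cfsg.IsClassFunction T fun t : T => sbc N b (t : G) :=
      (isInv_sbc_block hM hb hT).isClassFunction_res
    have h := omega_conv ψ.2 hE hE
    have he : conv (fun t : T => sbc N b (t : G)) (fun t : T => sbc N b (t : G)) =
        fun t : T => sbc N b (t : G) := funext fun t => by
      rw [← BrauerPairs.conv_of_supported (fun g hg => BrauerPairs.sbc_of_notMem b fun h' =>
        hg (hNT h')), BrauerPairs.conv_sbc_self]
    rw [he] at h
    rcases eq_or_ne (omega (ψ : T → ℂ) fun t : T => sbc N b (t : G)) 0 with h0 | h0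
    · exact Or.inl h0
    · exact Or.inr (mul_left_eq_self₀.1 h.symm |>.resolve_right h0)

theorem overBlock_iff (ψ : Cfsg.IrrCharacter T) :
    OverBlock hNT b (ψ : T → ℂ) ↔ omega (ψ : T → ℂ) (fun t : T => sbc N b (t : G)) = 1 := by
  obtain ⟨h1, h2⟩ := omega_sbc_block hNT hM hb hT ψ
  have hd := degPart_ne_zero_iff (b := b) (isCharacter_resTo hNT (Char.IsIrr.isCharacter ψ.2))
  refine ⟨fun h => h2.resolve_left fun h0 => ?_, fun h => hd.1 fun h0 => ?_⟩
  · rw [h1, div_eq_zero_iff] at h0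
    exact h0.elim (hd.2 h) (Char.IsIrr.one_ne_zero ψ.2)
  · rw [h1, h0, zero_div] at h
    exact zero_ne_one h

theorem degPart_of_overBlock {ψ : Cfsg.IrrCharacter T} (h : OverBlock hNT b (ψ : T → ℂ)) :
    degPart b (fun n : N => (ψ : T → ℂ) ⟨(n : G), hNT n.2⟩) = (ψ : T → ℂ) 1 := by
  have h1 := (omega_sbc_block hNT hM hb hT ψ).1
  rw [(overBlock_iff hNT hM hb hT ψ).1 h, eq_div_iff (Char.IsIrr.one_ne_zero ψ.2), one_mul] at h1
  exact h1.symm

/-- Over `b`, the part in `b` is an equal share of the degree. -/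
theorem index_mul_degPart {φ : Cfsg.IrrCharacter G} {θ : Cfsg.IrrCharacter N} (hθ : θ ∈ b)
    (hc : Cfsg.classInner (fun n : N => (φ : G → ℂ) n) (θ : N → ℂ) ≠ 0) :
    (T.index : ℂ) * degPart b (fun n : N => (φ : G → ℂ) n) = (φ : G → ℂ) 1 := by
  classical
  set f : N → ℂ := fun n => (φ : G → ℂ) n with hf
  have hfc : Cfsg.IsClassFunction N f := isClassFunction_res N (Char.isClassFunction_of_isIrr φ.2)
  have hone : ∀ η : Cfsg.IrrCharacter N, Cfsg.classInner f (η : N → ℂ) ≠ 0 →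
      ∑ g : G, degPart b (Char.conjFun g (η : N → ℂ)) = (Nat.card T : ℂ) * (η : N → ℂ) 1 := by
    intro η hη
    obtain ⟨h0, hh⟩ := Char.mem_orbit.1 (Char.constituent_mem_orbit φ.2 θ.2 η.2 hc hη)
    have hiff : ∀ g : G, (⟨_, Char.isIrr_conjFun g η.2⟩ : Cfsg.IrrCharacter N) ∈ b ↔
        h0 * g ∈ T := by
      intro g
      have e : Char.conjFun g (η : N → ℂ) = Char.conjFun (h0 * g) (θ : N → ℂ) := by
        rw [← hh, Char.conjFun_conjFun]
      refine ⟨fun h => mem_of_conjFun_mem hM hb hT hθ h e.symm, fun h => ?_⟩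
      simp only [e]
      exact conjFun_mem hT h hθ
    calc ∑ g : G, degPart b (Char.conjFun g (η : N → ℂ))
        = ∑ g : G, if h0 * g ∈ T then (η : N → ℂ) 1 else 0 := by
          refine Finset.sum_congr rfl fun g _ => ?_
          have := degPart_irr (b := b) ⟨_, Char.isIrr_conjFun g η.2⟩
          simp only [hiff, Char.conjFun_apply_one] at this
          exact this
      _ = ∑ g : G, if g ∈ T then (η : N → ℂ) 1 else 0 :=
          Fintype.sum_equiv (Equiv.mulLeft h0) _ _ fun g => rfl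
      _ = _ := by
          rw [← Finset.sum_filter, Finset.sum_const, nsmul_eq_mul, Nat.card_eq_fintype_card,
            Fintype.card_subtype]
  have key : (Nat.card G : ℂ) * degPart b f = (Nat.card T : ℂ) * f 1 := by
    calc (Nat.card G : ℂ) * degPart b f = ∑ g : G, degPart b (Char.conjFun g f) := by
          simp only [hf, Char.conjFun_res _ (Char.isClassFunction_of_isIrr φ.2)]
          rw [Finset.sum_const, nsmul_eq_mul, Nat.card_eq_fintype_card, Finset.card_univ]
      _ = ∑ g : G, ∑ η : Cfsg.IrrCharacter N,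
            Cfsg.classInner f (η : N → ℂ) * degPart b (Char.conjFun g (η : N → ℂ)) := by
          refine Finset.sum_congr rfl fun g _ => ?_
          conv_lhs => rw [Char.classFun_expansion hfc]
          simp only [degPart, Char.conjFun_apply, Finset.sum_apply, Pi.smul_apply, smul_eq_mul,
            Finset.mul_sum]
          rw [Finset.sum_comm]
          exact Finset.sum_congr rfl fun η _ => Finset.sum_congr rfl fun n _ => by ring
      _ = _ := by
          rw [Finset.sum_comm]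
          conv_rhs => rw [Char.classFun_expansion hfc, Finset.sum_apply, Finset.mul_sum]
          refine Finset.sum_congr rfl fun η _ => ?_
          rw [← Finset.mul_sum, Pi.smul_apply, smul_eq_mul]
          by_cases hη : Cfsg.classInner f (η : N → ℂ) = 0
          · simp [hη]
          · rw [hone η hη]; ring
  have hT0 : (Nat.card T : ℂ) ≠ 0 := Nat.cast_ne_zero.2 Nat.card_pos.ne'
  refine mul_left_cancel₀ hT0 ?_
  rw [← mul_assoc, mul_comm (Nat.card T : ℂ), ← Nat.cast_mul, Subgroup.index_mul_card, key]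
  simp [hf]

/-- Induction from the stabilizer is irreducible. -/
theorem isIrr_indFun_overBlock {ψ : Cfsg.IrrCharacter T} (h : OverBlock hNT b (ψ : T → ℂ)) :
    Cfsg.IsIrrCharacter G (Cfsg.indFun T (ψ : T → ℂ)) ∧
      degPart b (fun n : N => Cfsg.indFun T (ψ : T → ℂ) n) ≠ 0 := by
  classical
  have hψ := Char.IsIrr.isCharacter ψ.2
  have hind := Char.isCharacter_indFun T hψ
  have hne : Cfsg.indFun T (ψ : T → ℂ) ≠ 0 := fun h0 => by
    have h1 := congrFun h0 1
    rw [Char.indFun_apply_one, Pi.zero_apply, mul_eq_zero] at h1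
    exact h1.elim (fun h2 => Subgroup.index_ne_zero_of_finite (Nat.cast_eq_zero.1 h2))
      (Char.IsIrr.one_ne_zero ψ.2)
  obtain ⟨φ, hφ⟩ := Char.IsChar.exists_constituent hind hne
  have hcT : Cfsg.classInner (fun t : T => (φ : G → ℂ) t) (ψ : T → ℂ) ≠ 0 := by
    rw [← Char.classInner_conj_symm, map_ne_zero,
      ← Char.classInner_indFun_left T _ (Char.isClassFunction_of_isIrr φ.2)]
    exact hφ
  have hrest := Char.IsChar.sub_constituent
    (Char.isCharacter_res T (Char.IsIrr.isCharacter φ.2)) ψ.2 hcT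
  obtain ⟨k, hk, -⟩ := exists_degPart_eq_natCast (b := b) (isCharacter_resTo hNT hrest)
  obtain ⟨m, hmpos, hm⟩ := Char.IsIrr.degree ψ.2
  have hsum : degPart b (fun n : N => (φ : G → ℂ) n) = ((m + k : ℕ) : ℂ) := by
    rw [Nat.cast_add, ← hk, ← hm, ← degPart_of_overBlock hNT hM hb hT h, degPart, degPart, degPart,
      ← Finset.sum_add_distrib]
    exact Finset.sum_congr rfl fun n _ => by simp; ring
  have hmk : m + k ≠ 0 := by omega
  have hne' : degPart b (fun n : N => (φ : G → ℂ) n) ≠ 0 := by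
    rw [hsum]; exact Nat.cast_ne_zero.2 hmk
  obtain ⟨θ, hθ, hθc⟩ := (degPart_ne_zero_iff
    (Char.isCharacter_res N (Char.IsIrr.isCharacter φ.2))).1 hne'
  have hdeg := index_mul_degPart hM hb hT hθ hθc
  have hd := Char.IsChar.sub_constituent hind φ.2 hφ
  obtain ⟨d, hdd⟩ := Char.IsChar.degree hd
  have hd0 : d = 0 := by
    rw [Pi.sub_apply, Char.indFun_apply_one, hm, ← hdeg, hsum] at hdd
    have h1 : (((T.index * m : ℕ)) : ℂ) = ((T.index * (m + k) + d : ℕ) : ℂ) := by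
      push_cast
      push_cast at hdd
      linear_combination hdd
    have h2 : T.index * m = T.index * (m + k) + d := by exact_mod_cast h1
    rw [mul_add] at h2
    omega
  have heq : Cfsg.indFun T (ψ : T → ℂ) = (φ : G → ℂ) :=
    sub_eq_zero.1 ((Char.IsChar.eq_zero_iff hd).2 (by rw [hdd, hd0, Nat.cast_zero]))
  rw [heq]
  exact ⟨φ.2, hne'⟩

/-- Every character over `b` is induced from a character of the stabilizer over `b`. -/
theorem exists_eq_indFun {χ : Cfsg.IrrCharacter G} {θ : Cfsg.IrrCharacter N} (hθ : θ ∈ b)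
    (hc : Cfsg.classInner (fun n : N => (χ : G → ℂ) n) (θ : N → ℂ) ≠ 0) :
    ∃ ψ : Cfsg.IrrCharacter T, OverBlock hNT b (ψ : T → ℂ) ∧
      (χ : G → ℂ) = Cfsg.indFun T (ψ : T → ℂ) := by
  classical
  have hr := Char.isCharacter_res T (Char.IsIrr.isCharacter χ.2)
  obtain ⟨ψ, hψm, hψ⟩ : ∃ ψ : Cfsg.IrrCharacter T,
      Cfsg.classInner (fun t : T => (χ : G → ℂ) t) (ψ : T → ℂ) ≠ 0 ∧
        OverBlock hNT b (ψ : T → ℂ) := by
    by_contra! hall
    have h0 : degPart b (fun n : N => (χ : G → ℂ) n) = 0 := by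
      have e : (fun n : N => (χ : G → ℂ) n) = fun n : N => ∑ ψ : Cfsg.IrrCharacter T,
          Cfsg.classInner (fun t : T => (χ : G → ℂ) t) (ψ : T → ℂ) *
            (ψ : T → ℂ) ⟨(n : G), hNT n.2⟩ := by
        funext n
        have h1 := congrFun (Char.classFun_expansion (Char.isClassFunction_of_isCharacter hr))
          ⟨(n : G), hNT n.2⟩
        simpa [Finset.sum_apply] using h1
      rw [e, degPart]
      simp only [Finset.mul_sum]
      rw [Finset.sum_comm]
      refine Finset.sum_eq_zero fun ψ _ => ?_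
      by_cases h1 : Cfsg.classInner (fun t : T => (χ : G → ℂ) t) (ψ : T → ℂ) = 0
      · simp [h1]
      · have h2 : degPart b (fun n : N => (ψ : T → ℂ) ⟨(n : G), hNT n.2⟩) = 0 :=
          by_contra fun h2 => hall ψ h1
            ((degPart_ne_zero_iff (isCharacter_resTo hNT (Char.IsIrr.isCharacter ψ.2))).1 h2)
        rw [Finset.sum_congr rfl fun n _ => mul_left_comm _ _ _, ← Finset.mul_sum]
        exact mul_eq_zero_of_right _ h2
    exact (degPart_ne_zero_iff (Char.isCharacter_res N (Char.IsIrr.isCharacter χ.2))).2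
      ⟨θ, hθ, hc⟩ h0
  refine ⟨ψ, hψ, ?_⟩
  have hirr := (isIrr_indFun_overBlock hNT hM hb hT hψ).1
  by_contra hne
  refine hψm ?_
  rw [← Char.classInner_conj_symm, ← Char.classInner_indFun_left T _
    (Char.isClassFunction_of_isIrr χ.2), Char.classInner_irr_ne hirr χ.2 (Ne.symm hne), map_zero]

/-- The block of `G` attached to a block of the stabilizer over `b`. -/
theorem exists_induced_block {B' : Set (Cfsg.IrrCharacter T)} (hB' : Cfsg.IsPBlock M B')
    (hcov : ∃ ψ ∈ B', OverBlock hNT b (ψ : T → ℂ)) :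
    ∃ B : Set (Cfsg.IrrCharacter G), Cfsg.IsInducedBlock M T B' B ∧
      (∃ χ ∈ B, ∃ θ ∈ b, Cfsg.classInner (fun n : N => (χ : G → ℂ) n) (θ : N → ℂ) ≠ 0) ∧
      (∀ ψ ∈ B', Cfsg.IsIrrCharacter G (Cfsg.indFun T (ψ : T → ℂ))) ∧
      ∀ χ : Cfsg.IrrCharacter G, χ ∈ B ↔ ∃ ψ ∈ B', (χ : G → ℂ) = Cfsg.indFun T (ψ : T → ℂ) := by
  classical
  obtain ⟨ψ₀, hψ₀, hov₀⟩ := hcov
  have hover : ∀ ψ ∈ B', OverBlock hNT b (ψ : T → ℂ) := by
    intro ψ hψ
    have h := memLocalIdeal_omega_sub hM ψ.2 ψ₀.2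
      ((isInv_sbc_block hM hb hT).isClassFunction_res)
      (fun t : T => BrauerPairs.memLocalRing_sbc hM hb (t : G))
      (IsPBlock.sameBlock hM hB' hψ hψ₀)
    rw [(overBlock_iff hNT hM hb hT ψ₀).1 hov₀] at h
    rw [overBlock_iff hNT hM hb hT]
    refine (omega_sbc_block hNT hM hb hT ψ).2.resolve_left fun h0 => ?_
    rw [h0, zero_sub] at h
    exact not_memLocalIdeal_one hM (by simpa using memLocalIdeal_neg h)
  have hirr : ∀ ψ ∈ B', Cfsg.IsIrrCharacter G (Cfsg.indFun T (ψ : T → ℂ)) := fun ψ hψ =>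
    (isIrr_indFun_overBlock hNT hM hb hT (hover ψ hψ)).1
  have hR : ∀ g y : G, Cfsg.MemLocalRing M (classInd g y) := fun g y =>
    memLocalRing_classInd hM g y
  have hcent : ∀ (ψ : T → ℂ) (g : G), Cfsg.inducedCentralChar T ψ g =
      Cfsg.centralChar (Cfsg.indFun T ψ) g := fun ψ g => by
    rw [← BlockThms.omega_classInd_res, ← omega_indFun ψ (isClassFunction_classInd g),
      omega_classInd (Char.isClassFunction_indFun T ψ)]
  set φ₀ : Cfsg.IrrCharacter G := ⟨_, hirr ψ₀ hψ₀⟩ with hφ₀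
  have hsame : ∀ ψ ∈ B', Cfsg.SameBlock M (φ₀ : G → ℂ) (Cfsg.indFun T (ψ : T → ℂ)) := by
    intro ψ hψ g
    have h := memLocalIdeal_omega_sub hM ψ₀.2 ψ.2
      (f := fun t : T => classInd g (t : G)) (isClassFunction_res T (isClassFunction_classInd g))
      (fun t => hR g t) (IsPBlock.sameBlock hM hB' hψ₀ hψ)
    rw [BlockThms.omega_classInd_res, BlockThms.omega_classInd_res, hcent, hcent] at h
    exact h
  refine ⟨Cfsg.blockOf M (φ₀ : G → ℂ), ⟨hB', isPBlock_blockOf φ₀, ?_⟩, ?_, hirr, fun χ => ?_⟩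
  · intro ξ hξ χ hχ g
    rw [hcent]
    exact sameBlock_trans hM (sameBlock_symm (hsame ξ hξ)) (mem_blockOf.1 hχ) g
  · obtain ⟨θ, hθ, hc⟩ := (degPart_ne_zero_iff (Char.isCharacter_res N
      (Char.IsIrr.isCharacter φ₀.2))).1 (isIrr_indFun_overBlock hNT hM hb hT hov₀).2
    exact ⟨φ₀, mem_blockOf_self hM φ₀, θ, hθ, hc⟩
  constructor
  · intro hχ
    obtain ⟨θ, hθ, hc⟩ := (degPart_ne_zero_iff (Char.isCharacter_res N
      (Char.IsIrr.isCharacter φ₀.2))).1 (isIrr_indFun_overBlock hNT hM hb hT hov₀).2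
    obtain ⟨η, hη⟩ := Char.exists_constituent_res (N := N) χ.2
    obtain ⟨g, θ', hθ', he⟩ := BlockThms.covering_orbit hM (isPBlock_blockOf φ₀) hb
      (mem_blockOf_self hM φ₀) hθ hc hχ hη
    have hc' : Cfsg.classInner (fun n : N => (χ : G → ℂ) n) (θ' : N → ℂ) ≠ 0 := by
      rwa [← Char.classInner_conjFun g, Char.conjFun_res g (Char.isClassFunction_of_isIrr χ.2),
        show Char.conjFun g (θ' : N → ℂ) = (η : N → ℂ) from funext fun n => by
          rw [Char.conjFun_apply, he n]]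
    obtain ⟨ψ, hψ, heq⟩ := exists_eq_indFun hNT hM hb hT hθ' hc'
    refine ⟨ψ, IsPBlock.mem_of_sameBlock hM hB' hψ₀ ?_, heq⟩
    refine sameBlock_of_induced hNT hM hb hT ((overBlock_iff hNT hM hb hT ψ₀).1 hov₀)
      ((overBlock_iff hNT hM hb hT ψ).1 hψ) fun F hF hFR => ?_
    rw [← omega_indFun _ hF, ← omega_indFun _ hF, ← heq]
    exact memLocalIdeal_omega_sub hM φ₀.2 χ.2 hF hFR (mem_blockOf.1 hχ)
  · rintro ⟨ψ, hψ, he⟩
    rw [mem_blockOf, he]
    exact hsame ψ hψ

omit hN [Fintype N] hM hb hT [Fintype G] [Fintype T] in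
theorem induced_unique [Fintype G] [Fintype T] (hM : Cfsg.IsPModular p M)
    {B' : Set (Cfsg.IrrCharacter T)} {B₁ B₂ : Set (Cfsg.IrrCharacter G)}
    (h₁ : Cfsg.IsInducedBlock M T B' B₁) (h₂ : Cfsg.IsInducedBlock M T B' B₂) : B₁ = B₂ := by
  obtain ⟨ξ, hξ⟩ := IsPBlock.nonempty hM h₁.1
  obtain ⟨χ₁, hχ₁⟩ := IsPBlock.nonempty hM h₁.2.1
  obtain ⟨χ₂, hχ₂⟩ := IsPBlock.nonempty hM h₂.2.1
  rw [IsPBlock.eq_blockOf hM h₁.2.1 hχ₁, IsPBlock.eq_blockOf hM h₂.2.1 hχ₂]
  refine blockOf_eq_of_sameBlock hM fun g => ?_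
  have := memLocalIdeal_sub hM (h₂.2.2 ξ hξ χ₂ hχ₂ g) (h₁.2.2 ξ hξ χ₁ hχ₁ g)
  simpa using this

/-- Blocks over `b` with the same induced block are equal. -/
theorem induced_injective {B₁ B₂ : Set (Cfsg.IrrCharacter T)} (hB₁ : Cfsg.IsPBlock M B₁)
    (hB₂ : Cfsg.IsPBlock M B₂) (h₁ : ∃ ψ ∈ B₁, OverBlock hNT b (ψ : T → ℂ))
    (h₂ : ∃ ψ ∈ B₂, OverBlock hNT b (ψ : T → ℂ)) {B : Set (Cfsg.IrrCharacter G)}
    (i₁ : Cfsg.IsInducedBlock M T B₁ B) (i₂ : Cfsg.IsInducedBlock M T B₂ B) : B₁ = B₂ := by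
  obtain ⟨ψ₁, hψ₁, o₁⟩ := h₁
  obtain ⟨ψ₂, hψ₂, o₂⟩ := h₂
  obtain ⟨χ, hχ⟩ := IsPBlock.nonempty hM i₁.2.1
  rw [IsPBlock.eq_blockOf hM hB₁ hψ₁, IsPBlock.eq_blockOf hM hB₂ hψ₂]
  refine blockOf_eq_of_sameBlock hM (sameBlock_of_induced hNT hM hb hT
    ((overBlock_iff hNT hM hb hT ψ₁).1 o₁) ((overBlock_iff hNT hM hb hT ψ₂).1 o₂) fun F hF hR => ?_)
  have e₁ := BlockThms.memLocalIdeal_omega_res_sub hM T (Char.isClassFunction_of_isIrr χ.2) hF hR
    (i₁.2.2 ψ₁ hψ₁ χ hχ)
  have e₂ := BlockThms.memLocalIdeal_omega_res_sub hM T (Char.isClassFunction_of_isIrr χ.2) hF hR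
    (i₂.2.2 ψ₂ hψ₂ χ hχ)
  simpa using memLocalIdeal_sub hM e₁ e₂

/-- Every block of `G` over `b` is induced from the stabilizer. -/
theorem exists_inducing {B : Set (Cfsg.IrrCharacter G)} (hB : Cfsg.IsPBlock M B)
    (hcov : ∃ χ ∈ B, ∃ θ ∈ b, Cfsg.classInner (fun n : N => (χ : G → ℂ) n) (θ : N → ℂ) ≠ 0) :
    ∃ B' : Set (Cfsg.IrrCharacter T), Cfsg.IsPBlock M B' ∧
      (∃ ψ ∈ B', OverBlock hNT b (ψ : T → ℂ)) ∧ Cfsg.IsInducedBlock M T B' B := by
  obtain ⟨χ, hχ, θ, hθ, hc⟩ := hcov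
  obtain ⟨ψ, hψ, heq⟩ := exists_eq_indFun hNT hM hb hT hθ hc
  have hc' : ∃ η ∈ Cfsg.blockOf M (ψ : T → ℂ), OverBlock hNT b (η : T → ℂ) :=
    ⟨ψ, mem_blockOf_self hM ψ, hψ⟩
  obtain ⟨B₁, hind, -, -, hmem⟩ := exists_induced_block hNT hM hb hT (isPBlock_blockOf ψ) hc'
  have h1 : χ ∈ B₁ := (hmem χ).2 ⟨ψ, mem_blockOf_self hM ψ, heq⟩
  refine ⟨_, isPBlock_blockOf ψ, hc', ?_⟩
  rwa [IsPBlock.eq_blockOf hM hB hχ, ← IsPBlock.eq_blockOf hM hind.2.1 h1]

/-- Defect groups and heights are preserved. -/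
theorem defect_and_heights {B' : Set (Cfsg.IrrCharacter T)} (hB' : Cfsg.IsPBlock M B')
    (hcov : ∃ ψ ∈ B', OverBlock hNT b (ψ : T → ℂ)) {B : Set (Cfsg.IrrCharacter G)}
    (hind : Cfsg.IsInducedBlock M T B' B) :
    (∀ D : Subgroup T, Cfsg.IsDefectGroup p M B' D →
        Cfsg.IsDefectGroup p M B (D.map T.subtype)) ∧
      ∀ ψ ∈ B', ∃ χ ∈ B, (χ : G → ℂ) = Cfsg.indFun T (ψ : T → ℂ) ∧
        Cfsg.blockHeight p B (χ : G → ℂ) = Cfsg.blockHeight p B' (ψ : T → ℂ) := by
  classical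
  haveI := Fact.mk hM.1
  obtain ⟨B₁, hind₁, -, hirr, hmem⟩ := exists_induced_block hNT hM hb hT hB' hcov
  obtain rfl := induced_unique hM hind₁ hind
  have hdeg : ∀ (χ : Cfsg.IrrCharacter G) (ψ : Cfsg.IrrCharacter T),
      (χ : G → ℂ) = Cfsg.indFun T (ψ : T → ℂ) →
        (Cfsg.charDegree (χ : G → ℂ)).factorization p =
          T.index.factorization p + (Cfsg.charDegree (ψ : T → ℂ)).factorization p := by
    intro χ ψ he
    have h1 : Cfsg.charDegree (χ : G → ℂ) = T.index * Cfsg.charDegree (ψ : T → ℂ) := by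
      have h := congrFun he 1
      rw [Char.indFun_apply_one, (CharArith.irr_degree_spec χ).1,
        (CharArith.irr_degree_spec ψ).1] at h
      exact_mod_cast h
    rw [h1, Nat.factorization_mul Subgroup.index_ne_zero_of_finite
      (CharArith.irr_degree_spec ψ).2.ne', Finsupp.add_apply]
  obtain ⟨ψm, hψm, hm⟩ := BlockChar.exists_height_zero (p := p) (IsPBlock.nonempty hM hB')
  obtain ⟨χm, hχm, hM'⟩ := BlockChar.exists_height_zero (p := p) (IsPBlock.nonempty hM hind.2.1)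
  obtain ⟨ψ', hψ', he'⟩ := (hmem χm).1 hχm
  have hmin : BlockChar.minVal p B₁ = T.index.factorization p + BlockChar.minVal p B' := by
    refine le_antisymm ?_ ?_
    · rw [← hm, ← hdeg ⟨_, hirr ψm hψm⟩ ψm rfl]
      exact BlockChar.minVal_le ((hmem _).2 ⟨ψm, hψm, rfl⟩)
    · rw [← hM', hdeg χm ψ' he']
      exact Nat.add_le_add_left (BlockChar.minVal_le hψ') _
  refine ⟨fun D hD => ?_, fun ψ hψ => ?_⟩
  · obtain ⟨E, hE, hle⟩ := DefectThms.exists_defectGroup_ge_of_induced hM T hB' hind.2.1 hind hD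
    have hdef : Cfsg.blockDefect p B₁ = Cfsg.blockDefect p B' := by
      rw [BlockChar.blockDefect_eq, BlockChar.blockDefect_eq, hmin,
        ← Subgroup.index_mul_card T, Nat.factorization_mul Subgroup.index_ne_zero_of_finite
          Nat.card_pos.ne', Finsupp.add_apply]
      omega
    have hcard : Nat.card E ≤ Nat.card (D.map T.subtype) := by
      rw [BlockChar.card_defectGroup hM hind.2.1 hE, hdef,
        ← Nat.card_congr (D.equivMapOfInjective _ (Subgroup.subtype_injective T)).toEquiv,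
        BlockChar.card_defectGroup hM hB' hD]
    rwa [Subgroup.eq_of_le_of_card_ge hle hcard]
  · refine ⟨⟨_, hirr ψ hψ⟩, (hmem _).2 ⟨ψ, hψ, rfl⟩, rfl, ?_⟩
    rw [BlockChar.blockHeight_eq, BlockChar.blockHeight_eq, hmin,
      hdeg ⟨_, hirr ψ hψ⟩ ψ rfl]
    omega

end Cfsg.Agent.Blocks
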