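import Cfsg.Agent.Blocks.SecondMain
import Cfsg.Agent.BlockThms.NormalCor
import Cfsg.Prelude.Def_BrauerPairs

/-!
# The central character through the Brauer map, for subgroups between `C(P)` and `N(P)`
-/

namespace Cfsg.Agent.Blocks

open scoped ComplexConjugate
open Cfsg.Agent

universe u

variable {G : Type u} [Group G] [Fintype G] {p : ℕ} {M : Ideal Cfsg.AlgInt}

/-- Truncation of a function on `G` to the centraliser of `P`, as a function on `H`. -/
noncomputable def trunc (P H : Subgroup G) (f : G → ℂ) : H → ℂ :=
  fun a => open Classical in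
    if (a : G) ∈ Subgroup.centralizer (P : Set G) then f (a : G) else 0

omit [Fintype G] in
theorem trunc_apply (P H : Subgroup G) (f : G → ℂ) (a : H)
    [Decidable ((a : G) ∈ Subgroup.centralizer (P : Set G))] :
    trunc P H f a = if (a : G) ∈ Subgroup.centralizer (P : Set G) then f (a : G) else 0 := by
  rw [trunc]; congr

theorem brauerCentralChar_eq_omega (P H : Subgroup G) [Fintype H] (ξ : H → ℂ) (g : G) :
    Cfsg.brauerCentralChar P H ξ g = omega ξ (trunc P H (classInd g)) := by
  classical
  rw [Cfsg.brauerCentralChar, finsum_mem_eq_finite_toFinset_sum _ (Set.toFinite _), omega,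
    Finset.sum_div, show (Set.toFinite {h : H | IsConj g (h : G) ∧
      (h : G) ∈ Subgroup.centralizer (P : Set G)}).toFinset =
      Finset.univ.filter (fun h : H => IsConj g (h : G) ∧
        (h : G) ∈ Subgroup.centralizer (P : Set G)) by ext; simp, Finset.sum_filter]
  refine Finset.sum_congr rfl fun a _ => ?_
  rw [trunc_apply, classInd_apply]
  split_ifs with h1 h2 h3 <;> first | (exfalso; tauto) | simp

omit [Fintype G] in
theorem brauerOmega_eq_omega (P : Subgroup G) [Fintype (Subgroup.centralizer (P : Set G))]
    (β : G → ℂ) (ξ : Subgroup.centralizer (P : Set G) → ℂ) :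
    Cfsg.brauerOmega P β ξ = omega ξ fun a => β (a : G) := by
  rw [Cfsg.brauerOmega, finsum_eq_sum_of_fintype, omega, Finset.sum_div]

omit [Fintype G] in
theorem conj_mem_centralizer_iff {P H : Subgroup G} (hHN : H ≤ Subgroup.normalizer (P : Set G))
    (k : H) (a : G) : (k : G) * a * (k : G)⁻¹ ∈ Subgroup.centralizer (P : Set G) ↔
      a ∈ Subgroup.centralizer (P : Set G) := by
  have key : ∀ (k : H) (a : G), a ∈ Subgroup.centralizer (P : Set G) →
      (k : G) * a * (k : G)⁻¹ ∈ Subgroup.centralizer (P : Set G) := by
    intro k a ha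
    rw [Subgroup.mem_centralizer_iff] at ha ⊢
    intro u hu
    have hu' : (k : G)⁻¹ * u * k ∈ P := by
      have := (Subgroup.mem_normalizer_iff.1 (hHN (inv_mem k.2)) u).1 hu
      simpa using this
    calc u * ((k : G) * a * (k : G)⁻¹) = (k : G) * (((k : G)⁻¹ * u * k) * a) * (k : G)⁻¹ := by group
      _ = (k : G) * (a * ((k : G)⁻¹ * u * k)) * (k : G)⁻¹ := by rw [ha _ hu']
      _ = (k : G) * a * (k : G)⁻¹ * u := by group
  refine ⟨fun h => ?_, key k a⟩
  have := key k⁻¹ _ h
  simpa [mul_assoc] using this

omit [Fintype G] in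
theorem isClassFunction_trunc {P H : Subgroup G} (hHN : H ≤ Subgroup.normalizer (P : Set G))
    {f : G → ℂ} (hf : Cfsg.IsClassFunction G f) : Cfsg.IsClassFunction H (trunc P H f) := by
  classical
  intro a k
  simp only [trunc_apply, Subgroup.coe_mul, Subgroup.coe_inv, conj_mem_centralizer_iff hHN k,
    hf (a : G) (k : G)]

omit [Fintype G] in
theorem memLocalRing_trunc (hM : Cfsg.IsPModular p M) (P H : Subgroup G) {f : G → ℂ}
    (hf : ∀ g, Cfsg.MemLocalRing M (f g)) (a : H) : Cfsg.MemLocalRing M (trunc P H f a) := by
  classical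
  rw [trunc_apply]
  split_ifs
  · exact hf _
  · exact (localRing hM).zero_mem

/-- The central character of `ξ` through the Brauer map at `P` is a homomorphism modulo `M`. -/
theorem isCenHom_trunc (hM : Cfsg.IsPModular p M) {P H : Subgroup G} [Fintype H]
    (hP : IsPGroup p P) (hCH : Subgroup.centralizer (P : Set G) ≤ H)
    (hHN : H ≤ Subgroup.normalizer (P : Set G)) (ξ : Cfsg.IrrCharacter H) :
    IsCenHom (G := G) M fun f => omega (ξ : H → ℂ) (trunc P H f) where
  map_add f h := by
    classical
    rw [← omega_add]
    congr 1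
    funext a
    simp only [Pi.add_apply, trunc_apply]
    split_ifs <;> simp
  map_smul c f := by
    classical
    rw [← omega_smul]
    congr 1
    funext a
    simp only [Pi.smul_apply, trunc_apply]
    split_ifs <;> simp
  mem f hf hfR := memLocalRing_omega hM ξ.2 (isClassFunction_trunc hHN hf)
    (memLocalRing_trunc hM P H hfR)
  map_conv f h hf hh hfR hhR := by
    classical
    set C := Subgroup.centralizer (P : Set G) with hC
    have hf' := isClassFunction_trunc hHN hf
    have hh' := isClassFunction_trunc hHN hh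
    have hcong : ∀ z : H, Cfsg.MemLocalIdeal M
        (trunc P H (conv f h) z - conv (trunc P H f) (trunc P H h) z) := by
      intro z
      by_cases hz : (z : G) ∈ C
      · have hsum : conv (trunc P H f) (trunc P H h) z =
            conv (fun a : C => f (a : G)) (fun a : C => h (a : G)) ⟨(z : G), hz⟩ := by
          simp only [conv]
          rw [← Finset.sum_subset (Finset.subset_univ (Finset.univ.filter fun a : H => (a : G) ∈ C))
            fun a _ ha => by
              rw [trunc_apply, if_neg fun h => ha (Finset.mem_filter.2 ⟨Finset.mem_univ a, h⟩),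
                zero_mul]]
          refine Finset.sum_bij (fun a ha => (⟨(a : G), (Finset.mem_filter.1 ha).2⟩ : C))
            (fun a ha => Finset.mem_univ _)
            (fun a _ b _ e => Subtype.ext (congrArg (fun x : C => (x : G)) e))
            (fun b _ => ⟨⟨(b : G), hCH b.2⟩,
              Finset.mem_filter.2 ⟨Finset.mem_univ _, b.2⟩, rfl⟩) fun a ha => ?_
          have ha' : (a : G) ∈ C := (Finset.mem_filter.1 ha).2
          have hb : ((a⁻¹ * z : H) : G) ∈ C := by simpa using mul_mem (inv_mem ha') hz
          rw [trunc_apply, trunc_apply, if_pos ha', if_pos hb]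
          simp
        rw [trunc_apply, if_pos hz, hsum]
        exact memLocalIdeal_conv_res_sub hM hP (fun a => by
          rw [Subgroup.mem_centralizer_iff]; rfl) hf hh hfR hhR ⟨(z : G), hz⟩
      · have h0 : conv (trunc P H f) (trunc P H h) z = 0 := by
          refine Finset.sum_eq_zero fun a _ => ?_
          rw [trunc_apply, trunc_apply]
          by_cases ha : (a : G) ∈ C
          · rw [if_pos ha, if_neg, mul_zero]
            intro hb
            exact hz (by simpa using mul_mem ha hb)
          · rw [if_neg ha, zero_mul]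
        rw [trunc_apply, if_neg hz, h0, sub_self]
        exact memLocalIdeal_zero hM
    have : Finite (ConjClasses H) := Quotient.finite _
    have := Fintype.ofFinite (ConjClasses H)
    rw [← omega_conv ξ.2 hf' hh', ← omega_sub, omega_eq_sum_classes
      (Char.isClassFunction_of_isIrr ξ.2) (fun a k => by
        simp only [Pi.sub_apply, isClassFunction_trunc hHN (isClassFunction_conv hf hh) a k,
          isClassFunction_conv hf' hh' a k])]
    exact memLocalIdeal_sum hM _ fun K _ => memLocalIdeal_mul_right hM (hcong _)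
      (memLocalRing_centralChar hM ξ.2 _)
  map_delta := by
    classical
    have : trunc P H (delta G) = delta H := by
      funext a
      by_cases ha : a = 1
      · subst ha; simp [trunc_apply, delta, one_mem]
      · simp [trunc_apply, delta, ha]
    rw [this, omega_delta (Char.IsIrr.one_ne_zero ξ.2), sub_self]
    exact memLocalIdeal_zero hM

/-- Induced and Brauer central characters agree modulo `M`. -/
theorem memLocalIdeal_induced_sub_brauer (hM : Cfsg.IsPModular p M) {P H : Subgroup G}
    [Fintype H] (hP : IsPGroup p P) (hPH : P ≤ H) (hHN : H ≤ Subgroup.normalizer (P : Set G))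
    (ξ : Cfsg.IrrCharacter H) (g : G) :
    Cfsg.MemLocalIdeal M (Cfsg.inducedCentralChar H (ξ : H → ℂ) g -
      Cfsg.brauerCentralChar P H (ξ : H → ℂ) g) := by
  classical
  have : (P.subgroupOf H).Normal := (Subgroup.normal_subgroupOf_iff_le_normalizer hPH).2 hHN
  have hPn : IsPGroup p (P.subgroupOf H) :=
    hP.of_equiv (Subgroup.subgroupOfEquivOfLe hPH).symm
  have hf := isClassFunction_res H (isClassFunction_classInd g)
  have hf' := isClassFunction_trunc hHN (isClassFunction_classInd g)
  have : Finite (ConjClasses H) := Quotient.finite _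
  have := Fintype.ofFinite (ConjClasses H)
  rw [inducedCentralChar_eq_omega, brauerCentralChar_eq_omega, ← omega_sub,
    omega_eq_sum_classes (Char.isClassFunction_of_isIrr ξ.2) (fun a k => by
      simp only [Pi.sub_apply, hf a k, hf' a k])]
  refine memLocalIdeal_sum hM _ fun K _ => ?_
  have hR : ∀ a : H, Cfsg.MemLocalRing M (((fun a : H => classInd g (a : G)) -
      trunc P H (classInd g)) a) := fun a =>
    (localRing hM).sub_mem (memLocalRing_classInd hM g _)
      (memLocalRing_trunc hM P H (memLocalRing_classInd hM g) a)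
  by_cases hK : (K.out : G) ∈ Subgroup.centralizer (P : Set G)
  · rw [Pi.sub_apply, trunc_apply, if_pos hK, sub_self, zero_mul]
    exact memLocalIdeal_zero hM
  · refine memLocalIdeal_mul_left hM (hR _)
      (BlockThms.memLocalIdeal_centralChar_of_notMem (P.subgroupOf H) hM hPn ξ fun h => hK ?_)
    rw [Subgroup.mem_centralizer_iff] at h ⊢
    intro u hu
    exact congrArg Subtype.val (h ⟨u, hPH hu⟩ (Subgroup.mem_subgroupOf.2 hu))

/-- A homomorphism modulo `M` is the central character of exactly one block. -/
theorem IsCenHom.existsUnique_block (hM : Cfsg.IsPModular p M) {Φ : (G → ℂ) → ℂ}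
    (h : IsCenHom M Φ) : ∃! B : Set (Cfsg.IrrCharacter G), Cfsg.IsPBlock M B ∧
      ∀ χ ∈ B, ∀ f : G → ℂ, Cfsg.IsClassFunction G f → (∀ g, Cfsg.MemLocalRing M (f g)) →
        Cfsg.MemLocalIdeal M (Φ f - omega (χ : G → ℂ) f) := by
  obtain ⟨χ₀, hχ₀⟩ := h.exists_char hM
  refine ⟨Cfsg.blockOf M (χ₀ : G → ℂ), ⟨isPBlock_blockOf χ₀, fun χ hχ f hf hfR => ?_⟩, ?_⟩
  · have := memLocalIdeal_add hM (hχ₀ f hf hfR)
      (memLocalIdeal_omega_sub hM χ₀.2 χ.2 hf hfR (mem_blockOf.1 hχ))
    simpa using this
  · rintro B ⟨hB, hB'⟩
    obtain ⟨χ, hχ⟩ := IsPBlock.nonempty hM hB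
    rw [IsPBlock.eq_blockOf hM hB hχ]
    refine blockOf_eq_of_sameBlock hM fun g => ?_
    rw [← omega_classInd (Char.isClassFunction_of_isIrr χ.2),
      ← omega_classInd (Char.isClassFunction_of_isIrr χ₀.2)]
    have := memLocalIdeal_sub hM (hχ₀ _ (isClassFunction_classInd g) (memLocalRing_classInd hM g))
      (hB' χ hχ _ (isClassFunction_classInd g) (memLocalRing_classInd hM g))
    simpa using this

end Cfsg.Agent.Blocks
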