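import Cfsg.Agent.Blocks.ClassMatrix
import Cfsg.Agent.Blocks.Rank

/-!
# Separated classes with defect group `D`, and the rank of their counting matrix
-/

namespace Cfsg.Agent.Blocks

open scoped ComplexConjugate
open Cfsg.Agent

universe u

variable {G : Type u} [Group G] [Fintype G] {p : ℕ} {M : Ideal Cfsg.AlgInt} [Fact p.Prime]

/-- Separated classes with defect group `D` single out as many blocks with defect group `D`. -/
theorem exists_blocks_det (hM : Cfsg.IsPModular p M) {D : Subgroup G} {r : ℕ} (x : Fin r → G)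
    (hx : ∀ i, DefectThms.IsSylC p (x i) D) (hinj : ∀ i j, IsConj (x i) (x j) → i = j)
    (hsep : ∀ i j : Fin r, ∀ g h : G, IsConj (x i) g → IsConj (x j) h →
      ∀ k : ℕ, 0 < k → orderOf (g * h⁻¹) ≠ p ^ k) :
    ∃ B : Fin r → Set (Cfsg.IrrCharacter G), Function.Injective B ∧
      (∀ i, Cfsg.IsPBlock M (B i) ∧ Cfsg.IsDefectGroup p M (B i) D) ∧
      ∀ χ : Fin r → Cfsg.IrrCharacter G,
        (∀ i, χ i ∈ B i ∧ Cfsg.blockHeight p (B i) (χ i : G → ℂ) = 0) →
        ¬ Cfsg.MemLocalIdeal M (Matrix.det (Matrix.of fun i j => (χ i : G → ℂ) (x j))) := by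
  classical
  have := hM.2.1
  let _ := Ideal.Quotient.field M
  have := charP_residueField hM
  let S : Sylow p G := default
  have hfac := fun i j => classMatrix_factor x hx hM S i j
  choose n hn1 hn2 using hfac
  set q := p ^ ((Nat.card G).factorization p - (Nat.card D).factorization p) with hq
  set k := fun i => (Subgroup.centralizer ({x i} : Set G)).index / q with hk
  set m := Nat.card G / p ^ (Nat.card G).factorization p with hm
  have hmu : (m : Cfsg.AlgInt ⧸ M) ≠ 0 := fun h =>
    Nat.not_dvd_ordCompl hM.1 Nat.card_pos.ne' ((CharP.cast_eq_zero_iff _ p _).1 h)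
  have hku : ∀ i, (k i : Cfsg.AlgInt ⧸ M) ≠ 0 := fun i h =>
    not_dvd_indexPart x hx hM i ((CharP.cast_eq_zero_iff _ p _).1 h)
  -- the counting matrix is diagonal
  have hcount : ∀ i j, pairCount (S : Subgroup G) (x i) (x j) =
      if i = j then (Subgroup.centralizer ({x i} : Set G)).index else 0 := by
    intro i j
    have key : ∀ y z : G, IsConj (x i) y → IsConj (x j) z → z * y⁻¹ ∈ (S : Subgroup G) →
        z = y ∧ i = j := by
      intro y z hy hz hzy
      obtain ⟨t, ht⟩ := IsPGroup.iff_orderOf.1 S.2 ⟨z * y⁻¹, hzy⟩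
      rw [Subgroup.orderOf_mk] at ht
      rcases Nat.eq_zero_or_pos t with h0 | h0
      · rw [h0, pow_zero, orderOf_eq_one_iff, mul_inv_eq_one] at ht
        subst ht
        exact ⟨rfl, hinj i j (hy.trans hz.symm)⟩
      · exact absurd ht (hsep j i z y hz hy t h0)
    by_cases hij : i = j
    · subst hij
      rw [if_pos rfl, pairCount, ← Char.card_isConj_eq_index]
      refine Nat.card_congr ⟨fun t => ⟨t.1.1, t.2.1⟩,
        fun y => ⟨(y.1, y.1), y.2, y.2, by rw [mul_inv_cancel]; exact one_mem _⟩,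
        fun t => Subtype.ext (Prod.ext rfl (key _ _ t.2.1 t.2.2.1 t.2.2.2).1.symm), fun y => rfl⟩
    · rw [if_neg hij, pairCount, Nat.card_eq_zero]
      exact Or.inl ⟨fun t => hij (key _ _ t.2.1 t.2.2.1 t.2.2.2).2⟩
  have hn0 : ∀ i j, (n i j : Cfsg.AlgInt ⧸ M) = if i = j then (k i : Cfsg.AlgInt ⧸ M) else 0 := by
    intro i j
    have h := (hn1 i j).symm.trans (hcount i j)
    split_ifs with hij
    · subst hij
      rw [if_pos rfl, index_eq_mul x hx hM i, ← hq] at h
      rw [Nat.eq_of_mul_eq_mul_left (pow_pos hM.1.pos _) h]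
    · rw [if_neg hij, mul_eq_zero] at h
      rw [h.resolve_left (pow_ne_zero _ hM.1.ne_zero), Nat.cast_zero]
  set T := {χ : Cfsg.IrrCharacter G // Cfsg.IsDefectGroup p M (Cfsg.blockOf M (χ : G → ℂ)) D}
  set L : T → Fin r → Cfsg.AlgInt ⧸ M := fun χ j =>
    resFun hM (Cfsg.centralChar (χ.1 : G → ℂ) (x j)) with hL
  have hspan : Submodule.span (Cfsg.AlgInt ⧸ M) (Set.range L) = ⊤ := by
    rw [← top_le_iff, ← (Pi.basisFun (Cfsg.AlgInt ⧸ M) (Fin r)).span_eq, Submodule.span_le]
    rintro _ ⟨i, rfl⟩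
    have e : (Pi.basisFun (Cfsg.AlgInt ⧸ M) (Fin r)) i = (m : Cfsg.AlgInt ⧸ M)⁻¹ •
        ∑ χ : T, resFun hM (trivMult (S : Subgroup G) χ.1 * conj ((χ.1 : G → ℂ) (x i))) •
          L χ := by
      funext j
      rw [Pi.smul_apply, Finset.sum_apply, smul_eq_mul, eq_inv_mul_iff_mul_eq₀ hmu,
        Pi.basisFun_apply]
      simp only [Pi.smul_apply, smul_eq_mul, hL]
      refine mul_left_cancel₀ (hku i) ?_
      rw [← hn2 i j, hn0 i j, Pi.single_apply, if_congr (eq_comm : j = i ↔ i = j) rfl rfl]
      split_ifs <;> ring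
    rw [SetLike.mem_coe, e]
    exact Submodule.smul_mem _ _ (Submodule.sum_mem _ fun χ _ =>
      Submodule.smul_mem _ _ (Submodule.subset_span ⟨χ, rfl⟩))
  obtain ⟨t, htinj, htdet⟩ := exists_rows_det_ne_zero L hspan
  have hLeq : ∀ (χ : Cfsg.IrrCharacter G) (i : Fin r), χ ∈ Cfsg.blockOf M ((t i).1 : G → ℂ) →
      ∀ j, resFun hM (Cfsg.centralChar (χ : G → ℂ) (x j)) = L (t i) j := by
    intro χ i hχ j
    exact resFun_eq_of_sub_mem hM (memLocalRing_centralChar hM χ.2 _)
      (memLocalRing_centralChar hM (t i).1.2 _) (IsPBlock.sameBlock hM (isPBlock_blockOf _) hχ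
        (mem_blockOf_self hM _) _)
  refine ⟨fun i => Cfsg.blockOf M ((t i).1 : G → ℂ), fun i j hij => htinj ?_,
    fun i => ⟨isPBlock_blockOf _, (t i).2⟩, fun χ hχ => ?_⟩
  · funext l
    simp only at hij
    show L (t i) l = L (t j) l
    rw [← hLeq (t i).1 j (hij ▸ mem_blockOf_self hM _) l]
  · set B := fun i => Cfsg.blockOf M ((t i).1 : G → ℂ) with hB
    have hd : ∀ i, Cfsg.blockDefect p (B i) = (Nat.card D).factorization p := fun i => by
      rw [BlockChar.card_defectGroup hM (isPBlock_blockOf _) (t i).2, hM.1.factorization_pow,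
        Finsupp.single_eq_same]
    have hval : ∀ i j, (χ i : G → ℂ) (x j) = (BlockChar.redDeg p (B i) (χ i) : ℂ) *
        (Cfsg.centralChar (χ i : G → ℂ) (x j) * ((k j : ℕ) : ℂ)⁻¹) := by
      intro i j
      rw [apply_eq_centralChar_mul x hx hM (hχ i).1 (hd i).le j, hd i, Nat.sub_self, pow_zero,
        Nat.cast_one, one_mul, ← hq]
      ring
    have hR : ∀ i j, Cfsg.MemLocalRing M ((χ i : G → ℂ) (x j)) := fun i j =>
      memLocalRing_char hM (Char.IsIrr.isCharacter (χ i).2) _
    set Z : Matrix (Fin r) (Fin r) (localRing hM) := Matrix.of fun i j => ⟨_, hR i j⟩ with hZ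
    have hdet : Matrix.det (Matrix.of fun i j => (χ i : G → ℂ) (x j)) = (Z.det : ℂ) :=
      ((localRing hM).subtype.map_det Z).symm
    rw [hdet, ← residue_eq_zero_iff, RingHom.map_det]
    have e : (residue hM).mapMatrix Z =
        Matrix.diagonal (fun i => resFun hM (BlockChar.redDeg p (B i) (χ i) : ℂ)) *
          (Matrix.of fun i => L (t i)) *
          Matrix.diagonal (fun j => resFun hM ((k j : ℕ) : ℂ)⁻¹) := by
      ext i j
      rw [Matrix.mul_diagonal, Matrix.diagonal_mul, RingHom.mapMatrix_apply, Matrix.map_apply]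
      show resFun hM ((χ i : G → ℂ) (x j)) = _ * L (t i) j * _
      have hkR := memLocalRing_natCast_inv (M := M) hM (not_dvd_indexPart x hx hM j)
      have hcR := memLocalRing_centralChar hM (χ i).2 (x j)
      rw [hval, ← hLeq (χ i) i (hχ i).1 j, resFun_mul hM (memLocalRing_natCast hM _)
        ((localRing hM).mul_mem hcR hkR), resFun_mul hM hcR hkR, mul_assoc]
    rw [e, Matrix.det_mul, Matrix.det_mul, Matrix.det_diagonal, Matrix.det_diagonal]
    refine mul_ne_zero (mul_ne_zero (Finset.prod_ne_zero_iff.2 fun i _ => ?_) htdet)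
      (Finset.prod_ne_zero_iff.2 fun j _ => ?_)
    · rw [resFun_natCast, Ne, CharP.cast_eq_zero_iff _ p]
      exact (BlockChar.not_dvd_redDeg_iff hM.1 (hχ i).1).2 (hχ i).2
    · have hkR := memLocalRing_natCast_inv (M := M) hM (not_dvd_indexPart x hx hM j)
      have hk0 : ((k j : ℕ) : ℂ) ≠ 0 := Nat.cast_ne_zero.2 fun e => hku j (by rw [e, Nat.cast_zero])
      intro h0
      have h1 := resFun_mul hM (memLocalRing_natCast hM (k j)) hkR
      rw [mul_inv_cancel₀ hk0, h0, mul_zero] at h1
      rw [show (1 : ℂ) = ((1 : ℕ) : ℂ) by simp, resFun_natCast, Nat.cast_one] at h1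
      exact one_ne_zero h1

/-- The rank of a matrix is unchanged by a field extension. -/
theorem rank_map_field {K L : Type*} [Field K] [Field L] (f : K →+* L) {m n : Type*} [Fintype m]
    [Fintype n] (A : Matrix m n K) : (A.map f).rank = A.rank := by
  classical
  obtain ⟨r, g, hg, hspan, hli, hr⟩ : ∃ r, ∃ g : Fin r → n → K,
      (∀ l, g l ∈ Set.range A.row) ∧
        Submodule.span K (Set.range g) = Submodule.span K (Set.range A.row) ∧
        LinearIndependent K g ∧ r = Module.finrank K (Submodule.span K (Set.range A.row)) := by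
    obtain ⟨g, h1, h2, h3⟩ := Submodule.exists_fun_fin_finrank_span_eq K (Set.range A.row)
    exact ⟨_, g, h1, h2, h3, rfl⟩
  choose s hs using hg
  set R : Matrix (Fin r) n K := Matrix.of g with hR
  -- the chosen rows span
  have hC : ∀ i, ∃ c : Fin r → K, ∑ l, c l • g l = A.row i := fun i =>
    (Submodule.mem_span_range_iff_exists_fun K).1 (by
      rw [hspan]; exact Submodule.subset_span ⟨i, rfl⟩)
  choose C hC using hC
  have h1 : A = Matrix.of C * R := by
    ext i j
    rw [Matrix.mul_apply]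
    have := congrFun (hC i) j
    simpa [hR, Matrix.row, Finset.sum_apply] using this.symm
  have h2 : R = Matrix.of (fun l i => if i = s l then (1 : K) else 0) * A := by
    ext l j
    rw [Matrix.mul_apply, Finset.sum_eq_single (s l)]
    · simp [hR, ← hs l, Matrix.row]
    · intro i _ hne
      simp [hne]
    · simp
  have hRr : R.rank = r := by
    rw [LinearIndependent.rank_matrix (M := R) hli, Fintype.card_fin]
  obtain ⟨X, hX⟩ := Matrix.mulVec_surjective_iff_exists_right_inverse.1
    (show Function.Surjective R.mulVec from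
      (LinearMap.range_eq_top (f := R.mulVecLin)).1 (Submodule.eq_top_of_finrank_eq (hRr.trans (Module.finrank_fin_fun K).symm)))
  rw [Matrix.rank_eq_finrank_span_row A, ← hr]
  refine le_antisymm ?_ ?_
  · rw [h1, Matrix.map_mul]
    exact (Matrix.rank_mul_le_left _ _).trans
      ((Matrix.rank_le_card_width _).trans (Fintype.card_fin r).le)
  · have h3 : (Matrix.of fun l i => if i = s l then (1 : K) else 0).map f * A.map f * X.map f =
        (1 : Matrix (Fin r) (Fin r) L) := by
      rw [← Matrix.map_mul, ← h2, ← Matrix.map_mul, hX, Matrix.map_one f f.map_zero f.map_one]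
    have h4 : r = ((Matrix.of fun l i => if i = s l then (1 : K) else 0).map f * A.map f *
        X.map f).rank := by
      rw [h3, Matrix.rank_one, Fintype.card_fin]
    rw [h4]
    exact (Matrix.rank_mul_le_left _ _).trans (Matrix.rank_mul_le_right _ _)

open Classical in
/-- The rank of the counting matrix of the classes with normal defect group `D`. -/
theorem rank_pairCount (hM : Cfsg.IsPModular p M) {D : Subgroup G} [D.Normal] {ι : Type*}
    [Fintype ι] (x : ι → G) (hinj : ∀ i j, IsConj (x i) (x j) → i = j)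
    (hx : ∀ i, DefectThms.IsSylC p (x i) D) (hreg : ∀ i, ¬ p ∣ orderOf (x i))
    (hall : ∀ g : G, ¬ p ∣ orderOf g → DefectThms.IsSylC p g D → ∃ i, IsConj (x i) g)
    (S : Sylow p G) :
    (Matrix.of fun i j : ι => ((pairCount (S : Subgroup G) (x i) (x j) /
        p ^ ((Nat.card G).factorization p - (Nat.card D).factorization p) : ℕ) : ZMod p)).rank =
      Nat.card {B : Set (Cfsg.IrrCharacter G) //
        Cfsg.IsPBlock M B ∧ Cfsg.IsDefectGroup p M B D} := by
  have := hM.2.1
  let _ := Ideal.Quotient.field M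
  have := charP_residueField hM
  let K := Cfsg.AlgInt ⧸ M
  set d := (Nat.card D).factorization p with hd
  set β := {B : Set (Cfsg.IrrCharacter G) // Cfsg.IsPBlock M B ∧ Cfsg.IsDefectGroup p M B D}
  have hBd : ∀ B : β, Cfsg.blockDefect p B.1 = d := fun B => by
    rw [hd, BlockChar.card_defectGroup hM B.2.1 B.2.2, hM.1.factorization_pow,
      Finsupp.single_eq_same]
  choose rep hrep using fun B : β => IsPBlock.nonempty hM B.2.1
  have hlam : ∀ (B : β) (χ : Cfsg.IrrCharacter G), χ ∈ B.1 → ∀ g,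
      resFun hM (Cfsg.centralChar (χ : G → ℂ) g) =
        resFun hM (Cfsg.centralChar (rep B : G → ℂ) g) := fun B χ hχ g =>
    resFun_eq_of_sub_mem hM (memLocalRing_centralChar hM χ.2 _)
      (memLocalRing_centralChar hM (rep B).2 _) (IsPBlock.sameBlock hM B.2.1 hχ (hrep B) _)
  -- inversion permutes the classes
  have hinv : ∀ i, ∃ j, IsConj (x j) (x i)⁻¹ := fun i => by
    refine hall _ (by rw [orderOf_inv]; exact hreg i) ?_
    have e : Subgroup.centralizer ({(x i)⁻¹} : Set G) = Subgroup.centralizer ({x i} : Set G) := by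
      ext a
      rw [Subgroup.mem_centralizer_singleton_iff, Subgroup.mem_centralizer_singleton_iff]
      exact ⟨fun h => (Commute.inv_right_iff.1 (h : Commute a (x i)⁻¹)).eq,
        fun h => ((show Commute a (x i) from h).inv_right).eq⟩
    simpa only [DefectThms.IsSylC, e] using hx i
  choose σ hσ using hinv
  have hσσ : Function.Involutive σ := fun i => by
    refine hinj _ _ ((hσ (σ i)).trans ?_)
    obtain ⟨c, hc⟩ := isConj_iff.1 (hσ i)
    exact isConj_iff.2 ⟨c, by rw [← inv_inv (x i), ← hc]; group⟩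
  let Λ : Matrix β ι K := Matrix.of fun B i =>
    resFun hM (Cfsg.centralChar (rep B : G → ℂ) (x i))
  let W : Matrix ι β K := Matrix.of fun i B => resFun hM (Cfsg.blockCoeff B.1 (x i))
  -- the idempotents are dual to the central characters
  have hΛW : Λ * W = 1 := by
    ext B B'
    rw [Matrix.mul_apply, Matrix.one_apply]
    have hcl : Finite (ConjClasses G) := Quotient.finite _
    let _ := Fintype.ofFinite (ConjClasses G)
    have h := omega_blockCoeff B'.1 (rep B)
    rw [omega_eq_sum_classes (Char.isClassFunction_of_isIrr (rep B).2)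
      (isClassFunction_blockCoeff B'.1)] at h
    have hR : ∀ C : ConjClasses G, Cfsg.MemLocalRing M
        (Cfsg.blockCoeff B'.1 C.out * Cfsg.centralChar (rep B : G → ℂ) C.out) := fun C =>
      (localRing hM).mul_mem (memLocalRing_blockCoeff hM B'.2.1 _)
        (memLocalRing_centralChar hM (rep B).2 _)
    have h2 := congrArg (resFun hM) h
    rw [resFun_sum hM _ _ fun C _ => hR C] at h2
    have h3 : ∀ C : ConjClasses G, C ∈ Finset.univ →
        C ∉ Finset.univ.image (fun i => ConjClasses.mk (x i)) →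
        resFun hM (Cfsg.blockCoeff B'.1 C.out * Cfsg.centralChar (rep B : G → ℂ) C.out) = 0 := by
      intro C _ hC
      rw [resFun_eq_zero_iff hM (hR C)]
      by_contra hne
      have he : ¬ Cfsg.MemLocalIdeal M (Cfsg.blockCoeff B'.1 C.out) := fun h' =>
        hne (memLocalIdeal_mul_right hM h' (memLocalRing_centralChar hM (rep B).2 _))
      have hw : ¬ Cfsg.MemLocalIdeal M (Cfsg.centralChar (rep B : G → ℂ) C.out) := fun h' =>
        hne (memLocalIdeal_mul_left hM (memLocalRing_blockCoeff hM B'.2.1 _) h')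
      have hr : ¬ p ∣ orderOf C.out := fun h' =>
        he (blockCoeff_eq_zero_of_dvd hM B'.2.1 h' ▸ memLocalIdeal_zero hM)
      obtain ⟨g, hg, hgD⟩ := DefectThms.isDefectGroup_iff.1 B'.2.2
      obtain ⟨g', hg', hgD'⟩ := DefectThms.isDefectGroup_iff.1 B.2.2
      obtain ⟨T, hT⟩ := DefectThms.exists_isSylC p C.out
      obtain ⟨k, hk⟩ := DefectThms.exists_conj_le_of_unit_coeff hM B'.2.1 hg hgD he hT
      obtain ⟨k', T', hT', hk'⟩ :=
        DefectThms.exists_le_isSylC_of_unit hM B.2.1 hg' hgD' (hrep B) hw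
      have hnorm : ∀ y, D.map (MulAut.conj y).toMonoidHom = D := fun y => by
        refine Subgroup.eq_of_le_of_card_ge ?_ (DefectThms.card_map_conj D y).ge
        rintro _ ⟨w, hw', rfl⟩
        exact Subgroup.Normal.conj_mem inferInstance w hw' y
      rw [hnorm] at hk'
      have hTD : T = D := by
        refine Subgroup.eq_of_le_of_card_ge ?_ ?_
        · intro w hw'
          have hw2 := Subgroup.Normal.conj_mem (inferInstance : D.Normal) _
            (hk ⟨w, hw', rfl⟩) k⁻¹
          rwa [show k⁻¹ * (MulAut.conj k).toMonoidHom w * k⁻¹⁻¹ = w by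
            simp [mul_assoc]] at hw2
        · rw [hT.2.2, ← hT'.2.2]
          exact Subgroup.card_le_of_le hk'
      obtain ⟨i, hi⟩ := hall C.out hr (hTD ▸ hT)
      exact hC (Finset.mem_image.2 ⟨i, Finset.mem_univ i,
        (ConjClasses.mk_eq_mk_iff_isConj.2 hi).trans (Quotient.out_eq C)⟩)
    rw [← Finset.sum_subset (Finset.subset_univ _) h3,
      Finset.sum_image fun i _ j _ hij => hinj i j (ConjClasses.mk_eq_mk_iff_isConj.1 hij)] at h2
    have h4 : ∀ i, Λ B i * W i B' = resFun hM (Cfsg.blockCoeff B'.1 (ConjClasses.mk (x i)).out *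
        Cfsg.centralChar (rep B : G → ℂ) (ConjClasses.mk (x i)).out) := by
      intro i
      have hc : IsConj (x i) (ConjClasses.mk (x i)).out :=
        (ConjClasses.mk_eq_mk_iff_isConj.1 (Quotient.out_eq (ConjClasses.mk (x i)))).symm
      obtain ⟨c, hc'⟩ := isConj_iff.1 hc
      rw [resFun_mul hM (memLocalRing_blockCoeff hM B'.2.1 _)
        (memLocalRing_centralChar hM (rep B).2 _), ← hc', isClassFunction_blockCoeff B'.1 (x i) c,
        ← omega_classInd (Char.isClassFunction_of_isIrr (rep B).2) (c * x i * c⁻¹)]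
      simp only [Λ, W, Matrix.of_apply]
      rw [mul_comm, ← omega_classInd (Char.isClassFunction_of_isIrr (rep B).2) (x i)]
      congr 2
      congr 1
      funext y
      simp only [classInd_apply]
      exact if_congr ⟨fun h => (isConj_iff.2 ⟨c, rfl⟩ : IsConj (x i) (c * x i * c⁻¹)).symm.trans h,
        fun h => (isConj_iff.2 ⟨c, rfl⟩ : IsConj (x i) (c * x i * c⁻¹)).trans h⟩ rfl rfl
    rw [Finset.sum_congr rfl fun i _ => h4 i, h2]
    by_cases hBB : B = B'
    · subst hBB
      rw [if_pos (hrep B), if_pos rfl, show (1 : ℂ) = ((1 : ℕ) : ℂ) by simp, resFun_natCast,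
        Nat.cast_one]
    · rw [if_neg, if_neg hBB, show (0 : ℂ) = ((0 : ℕ) : ℂ) by simp, resFun_natCast, Nat.cast_zero]
      exact fun hmem => hBB (Subtype.ext ((IsPBlock.eq_blockOf hM B.2.1 (hrep B)).trans
        (IsPBlock.eq_blockOf hM B'.2.1 hmem).symm))
  -- the coefficients
  let c : β → ℂ := fun B => ∑ χ : Cfsg.IrrCharacter G, if χ ∈ B.1 then
    trivMult (S : Subgroup G) χ * (BlockChar.redDeg p B.1 χ : ℂ) else 0
  have hcR : ∀ B : β, Cfsg.MemLocalRing M (c B) := fun B => by
    refine (localRing hM).sum_mem fun χ _ => ?_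
    split_ifs
    · obtain ⟨t, ht⟩ := exists_nat_trivMult (S : Subgroup G) χ
      exact ht ▸ (localRing hM).mul_mem (memLocalRing_natCast hM _) (memLocalRing_natCast hM _)
    · exact (localRing hM).zero_mem
  have hcu : ∀ B : β, resFun hM (c B) ≠ 0 := fun B => by
    rw [Ne, resFun_eq_zero_iff hM (hcR B)]
    obtain ⟨hdvd, hndvd⟩ := BlockChar.redDeg_sq_sum hM B.2.1
    obtain ⟨t, ht⟩ := hdvd
    have htu : ¬ (p : ℤ) ∣ t := fun ⟨w, hw⟩ => hndvd ⟨w, by rw [ht, hw, pow_succ]; ring⟩
    suffices e : c B = (t : ℂ) by rwa [e, memLocalIdeal_intCast_iff hM]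
    have hS : (Nat.card (S : Subgroup G) : ℂ) = ((p ^ (Nat.card G).factorization p : ℕ) : ℂ) := by
      exact_mod_cast S.card_eq_multiplicity
    have hp0 : (p : ℂ) ≠ 0 := Nat.cast_ne_zero.2 hM.1.ne_zero
    have hS0 : (Nat.card (S : Subgroup G) : ℂ) ≠ 0 := Nat.cast_ne_zero.2 Nat.card_pos.ne'
    obtain ⟨χ₀, hχ₀⟩ := IsPBlock.nonempty hM B.2.1
    have hle := (BlockChar.minVal_le (p := p) hχ₀).trans (BlockChar.degree_val_le χ₀)
    have hha : BlockChar.minVal p B.1 + Cfsg.blockDefect p B.1 = (Nat.card G).factorization p := by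
      rw [BlockChar.blockDefect_eq]; omega
    have h1 : ((p ^ BlockChar.minVal p B.1 : ℕ) : ℂ) * (Nat.card (S : Subgroup G) : ℂ) * c B =
        ((p ^ BlockChar.minVal p B.1 : ℕ) : ℂ) ^ 2 *
          ((BlockChar.bsum B.1 fun χ => (BlockChar.redDeg p B.1 χ : ℤ) ^ 2 : ℤ) : ℂ) := by
      have e1 : ((p ^ BlockChar.minVal p B.1 : ℕ) : ℂ) * (Nat.card (S : Subgroup G) : ℂ) * c B =
          ∑ u : (S : Subgroup G), ∑ χ : Cfsg.IrrCharacter G,
            if χ ∈ B.1 then (χ : G → ℂ) 1 * (χ : G → ℂ) (u : G) else 0 := by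
        rw [Finset.sum_comm]
        simp only [c, Finset.mul_sum]
        refine Finset.sum_congr rfl fun χ _ => ?_
        split_ifs with h
        · rw [(CharArith.irr_degree_spec χ).1, (BlockChar.redDeg_mul (B := B.1) hM.1 h).1,
            trivMult, ← Finset.mul_sum]
          push_cast
          field_simp
        · simp
      rw [e1, Finset.sum_eq_single (1 : (S : Subgroup G))]
      · rw [BlockChar.bsum, Int.cast_sum, Finset.mul_sum]
        refine Finset.sum_congr rfl fun χ _ => ?_
        split_ifs with h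
        · rw [Subgroup.coe_one, (CharArith.irr_degree_spec χ).1,
            (BlockChar.redDeg_mul (B := B.1) hM.1 h).1]
          push_cast
          ring
        · simp
      · intro u _ hu
        refine BlockChar.sum_block_degree_mul_eq_zero hM B.2.1 (fun hr => hr ?_)
        obtain ⟨t', ht'⟩ := IsPGroup.iff_orderOf.1 S.2 u
        rw [Subgroup.orderOf_coe, ht']
        rcases Nat.eq_zero_or_pos t' with h0 | h0
        · exact absurd (orderOf_eq_one_iff.1 (by simpa [h0] using ht')) hu
        · exact dvd_pow_self p h0.ne'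
      · simp
    rw [ht, hS, ← hha] at h1
    push_cast [pow_add] at h1
    have h2 : (p : ℂ) ^ BlockChar.minVal p B.1 * (p : ℂ) ^ BlockChar.minVal p B.1 *
        (p : ℂ) ^ Cfsg.blockDefect p B.1 ≠ 0 := by positivity
    exact mul_left_cancel₀ h2 (by linear_combination h1)
  -- the factorisation
  set m := Nat.card G / p ^ (Nat.card G).factorization p with hm
  have hmu : (m : K) ≠ 0 := fun h =>
    Nat.not_dvd_ordCompl hM.1 Nat.card_pos.ne' ((CharP.cast_eq_zero_iff K p _).1 h)
  set N := Matrix.of fun i j : ι => ((pairCount (S : Subgroup G) (x i) (x j) /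
    p ^ ((Nat.card G).factorization p - d) : ℕ) : ZMod p) with hN
  let Λ' : Matrix β ι K := Matrix.of fun B i => Λ B (σ i)
  let W' : Matrix ι β K := Matrix.of fun i B => W (σ i) B
  have hΛW' : Λ' * W' = 1 := by
    rw [← hΛW]
    ext B B'
    rw [Matrix.mul_apply, Matrix.mul_apply]
    exact Fintype.sum_equiv hσσ.toPerm _ _ fun i => rfl
  have hfac : (m : K) • N.map (ZMod.castHom dvd_rfl K) =
      Λ'.transpose * Matrix.diagonal (fun B => resFun hM (c B)) * Λ := by
    ext i j
    obtain ⟨n, hn1, hn2⟩ := classMatrix_factor x hx hM S i j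
    rw [Matrix.smul_apply, Matrix.map_apply, hN, Matrix.of_apply, hn1,
      Nat.mul_div_cancel_left _ (pow_pos hM.1.pos _), map_natCast, smul_eq_mul, hn2,
      Matrix.mul_apply]
    set ki := (Subgroup.centralizer ({x i} : Set G)).index /
      p ^ ((Nat.card G).factorization p - d) with hki
    have hkiu : (ki : K) ≠ 0 := fun h =>
      not_dvd_indexPart x hx hM i ((CharP.cast_eq_zero_iff K p _).1 h)
    have hkR := memLocalRing_natCast_inv (M := M) hM (not_dvd_indexPart x hx hM i)
    let bl : {χ : Cfsg.IrrCharacter G //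
        Cfsg.IsDefectGroup p M (Cfsg.blockOf M (χ : G → ℂ)) D} → β :=
      fun χ => ⟨Cfsg.blockOf M (χ.1 : G → ℂ), isPBlock_blockOf χ.1, χ.2⟩
    rw [← Fintype.sum_fiberwise bl, Finset.mul_sum]
    refine Finset.sum_congr rfl fun B _ => ?_
    -- one block
    have hterm : ∀ χ : Cfsg.IrrCharacter G, χ ∈ B.1 →
        (ki : K) * (resFun hM (trivMult (S : Subgroup G) χ * conj ((χ : G → ℂ) (x i))) *
          resFun hM (Cfsg.centralChar (χ : G → ℂ) (x j))) =
        resFun hM (trivMult (S : Subgroup G) χ * (BlockChar.redDeg p B.1 χ : ℂ)) *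
          (Λ B (σ i) * Λ B j) := by
      intro χ hχ
      obtain ⟨t, ht⟩ := exists_nat_trivMult (S : Subgroup G) χ
      have hχR := memLocalRing_centralChar hM χ.2 (x i)⁻¹
      have hb : Cfsg.blockDefect p B.1 ≤ d := (hBd B).le
      rw [conj_apply_eq_centralChar_mul x hx hM hχ hb i, hBd B, ← hd, Nat.sub_self, pow_zero,
        Nat.cast_one, one_mul, ← hki, ht]
      have e1 : resFun hM (Cfsg.centralChar (χ : G → ℂ) (x i)⁻¹) = Λ B (σ i) := by
        rw [hlam B χ hχ, ← omega_classInd (Char.isClassFunction_of_isIrr (rep B).2)]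
        simp only [Λ, Matrix.of_apply]
        rw [← omega_classInd (Char.isClassFunction_of_isIrr (rep B).2) (x (σ i))]
        congr 2
        funext y
        simp only [classInd_apply]
        exact if_congr ⟨fun h => (hσ i).trans h, fun h => (hσ i).symm.trans h⟩ rfl rfl
      have e2 : resFun hM (Cfsg.centralChar (χ : G → ℂ) (x j)) = Λ B j := hlam B χ hχ _
      have hrR := memLocalRing_natCast (M := M) hM (BlockChar.redDeg p B.1 χ)
      have htR := memLocalRing_natCast (M := M) hM t
      have hk1 : (ki : K) * resFun hM ((ki : ℕ) : ℂ)⁻¹ = 1 := by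
        rw [← resFun_natCast hM, ← resFun_mul hM (memLocalRing_natCast hM _) hkR,
          mul_inv_cancel₀ (Nat.cast_ne_zero.2 fun e => hkiu (by rw [e, Nat.cast_zero])),
          show (1 : ℂ) = ((1 : ℕ) : ℂ) by simp, resFun_natCast, Nat.cast_one]
      rw [resFun_mul hM htR ((localRing hM).mul_mem hχR ((localRing hM).mul_mem hrR hkR)),
        resFun_mul hM hχR ((localRing hM).mul_mem hrR hkR), resFun_mul hM hrR hkR,
        resFun_mul hM htR hrR, e1, e2]
      linear_combination (resFun hM (t : ℂ) * resFun hM (BlockChar.redDeg p B.1 χ : ℂ) *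
        Λ B (σ i) * Λ B j) * hk1
    rw [Finset.mul_sum, Finset.sum_congr rfl (fun χ _ => hterm χ.1.1 (by
      have h := χ.2
      rw [Subtype.ext_iff] at h
      exact h ▸ mem_blockOf_self hM χ.1.1))]
    rw [← Finset.sum_mul, Matrix.mul_diagonal, Matrix.transpose_apply,
      show Λ' B i = Λ B (σ i) from rfl, mul_comm (Λ B (σ i)) (resFun hM (c B)), mul_assoc]
    congr 1
    have e3 : c B = ∑ χ ∈ Finset.univ.filter (fun χ : Cfsg.IrrCharacter G => χ ∈ B.1),
        trivMult (S : Subgroup G) χ * (BlockChar.redDeg p B.1 χ : ℂ) :=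
      (Finset.sum_filter _ _).symm
    rw [e3, resFun_sum hM _ _ fun χ _ => by
      obtain ⟨t, ht⟩ := exists_nat_trivMult (S : Subgroup G) χ
      exact ht ▸ (localRing hM).mul_mem (memLocalRing_natCast hM _) (memLocalRing_natCast hM _)]
    refine Finset.sum_bij (fun χ _ => χ.1.1)
      (fun χ _ => Finset.mem_filter.2 ⟨Finset.mem_univ _, ?_⟩)
      (fun χ _ χ' _ h => Subtype.ext (Subtype.ext h)) (fun χ hχ => ?_) fun χ _ => rfl
    · have h := χ.2
      rw [Subtype.ext_iff] at h
      exact h ▸ mem_blockOf_self hM χ.1.1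
    · have hb := IsPBlock.eq_blockOf hM B.2.1 (Finset.mem_filter.1 hχ).2
      exact ⟨⟨⟨χ, hb ▸ B.2.2⟩, Subtype.ext hb.symm⟩, Finset.mem_univ _, rfl⟩
  rw [← rank_map_field (ZMod.castHom dvd_rfl K) N,
    ← Matrix.rank_smul_of_mem_nonZeroDivisors _ (mem_nonZeroDivisors_of_ne_zero hmu), hfac,
    Nat.card_eq_fintype_card]
  refine le_antisymm ((Matrix.rank_mul_le_right _ _).trans (Matrix.rank_le_card_height _)) ?_
  have e : W'.transpose * (Λ'.transpose * Matrix.diagonal (fun B => resFun hM (c B)) * Λ) * W =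
      Matrix.diagonal (fun B => resFun hM (c B)) := by
    rw [← Matrix.mul_assoc, ← Matrix.mul_assoc, ← Matrix.transpose_mul, hΛW',
      Matrix.transpose_one, Matrix.one_mul, Matrix.mul_assoc, hΛW, Matrix.mul_one]
  calc Fintype.card β = (Matrix.diagonal fun B => resFun hM (c B)).rank :=
        (Matrix.rank_of_det_ne_zero (by
          rw [Matrix.det_diagonal]; exact Finset.prod_ne_zero_iff.2 fun B _ => hcu B)).symm
    _ ≤ _ := by
      conv_lhs => rw [← e]
      exact (Matrix.rank_mul_le_left _ _).trans (Matrix.rank_mul_le_right _ _)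

end Cfsg.Agent.Blocks
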