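import Cfsg.Agent.Blocks.CoveringNormal
import Cfsg.Agent.Char.Count

/-!
# A covering block lies over every member of the covered block

In the centralizer of `N` in the group algebra over the residue field, the component product of two
elements of inverse degree which annihilate the idempotent of `θ ∈ b` has all central character
values at `b` in the ideal.
-/

namespace Cfsg.Agent.Blocks

open scoped ComplexConjugate
open Cfsg.Agent Cfsg.Agent.Char

universe u

variable {G : Type u} [Group G] [Fintype G] {N : Subgroup G} [Fintype N]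

/-- The isotypic projection onto a character which is not a constituent kills `χ`. -/
theorem sum_conj_mul_shift_eq_zero {χ : G → ℂ} (hχ : Cfsg.IsIrrCharacter G χ) {θ : N → ℂ}
    (hθ : Cfsg.IsIrrCharacter N θ) (h : Cfsg.classInner (fun n : N => χ n) θ = 0) (w : G) :
    ∑ n : N, χ ((n : G) * w) * conj (θ n) = 0 := by
  classical
  have hci := IsChar.inv_eq_conj (IsIrr.isCharacter hχ)
  have hti := IsChar.inv_eq_conj (IsIrr.isCharacter hθ)
  set F : G → ℂ := fun w => ∑ n : N, χ ((n : G) * w) * conj (θ n) with hF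
  suffices hs : ∑ w : G, F w * conj (F w) = 0 by
    have h1 : ∑ w : G, Complex.normSq (F w) = 0 := by
      have h2 : ((∑ w : G, Complex.normSq (F w) : ℝ) : ℂ) = 0 := by
        rw [Complex.ofReal_sum, ← hs]
        exact Finset.sum_congr rfl fun w _ => (Complex.mul_conj (F w)).symm
      exact_mod_cast h2
    exact Complex.normSq_eq_zero.1
      ((Finset.sum_eq_zero_iff_of_nonneg fun w _ => Complex.normSq_nonneg _).1 h1 w
        (Finset.mem_univ w))
  have key : ∀ n m : N, χ 1 * ∑ w : G, χ ((n : G) * w) * conj (χ ((m : G) * w)) =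
      (Nat.card G : ℂ) * χ ((n : G) * (m : G)⁻¹) := by
    intro n m
    have := sum_mul_shift hχ hχ ((n : G) * (m : G)⁻¹)
    rw [if_pos rfl] at this
    rw [← this]
    congr 1
    refine Fintype.sum_equiv (Equiv.mulLeft (n : G)) _ _ fun w => ?_
    rw [← hci, Equiv.coe_mulLeft, mul_inv_rev, mul_inv_rev, mul_assoc, inv_mul_cancel_left]
  have hcol : ∀ k : N, θ 1 * ∑ m : N, conj (θ (k * m)) * θ m = (Nat.card N : ℂ) * conj (θ k) := by
    intro k
    have := sum_mul_shift hθ hθ k⁻¹
    rw [if_pos rfl, hti] at this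
    rw [← this]
    congr 1
    refine Finset.sum_congr rfl fun m _ => ?_
    rw [← hti, mul_inv_rev, mul_comm]
  have h1 : χ 1 * ∑ w : G, F w * conj (F w) =
      (Nat.card G : ℂ) * ∑ k : N, χ (k : G) * ∑ m : N, conj (θ (k * m)) * θ m := by
    simp only [hF, map_sum, map_mul, Complex.conj_conj, Finset.sum_mul, Finset.mul_sum]
    rw [Finset.sum_comm]
    conv_lhs => enter [2, n]; rw [Finset.sum_comm]
    conv_rhs => rw [Finset.sum_comm]
    refine Finset.sum_congr rfl fun m _ => ?_
    refine Fintype.sum_equiv (Equiv.mulRight m⁻¹) _ _ fun n => ?_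
    rw [Equiv.coe_mulRight, inv_mul_cancel_right]
    calc ∑ w : G, χ 1 * (χ ((n : G) * w) * conj (θ n) * (conj (χ ((m : G) * w)) * θ m))
        = conj (θ n) * θ m * (χ 1 * ∑ w : G, χ ((n : G) * w) * conj (χ ((m : G) * w))) := by
          rw [Finset.mul_sum, Finset.mul_sum]
          exact Finset.sum_congr rfl fun w _ => by ring
      _ = _ := by
          rw [key n m, Subgroup.coe_mul, Subgroup.coe_inv]
          ring
  have h2 : χ 1 * θ 1 * ∑ w : G, F w * conj (F w) = 0 := by
    rw [mul_comm (χ 1), mul_assoc, h1, ← mul_assoc, mul_comm (θ 1), mul_assoc, Finset.mul_sum]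
    rw [Finset.sum_congr rfl fun (k : N) _ => show θ 1 * (χ (k : G) * ∑ m : N, conj (θ (k * m)) * θ m) =
      (Nat.card N : ℂ) * (χ (k : G) * conj (θ k)) by rw [← mul_assoc, mul_comm (θ 1), mul_assoc, hcol k]; ring,
      ← Finset.mul_sum]
    have : ∑ k : N, χ (k : G) * conj (θ k) = 0 := by
      rcases mul_eq_zero.1 h with h' | h'
      · exact absurd h' (inv_ne_zero card_ne_zero)
      · exact h'
    rw [this, mul_zero, mul_zero]
  exact (mul_eq_zero.1 h2).resolve_left (mul_ne_zero (IsIrr.one_ne_zero hχ) (IsIrr.one_ne_zero hθ))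

variable [hN : N.Normal] {p : ℕ} [Fact p.Prime] {M : Ideal Cfsg.AlgInt} (hM : Cfsg.IsPModular p M)
  {b : Set (Cfsg.IrrCharacter N)} (hb : Cfsg.IsPBlock M b)
include hM hb

local notation "sbc" => Cfsg.subgroupBlockCoeff

/-- Every member of a covered block is a constituent of a member of the covering block. -/
theorem exists_over_of_covering {B : Set (Cfsg.IrrCharacter G)} (hB : Cfsg.IsPBlock M B)
    (hcov : ∃ χ ∈ B, ∃ θ ∈ b, Cfsg.classInner (fun n : N => (χ : G → ℂ) n) (θ : N → ℂ) ≠ 0)
    {θ : Cfsg.IrrCharacter N} (hθ : θ ∈ b) :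
    ∃ χ ∈ B, Cfsg.classInner (fun n : N => (χ : G → ℂ) n) (θ : N → ℂ) ≠ 0 := by
  classical
  by_contra! hzero
  set eb : G → ℂ := sbc N b with heb
  set ε : G → ℂ := sbc N {θ} with hε
  set E := Cfsg.blockCoeff B with hE
  have hEc : Cfsg.IsClassFunction G E := isClassFunction_blockCoeff B
  have hER : ∀ y, Cfsg.MemLocalRing M (E y) := memLocalRing_blockCoeff hM hB
  have hebR : ∀ y, Cfsg.MemLocalRing M (eb y) := fun y => BrauerPairs.memLocalRing_sbc hM hb y
  have heb0 : ∀ y, y ∉ N → eb y = 0 := fun y hy => BrauerPairs.sbc_of_notMem b hy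
  have hresb : (fun n : N => eb (n : G)) = Cfsg.blockCoeff b :=
    funext fun n => BrauerPairs.sbc_apply b n
  have hresε : (fun n : N => ε (n : G)) = Cfsg.blockCoeff ({θ} : Set (Cfsg.IrrCharacter N)) :=
    funext fun n => BrauerPairs.sbc_apply _ n
  have hebi : NInv N eb := fun n hn y => by
    by_cases hy : y ∈ N
    · have := isClassFunction_blockCoeff b ⟨y, hy⟩ ⟨n, hn⟩
      rwa [← hresb] at this
    · rw [heb0 y hy, heb0 _ fun h => hy (by simpa [mul_assoc] using hN.conj_mem _ h n⁻¹)]
  -- the idempotent of `B` annihilates that of `θ`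
  have hEε : conv E ε = 0 := by
    funext z
    rw [conv, ← Fintype.sum_equiv ((Equiv.inv G).trans (Equiv.mulLeft z))
      (fun a => E (z * a⁻¹) * ε a) (fun a => E a * ε (a⁻¹ * z)) fun a => by simp,
      BlockThms.sum_eq_sum_subgroup (N := N) fun a ha => by
        rw [hε, BrauerPairs.sbc_of_notMem _ ha, mul_zero]]
    simp only [congrFun hresε, Pi.zero_apply, hE, Cfsg.blockCoeff, finsum_mem_singleton]
    simp only [finsum_mem_eq_sum_of_inter_support_eq _
      (show B ∩ _ = ((Finset.univ.filter (· ∈ B) : Finset _) : Set _) ∩ _ by simp),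
      Finset.mul_sum, Finset.sum_mul]
    rw [Finset.sum_comm]
    refine Finset.sum_eq_zero fun χ hχ => ?_
    calc _ = ((Nat.card G : ℂ)⁻¹ * (χ : G → ℂ) 1 * (Nat.card N : ℂ)⁻¹ * (θ : N → ℂ) 1) *
          ∑ n : N, (χ : G → ℂ) ((n : G) * z⁻¹) * conj ((θ : N → ℂ) n) := by
            rw [Finset.mul_sum]
            refine Finset.sum_congr rfl fun n _ => ?_
            rw [← IsChar.inv_eq_conj (IsIrr.isCharacter χ.2) (z * (n : G)⁻¹), mul_inv_rev, inv_inv]
            ring
      _ = 0 := by
            rw [sum_conj_mul_shift_eq_zero χ.2 θ.2 (hzero χ (Finset.mem_filter.1 hχ).2), mul_zero]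
  -- products with the idempotents on `N`
  have hbb : conv eb eb = eb := by
    funext y
    by_cases hy : y ∈ N
    · rw [show y = ((⟨y, hy⟩ : N) : G) from rfl, BrauerPairs.conv_of_supported heb0, hresb,
        blockCoeff_conv, heb, BrauerPairs.sbc_apply]
    · rw [BrauerPairs.conv_eq_zero_of_notMem heb0 heb0 hy, heb0 y hy]
  have hbε : conv eb ε = ε := by
    funext y
    by_cases hy : y ∈ N
    · rw [show y = ((⟨y, hy⟩ : N) : G) from rfl, BrauerPairs.conv_of_supported heb0, hresb, hresε,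
        show ε ((⟨y, hy⟩ : N) : G) = Cfsg.blockCoeff ({θ} : Set (Cfsg.IrrCharacter N)) ⟨y, hy⟩ from
          congrFun hresε ⟨y, hy⟩]
      refine congrFun (classFun_ext_omega (isClassFunction_conv (isClassFunction_blockCoeff b)
        (isClassFunction_blockCoeff _)) (isClassFunction_blockCoeff _) fun ψ => ?_) _
      rw [omega_conv ψ.2 (isClassFunction_blockCoeff b) (isClassFunction_blockCoeff _),
        omega_blockCoeff, omega_blockCoeff]
      by_cases hψ : ψ = θ
      · subst hψ; simp [hθ]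
      · simp [hψ]
    · rw [BrauerPairs.conv_eq_zero_of_notMem heb0 (fun g hg => BrauerPairs.sbc_of_notMem _ hg) hy,
        hε, BrauerPairs.sbc_of_notMem _ hy]
  set E' : G → ℂ := conv E eb with hE'
  have hE'R : ∀ y, Cfsg.MemLocalRing M (E' y) := memLocalRing_conv hM hER hebR
  have hEi : NInv N E := fun n _ y => hEc y n
  have hE'i : NInv N E' := hEi.conv hebi
  -- values at `b` of elements annihilating the idempotent of `θ`
  have hvanish : ∀ {f : G → ℂ}, (∀ y, Cfsg.MemLocalRing M (f y)) →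
      (∀ y : G, (y : G ⧸ N) ≠ 1 → f y = 0) → NInv N f → conv f ε = 0 →
      ∀ η ∈ b, Cfsg.MemLocalIdeal M (omega ((η : Cfsg.IrrCharacter N) : N → ℂ)
        fun n : N => f (n : G)) := by
    intro f hfR hf0 hfi hfε η hη
    have hfc : Cfsg.IsClassFunction N fun n : N => f (n : G) := fun a k => hfi k k.2 a
    have h0 : omega (θ : N → ℂ) (fun n : N => f (n : G)) = 0 := by
      have h1 : conv (fun n : N => f (n : G))
          (Cfsg.blockCoeff ({θ} : Set (Cfsg.IrrCharacter N))) = 0 := by
        funext n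
        rw [← hresε, ← BrauerPairs.conv_of_supported
          (fun y hy => hf0 y fun h => hy ((QuotientGroup.eq_one_iff y).1 h)), hfε]
        rfl
      have h2 := congrArg (omega (θ : N → ℂ)) h1
      rw [omega_conv θ.2 hfc (isClassFunction_blockCoeff _), omega_blockCoeff,
        if_pos (Set.mem_singleton θ), mul_one] at h2
      rw [h2]
      simp [omega]
    have h := memLocalIdeal_omega_sub hM η.2 θ.2 hfc (fun n => hfR n)
      (IsPBlock.sameBlock hM hb hη hθ)
    rwa [h0, sub_zero] at h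
  let S : Subring (ModAlg G M) :=
    Subring.centralizer (Set.range fun n : N => MonoidAlgebra.single (n : G) 1)
  -- `N`-invariant functions give elements of the centralizer
  have hmemS : ∀ {f : G → ℂ}, NInv N f → redFun hM f ∈ S := by
    intro f hf
    rw [Subring.mem_centralizer_iff]
    rintro _ ⟨n, rfl⟩
    simp only [redFun, Finset.mul_sum, Finset.sum_mul, MonoidAlgebra.single_mul_single, one_mul,
      mul_one]
    refine Fintype.sum_equiv (MulAut.conj (n : G)).toEquiv _ _ fun y => ?_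
    simp only [MulEquiv.toEquiv_eq_coe, MulEquiv.coe_toEquiv, MulAut.conj_apply, hf _ n.2 y]
    congr 1
    group
  -- and those supported on `N` are central there
  have hcen : ∀ {f : G → ℂ}, (∀ y : G, (y : G ⧸ N) ≠ 1 → f y = 0) →
      ∀ a ∈ S, Commute (redFun hM f) a := by
    intro f hf a ha
    refine Commute.sum_left _ _ _ fun y _ => ?_
    by_cases hy : (y : G ⧸ N) = 1
    · have h1 : Commute (MonoidAlgebra.single y (1 : Cfsg.AlgInt ⧸ M)) a :=
        Subring.mem_centralizer_iff.1 ha _ ⟨⟨y, (QuotientGroup.eq_one_iff y).1 hy⟩, rfl⟩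
      have e : (MonoidAlgebra.single y (resFun hM (f y)) : ModAlg G M) =
          MonoidAlgebra.single 1 (resFun hM (f y)) * MonoidAlgebra.single y 1 := by
        rw [MonoidAlgebra.single_mul_single, one_mul, mul_one]
      rw [e]
      exact Commute.mul_left (MonoidAlgebra.single_commute (fun m => Commute.one_left m)
        (fun r => Commute.all _ r) a) h1
    · rw [hf y hy, show resFun hM (0 : ℂ) = 0 from
        (resFun_eq_zero_iff hM (localRing hM).zero_mem).2 (memLocalIdeal_zero hM)]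
      simp
  -- nilpotency
  have hnil : ∀ {f : G → ℂ}, (∀ y, Cfsg.MemLocalRing M (f y)) →
      (∀ y : G, (y : G ⧸ N) ≠ 1 → f y = 0) → NInv N f → conv f eb = f →
      (∀ η ∈ b, Cfsg.MemLocalIdeal M (omega ((η : Cfsg.IrrCharacter N) : N → ℂ)
        fun n : N => f (n : G))) →
      IsNilpotent (redFun hM f) := by
    intro f hfR hf0 hfi hfe hω
    have hf0' : ∀ y, y ∉ N → f y = 0 := fun y hy => hf0 y fun h => hy ((QuotientGroup.eq_one_iff y).1 h)
    set fN : N → ℂ := fun n => f (n : G) with hfN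
    have hfc : Cfsg.IsClassFunction N fN := fun a k => hfi k k.2 a
    obtain ⟨k, hk⟩ := exists_cpow_memLocalIdeal (G := N) hM hfc (fun n => hfR n) fun η => by
      by_cases hη : η ∈ b
      · exact hω η hη
      · have h1 : fN = conv fN (Cfsg.blockCoeff b) := funext fun n => by
          rw [show Cfsg.blockCoeff b = fun m : N => eb (m : G) from
            funext fun m => (BrauerPairs.sbc_apply b m).symm, hfN,
            ← BrauerPairs.conv_of_supported hf0', hfe]
        rw [h1, omega_conv η.2 hfc (isClassFunction_blockCoeff b), omega_blockCoeff, if_neg hη,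
          mul_zero]
        exact memLocalIdeal_zero hM
    have hR : ∀ j y, Cfsg.MemLocalRing M (BlockChar.cpow f (j + 1) y) := by
      intro j
      induction j with
      | zero => intro y; rw [BlockChar.cpow_one]; exact hfR y
      | succ j ih => intro y; rw [BlockChar.cpow_succ]; exact memLocalRing_conv hM hfR ih y
    have hj : ∀ j, redFun hM f ^ (j + 1) = redFun hM (BlockChar.cpow f (j + 1)) ∧
        (∀ y, y ∉ N → BlockChar.cpow f (j + 1) y = 0) ∧
        ∀ n : N, BlockChar.cpow f (j + 1) (n : G) = BlockChar.cpow fN (j + 1) n := by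
      intro j
      induction j with
      | zero =>
        refine ⟨by rw [pow_one, BlockChar.cpow_one], ?_, fun n => ?_⟩
        · rw [BlockChar.cpow_one]; exact hf0'
        · rw [BlockChar.cpow_one, BlockChar.cpow_one]
      | succ j ih =>
        refine ⟨?_, fun y hy => ?_, fun n => ?_⟩
        · rw [pow_succ', ih.1, redFun_mul hM hfR (hR j), ← BlockChar.cpow_succ]
        · rw [BlockChar.cpow_succ]
          exact BrauerPairs.conv_eq_zero_of_notMem hf0' ih.2.1 hy
        · rw [BlockChar.cpow_succ f (j + 1), BlockChar.cpow_succ fN (j + 1),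
            BrauerPairs.conv_of_supported hf0']
          simp only [ih.2.2, hfN]
    refine ⟨k + 1, ?_⟩
    rw [(hj k).1, redFun_eq_zero hM (hR k)]
    intro y
    by_cases hy : y ∈ N
    · rw [(hj k).2.2 ⟨y, hy⟩]; exact hk _
    · rw [(hj k).2.1 y hy]; exact memLocalIdeal_zero hM
  let H : G ⧸ N → S → Prop := fun q x => ∃ f : G → ℂ, (∀ y, Cfsg.MemLocalRing M (f y)) ∧
    (∀ y : G, (y : G ⧸ N) ≠ q → f y = 0) ∧ NInv N f ∧ conv f eb = f ∧ conv f ε = 0 ∧
      (x : ModAlg G M) = redFun hM f
  let J : Ideal S := Ideal.span {z : S | (∀ a, Commute z a) ∧ IsNilpotent z}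
  have hmemJ : ∀ {f : G → ℂ} (x : S), (x : ModAlg G M) = redFun hM f →
      (∀ y, Cfsg.MemLocalRing M (f y)) → (∀ y : G, (y : G ⧸ N) ≠ 1 → f y = 0) → NInv N f →
      conv f eb = f →
      (∀ η ∈ b, Cfsg.MemLocalIdeal M (omega ((η : Cfsg.IrrCharacter N) : N → ℂ)
        fun n : N => f (n : G))) → x ∈ J := by
    intro f x hx h1 h2 h3 h4 h5
    refine Ideal.subset_span ⟨fun a => Subtype.ext ?_, ?_⟩
    · show (x : ModAlg G M) * a = a * x
      rw [hx]
      exact (hcen h2 a a.2).eq
    · obtain ⟨k, hk⟩ := hnil h1 h2 h3 h4 h5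
      exact ⟨k, Subtype.ext (by rw [SubmonoidClass.coe_pow, hx, hk]; rfl)⟩
  have hmul : ∀ g h x y, H g x → H h y → H (g * h) (x * y) := by
    rintro g h x y ⟨f, hfR, hfs, hfi, hfe, -, hx⟩ ⟨k, hkR, hks, hki, hke, hkε, hy⟩
    refine ⟨conv f k, memLocalRing_conv hM hfR hkR, fun z hz => conv_support hfs hks hz,
      hfi.conv hki, ?_, ?_, ?_⟩
    · rw [conv_assoc, hke]
    · rw [conv_assoc, hkε]
      funext z
      simp [conv]
    · rw [Subring.coe_mul, hx, hy, redFun_mul hM hfR hkR]
  have hJ : ∀ g x y, g ≠ 1 → H g x → H g⁻¹ y → x * y ∈ J := by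
    rintro g x y hg ⟨f, hfR, hfs, hfi, hfe, -, hx⟩ ⟨k, hkR, hks, hki, hke, hkε, hy⟩
    have hs : ∀ z : G, (z : G ⧸ N) ≠ 1 → conv f k z = 0 := fun z hz =>
      conv_support hfs hks (by simpa using hz)
    refine hmemJ _ (by rw [Subring.coe_mul, hx, hy, redFun_mul hM hfR hkR])
      (memLocalRing_conv hM hfR hkR) hs (hfi.conv hki) (by rw [conv_assoc, hke])
      (hvanish (memLocalRing_conv hM hfR hkR) hs (hfi.conv hki) ?_)
    rw [conv_assoc, hkε]
    funext z
    simp [conv]
  -- the components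
  let F : G ⧸ N → G → ℂ := fun q y => if (y : G ⧸ N) = q then E' y else 0
  have hrestr : ∀ (h : G → ℂ), (∀ y, y ∉ N → h y = 0) → ∀ q y,
      conv (F q) h y = if (y : G ⧸ N) = q then conv E' h y else 0 := by
    intro h hh q y
    have e : ∀ a : G, h (a⁻¹ * y) ≠ 0 → (a : G ⧸ N) = y := fun a ha =>
      QuotientGroup.eq.2 (by by_contra hn; exact ha (hh _ hn))
    split_ifs with hy
    · refine Finset.sum_congr rfl fun a _ => ?_
      by_cases ha : h (a⁻¹ * y) = 0
      · simp [ha]
      · simp [F, e a ha, hy]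
    · refine Finset.sum_eq_zero fun a _ => ?_
      by_cases ha : h (a⁻¹ * y) = 0
      · simp [ha]
      · simp [F, e a ha, hy]
  have hFR : ∀ q y, Cfsg.MemLocalRing M (F q y) := fun q y => by
    simp only [F]; split
    exacts [hE'R y, (localRing hM).zero_mem]
  have hFs : ∀ q (y : G), (y : G ⧸ N) ≠ q → F q y = 0 := fun q y h => if_neg h
  have hFi : ∀ q, NInv N (F q) := fun q n hn y => by
    have e : ((n * y * n⁻¹ : G) : G ⧸ N) = (y : G ⧸ N) := by
      simp [QuotientGroup.eq_one_iff n |>.2 hn]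
    simp only [F, e, hE'i n hn y]
  have hFe : ∀ q, conv (F q) eb = F q := fun q => by
    funext y
    rw [hrestr eb heb0, hE', conv_assoc, hbb]
  have hFε : ∀ q, conv (F q) ε = 0 := fun q => by
    funext y
    rw [hrestr ε fun g hg => BrauerPairs.sbc_of_notMem _ hg, hE', conv_assoc, hbε, hEε]
    simp
  let e : S := ⟨redFun hM E', hmemS hE'i⟩
  have hEcomm : ∀ h : G → ℂ, conv h E = conv E h := fun h => by
    funext z
    refine Fintype.sum_equiv ((Equiv.inv G).trans (Equiv.mulLeft z)) _ _ fun a => ?_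
    simp only [Equiv.trans_apply, Equiv.inv_apply, Equiv.coe_mulLeft, mul_inv_rev, inv_inv]
    rw [inv_mul_cancel_right, ← hEc (a⁻¹ * z) z, mul_comm,
      show z * (a⁻¹ * z) * z⁻¹ = z * a⁻¹ by group]
  have hid : e * e = e := Subtype.ext (by
    show redFun hM E' * redFun hM E' = redFun hM E'
    rw [redFun_mul hM hE'R hE'R]
    congr 1
    rw [hE', conv_assoc, ← conv_assoc eb E eb, hEcomm eb, conv_assoc E eb eb, hbb,
      ← conv_assoc, hE, blockCoeff_conv])
  have hec : ∀ a : S, Commute e a := by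
    intro a
    refine Subtype.ext ?_
    show redFun hM E' * (a : ModAlg G M) = a * redFun hM E'
    have he : redFun hM E' = redFun hM E * redFun hM eb := (redFun_mul hM hER hebR).symm
    have hEa : redFun hM E * (a : ModAlg G M) = a * redFun hM E := by
      apply MonoidAlgebra.ext
      ext z
      rw [MonoidAlgebra.coeff_mul_apply_left, MonoidAlgebra.coeff_mul_apply_right]
      rw [Finsupp.sum_fintype _ _ (by simp), Finsupp.sum_fintype _ _ (by simp)]
      refine Fintype.sum_equiv (MulAut.conj z⁻¹).toEquiv _ _ fun y => ?_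
      simp only [MulEquiv.toEquiv_eq_coe, MulEquiv.coe_toEquiv, MulAut.conj_apply, coeff_redFun]
      rw [hEc y z⁻¹, mul_comm, show z * (z⁻¹ * y * z⁻¹⁻¹)⁻¹ = y⁻¹ * z by group]
    have hba : Commute (redFun hM eb) (a : ModAlg G M) :=
      hcen (fun y hy => heb0 y fun h => hy ((QuotientGroup.eq_one_iff y).2 h)) a a.2
    rw [he, mul_assoc, hba.eq, ← mul_assoc, hEa, mul_assoc]
  let c : G ⧸ N → S := fun q => ⟨redFun hM (F q), hmemS (hFi q)⟩
  have hsum : ∑ q, c q = e := by
    refine Subtype.ext ?_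
    rw [AddSubmonoidClass.coe_finsetSum]
    show ∑ q, redFun hM (F q) = redFun hM E'
    simp only [redFun]
    rw [Finset.sum_comm]
    refine Finset.sum_congr rfl fun y _ => ?_
    rw [Finset.sum_eq_single (y : G ⧸ N)]
    · simp [F]
    · intro q _ hq
      rw [hFs q y (Ne.symm hq), show resFun hM (0 : ℂ) = 0 from
        (resFun_eq_zero_iff hM (localRing hM).zero_mem).2 (memLocalIdeal_zero hM)]
      simp
    · simp
  have h1 : c 1 ∈ J := hmemJ _ rfl (hFR 1) (hFs 1) (hFi 1) (hFe 1)
    (hvanish (hFR 1) (hFs 1) (hFi 1) (hFε 1))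
  have hmem := mem_of_graded H hmul hid hec c
    (fun g y hg hy => hJ g (c g) y hg ⟨F g, hFR g, hFs g, hFi g, hFe g, hFε g, rfl⟩ hy) hsum
    (fun q _ => ⟨F q, hFR q, hFs q, hFi q, hFe q, hFε q, rfl⟩) h1
  have he0 := congrArg Subtype.val (eq_zero_of_mem_span_nilpotent hid hec hmem)
  have hE0 : ∀ y, Cfsg.MemLocalIdeal M (E' y) := (redFun_eq_zero hM hE'R).1 he0
  -- so does the idempotent of the orbit of `b`, although `B` covers `b`
  obtain ⟨χ₀, hχ₀, θ₀, hθ₀, hc₀⟩ := hcov
  obtain ⟨f, hf, hf0, hfR, hfo⟩ := BlockThms.exists_orbit_indicator hM θ₀ (G := G)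
  have hbθ₀ : b = Cfsg.blockOf M (θ₀ : N → ℂ) := by
    ext ψ
    exact ⟨fun h => IsPBlock.sameBlock hM hb hθ₀ h, fun h => IsPBlock.mem_of_sameBlock hM hb hθ₀ h⟩
  let bg : G → Set (Cfsg.IrrCharacter N) := fun g => Cfsg.blockOf M (conjFun g (θ₀ : N → ℂ))
  have hbg : ∀ g, Cfsg.blockCoeff (bg g) = conjFun g (Cfsg.blockCoeff b) := by
    intro g
    refine classFun_ext_omega (isClassFunction_blockCoeff _) (fun a k => ?_) fun ψ => ?_
    · simp only [conjFun_eq_comp, map_mul, map_inv]
      exact isClassFunction_blockCoeff b _ _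
    have ec := BlockThms.omega_conjFun g⁻¹ (ψ : N → ℂ) (Cfsg.blockCoeff b)
    rw [inv_inv] at ec
    rw [← ec, omega_blockCoeff]
    have e := omega_blockCoeff b ⟨_, isIrr_conjFun g⁻¹ ψ.2⟩
    simp only at e
    rw [e]
    refine if_congr ?_ rfl rfl
    rw [hbθ₀]
    simp only [bg, mem_blockOf]
    constructor
    · intro h
      have := BlockThms.sameBlock_conjFun (isIrr_conjFun g θ₀.2) ψ.2 h g⁻¹
      rwa [conjFun_inv_cancel] at this
    · intro h
      have := BlockThms.sameBlock_conjFun θ₀.2 (isIrr_conjFun g⁻¹ ψ.2) h g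
      rwa [conjFun_cancel_inv] at this
  let 𝒪 : Finset (Set (Cfsg.IrrCharacter N)) := Finset.univ.image bg
  have hres : (fun n : N => f (n : G)) = ∑ b' ∈ 𝒪, Cfsg.blockCoeff b' := by
    refine classFun_ext_omega (isClassFunction_res N hf) ?_ fun ψ => ?_
    · intro a k
      simp only [Finset.sum_apply]
      exact Finset.sum_congr rfl fun b' _ => isClassFunction_blockCoeff b' a k
    rw [hfo, show omega (ψ : N → ℂ) (∑ b' ∈ 𝒪, Cfsg.blockCoeff b') =
      ∑ b' ∈ 𝒪, omega (ψ : N → ℂ) (Cfsg.blockCoeff b') by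
        simp only [omega, Finset.sum_apply, Finset.sum_mul, ← Finset.sum_div]
        rw [Finset.sum_comm]]
    simp only [omega_blockCoeff]
    rw [Finset.sum_boole]
    split_ifs with h
    · obtain ⟨g, hg⟩ := h
      rw [show 𝒪.filter (fun b' => ψ ∈ b') = {bg g} from ?_, Finset.card_singleton, Nat.cast_one]
      ext b'
      simp only [Finset.mem_filter, Finset.mem_singleton, 𝒪, Finset.mem_image, Finset.mem_univ,
        true_and]
      constructor
      · rintro ⟨⟨g', rfl⟩, hg'⟩
        exact blockOf_eq_of_sameBlock hM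
          (sameBlock_trans hM hg' (sameBlock_symm hg))
      · rintro rfl
        exact ⟨⟨g, rfl⟩, hg⟩
    · rw [Finset.card_eq_zero.2 (Finset.filter_eq_empty_iff.2 fun b' hb' hψ => h ?_), Nat.cast_zero]
      obtain ⟨g, -, rfl⟩ := Finset.mem_image.1 hb'
      exact ⟨g, hψ⟩
  have hEf : ∀ y, Cfsg.MemLocalIdeal M (conv E f y) := by
    intro y
    have e : conv E f y = ∑ b' ∈ 𝒪, conv E (sbc N b') y := by
      simp only [conv]
      rw [Finset.sum_comm]
      refine Finset.sum_congr rfl fun a _ => ?_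
      rw [← Finset.mul_sum]
      congr 1
      by_cases ha : a⁻¹ * y ∈ N
      · rw [Finset.sum_congr rfl fun b' _ => BrauerPairs.sbc_apply b' ⟨_, ha⟩]
        exact (congrFun hres ⟨_, ha⟩).trans (Finset.sum_apply _ _ _)
      · rw [hf0 _ ha, Finset.sum_eq_zero fun b' _ => BrauerPairs.sbc_of_notMem b' ha]
    rw [e]
    refine memLocalIdeal_sum hM _ fun b' hb' => ?_
    obtain ⟨g, -, rfl⟩ := Finset.mem_image.1 hb'
    convert hE0 (g * y * g⁻¹) using 1
    refine Fintype.sum_equiv (MulAut.conj g).toEquiv _ _ fun a => ?_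
    simp only [MulEquiv.toEquiv_eq_coe, MulEquiv.coe_toEquiv, MulAut.conj_apply, hEc a g]
    congr 1
    rw [show (g * a * g⁻¹)⁻¹ * (g * y * g⁻¹) = g * (a⁻¹ * y) * g⁻¹ by group]
    by_cases ha : a⁻¹ * y ∈ N
    · rw [heb, BrauerPairs.sbc_apply (bg g) ⟨_, ha⟩, hbg, conjFun_apply]
      exact (BrauerPairs.sbc_apply b _).symm
    · rw [BrauerPairs.sbc_of_notMem _ ha, heb0 _ fun h => ha (by
        simpa [mul_assoc] using hN.conj_mem _ h g⁻¹)]
  refine not_memLocalIdeal_one hM ?_
  have hone : omega (χ₀ : G → ℂ) (conv E f) = 1 := by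
    rw [omega_conv χ₀.2 hEc hf, hE, omega_blockCoeff, if_pos hχ₀,
      BlockThms.omega_res_eq χ₀.2 θ₀.2 hc₀ hf hf0, hfo θ₀,
      if_pos ⟨1, by rw [conjFun_one]; exact sameBlock_refl hM _⟩, one_mul]
  have : Finite (ConjClasses G) := Quotient.finite _
  have := Fintype.ofFinite (ConjClasses G)
  rw [← hone, omega_eq_sum_classes (Char.isClassFunction_of_isIrr χ₀.2) (isClassFunction_conv hEc hf)]
  exact memLocalIdeal_sum hM _ fun C _ =>
    memLocalIdeal_mul_right hM (hEf _) (memLocalRing_centralChar hM χ₀.2 _)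

end Cfsg.Agent.Blocks
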