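import Mathlib

/-!
# Irreducible modules when a cyclic Sylow subgroup is a TI set

If the Sylow subgroup `P` is cyclic and TI, an endomorphism commuting with `N(P)` differs from one
commuting with `G` by a trace from the trivial subgroup of `P`.
-/

set_option autoImplicit false

namespace Cfsg.Agent.Blocks.CyclicTIModule

open Polynomial
open scoped Pointwise

universe u v w

variable {F : Type v} [Field F] {p : ℕ} [Fact p.Prime] [CharP F p]

/-- The trace of a group of order `q = p ^ n`. -/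
theorem geom_sum_eq (n : ℕ) :
    ∑ i ∈ Finset.range (p ^ n), (X : F[X]) ^ i = (X - 1) ^ (p ^ n - 1) := by
  have hq : 0 < p ^ n := pow_pos (Fact.out : p.Prime).pos n
  refine mul_right_cancel₀ (show (X - 1 : F[X]) ≠ 0 from X_sub_C_ne_zero 1) ?_
  rw [geom_sum_mul, ← pow_succ, Nat.sub_add_cancel hq, sub_pow_char_pow, one_pow]

variable {V : Type w} [AddCommGroup V] [Module F V]

theorem sub_one_pow_eq_zero {A : Module.End F V} {n : ℕ} (hA : A ^ p ^ n = 1) :
    (A - 1) ^ p ^ n = 0 := by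
  have h : aeval A ((X - 1 : F[X]) ^ p ^ n) = 0 := by
    rw [sub_pow_char_pow, map_sub, map_pow, aeval_X, hA, one_pow, map_one, sub_self]
  simpa using h

/-- A trace over a cyclic group of order `q` lands in the image of `(A - 1) ^ (q - d)`. -/
theorem exists_trace_eq {A : Module.End F V} {n d : ℕ} (hA : A ^ p ^ n = 1)
    (hd : (A - 1) ^ d = 0) (φ : Module.End F V) :
    ∃ ψ, ∑ i ∈ Finset.range (p ^ n), A ^ i * φ * (A ^ (p ^ n - 1)) ^ i =
      (A - 1) ^ (p ^ n - d) * ψ := by
  have hq : 0 < p ^ n := pow_pos (Fact.out : p.Prime).pos n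
  obtain ⟨A', hA'⟩ : ∃ A', A' = A ^ (p ^ n - 1) := ⟨_, rfl⟩
  have hAA : A * A' = 1 := by rw [hA', ← pow_succ', Nat.sub_add_cancel hq, hA]
  have hAA' : A' * A = 1 := by rw [hA', ← pow_succ, Nat.sub_add_cancel hq, hA]
  obtain ⟨N, hN⟩ : ∃ N, N = A - 1 := ⟨_, rfl⟩
  rw [← hN] at hd ⊢
  rw [← hA']
  let E := Module.End F V
  let K : Module.End F E := LinearMap.mulLeft F A * LinearMap.mulRight F A'
  let L : Module.End F E := LinearMap.mulLeft F N
  let R : Module.End F E := LinearMap.mulRight F (-N)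
  let S : Module.End F E := LinearMap.mulRight F A'
  have hK : ∀ i (ψ : E), (K ^ i) ψ = A ^ i * ψ * A' ^ i := by
    intro i
    induction i with
    | zero => intro ψ; simp
    | succ i ih =>
      intro ψ
      rw [pow_succ', Module.End.mul_apply, ih, pow_succ' A, pow_succ A']
      simp [K, mul_assoc]
  have h1 : K - 1 = (L + R) * S := by
    refine LinearMap.ext fun ψ => ?_
    show A * (ψ * A') - ψ = N * (ψ * A') + ψ * A' * -N
    rw [hN, sub_mul, one_mul, neg_sub, mul_sub, mul_one, mul_assoc ψ A' A, hAA', mul_one]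
    abel
  have hLR : Commute L R := LinearMap.commute_mulLeft_right N (-N)
  have hLS : Commute (L + R) S := by
    refine Commute.add_left (LinearMap.commute_mulLeft_right N A') (LinearMap.ext fun ψ => ?_)
    show ψ * A' * -N = ψ * -N * A'
    rw [mul_assoc, mul_assoc]
    congr 1
    simp [hN, mul_sub, sub_mul, hAA, hAA']
  have h2 : ∑ i ∈ Finset.range (p ^ n), K ^ i = (L + R) ^ (p ^ n - 1) * S ^ (p ^ n - 1) := by
    have h := congrArg (aeval K) (geom_sum_eq (F := F) (p := p) n)
    simp only [map_sum, map_pow, aeval_X, map_sub, map_one] at h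
    rw [h, h1, hLS.mul_pow]
  have hsum : ∑ i ∈ Finset.range (p ^ n), A ^ i * φ * A' ^ i =
      (∑ i ∈ Finset.range (p ^ n), K ^ i) φ := by
    rw [LinearMap.sum_apply]
    exact Finset.sum_congr rfl fun i _ => (hK i φ).symm
  rw [hsum, h2, Module.End.mul_apply, hLR.add_pow, LinearMap.sum_apply]
  obtain ⟨θ, hθ⟩ : ∃ θ, θ = (S ^ (p ^ n - 1)) φ := ⟨_, rfl⟩
  rw [← hθ]
  have hterm : ∀ m, ∃ ψ, (L ^ m * R ^ (p ^ n - 1 - m) * ((p ^ n - 1).choose m : Module.End F E)) θ =
      N ^ (p ^ n - d) * ψ := by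
    intro m
    simp only [Module.End.mul_apply, L, R, LinearMap.pow_mulLeft, LinearMap.pow_mulRight,
      LinearMap.mulLeft_apply, LinearMap.mulRight_apply]
    by_cases hm : p ^ n - d ≤ m
    · refine ⟨N ^ (m - (p ^ n - d)) * ((((p ^ n - 1).choose m : Module.End F E) θ) *
        (-N) ^ (p ^ n - 1 - m)), ?_⟩
      rw [← mul_assoc (N ^ (p ^ n - d)), ← pow_add, Nat.add_sub_cancel' hm]
    · refine ⟨0, ?_⟩
      have : (-N) ^ (p ^ n - 1 - m) = 0 := by
        rw [neg_pow, ← Nat.add_sub_cancel' (show d ≤ p ^ n - 1 - m by omega), pow_add N, hd,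
          zero_mul, mul_zero]
      rw [this]
      simp
  choose ψ hψ using hterm
  exact ⟨∑ m ∈ Finset.range (p ^ n - 1 + 1), ψ m, by
    rw [Finset.mul_sum]; exact Finset.sum_congr rfl fun m _ => hψ m⟩

/-- A product of factors `X ^ a - 1` with `a` prime to `p` is `(X - 1) ^ e` times a unit. -/
theorem exists_unit_mul {ι : Type*} [Fintype ι] (a : ι → ℕ) (ha : ∀ i, ¬ p ∣ a i)
    {A : Module.End F V} (hA : IsNilpotent (A - 1)) :
    ∃ U : Module.End F V, IsUnit U ∧ Commute (A - 1) U ∧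
      aeval A (∏ i, ((X : F[X]) ^ a i - 1)) = (A - 1) ^ Fintype.card ι * U := by
  obtain ⟨Q, hQ⟩ : ∃ Q : F[X], Q = ∏ i, ∑ j ∈ Finset.range (a i), X ^ j := ⟨_, rfl⟩
  have hprod : ∏ i, ((X : F[X]) ^ a i - 1) = (X - 1) ^ Fintype.card ι * Q := by
    rw [hQ, ← Finset.card_univ, ← Finset.prod_const, ← Finset.prod_mul_distrib]
    exact Finset.prod_congr rfl fun i _ => by rw [mul_comm, geom_sum_mul]
  have hev : Q.eval 1 ≠ 0 := by
    rw [hQ, eval_prod]
    refine Finset.prod_ne_zero_iff.2 fun i _ h => ha i ?_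
    rw [eval_finsetSum] at h
    simp only [eval_pow, eval_X, one_pow, Finset.sum_const, Finset.card_range, nsmul_eq_mul,
      mul_one] at h
    exact (CharP.cast_eq_zero_iff F p _).1 h
  obtain ⟨R, hR⟩ : (X - C 1) ∣ Q - C (Q.eval 1) := dvd_iff_isRoot.2 (by simp [IsRoot])
  have hQA : aeval A Q = algebraMap F (Module.End F V) (Q.eval 1) + (A - 1) * aeval A R := by
    have h := congrArg (aeval A) hR
    rw [map_sub, map_mul, map_sub, aeval_X, aeval_C, aeval_C, map_one, sub_eq_iff_eq_add'] at h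
    exact h
  have hcom : Commute (A - 1) (aeval A Q) := by
    have h := (Commute.all (X - 1 : F[X]) Q).map (aeval (R := F) A)
    simpa using h
  have hcom' : Commute (A - 1) (aeval A R) := by
    have h := (Commute.all (X - 1 : F[X]) R).map (aeval (R := F) A)
    simpa using h
  refine ⟨aeval A Q, ?_, hcom, by rw [hprod, map_mul, map_pow, map_sub, aeval_X, map_one]⟩
  rw [hQA]
  exact (hcom'.isNilpotent_mul_right hA).isUnit_add_left_of_commute
    ((isUnit_iff_ne_zero.2 hev).map _) (Algebra.commutes _ _).symm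

omit [Fact p.Prime] [CharP F p] in
/-- A conjugation is pushed through a polynomial. -/
theorem mul_aeval_eq {A B g : Module.End F V} (h : g * A = B * g) (Q : F[X]) :
    g * aeval A Q = aeval B Q * g := by
  induction Q using Polynomial.induction_on' with
  | add q r hq hr => rw [map_add, map_add, mul_add, add_mul, hq, hr]
  | monomial m c =>
    rw [aeval_monomial, aeval_monomial, ← mul_assoc, ← Algebra.commutes, mul_assoc, mul_assoc,
      (SemiconjBy.pow_right (show SemiconjBy g A B from h) m).eq]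

omit [Fact p.Prime] [CharP F p] in
theorem aeval_prod_congr {ι : Type*} {A B : Module.End F V} (s : Finset ι) (u w : ι → F[X])
    (h : ∀ i, aeval A (u i) = aeval B (w i)) : aeval A (∏ i ∈ s, u i) = aeval B (∏ i ∈ s, w i) := by
  classical
  induction s using Finset.induction_on with
  | empty => simp
  | insert i s hi ih => rw [Finset.prod_insert hi, Finset.prod_insert hi, map_mul, map_mul, h, ih]

variable {G : Type u} [Group G] [Finite G]

/-- A faithful irreducible representation has degree at least `p ^ n - (p - 1)`. -/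
theorem le_finrank (P : Sylow p G) (hcyc : IsCyclic P) {n : ℕ} (hn : 2 ≤ n)
    (hPn : Nat.card P = p ^ n)
    (hTI : ∀ Q : Sylow p G, Q ≠ P → (P : Subgroup G) ⊓ (Q : Subgroup G) = ⊥)
    [FiniteDimensional F V] (ρ : Representation F G V) (hfaith : Function.Injective ρ)
    (hirr : ρ.IsIrreducible) : p ^ n - (p - 1) ≤ Module.finrank F V := by
  classical
  have := Fintype.ofFinite G
  have hp : p.Prime := Fact.out
  by_contra! hlt
  obtain ⟨x₀, hx₀⟩ := IsCyclic.exists_generator (α := (P : Subgroup G))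
  have hxo : orderOf x₀ = p ^ n := by rw [orderOf_eq_card_of_forall_mem_zpowers hx₀, hPn]
  obtain ⟨A, hA⟩ : ∃ A : Module.End F V, A = ρ (x₀ : G) := ⟨_, rfl⟩
  have hxq : (x₀ : G) ^ p ^ n = 1 := by
    rw [← Subgroup.coe_pow, ← hxo, pow_orderOf_eq_one, Subgroup.coe_one]
  have hAq : A ^ p ^ n = 1 := by rw [hA, ← map_pow, hxq, map_one]
  have hnil : IsNilpotent (A - 1) := ⟨_, sub_one_pow_eq_zero hAq⟩
  obtain ⟨d, hd⟩ : ∃ d, d = Module.finrank F V := ⟨_, rfl⟩
  rw [← hd] at hlt
  have hAd : (A - 1) ^ d = 0 := by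
    refine LinearMap.ext fun v => ?_
    have h : v ∈ LinearMap.ker ((A - 1) ^ Module.finrank F V) :=
      Module.End.ker_pow_le_ker_pow_finrank (A - 1) (p ^ n)
        (by rw [sub_one_pow_eq_zero hAq]; simp)
    rw [hd]
    simpa using h
  -- the automizer
  set N := Subgroup.normalizer ((P : Subgroup G) : Set G) with hNdef
  let φ : N →* MulAut (P : Subgroup G) :=
    { toFun := fun g =>
        { toFun := fun a => ⟨(g : G) * a * (g : G)⁻¹, (Subgroup.mem_normalizer_iff.1 g.2 _).1 a.2⟩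
          invFun := fun a => ⟨(g : G)⁻¹ * a * (g : G), (Subgroup.mem_normalizer_iff''.1 g.2 _).1 a.2⟩
          left_inv := fun a => Subtype.ext (by simp [mul_assoc])
          right_inv := fun a => Subtype.ext (by simp [mul_assoc])
          map_mul' := fun a b => Subtype.ext (by simp [mul_assoc]) }
      map_one' := MulEquiv.ext fun a => Subtype.ext (by simp)
      map_mul' := fun g h => MulEquiv.ext fun a => Subtype.ext (by simp [mul_assoc]) }
  letI := Fintype.ofFinite φ.range
  obtain ⟨e, he⟩ : ∃ e, e = Fintype.card φ.range := ⟨_, rfl⟩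
  have hPN : (P : Subgroup G) ≤ N := Subgroup.le_normalizer
  have hcomm : ∀ a b : (P : Subgroup G), a * b = b * a :=
    fun a b => (IsCyclic.commGroup (α := (P : Subgroup G))).mul_comm a b
  have hep : e ≤ p - 1 := by
    have h1 : φ.range.index * Nat.card φ.range = p ^ (n - 1) * (p - 1) := by
      rw [Subgroup.index_mul_card, IsCyclic.card_mulAut, hPn, Nat.totient_prime_pow hp (by omega)]
    have h2 : ¬ p ∣ Nat.card φ.range := by
      have hker : (P : Subgroup G).subgroupOf N ≤ φ.ker := by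
        intro g hg
        refine MulEquiv.ext fun a => Subtype.ext ?_
        show (g : G) * a * (g : G)⁻¹ = a
        rw [show (g : G) * a = a * g from congrArg Subtype.val (hcomm ⟨g, hg⟩ a),
          mul_inv_cancel_right]
      rw [← Subgroup.index_ker]
      intro hdvd
      exact (P.subtype hPN).not_dvd_index (hdvd.trans (Subgroup.index_dvd_of_le hker))
    have h3 : Nat.card φ.range ∣ p - 1 :=
      (((hp.coprime_iff_not_dvd).2 h2).symm.pow_right (n - 1)).dvd_of_dvd_mul_left
        (h1 ▸ dvd_mul_left _ _)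
    rw [he, ← Nat.card_eq_fintype_card]
    exact Nat.le_of_dvd (by have := hp.two_le; omega) h3
  have hex : ∀ f : φ.range, ∃ a : ℕ, x₀ ^ a = (f : MulAut (P : Subgroup G)) x₀ := fun f =>
    (mem_powers_iff_mem_zpowers (x := x₀)).2 (hx₀ _)
  choose a ha using hex
  have hap : ∀ f, ¬ p ∣ a f := by
    intro f hdvd
    have h := MulEquiv.orderOf_eq (f : MulAut (P : Subgroup G)) x₀
    rw [← ha f, orderOf_pow, hxo] at h
    obtain ⟨m, rfl⟩ : ∃ m, n = m + 1 := ⟨n - 1, by omega⟩
    have hg : p ∣ (p ^ (m + 1)).gcd (a f) := Nat.dvd_gcd (dvd_pow_self p (by omega)) hdvd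
    have hg1 := Nat.le_of_dvd (Nat.gcd_pos_of_pos_left _ (pow_pos hp.pos _)) hg
    have := Nat.div_lt_self (pow_pos hp.pos (m + 1)) (lt_of_lt_of_le hp.one_lt hg1)
    omega
  -- an endomorphism commuting with the normalizer
  obtain ⟨Z, hZ⟩ : ∃ Z : Module.End F V, Z = aeval A (∏ f, ((X : F[X]) ^ a f - 1)) := ⟨_, rfl⟩
  have hZN : ∀ g ∈ N, ρ g * Z = Z * ρ g := by
    intro g hg
    let f₀ : φ.range := ⟨φ ⟨g, hg⟩, ⟨g, hg⟩, rfl⟩
    have hconj : ρ g * A = A ^ a f₀ * ρ g := by
      rw [hA, ← map_pow, ← map_mul, ← map_mul, ← Subgroup.coe_pow, ha]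
      congr 1
      show g * (x₀ : G) = g * (x₀ : G) * g⁻¹ * g
      rw [inv_mul_cancel_right]
    rw [hZ, mul_aeval_eq hconj]
    congr 1
    conv_rhs => rw [← Fintype.prod_equiv (Equiv.mulLeft f₀)
      (fun f => (X : F[X]) ^ a (f₀ * f) - 1) (fun f => X ^ a f - 1) (fun _ => rfl)]
    refine aeval_prod_congr _ _ _ fun f => ?_
    simp only [map_sub, map_pow, aeval_X, map_one, sub_left_inj]
    rw [hA, ← map_pow, ← map_pow, ← map_pow, ← Subgroup.coe_pow, ← Subgroup.coe_pow,
      ← Subgroup.coe_pow, ha f₀, ← map_pow, ha (f₀ * f)]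
    congr 2
    show ((f₀ : MulAut (P : Subgroup G)) (x₀ ^ a f)) = _
    rw [ha f]
    rfl
  -- the sum over the cosets
  let h : G ⧸ N → Module.End F V := fun ω => Quotient.liftOn' ω (fun g => ρ g * Z * ρ g⁻¹)
    fun g g' hgg => by
      obtain ⟨k, hk, rfl⟩ : ∃ k ∈ N, g' = g * k :=
        ⟨g⁻¹ * g', QuotientGroup.leftRel_apply.1 hgg, (mul_inv_cancel_left g g').symm⟩
      show ρ g * Z * ρ g⁻¹ = ρ (g * k) * Z * ρ (g * k)⁻¹
      rw [map_mul, mul_inv_rev, map_mul, mul_assoc (ρ g) _ Z, hZN _ hk]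
      simp only [mul_assoc]
      rw [← mul_assoc (ρ k), ← map_mul, mul_inv_cancel, map_one, one_mul]
  have hmk : ∀ g : G, h (g : G ⧸ N) = ρ g * Z * ρ g⁻¹ := fun g => rfl
  have hsmul : ∀ (g : G) (ω : G ⧸ N), h (g • ω) = ρ g * h ω * ρ g⁻¹ := by
    intro g ω
    induction ω using QuotientGroup.induction_on with
    | _ k =>
      rw [MulAction.Quotient.smul_coe, hmk, hmk, smul_eq_mul, map_mul, mul_inv_rev, map_mul]
      simp only [mul_assoc]
  letI := Fintype.ofFinite (G ⧸ N)
  obtain ⟨Φ, hΦ⟩ : ∃ Φ : Module.End F V, Φ = ∑ ω : G ⧸ N, h ω := ⟨_, rfl⟩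
  have hΦG : ∀ g : G, ρ g * Φ = Φ * ρ g := by
    intro g
    have h1 : Φ = ρ g * Φ * ρ g⁻¹ := by
      rw [hΦ, Finset.mul_sum, Finset.sum_mul, ← Equiv.sum_comp (MulAction.toPerm g) h]
      exact Finset.sum_congr rfl fun ω _ => hsmul g ω
    conv_rhs => rw [h1]
    rw [mul_assoc (ρ g * Φ), ← map_mul, inv_mul_cancel, map_one, mul_one]
  -- freeness away from the base point
  have hfree : ∀ (u : (P : Subgroup G)) (ω : G ⧸ N), ω ≠ ((1 : G) : G ⧸ N) →
      (u : G) • ω = ω → u = 1 := by
    intro u ω hω hfix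
    induction ω using QuotientGroup.induction_on with
    | _ k =>
      rw [MulAction.Quotient.smul_coe, smul_eq_mul, eq_comm, QuotientGroup.eq] at hfix
      have hne : k • P ≠ P := by
        intro he'
        refine hω (QuotientGroup.eq.2 ?_)
        rw [mul_one]
        exact N.inv_mem (Sylow.smul_eq_iff_mem_normalizer.1 he')
      obtain ⟨j, hj⟩ := IsPGroup.iff_orderOf.1 P.2 u
      have hmem : k⁻¹ * ((u : G) * k) ∈ (P : Subgroup G) := by
        have := Sylow.unique_of_normal (P.subtype hPN)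
          ((Subgroup.normal_subgroupOf_iff_le_normalizer hPN).2 le_rfl)
        have hc : IsPGroup p (Subgroup.zpowers (⟨_, hfix⟩ : N)) := by
          refine IsPGroup.of_card (n := j) ?_
          rw [Nat.card_zpowers, Subgroup.orderOf_mk, ← hj, ← Subgroup.orderOf_coe u]
          exact orderOf_injective (MulAut.conj k⁻¹).toMonoidHom (MulAut.conj k⁻¹).injective u ▸
            congrArg orderOf (by simp [mul_assoc])
        obtain ⟨Q, hQ⟩ := hc.exists_le_sylow
        have hQP : Q = P.subtype hPN := Subsingleton.elim _ _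
        have hmemQ := hQ (Subgroup.mem_zpowers _)
        rw [hQP] at hmemQ
        exact hmemQ
      have hu : (u : G) ∈ (P : Subgroup G) ⊓ ((k • P : Sylow p G) : Subgroup G) := by
        refine ⟨u.2, ?_⟩
        show (u : G) ∈ MulAut.conj k • (P : Subgroup G)
        rw [Subgroup.mem_pointwise_smul_iff_inv_smul_mem]
        rw [MulAut.smul_def, MulAut.conj_inv_apply, mul_assoc]
        exact hmem
      rw [hTI _ hne, Subgroup.mem_bot] at hu
      exact Subtype.ext hu
  -- the orbits
  have hA' : ρ (x₀ : G)⁻¹ = A ^ (p ^ n - 1) := by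
    rw [hA, ← map_pow]
    congr 1
    refine inv_eq_of_mul_eq_one_right ?_
    rw [← pow_succ', Nat.sub_add_cancel (pow_pos hp.pos n), hxq]
  have hdecomp : ∃ ψ, Φ = Z + (A - 1) ^ (p ^ n - d) * ψ := by
    let orb : G ⧸ N → Finset (G ⧸ N) := fun ω =>
      Finset.univ.image fun u : (P : Subgroup G) => (u : G) • ω
    obtain ⟨Ω, hΩ⟩ : ∃ Ω : Finset (G ⧸ N), Ω = Finset.univ.erase ((1 : G) : G ⧸ N) := ⟨_, rfl⟩
    have hstep : ∀ O ∈ Ω.image orb, ∃ ψ, ∑ ω ∈ Ω.filter (fun ω => orb ω = O), h ω =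
        (A - 1) ^ (p ^ n - d) * ψ := by
      intro O hO
      obtain ⟨ω, hω, rfl⟩ := Finset.mem_image.1 hO
      have hω1 : ω ≠ ((1 : G) : G ⧸ N) := (Finset.mem_erase.1 (hΩ ▸ hω)).1
      have hfix : ∀ u : (P : Subgroup G), (u : G) • ((1 : G) : G ⧸ N) = ((1 : G) : G ⧸ N) := fun u => by
        rw [MulAction.Quotient.smul_coe, smul_eq_mul, mul_one, QuotientGroup.eq, mul_one]
        exact N.inv_mem (hPN u.2)
      have hset : Ω.filter (fun ω' => orb ω' = orb ω) =
          Finset.univ.image fun u : (P : Subgroup G) => (u : G) • ω := by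
        ext ω'
        simp only [Finset.mem_filter, hΩ, Finset.mem_erase, Finset.mem_univ, and_true,
          Finset.mem_image, true_and]
        constructor
        · rintro ⟨-, heq⟩
          have : ω' ∈ orb ω' := Finset.mem_image.2 ⟨1, Finset.mem_univ _, by simp⟩
          rw [heq] at this
          simpa [orb] using this
        · rintro ⟨u, rfl⟩
          refine ⟨fun e' => hω1 ?_, ?_⟩
          · rw [← inv_smul_smul (u : G) ω, e', ← Subgroup.coe_inv, hfix]
          · ext z
            simp only [orb, Finset.mem_image, Finset.mem_univ, true_and]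
            constructor
            · rintro ⟨v, rfl⟩; exact ⟨v * u, by rw [Subgroup.coe_mul, mul_smul]⟩
            · rintro ⟨v, rfl⟩
              exact ⟨v * u⁻¹, by rw [Subgroup.coe_mul, Subgroup.coe_inv, mul_smul, inv_smul_smul]⟩
      obtain ⟨ψ, hψ⟩ := exists_trace_eq hAq hAd (h ω)
      refine ⟨ψ, ?_⟩
      rw [hset, ← hψ, Finset.sum_image fun u _ v _ huv => ?_]
      · refine (Finset.sum_bij (fun i _ => x₀ ^ i) (fun i _ => Finset.mem_univ _)
          (fun i hi j hj hij => pow_injOn_Iio_orderOf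
            (by simpa [hxo] using hi) (by simpa [hxo] using hj) hij)
          (fun u _ => ?_) (fun i _ => ?_)).symm
        · obtain ⟨i, hi⟩ := (mem_powers_iff_mem_zpowers (x := x₀)).2 (hx₀ u)
          exact ⟨i % p ^ n, Finset.mem_range.2 (Nat.mod_lt _ (pow_pos hp.pos n)), by
            rw [← hxo, pow_mod_orderOf]; exact hi⟩
        · rw [hsmul, Subgroup.coe_pow, map_pow, ← inv_pow, map_pow, hA', hA]
      · have h1 : ((v⁻¹ * u : (P : Subgroup G)) : G) • ω = ω := by
          rw [Subgroup.coe_mul, Subgroup.coe_inv, mul_smul]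
          rw [show (u : G) • ω = (v : G) • ω from huv, inv_smul_smul]
        exact (inv_mul_eq_one.1 (hfree _ _ hω1 h1)).symm
    choose! ψ hψ using hstep
    refine ⟨∑ O ∈ Ω.image orb, ψ O, ?_⟩
    rw [hΦ, ← Finset.add_sum_erase _ _ (Finset.mem_univ ((1 : G) : G ⧸ N)), ← hΩ, hmk, inv_one,
      map_one, one_mul, mul_one, ← Finset.sum_fiberwise_of_maps_to
      (fun ω hω => Finset.mem_image_of_mem orb hω) h, Finset.mul_sum]
    exact congrArg _ (Finset.sum_congr rfl hψ)
  obtain ⟨ψ, hψ⟩ := hdecomp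
  obtain ⟨U, hU, hUc, hZU⟩ := exists_unit_mul a hap hnil
  rw [← hZ, ← he] at hZU
  have hepos : 0 < e := he ▸ Fintype.card_pos
  have hqd : p ^ n - d = (p ^ n - d - (e + 1)) + 1 + e := by omega
  -- irreducibility kills the invariant part
  have hΦ0 : Φ = 0 := by
    let W : Subrepresentation ρ :=
      { toSubmodule := LinearMap.range Φ
        apply_mem_toSubmodule := fun g v hv => by
          obtain ⟨w, rfl⟩ := hv
          exact ⟨ρ g w, (LinearMap.congr_fun (hΦG g) w).symm⟩ }
    rcases (hirr : IsSimpleOrder (Subrepresentation ρ)).eq_bot_or_eq_top W with hW | hW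
    · exact LinearMap.range_eq_bot.1 (congrArg Subrepresentation.toSubmodule hW)
    · exfalso
      have htop : LinearMap.range Φ = ⊤ := congrArg Subrepresentation.toSubmodule hW
      have hle : LinearMap.range Φ ≤ LinearMap.range (A - 1) := by
        rintro v ⟨w, rfl⟩
        rw [hψ, hZU, ← Nat.sub_add_cancel hepos, pow_succ', hqd, add_comm _ e, ← add_assoc,
          pow_succ', mul_assoc (A - 1), mul_assoc (A - 1), ← mul_add]
        exact ⟨_, rfl⟩
      rw [htop, top_le_iff] at hle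
      have hsurj : Function.Surjective ⇑(A - 1) := LinearMap.range_eq_top.1 hle
      obtain ⟨m, hm⟩ := hnil
      have hs := hsurj.iterate m
      rw [← Module.End.coe_pow, hm] at hs
      have hsub : Subsingleton V := ⟨fun v w => by
        obtain ⟨v', rfl⟩ := hs v
        obtain ⟨w', rfl⟩ := hs w
        rfl⟩
      obtain ⟨W₁, W₂, hne⟩ := (hirr : IsSimpleOrder (Subrepresentation ρ)).exists_pair_ne
      exact hne (Subrepresentation.toSubmodule_injective (Subsingleton.elim _ _))
  -- so the invariant endomorphism is a trace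
  obtain ⟨u, rfl⟩ := hU
  obtain ⟨ψ', hψ'⟩ : ∃ ψ', (A - 1) ^ e = (A - 1) * ((A - 1) ^ e * ψ') := by
    refine ⟨-((A - 1) ^ (p ^ n - d - (e + 1)) * ψ * ↑u⁻¹), ?_⟩
    have h1 : (A - 1) ^ e * (u : Module.End F V) = -((A - 1) ^ (p ^ n - d) * ψ) := by
      rw [← hZU, eq_neg_iff_add_eq_zero, ← hψ, hΦ0]
    calc (A - 1) ^ e = (A - 1) ^ e * (u : Module.End F V) * ↑u⁻¹ := by
          rw [Units.mul_inv_cancel_right]
      _ = -((A - 1) ^ (p ^ n - d) * ψ) * ↑u⁻¹ := by rw [h1]
      _ = _ := by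
          conv_lhs => rw [hqd, show p ^ n - d - (e + 1) + 1 + e =
            1 + e + (p ^ n - d - (e + 1)) by ring, pow_add, pow_add _ 1 e, pow_one]
          simp only [mul_assoc, mul_neg, neg_mul]
  have hrep : ∀ k, ∃ θ, (A - 1) ^ e = (A - 1) ^ (k + e) * θ := by
    intro k
    induction k with
    | zero => exact ⟨1, by simp⟩
    | succ k ih =>
      obtain ⟨θ, hθ⟩ := ih
      refine ⟨ψ' * θ, ?_⟩
      conv_lhs => rw [hθ, pow_add, hψ']
      rw [show k + 1 + e = k + (1 + e) by ring, pow_add _ k, pow_add _ 1 e, pow_one]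
      simp only [mul_assoc]
  obtain ⟨θ, hθ⟩ := hrep (p ^ n)
  rw [pow_add, sub_one_pow_eq_zero hAq, zero_mul, zero_mul] at hθ
  have hpn : e ≤ p ^ (n - 1) := by
    have h1 : p ^ 1 ≤ p ^ (n - 1) := Nat.pow_le_pow_right hp.pos (by omega)
    rw [pow_one] at h1
    omega
  have h0 : (A - 1) ^ p ^ (n - 1) = 0 := by
    rw [← Nat.add_sub_cancel' hpn, pow_add, hθ, zero_mul]
  have hA1 : A ^ p ^ (n - 1) = 1 := by
    have h := congrArg (aeval A) (sub_pow_char_pow (R := F[X]) (p := p) (X : F[X]) 1 (n := n - 1))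
    simp only [map_pow, map_sub, aeval_X, map_one, one_pow, h0] at h
    exact sub_eq_zero.1 h.symm
  rw [hA, ← map_pow, ← map_one ρ] at hA1
  have h2 := hfaith hA1
  rw [← Subgroup.coe_pow, ← Subgroup.coe_one (P : Subgroup G), Subtype.coe_inj,
    ← orderOf_dvd_iff_pow_eq_one, hxo, Nat.pow_dvd_pow_iff_le_right hp.one_lt] at h2
  omega

end Cfsg.Agent.Blocks.CyclicTIModule
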