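import Cfsg.Agent.BrauerPairs.FirstMain
import Cfsg.Agent.BrauerPairs.MaximalCriterion
import Cfsg.Agent.BrauerPairs.Centric
import Cfsg.Agent.BlockThms.Eta

/-!
# A block of `P C(P)` with defect group `P` and the defect group of the induced block

The induced block has defect group `P` exactly when the index of `P C(P)` in the inertia group
inside `N(P)` is prime to `p`.
-/

namespace Cfsg.Agent.BrauerPairs

open Cfsg.Agent Cfsg.Agent.Blocks

universe u

variable {G : Type u} [Group G] [Fintype G] {p : ℕ} {M : Ideal Cfsg.AlgInt}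

local notation "CG[" Q "]" => Subgroup.centralizer (SetLike.coe Q)
local notation "sbc" => Cfsg.subgroupBlockCoeff

/-- The block `b` of `H = P C(P)`, its root, and the pair of the induced block. -/
theorem exists_root (hM : Cfsg.IsPModular p M) {P H : Subgroup G} [Fintype H]
    (hH : H = P ⊔ CG[P]) {b : Set (Cfsg.IrrCharacter H)} (hb : Cfsg.IsPBlock M b)
    (hbP : Cfsg.IsDefectGroup p M b (P.subgroupOf H)) {B : Set (Cfsg.IrrCharacter G)}
    (hind : Cfsg.IsInducedBlock M H b B) :
    ∃ e : Set (Cfsg.IrrCharacter CG[P]), Cfsg.IsBrauerPairOf p M B P e ∧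
      (∀ t : H, Cfsg.blockCoeff b t = sbc CG[P] e (t : G)) ∧
      ∃ θ ∈ e, (∀ z : CG[P], (z : G) ∈ P → (θ : CG[P] → ℂ) z = (θ : CG[P] → ℂ) 1) ∧
        (Cfsg.charDegree (θ : CG[P] → ℂ)).factorization p +
          (Nat.card ↥(P ⊓ CG[P])).factorization p = (Nat.card CG[P]).factorization p := by
  classical
  haveI := Fact.mk hM.1
  have hPH : P ≤ H := hH ▸ le_sup_left
  have hCP : CG[P] ≤ H := hH ▸ le_sup_right
  have hHN : H ≤ Subgroup.normalizer (P : Set G) :=
    hH ▸ sup_le Subgroup.le_normalizer (Subgroup.centralizer_le_normalizer _)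
  haveI : (P.subgroupOf H).Normal := (Subgroup.normal_subgroupOf_iff_le_normalizer hPH).2 hHN
  have hP : IsPGroup p P := by
    have h := DefectThms.isPGroup_of_isDefectGroup hbP
    exact h.of_equiv (Subgroup.subgroupOfEquivOfLe hPH)
  obtain ⟨e', hmax⟩ := exists_maximal_on hM hb hbP
  set e := upBlock hPH hCP e' with he
  have he' : resBlock hPH hCP e = e' := resBlock_upBlock hPH hCP e'
  have hpe : Cfsg.IsBrauerPair p M P e := ⟨hP, isPBlock_upBlock hPH hCP hmax.1.1.2⟩
  have hinv : IsInv (H : Set G) (sbc CG[P] e) := by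
    have : H ≤ invSubgroup (sbc CG[P] e) := hH ▸
      sup_le (fun k hk x => isInv_sbc_of_mem_centralizer P e k hk x)
        fun k hk x => isInv_sbc e k hk x
    exact fun k hk => this hk
  obtain ⟨E, hE, hcoeff⟩ := exists_block_of_stable hM hP hPH hCP hHN hpe.2 hinv
  have hEb : E = b := by
    have h := isBrauerPairOf_res hPH hCP hM hE hcoeff (isNormalSubpair_refl hM hpe)
    rw [he'] at h
    exact block_unique hM h hmax.1
  subst hEb
  refine ⟨e, ?_, hcoeff, ?_⟩
  · letI := Fintype.ofFinite CG[P]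
    letI := Fintype.ofFinite CG[P.subgroupOf H]
    obtain ⟨η, hη⟩ := IsPBlock.nonempty hM hmax.1.1.2
    obtain ⟨ψ, hψ⟩ :=
      (isCenHom_res hM hmax.1.1.1 (mem_centralizer_iff_forall (P.subgroupOf H)) η).exists_char hM
    have hψb : ψ ∈ E := by
      by_contra hn
      have h1 := hψ _ (isClassFunction_blockCoeff E) (memLocalRing_blockCoeff hM hE)
      rw [omega_blockCoeff, if_neg hn, sub_zero, ← brauerOmega_eq] at h1
      exact not_memLocalIdeal_one hM (by simpa using memLocalIdeal_sub hM h1 (hmax.1.2.2 η hη))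
    obtain ⟨χ, hχ⟩ := IsPBlock.nonempty hM hind.2.1
    set ξ := compIrr (centIso hPH hCP).symm η with hξdef
    have hξ : ξ ∈ e := by
      show compIrr (centIso hPH hCP) (compIrr (centIso hPH hCP).symm η) ∈ e'
      rw [show compIrr (centIso hPH hCP) (compIrr (centIso hPH hCP).symm η) = η from
        (compIrrEquiv (centIso hPH hCP).symm).symm_apply_apply η]
      exact hη
    refine memLocalIdeal_brauerOmega_block hM hP hpe.2 hind.2.1 hξ ?_
    have hc := isClassFunction_blockCoeff B
    have hR := memLocalRing_blockCoeff hM hind.2.1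
    have h1 := hψ _ (isClassFunction_res H hc) fun t => hR t
    have h2 := BlockThms.memLocalIdeal_omega_res_sub hM H (Char.isClassFunction_of_isIrr χ.2) hc hR
      (hind.2.2 ψ hψb χ hχ)
    rw [omega_blockCoeff, if_pos hχ] at h2
    have e1 : Cfsg.brauerOmega P (Cfsg.blockCoeff B) (ξ : CG[P] → ℂ) =
        omega (η : CG[P.subgroupOf H] → ℂ) fun a => Cfsg.blockCoeff B ((a : H) : G) := by
      rw [brauerOmega_eq, omega, omega, hξdef, compIrr_apply, map_one]
      congr 1
      refine (Fintype.sum_equiv (centIso hPH hCP).toEquiv _ _ fun a => ?_).symm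
      simp only [compIrr_apply, MulEquiv.toEquiv_eq_coe, MulEquiv.coe_toEquiv,
        MulEquiv.symm_apply_apply]
      rfl
    rw [e1]
    simpa using memLocalIdeal_add hM h1 h2
  · obtain ⟨θ', hθ', htriv, hdeg⟩ := exists_character_of_maximal hM hmax
    refine ⟨compIrr (centIso hPH hCP).symm θ', ?_, fun z hz => ?_, ?_⟩
    · show compIrr (centIso hPH hCP) (compIrr (centIso hPH hCP).symm θ') ∈ e'
      rw [show compIrr (centIso hPH hCP) (compIrr (centIso hPH hCP).symm θ') = θ' from
        (compIrrEquiv (centIso hPH hCP).symm).symm_apply_apply θ']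
      exact hθ'
    · rw [compIrr_apply, compIrr_apply, map_one]
      exact htriv _ (Subgroup.mem_subgroupOf.2 hz)
    · have e1 : Nat.card CG[P.subgroupOf H] = Nat.card CG[P] :=
        Nat.card_congr (centIso hPH hCP).toEquiv
      have e2 : Nat.card ↥(P.subgroupOf H ⊓ CG[P.subgroupOf H]) = Nat.card ↥(P ⊓ CG[P]) :=
        Nat.card_congr
          { toFun := fun a => ⟨((a : H) : G), Subgroup.mem_subgroupOf.1 a.2.1,
              (centIso hPH hCP ⟨a, a.2.2⟩).2⟩
            invFun := fun a => ⟨⟨(a : G), hPH a.2.1⟩, Subgroup.mem_subgroupOf.2 a.2.1,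
              ((centIso hPH hCP).symm ⟨(a : G), a.2.2⟩).2⟩
            left_inv := fun a => Subtype.ext (Subtype.ext rfl)
            right_inv := fun a => Subtype.ext rfl }
      rw [e1, e2] at hdeg
      have e3 : Cfsg.charDegree (compIrr (centIso hPH hCP).symm θ' : CG[P] → ℂ) =
          Cfsg.charDegree (θ' : CG[P.subgroupOf H] → ℂ) :=
        charDegree_eq (by rw [compIrr_apply, map_one]; exact (CharArith.irr_degree_spec θ').1)
      rwa [e3]

/-- The inertia condition on `b`, read on the idempotent. -/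
theorem stabilizes_iff_isInv (hM : Cfsg.IsPModular p M) {H : Subgroup G}
    {b : Set (Cfsg.IrrCharacter H)} (hb : Cfsg.IsPBlock M b) {g : G}
    (hg : ∀ y, y ∈ H ↔ g * y * g⁻¹ ∈ H) :
    (∀ θ ∈ b, ∀ θ' : Cfsg.IrrCharacter H, (∀ h h' : H, (h' : G) = g * h * g⁻¹ →
        (θ' : H → ℂ) h' = (θ : H → ℂ) h) → θ' ∈ b) ↔ IsInv {g} (sbc H b) := by
  set φ := BlockChar.conjIso H H g hg with hφ
  have hval := sbc_mapBlock H H g hg b
  have hmem : ∀ θ ∈ b, ∀ θ' : Cfsg.IrrCharacter H, (∀ h h' : H, (h' : G) = g * h * g⁻¹ →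
      (θ' : H → ℂ) h' = (θ : H → ℂ) h) → θ' ∈ mapBlock φ b := by
    intro θ hθ θ' h
    show compIrr φ θ' ∈ b
    convert hθ
    exact Subtype.ext (funext fun k => h k (φ k) rfl)
  constructor
  · intro h
    obtain ⟨θ, hθ⟩ := IsPBlock.nonempty hM hb
    have h0 : ∀ k k' : H, (k' : G) = g * k * g⁻¹ →
        (compIrr φ.symm θ : H → ℂ) k' = (θ : H → ℂ) k := fun k k' hk => by
      rw [show k' = φ k from Subtype.ext hk, compIrr_apply, φ.symm_apply_apply]
    have heq := eq_of_mem hM (isPBlock_mapBlock φ hb) hb (hmem θ hθ _ h0) (h θ hθ _ h0)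
    intro k hk z
    rw [Set.mem_singleton_iff] at hk
    rw [hk]
    have := hval (g * z * g⁻¹)
    rwa [← hφ, heq, show g⁻¹ * (g * z * g⁻¹) * g = z by group] at this
  · intro hinv θ hθ θ' h
    have heq : mapBlock φ b = b := sbc_injective (funext fun z => by
      rw [hval z, hinv.conj_inv (Set.mem_singleton g)])
    exact heq ▸ hmem θ hθ θ' h

/-- The extended first main theorem, criterion form. -/
theorem isDefectGroup_iff_index (hM : Cfsg.IsPModular p M) {P H : Subgroup G} [Fintype H]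
    (hH : H = P ⊔ CG[P]) {b : Set (Cfsg.IrrCharacter H)} (hb : Cfsg.IsPBlock M b)
    (hbP : Cfsg.IsDefectGroup p M b (P.subgroupOf H)) {B : Set (Cfsg.IrrCharacter G)}
    (hind : Cfsg.IsInducedBlock M H b B) {T : Subgroup G}
    (hT : ∀ g : G, g ∈ T ↔ (g ∈ Subgroup.normalizer (P : Set G) ∧ ∀ θ ∈ b,
      ∀ θ' : Cfsg.IrrCharacter H, (∀ h h' : H, (h' : G) = g * h * g⁻¹ →
        (θ' : H → ℂ) h' = (θ : H → ℂ) h) → θ' ∈ b)) :
    Cfsg.IsDefectGroup p M B P ↔ ¬ p ∣ H.relIndex T := by
  classical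
  haveI := Fact.mk hM.1
  obtain ⟨e, hpair, hcoeff, θ, hθ, htriv, hdeg⟩ := exists_root hM hH hb hbP hind
  have hPH : P ≤ H := hH ▸ le_sup_left
  have hCP : CG[P] ≤ H := hH ▸ le_sup_right
  have hHN : H ≤ Subgroup.normalizer (P : Set G) :=
    hH ▸ sup_le Subgroup.le_normalizer (Subgroup.centralizer_le_normalizer _)
  have hmapH : ∀ g ∈ Subgroup.normalizer (P : Set G), ∀ y, y ∈ H ↔ g * y * g⁻¹ ∈ H := by
    intro g hg y
    have h1 : H.map (MulAut.conj g).toMonoidHom = H := by
      rw [hH, Subgroup.map_sup, map_centralizer_eq, map_conj_eq hg]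
    conv_rhs => rw [← h1]
    exact (Subgroup.mem_map_iff_mem (f := (MulAut.conj g).toMonoidHom) (MulAut.conj g).injective).symm
  have hfun : sbc H b = sbc CG[P] e := funext fun z => by
    by_cases hz : z ∈ H
    · rw [sbc_of_mem b hz, hcoeff]
    · rw [sbc_of_notMem b hz, sbc_of_notMem e fun h => hz (hCP h)]
  have hstab : ∀ g, g ∈ T ↔ g ∈ Subgroup.normalizer (P : Set G) ∧
      Cfsg.StabilizesBlock CG[P] e g := fun g => by
    rw [hT]
    refine and_congr_right fun hg => ?_
    rw [stabilizes_iff_isInv hM hb (hmapH g hg), hfun, stabilizesBlock_iff hM hg hpair.1.2]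
  have hHT : H ≤ T := fun g hg => (hstab g).2 ⟨hHN hg,
    (stabilizesBlock_iff hM (hHN hg) hpair.1.2).2 fun k hk z => by
      rw [Set.mem_singleton_iff] at hk
      rw [hk, ← hfun]
      exact isInv_sbc b g hg z⟩
  haveI hn : (H.subgroupOf T).Normal := ⟨fun z hz k => Subgroup.mem_subgroupOf.2 (by
    simpa using (hmapH k ((hstab k).1 k.2).1 (z : G)).1 (Subgroup.mem_subgroupOf.1 hz))⟩
  constructor
  · intro hD hdvd
    obtain ⟨⟨R, r⟩, hmax, hle⟩ := exists_maximal_above hM hpair
    dsimp only at hmax hle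
    have hR : R = P := (Subgroup.eq_of_le_of_card_ge (BlockChar.le_of_subpairLE hle) (by
      rw [BlockChar.card_defectGroup hM hind.2.1 (isDefectGroup_of_maximal hM hmax),
        BlockChar.card_defectGroup hM hind.2.1 hD])).symm
    subst hR
    have hre : r = e := ((existsUnique_subpairLE hM hmax.1.1 le_rfl).unique
      Relation.ReflTransGen.refl hle)
    subst hre
    obtain ⟨S⟩ : Nonempty (Sylow p T) := inferInstance
    refine (Sylow.not_dvd_index S) (hdvd.trans ?_)
    refine Subgroup.index_dvd_of_le fun z hz => Subgroup.mem_subgroupOf.2 ?_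
    obtain ⟨k, hk⟩ := IsPGroup.iff_orderOf.1 S.2 ⟨z, hz⟩
    rw [Subgroup.orderOf_mk, ← Subgroup.orderOf_coe] at hk
    exact hH ▸ mem_sup_of_maximal hM hmax ((hstab z).1 z.2).1 ((hstab z).1 z.2).2 ⟨k, hk⟩
  · intro hndvd
    obtain ⟨B₀, hmax⟩ := isMaximal_of_criterion hM hpair.1 hθ htriv hdeg fun g hg hst hgp => by
      have hgT : g ∈ T := (hstab g).2 ⟨hg, hst⟩
      obtain ⟨k, hk⟩ := hgp
      have h1 := Subgroup.pow_index_mem (H.subgroupOf T) (⟨g, hgT⟩ : T)
      rw [Subgroup.mem_subgroupOf] at h1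
      have hco : ((H.subgroupOf T).index).Coprime (orderOf g) := by
        rw [hk]
        exact ((hM.1.coprime_iff_not_dvd.2 hndvd).symm).pow_right k
      obtain ⟨m, hm⟩ := exists_pow_eq_self_of_coprime hco
      rw [← hH, ← hm]
      exact pow_mem (by simpa using h1) m
    rw [block_unique hM hpair hmax.1]
    exact isDefectGroup_of_maximal hM hmax

end Cfsg.Agent.BrauerPairs
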