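import Cfsg.Agent.BlockChar.SubsectionCount
import Cfsg.Agent.BlockChar.RankLtCard
import Cfsg.Agent.BlockChar.Nilpotent
import Cfsg.Agent.BlockThms.DefectGroup
import Cfsg.Agent.BrauerPairs.FirstMain
import Cfsg.Agent.Fg24.PSolvHeight.Main
import Cfsg.Agent.Fusion.Control

/-!
# Blocks with `k - l = 1`

All non-identity elements of the defect group are conjugate; for `p`-solvable groups and for
principal blocks this forces an elementary abelian defect group.
-/

set_option autoImplicit false

namespace Cfsg.Agent.Blocks.OneSubsection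

open Cfsg.Agent Cfsg.Agent.Blocks
open scoped ComplexConjugate

universe u

variable {G : Type u} [Group G] [Finite G] {p : ℕ} [Fact p.Prime] {M : Ideal Cfsg.AlgInt}

/-- A group with a transitive set of automorphisms on its non-identity elements. -/
theorem elementary_of_transitive {P : Subgroup G} (hP : IsPGroup p P)
    (h : ∀ u ∈ P, ∀ v ∈ P, u ≠ 1 → v ≠ 1 →
      ∃ g ∈ Subgroup.normalizer (P : Set G), g * u * g⁻¹ = v) :
    Cfsg.IsElementaryAbelian p P := by
  rcases eq_or_ne P ⊥ with rfl | hne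
  · exact ⟨⟨⟨fun a b => Subsingleton.elim _ _⟩⟩, fun a ha => by rw [Subgroup.mem_bot.1 ha, one_pow]⟩
  have : Nontrivial P := (Subgroup.nontrivial_iff_ne_bot P).2 hne
  have : Nontrivial (Subgroup.center P) := hP.center_nontrivial
  obtain ⟨z, hz1⟩ := exists_ne (1 : Subgroup.center P)
  have hzne : (((z : P)) : G) ≠ 1 := fun e => hz1 (Subtype.ext (Subtype.ext e))
  have hcent : ∀ u ∈ P, ∀ v ∈ P, u * v = v * u := by
    intro u hu v hv
    rcases eq_or_ne u 1 with rfl | hu1
    · simp
    obtain ⟨g, hg, hgu⟩ := h _ (z : P).2 u hu hzne hu1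
    have hv' : g⁻¹ * v * g ∈ P := by
      have := (Subgroup.mem_normalizer_iff.1 (inv_mem hg) v).1 hv
      rwa [inv_inv] at this
    have hc : ((z : P) : G) * (g⁻¹ * v * g) = g⁻¹ * v * g * ((z : P) : G) :=
      congrArg Subtype.val (Subgroup.mem_center_iff.1 z.2 ⟨_, hv'⟩).symm
    rw [← hgu]
    calc g * ((z : P) : G) * g⁻¹ * v = g * (((z : P) : G) * (g⁻¹ * v * g)) * g⁻¹ := by group
      _ = v * (g * ((z : P) : G) * g⁻¹) := by rw [hc]; group
  refine ⟨⟨⟨fun a b => Subtype.ext (hcent a a.2 b b.2)⟩⟩, fun a ha => ?_⟩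
  obtain ⟨x, hx⟩ := exists_prime_orderOf_dvd_card' (G := P) p (by
    obtain ⟨n, hn⟩ := IsPGroup.iff_card.1 hP
    refine hn ▸ dvd_pow_self p fun h0 => ?_
    rw [h0, pow_zero] at hn
    exact hne (Subgroup.card_eq_one.1 hn))
  have hx' : orderOf (x : G) = p := by rw [Subgroup.orderOf_coe, hx]
  rcases eq_or_ne a 1 with rfl | ha1
  · simp
  obtain ⟨g, -, rfl⟩ := h x x.2 a ha (fun e => (Fact.out : p.Prime).ne_one
    (hx'.symm.trans (by rw [e, orderOf_one]))) ha1
  rw [conj_pow, ← hx', pow_orderOf_eq_one, mul_one, mul_inv_cancel]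

omit [Fact p.Prime] in
/-- Non-identity elements of a defect group are conjugate. -/
theorem isConj_of_card_eq_succ [Fact p.Prime] (hM : Cfsg.IsPModular p M)
    {B : Set (Cfsg.IrrCharacter G)} (hB : Cfsg.IsPBlock M B) {D : Subgroup G}
    (hD : Cfsg.IsDefectGroup p M B D) (hk : Nat.card B ≤ Cfsg.blockRank p B + 1)
    {u v : G} (hu : u ∈ D) (hv : v ∈ D) (hu1 : u ≠ 1) (hv1 : v ≠ 1) : ∃ g : G, g * u * g⁻¹ = v := by
  classical
  obtain ⟨e, hmax⟩ := BrauerPairs.exists_maximal_on hM hB hD
  have hpair : ∀ w ∈ D, ∃ a, Cfsg.IsBrauerPairOf p M B (Subgroup.zpowers w) a := fun w hw => by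
    obtain ⟨a, ha, -⟩ := BrauerPairs.existsUnique_subpairLE hM hmax.1.1
      ((Subgroup.zpowers_le (H := D)).2 hw)
    exact ⟨a, (BrauerPairs.isBrauerPairOf_iff_of_subpairLE hM ha B).1 hmax.1⟩
  have hDp := DefectThms.isPGroup_of_isDefectGroup hD
  have hord : ∀ w ∈ D, ∃ k, orderOf w = p ^ k := fun w hw => by
    obtain ⟨k, hk⟩ := IsPGroup.iff_orderOf.1 hDp ⟨w, hw⟩
    exact ⟨k, by rw [← hk, Subgroup.orderOf_mk]⟩
  by_contra hcon
  push Not at hcon
  let s : Fin 2 → G := ![u, v]
  have hs : ∀ i, s i ∈ D := by intro i; fin_cases i <;> assumption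
  choose a ha using fun i => hpair (s i) (hs i)
  have h := BlockChar.blockRank_add_card_le hM hB s
    (by intro i; fin_cases i <;> assumption) (fun i => hord _ (hs i)) a ha (fun i j g hg _ => by
      fin_cases i <;> fin_cases j
      · rfl
      · exact absurd hg (hcon g)
      · exact absurd (show g⁻¹ * u * g⁻¹⁻¹ = v by
          have hg' : g * v * g⁻¹ = u := hg
          rw [← hg']; group) (hcon g⁻¹)
      · rfl)
  rw [Fintype.card_fin] at h
  omega

omit [Finite G] [Fact p.Prime] in
theorem indFun_add [Fintype G] (T : Subgroup G) (f f' : T → ℂ) :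
    Cfsg.indFun T (f + f') = Cfsg.indFun T f + Cfsg.indFun T f' := by
  funext x
  simp only [Cfsg.indFun, Pi.add_apply, ← mul_add, ← Finset.sum_add_distrib]
  congr 1
  refine Finset.sum_congr rfl fun g _ => ?_
  by_cases hg : g⁻¹ * x * g ∈ T
  · have e : ∀ h : T → ℂ, Cfsg.extendByZero T h (g⁻¹ * x * g) = h ⟨_, hg⟩ := fun h =>
      Subtype.val_injective.extend_apply h 0 ⟨_, hg⟩
    rw [e, e, e, Pi.add_apply]
  · simp [Char.extendByZero_of_not_mem T _ hg]

omit [Finite G] [Fact p.Prime] in
theorem indFun_smul [Fintype G] (T : Subgroup G) (c : ℂ) (f : T → ℂ) :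
    Cfsg.indFun T (c • f) = c • Cfsg.indFun T f := by
  funext x
  simp only [Cfsg.indFun, Pi.smul_apply, smul_eq_mul]
  rw [mul_left_comm, Finset.mul_sum Finset.univ _ c]
  congr 1
  refine Finset.sum_congr rfl fun g _ => ?_
  by_cases hg : g⁻¹ * x * g ∈ T
  · have e : ∀ h : T → ℂ, Cfsg.extendByZero T h (g⁻¹ * x * g) = h ⟨_, hg⟩ := fun h =>
      Subtype.val_injective.extend_apply h 0 ⟨_, hg⟩
    rw [e, e, Pi.smul_apply, smul_eq_mul]
  · simp [Char.extendByZero_of_not_mem T _ hg]

omit [Finite G] [Fact p.Prime] in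
/-- Induction is injective on the characters over `b`. -/
theorem indFun_injective [Fintype G] {N T : Subgroup G} [hN : N.Normal] [Fintype N] [Fintype T]
    {b : Set (Cfsg.IrrCharacter N)} (hNT : N ≤ T) (hM : Cfsg.IsPModular p M)
    (hb : Cfsg.IsPBlock M b)
    (hT : ∀ g : G, g ∈ T ↔ ∀ θ ∈ b, ∀ θ' : Cfsg.IrrCharacter N,
      (∀ n : N, (θ' : N → ℂ) n = (θ : N → ℂ) ⟨g * n * g⁻¹, hN.conj_mem n n.2 g⟩) → θ' ∈ b)
    {ψ ψ' : Cfsg.IrrCharacter T} (hirr : Cfsg.IsIrrCharacter G (Cfsg.indFun T (ψ : T → ℂ)))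
    (h : OverBlock hNT b (ψ : T → ℂ)) (h' : OverBlock hNT b (ψ' : T → ℂ))
    (he : Cfsg.indFun T (ψ : T → ℂ) = Cfsg.indFun T (ψ' : T → ℂ)) : ψ = ψ' := by
  classical
  by_contra hne
  let φ : Cfsg.IrrCharacter G := ⟨_, hirr⟩
  have hc : ∀ η : Cfsg.IrrCharacter T, Cfsg.indFun T (η : T → ℂ) = (φ : G → ℂ) →
      Cfsg.classInner (fun t : T => (φ : G → ℂ) t) (η : T → ℂ) ≠ 0 := fun η hη => by
    rw [← Char.classInner_conj_symm, map_ne_zero,
      ← Char.classInner_indFun_left T _ (Char.isClassFunction_of_isIrr φ.2), hη,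
      Char.classInner_irr_self φ.2]
    exact one_ne_zero
  have hr := Char.isCharacter_res T (Char.IsIrr.isCharacter φ.2)
  have hr1 := Char.IsChar.sub_constituent hr ψ.2 (hc ψ rfl)
  have hc' : Cfsg.classInner ((fun t : T => (φ : G → ℂ) t) - (ψ : T → ℂ)) (ψ' : T → ℂ) ≠ 0 := by
    rw [Char.classInner_sub_left, Char.classInner_irr_ne ψ.2 ψ'.2
      (fun e => hne (Subtype.ext e)), sub_zero]
    exact hc ψ' he.symm
  have hr2 := Char.IsChar.sub_constituent hr1 ψ'.2 hc'
  obtain ⟨k, hk, -⟩ := exists_degPart_eq_natCast (b := b) (isCharacter_resTo hNT hr2)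
  obtain ⟨m, hmpos, hm⟩ := Char.IsIrr.degree ψ.2
  obtain ⟨m', hmpos', hm'⟩ := Char.IsIrr.degree ψ'.2
  have hsum : degPart b (fun n : N => (φ : G → ℂ) n) = ((m + m' + k : ℕ) : ℂ) := by
    rw [Nat.cast_add, Nat.cast_add, ← hk, ← hm, ← hm', ← degPart_of_overBlock hNT hM hb hT h,
      ← degPart_of_overBlock hNT hM hb hT h', degPart, degPart, degPart, degPart,
      ← Finset.sum_add_distrib, ← Finset.sum_add_distrib]
    exact Finset.sum_congr rfl fun n _ => by simp; ring
  have hne' : degPart b (fun n : N => (φ : G → ℂ) n) ≠ 0 := by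
    rw [hsum]; exact Nat.cast_ne_zero.2 (by omega)
  obtain ⟨θ, hθ, hθc⟩ := (degPart_ne_zero_iff
    (Char.isCharacter_res N (Char.IsIrr.isCharacter φ.2))).1 hne'
  have hdeg := index_mul_degPart hM hb hT hθ hθc
  rw [hsum, show (φ : G → ℂ) 1 = (T.index : ℂ) * (ψ : T → ℂ) 1 from Char.indFun_apply_one T _,
    hm] at hdeg
  have := mul_left_cancel₀ (Nat.cast_ne_zero.2 Subgroup.index_ne_zero_of_finite) hdeg
  have := Nat.cast_injective this
  omega

/-- The `p`-solvable case. -/
theorem elementary_of_pSolvable_aux : ∀ n : ℕ, ∀ (G : Type u) [Group G] [Finite G], Nat.card G = n →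
    Cfsg.IsPSolvable p G → ∀ (M : Ideal Cfsg.AlgInt), Cfsg.IsPModular p M →
    ∀ (B : Set (Cfsg.IrrCharacter G)), Cfsg.IsPBlock M B → ∀ (P : Subgroup G),
    Cfsg.IsDefectGroup p M B P → Nat.card B ≤ Cfsg.blockRank p B + 1 →
    Cfsg.IsElementaryAbelian p P := by
  intro n
  induction n using Nat.strong_induction_on with
  | _ n ih =>
  intro G _ _ hn hs M hM B hB P hP hk
  classical
  have := Fintype.ofFinite G
  have hpP := DefectThms.isPGroup_of_isDefectGroup hP
  set K := Cfsg.pPrimeCore p G with hK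
  have := Fintype.ofFinite K
  obtain ⟨χ, hχ⟩ := IsPBlock.nonempty hM hB
  obtain ⟨θ, hθ⟩ := Char.exists_constituent_res (N := K) χ.2
  by_cases hinv : ∀ g : G, Char.conjFun g (θ : K → ℂ) = θ
  · obtain ⟨B₀, hB₀, hB₀iff, -, hdef, -⟩ := Blocks.exists_invariant_block_of_pConstrained hM
      (Layer.isPConstrained_of_isPSolvable hs) hK θ hinv
    have heq : B₀ = B := by
      rw [Blocks.IsPBlock.eq_blockOf hM hB hχ,
        Blocks.IsPBlock.eq_blockOf hM hB₀ ((hB₀iff χ).2 hθ)]
    subst heq
    obtain ⟨S, rfl⟩ := hdef P hP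
    -- the Sylow subgroup lies in `O_{p',p}`
    have hconj : ∀ u ∈ (S : Subgroup G), ∀ v ∈ (S : Subgroup G), u ≠ 1 → v ≠ 1 →
        ∃ g : G, g * u * g⁻¹ = v := fun u hu v hv hu1 hv1 =>
      isConj_of_card_eq_succ hM hB hP hk hu hv hu1 hv1
    set L := Cfsg.pPrimePCore p G
    haveI : L.Normal := @Subgroup.normal_of_characteristic _ _ _
      Coprime.pPrimePCore_characteristic
    refine elementary_of_transitive S.2 fun u hu v hv hu1 hv1 => ?_
    have hSL : (S : Subgroup G) ≤ L := by
      have hne : ∃ w ∈ (S : Subgroup G), w ≠ 1 ∧ w ∈ L := by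
        by_contra hcon
        push Not at hcon
        have hLp : ¬ p ∣ Nat.card L := fun hd => by
          obtain ⟨x, hx⟩ := exists_prime_orderOf_dvd_card' (G := L) p hd
          have hxg : IsPGroup p (Subgroup.zpowers (x : G)) := by
            refine IsPGroup.of_card (n := 1) ?_
            rw [Nat.card_zpowers, Subgroup.orderOf_coe, hx, pow_one]
          obtain ⟨T, hT⟩ := hxg.exists_le_sylow
          obtain ⟨g, hg⟩ := MulAction.exists_smul_eq G T S
          have hxS : g * (x : G) * g⁻¹ ∈ (S : Subgroup G) := by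
            rw [← hg]
            exact ⟨x, hT (Subgroup.mem_zpowers _), rfl⟩
          refine hcon _ hxS (fun e => ?_) (‹L.Normal›.conj_mem _ x.2 g)
          rw [conj_eq_one_iff] at e
          exact (Fact.out : p.Prime).ne_one (by rw [← hx, ← Subgroup.orderOf_coe, e, orderOf_one])
        have hcop : (Nat.card L).Coprime p :=
          ((Fact.out : p.Prime).coprime_iff_not_dvd.2 hLp).symm
        have hLK : L ≤ K := Core.le_pPrimeCore hcop
        have hbot : Cfsg.pCore p (G ⧸ K) = ⊥ := by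
          rw [eq_bot_iff]
          intro q hq
          obtain ⟨g, rfl⟩ := QuotientGroup.mk'_surjective K q
          rw [Subgroup.mem_bot]
          exact (QuotientGroup.eq_one_iff g).2 (hLK hq)
        obtain ⟨w, hw, hw1⟩ : ∃ w ∈ (S : Subgroup G), w ≠ 1 := ⟨u, hu, hu1⟩
        have hself : Subgroup.centralizer (Cfsg.pCore p (G ⧸ K) : Set (G ⧸ K)) ≤
            Cfsg.pCore p (G ⧸ K) :=
          Layer.isPConstrained_iff_selfCentral.mp (Layer.isPConstrained_of_isPSolvable hs)
        have hwK : w ∈ K := by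
          refine (QuotientGroup.eq_one_iff w).1 (Subgroup.mem_bot.1 (hbot ▸ hself ?_))
          rw [Subgroup.mem_centralizer_iff]
          intro q hq
          rw [hbot] at hq
          rw [Subgroup.mem_bot.1 hq, one_mul, mul_one]
        obtain ⟨j, hj⟩ := IsPGroup.iff_orderOf.1 S.2 ⟨w, hw⟩
        rw [Subgroup.orderOf_mk] at hj
        have h1 : orderOf w ∣ Nat.card K := Subgroup.orderOf_dvd_natCard K hwK
        refine hw1 (orderOf_eq_one_iff.1 (Nat.eq_one_of_dvd_coprimes
          (((Fact.out : p.Prime).coprime_iff_not_dvd.2 Core.not_dvd_card_pPrimeCore).pow_left j)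
          (hj ▸ dvd_rfl) h1))
      obtain ⟨w, hw, hw1, hwL⟩ := hne
      intro x hx
      rcases eq_or_ne x 1 with rfl | hx1
      · exact one_mem _
      obtain ⟨g, rfl⟩ := hconj w hw x hx hw1 hx1
      exact ‹L.Normal›.conj_mem w hwL g
    obtain ⟨g, hg⟩ := hconj u hu v hv hu1 hv1
    have htop : Subgroup.normalizer ((S : Subgroup G) : Set G) ⊔ L = ⊤ :=
      Sylow.normalizer_sup_eq_top' (N := L) S hSL
    have hfr : g ∈ Subgroup.normalizer ((S : Subgroup G) : Set G) ⊔ L := by
      rw [htop]; trivial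
    rw [← SetLike.mem_coe, Subgroup.mul_normal] at hfr
    obtain ⟨m, hm, l, hl, rfl⟩ := hfr
    -- modulo `O_{p'}` the element `l` permutes `S` like one of its elements
    obtain ⟨s, hsS, k, hkK, rfl⟩ : ∃ s ∈ (S : Subgroup G), ∃ k ∈ K, l = s * k := by
      have hLe : (S : Subgroup G) ⊔ K = L := by
        refine le_antisymm (sup_le hSL fun x hx => ?_) ?_
        · show QuotientGroup.mk' K x ∈ Cfsg.pCore p (G ⧸ K)
          rw [(QuotientGroup.eq_one_iff x).2 hx |> fun h : QuotientGroup.mk' K x = 1 => h]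
          exact one_mem _
        · intro x hx
          let T : Sylow p (G ⧸ K) := S.mapSurjective (QuotientGroup.mk'_surjective K)
          have hT : QuotientGroup.mk' K x ∈ (T : Subgroup (G ⧸ K)) :=
            Core.pCore_isPGroup.le_sylow_of_normal T hx
          rw [Sylow.coe_mapSurjective] at hT
          obtain ⟨s, hs', he⟩ := hT
          have : s⁻¹ * x ∈ K := QuotientGroup.eq.1 he
          rw [show x = s * (s⁻¹ * x) by group]
          exact Subgroup.mul_mem_sup hs' this
      rw [← hLe, Subgroup.mul_normal] at hl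
      obtain ⟨s, hs', k, hk', he⟩ := hl
      exact ⟨s, hs', k, hk', he.symm⟩
    refine ⟨m * s, mul_mem hm (Subgroup.le_normalizer hsS), ?_⟩
    set w := (m * s)⁻¹ * v * (m * s) with hw
    have hwS : w ∈ (S : Subgroup G) := by
      have hms := mul_mem hm (Subgroup.le_normalizer hsS)
      have := (Subgroup.mem_normalizer_iff.1 (inv_mem hms) v).1 hv
      rwa [inv_inv] at this
    have hku : k * u * k⁻¹ = w := by rw [hw, ← hg]; group
    have hone : u⁻¹ * w ∈ (S : Subgroup G) ⊓ K := by
      refine ⟨(S : Subgroup G).mul_mem ((S : Subgroup G).inv_mem hu) hwS, ?_⟩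
      rw [← hku, show u⁻¹ * (k * u * k⁻¹) = (u⁻¹ * k * u) * k⁻¹ by group]
      exact K.mul_mem (by simpa using (inferInstance : K.Normal).conj_mem k hkK u⁻¹) (K.inv_mem hkK)
    rw [Subgroup.inf_eq_bot_of_coprime (by
      obtain ⟨j, hj⟩ := IsPGroup.iff_card.1 S.2
      rw [hj]
      exact ((Fact.out : p.Prime).coprime_iff_not_dvd.2 Core.not_dvd_card_pPrimeCore).pow_left j),
      Subgroup.mem_bot, inv_mul_eq_one] at hone
    rw [hone, hw]
    group
  · set T := Char.inertia (θ : K → ℂ) with hT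
    have := Fintype.ofFinite T
    have hKT : K ≤ T := Char.le_inertia (Char.isClassFunction_of_isIrr θ.2)
    have hKp : ¬ p ∣ Nat.card K := Core.not_dvd_card_pPrimeCore
    let b : Set (Cfsg.IrrCharacter K) := Cfsg.blockOf M (θ : K → ℂ)
    have hb : Cfsg.IsPBlock M b := ⟨θ, rfl⟩
    have hbθ : b = {θ} := Blocks.blockOf_eq_singleton_of_not_dvd hM hKp θ
    have hTiff : ∀ g : G, g ∈ T ↔ ∀ η ∈ b, ∀ η' : Cfsg.IrrCharacter K,
        (∀ m : K, (η' : K → ℂ) m = (η : K → ℂ)
          ⟨g * m * g⁻¹, (inferInstance : K.Normal).conj_mem m m.2 g⟩) → η' ∈ b := by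
      intro g
      rw [hbθ, hT, Char.mem_inertia]
      constructor
      · intro hg η hη η' he
        rw [Set.mem_singleton_iff] at hη ⊢
        refine Subtype.ext (funext fun m => ?_)
        rw [he m, hη]
        exact congrFun hg m
      · intro h
        have := h θ rfl ⟨Char.conjFun g (θ : K → ℂ), Char.isIrr_conjFun g θ.2⟩ fun m => rfl
        rw [Set.mem_singleton_iff] at this
        exact congrArg Subtype.val this
    obtain ⟨B', hB', hcov, hind⟩ := Blocks.exists_inducing hKT hM hb hTiff hB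
      ⟨χ, hχ, θ, by rw [hbθ]; rfl, hθ⟩
    obtain ⟨B₁, hind₁, -, hirr, hmem⟩ := Blocks.exists_induced_block hKT hM hb hTiff hB' hcov
    obtain rfl := Blocks.induced_unique hM hind₁ hind
    obtain ⟨hD, -⟩ := Blocks.defect_and_heights hKT hM hb hTiff hB' hcov hind
    -- characters
    have hover : ∀ ψ ∈ B', Blocks.OverBlock hKT b (ψ : T → ℂ) := by
      intro ψ hψ
      obtain ⟨ψ₀, hψ₀, hov₀⟩ := hcov
      have h := memLocalIdeal_omega_sub hM ψ.2 ψ₀.2
        ((Blocks.isInv_sbc_block hM hb hTiff).isClassFunction_res)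
        (fun t : T => BrauerPairs.memLocalRing_sbc hM hb (t : G))
        (IsPBlock.sameBlock hM hB' hψ hψ₀)
      rw [(Blocks.overBlock_iff hKT hM hb hTiff ψ₀).1 hov₀] at h
      refine (Blocks.overBlock_iff hKT hM hb hTiff ψ).2
        (((Blocks.omega_sbc_block hKT hM hb hTiff ψ).2).resolve_left fun h0 => ?_)
      rw [h0, zero_sub] at h
      have h' := memLocalIdeal_neg h
      rw [neg_neg] at h'
      exact not_memLocalIdeal_one hM h'
    have hrank : Cfsg.blockRank p B₁ ≤ Cfsg.blockRank p B' := by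
      let F : (T → ℂ) →ₗ[ℂ] (G → ℂ) :=
        { toFun := fun f => Cfsg.pRegularPart p (Cfsg.indFun T f)
          map_add' := fun f f' => by
            funext x
            simp only [Cfsg.pRegularPart, Pi.add_apply]
            split_ifs
            · rw [indFun_add]
              rfl
            · simp
          map_smul' := fun c f => by
            funext x
            simp only [Cfsg.pRegularPart, Pi.smul_apply, smul_eq_mul, RingHom.id_apply]
            split_ifs
            · rw [indFun_smul]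
              rfl
            · simp }
      have hF : ∀ f : T → ℂ, F (Cfsg.pRegularPart p f) = F f := fun f => funext fun x => by
        show Cfsg.pRegularPart p _ x = Cfsg.pRegularPart p _ x
        simp only [Cfsg.pRegularPart]
        split_ifs with hx
        · simp only [Cfsg.indFun]
          congr 1
          refine Finset.sum_congr rfl fun g _ => ?_
          by_cases hg : g⁻¹ * x * g ∈ T
          · have e1 : ∀ f' : T → ℂ, Cfsg.extendByZero T f' (g⁻¹ * x * g) = f' ⟨_, hg⟩ := fun f' =>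
              Subtype.val_injective.extend_apply f' 0 ⟨_, hg⟩
            rw [e1, e1]
            simp only [Cfsg.pRegularPart]
            rw [if_pos]
            show ¬ p ∣ orderOf (⟨g⁻¹ * x * g, hg⟩ : T)
            rw [Subgroup.orderOf_mk, show g⁻¹ * x * g = MulAut.conj g⁻¹ x by simp,
              MulEquiv.orderOf_eq]
            exact hx
          · rw [Char.extendByZero_of_not_mem T _ hg, Char.extendByZero_of_not_mem T _ hg]
        · rfl
      rw [Cfsg.blockRank, Cfsg.blockRank]
      refine le_trans (Submodule.finrank_mono (t := (Submodule.span ℂ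
        ((fun ψ : Cfsg.IrrCharacter T => Cfsg.pRegularPart p (ψ : T → ℂ)) '' B')).map F) ?_)
        (Submodule.finrank_map_le _ _)
      rw [Submodule.span_le]
      rintro _ ⟨χ', hχ', rfl⟩
      obtain ⟨ψ, hψ, he⟩ := (hmem χ').1 hχ'
      refine ⟨Cfsg.pRegularPart p (ψ : T → ℂ), Submodule.subset_span ⟨ψ, hψ, rfl⟩, ?_⟩
      rw [hF]
      show Cfsg.pRegularPart p _ = Cfsg.pRegularPart p (χ' : G → ℂ)
      rw [he]
    have hcard : Nat.card B' ≤ Nat.card B₁ := by
      refine Nat.card_le_card_of_injective (fun ψ => ⟨⟨_, hirr ψ.1 ψ.2⟩,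
        (hmem _).2 ⟨ψ.1, ψ.2, rfl⟩⟩) fun ψ ψ' he => ?_
      have hef : Cfsg.indFun T ((ψ : Cfsg.IrrCharacter T) : T → ℂ) =
          Cfsg.indFun T ((ψ' : Cfsg.IrrCharacter T) : T → ℂ) :=
        congrArg (fun χ' : B₁ => ((χ' : Cfsg.IrrCharacter G) : G → ℂ)) he
      exact Subtype.ext (indFun_injective hKT hM hb hTiff (hirr _ ψ.2) (hover _ ψ.2) (hover _ ψ'.2) hef)
    obtain ⟨D, hDdef⟩ := DefectThms.exists_defectGroup hM hB'
    have hlt : Nat.card T < n := by
      rw [← hn]
      refine lt_of_le_of_ne (Nat.le_of_dvd Nat.card_pos T.card_subgroup_dvd_card) fun h => hinv fun g => ?_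
      have : g ∈ T := (Subgroup.eq_top_of_card_eq T h) ▸ Subgroup.mem_top g
      exact this
    have hDel := ih _ hlt T rfl (QdFree.isPSolvable_subgroup hs T) M hM B' hB' D hDdef
      (by omega)
    obtain ⟨c, hc⟩ := DefectThms.exists_defectGroup_conj hM hB (hD D hDdef) hP
    have e : D ≃* P := ((D.equivMapOfInjective _ T.subtype_injective).trans
      ((D.map T.subtype).equivMapOfInjective _ (MulEquiv.injective _))).trans (MulEquiv.subgroupCongr hc)
    refine ⟨⟨⟨fun a b => ?_⟩⟩, fun a ha => ?_⟩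
    · apply e.symm.injective
      rw [map_mul, map_mul, hDel.1.is_comm.comm]
    · have h1 : e.symm ⟨a, ha⟩ ^ p = 1 := Subtype.ext (hDel.2 _ (e.symm ⟨a, ha⟩).2)
      rw [← map_pow, ← map_one e.symm] at h1
      exact congrArg Subtype.val (e.symm.injective h1)

/-- The trivial character lies over the trivial character. -/
theorem triv_mem_over [Fintype G] (hM : Cfsg.IsPModular p M) {z : G} (hz : ∃ k, orderOf z = p ^ k)
    [Fintype (Subgroup.centralizer ({z} : Set G))] :
    triv (Subgroup.centralizer ({z} : Set G)) ∈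
      Blocks.over M (Subgroup.centralizer ({z} : Set G)).subtype
        ((triv G : Cfsg.IrrCharacter G) : G → ℂ) := by
  classical
  set C := Subgroup.centralizer ({z} : Set G)
  intro g
  rw [show Cfsg.centralChar ((triv G : Cfsg.IrrCharacter G) : G → ℂ) g =
      omega ((triv G : Cfsg.IrrCharacter G) : G → ℂ) (classInd g) from
    (omega_classInd (Char.isClassFunction_of_isIrr (triv G).2) g).symm]
  simp only [omega, triv, mul_one, div_one, Subgroup.coe_subtype]
  letI : MulAction (Subgroup.zpowers z) G :=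
    MulAction.compHom G ((MulAut.conj : G →* MulAut G).comp (Subgroup.zpowers z).subtype)
  have hact : ∀ (w : Subgroup.zpowers z) (a : G), w • a = (w : G) * a * (w : G)⁻¹ :=
    fun _ _ => rfl
  obtain ⟨k, hk⟩ := hz
  have hp' : IsPGroup p (Subgroup.zpowers z) :=
    IsPGroup.of_card (n := k) (by rw [Nat.card_zpowers, hk])
  have h := DefectThms.memLocalIdeal_sum_sub_fixed hM hp' (classInd g)
    (DefectThms.memLocalRing_classInd hM g) (fun w a => by
      rw [hact]; exact isClassFunction_classInd g a (w : G))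
  have hfix : ∀ a : G, a ∈ MulAction.fixedPoints (Subgroup.zpowers z) G ↔ a ∈ C := fun a => by
    rw [MulAction.mem_fixedPoints]
    constructor
    · intro h'
      have := h' ⟨z, Subgroup.mem_zpowers z⟩
      rw [hact] at this
      refine Subgroup.mem_centralizer_iff.2 fun w hw => ?_
      rw [Set.mem_singleton_iff.1 hw]
      exact mul_inv_eq_iff_eq_mul.1 this
    · rintro h' ⟨w, n, rfl⟩
      rw [hact]
      show z ^ n * a * (z ^ n)⁻¹ = a
      rw [((show Commute z a from Subgroup.mem_centralizer_iff.1 h' z rfl).zpow_left n).eq,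
        mul_inv_cancel_right]
  have hfil : ∑ a ∈ Finset.univ.filter (fun a => a ∈ MulAction.fixedPoints (Subgroup.zpowers z) G),
      classInd g a = ∑ a : C, classInd g (a : G) :=
    Finset.sum_subtype _ (fun a => by
      rw [Finset.mem_filter]
      simp only [Finset.mem_univ, true_and]
      exact hfix a) _
  rw [hfil] at h
  have := memLocalIdeal_neg h
  rw [neg_sub] at this
  convert this using 4

/-- In the principal block every centralizer of a non-identity `p`-element has a normal
`p`-complement. -/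
theorem hasNormalPComplement_centralizer [Fintype G] (hM : Cfsg.IsPModular p M)
    (hk : Nat.card (Cfsg.principalBlock M G) ≤ Cfsg.blockRank p (Cfsg.principalBlock M G) + 1)
    {z : G} (hz : ∃ k, orderOf z = p ^ k) (hz1 : z ≠ 1) :
    Cfsg.HasNormalPComplement p (Subgroup.centralizer ({z} : Set G)) := by
  classical
  set B := Cfsg.principalBlock M G
  have hB : Cfsg.IsPBlock M B := isPBlock_principalBlock M
  have hsum := card_mul_card_sub_blockRank (p := p) hM (MonoidHom.id G)
    ((triv G : Cfsg.IrrCharacter G) : G → ℂ)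
  rw [over_id hM hB (triv_mem_principalBlock hM)] at hsum
  set S := Finset.univ.filter (fun x : G => x ≠ 1 ∧ ∃ k : ℕ, orderOf x = p ^ k) with hS
  let l : G → ℕ := fun x => Cfsg.blockRank p (Blocks.over M
    (Subgroup.centralizer ({x} : Set G)).subtype ((triv G : Cfsg.IrrCharacter G) : G → ℂ))
  have hl : ∀ x ∈ S, 1 ≤ l x ∧ Cfsg.blockRank p (Cfsg.principalBlock M
      (Subgroup.centralizer ({x} : Set G))) ≤ l x := by
    intro x hx
    obtain ⟨-, -, hxp⟩ := Finset.mem_filter.1 hx
    have h1 : Cfsg.blockRank p (Cfsg.principalBlock M (Subgroup.centralizer ({x} : Set G))) ≤ l x :=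
      Submodule.finrank_mono (Submodule.span_mono (Set.image_mono fun ψ hψ =>
        over_sameBlock hM _ _ (triv_mem_over hM hxp) hψ))
    exact ⟨le_trans (BlockChar.blockRank_pos hM (isPBlock_principalBlock M)) h1, h1⟩
  have hmain : Nat.card G * (Nat.card B) =
      Nat.card G * Cfsg.blockRank p B +
        ∑ x ∈ S, Nat.card (Subgroup.centralizer ({x} : Set G)) * l x := by
    refine Nat.cast_injective (R := ℂ) ?_
    rw [Nat.cast_mul, Nat.cast_add, Nat.cast_mul, Nat.cast_sum, ← sub_eq_iff_eq_add', ← mul_sub,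
      hsum]
    refine Finset.sum_congr rfl fun x _ => ?_
    rw [Nat.cast_mul]
    exact (card_mul_blockRank_over hM _ _).symm
  set Cl := Finset.univ.filter (fun x : G => IsConj z x) with hCl
  have hClS : Cl ⊆ S := fun x hx => by
    obtain ⟨g, rfl⟩ := isConj_iff.1 (Finset.mem_filter.1 hx).2
    refine Finset.mem_filter.2 ⟨Finset.mem_univ _, fun e => hz1 (conj_eq_one_iff.1 e), ?_⟩
    obtain ⟨k, hk'⟩ := hz
    exact ⟨k, (MulEquiv.orderOf_eq (MulAut.conj g) z).trans hk'⟩
  have hcl : ∑ x ∈ Cl, Nat.card (Subgroup.centralizer ({x} : Set G)) = Nat.card G := by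
    rw [Finset.sum_congr rfl (g := fun _ => Nat.card (Subgroup.centralizer ({z} : Set G))) fun x hx => by
      obtain ⟨g, rfl⟩ := isConj_iff.1 (Finset.mem_filter.1 hx).2
      exact BlockThms.card_centralizer_conj z g, Finset.sum_const, smul_eq_mul,
      show Cl.card = (Subgroup.centralizer ({z} : Set G)).index from ?_]
    · rw [mul_comm]; exact Subgroup.card_mul_index _
    · rw [hCl, ← Char.card_isConj_eq_index, Nat.card_eq_fintype_card, Fintype.card_subtype]
  have hz' : z ∈ Cl := Finset.mem_filter.2 ⟨Finset.mem_univ _, IsConj.refl z⟩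
  have hle : ∑ x ∈ Cl, Nat.card (Subgroup.centralizer ({x} : Set G)) * l x ≤ Nat.card G := by
    refine le_trans (Finset.sum_le_sum_of_subset hClS) ?_
    have h1 := Nat.mul_le_mul_left (Nat.card G) hk
    rw [hmain, Nat.mul_succ] at h1
    omega
  have hlz : l z = 1 := by
    by_contra h1
    have h2 : ∑ x ∈ Cl, Nat.card (Subgroup.centralizer ({x} : Set G)) <
        ∑ x ∈ Cl, Nat.card (Subgroup.centralizer ({x} : Set G)) * l x := by
      refine Finset.sum_lt_sum (fun x hx => Nat.le_mul_of_pos_right _ (hl x (hClS hx)).1)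
        ⟨z, hz', ?_⟩
      refine lt_mul_right Nat.card_pos ?_
      have := (hl z (hClS hz')).1
      omega
    omega
  have h1 : Cfsg.blockRank p (Cfsg.principalBlock M (Subgroup.centralizer ({z} : Set G))) = 1 :=
    le_antisymm (hlz ▸ (hl z (hClS hz')).2) (BlockChar.blockRank_pos hM (isPBlock_principalBlock M))
  exact BlockChar.hasNormalPComplement_of_const hM
    ((BlockChar.blockRank_eq_one_iff hM).1 h1)

/-- The principal block case. -/
theorem elementary_of_principal [Fintype G] (hM : Cfsg.IsPModular p M) {D : Subgroup G}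
    (hD : Cfsg.IsDefectGroup p M (Cfsg.principalBlock M G) D)
    (hk : Nat.card (Cfsg.principalBlock M G) ≤ Cfsg.blockRank p (Cfsg.principalBlock M G) + 1) :
    Cfsg.IsElementaryAbelian p D := by
  classical
  have hB : Cfsg.IsPBlock M (Cfsg.principalBlock M G) := isPBlock_principalBlock M
  have hconj : ∀ u ∈ D, ∀ v ∈ D, u ≠ 1 → v ≠ 1 → ∃ g : G, g * u * g⁻¹ = v :=
    fun u hu v hv hu1 hv1 => isConj_of_card_eq_succ hM hB hD hk hu hv hu1 hv1
  have hd : Cfsg.blockDefect p (Cfsg.principalBlock M G) = (Nat.card G).factorization p := by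
    have h1 := BlockChar.minVal_le (p := p) (triv_mem_principalBlock (G := G) hM)
    rw [charDegree_eq (n := 1) (by simp [triv]), Nat.factorization_one] at h1
    have h2 : BlockChar.minVal p (Cfsg.principalBlock M G) = 0 := by simpa using h1
    rw [BlockChar.blockDefect_eq, h2, Nat.sub_zero]
  obtain ⟨S, rfl⟩ : ∃ S : Sylow p G, (S : Subgroup G) = D :=
    ⟨Sylow.ofCard D ((BlockChar.card_defectGroup hM hB hD).trans (by rw [hd])), rfl⟩
  have hp : p.Prime := Fact.out
  rcases eq_or_ne (S : Subgroup G) ⊥ with hbot | hne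
  · rw [hbot]
    exact ⟨⟨⟨fun a b => Subsingleton.elim _ _⟩⟩, fun a ha => by rw [Subgroup.mem_bot.1 ha, one_pow]⟩
  -- the Sylow subgroup is abelian
  have habel : ∀ u ∈ (S : Subgroup G), ∀ v ∈ (S : Subgroup G), u * v = v * u := by
    have : Nontrivial (S : Subgroup G) := (Subgroup.nontrivial_iff_ne_bot _).2 hne
    have : Nontrivial (Subgroup.center (S : Subgroup G)) := S.2.center_nontrivial
    rcases eq_or_ne p 2 with hp2 | hp2
    · intro u hu v hv
      have hsq : ∀ w ∈ (S : Subgroup G), w * w = 1 := by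
        intro w hw
        rcases eq_or_ne w 1 with rfl | hw1
        · simp
        obtain ⟨x, hx⟩ := exists_prime_orderOf_dvd_card' (G := (S : Subgroup G)) p (by
          obtain ⟨n, hn⟩ := IsPGroup.iff_card.1 S.2
          refine hn ▸ dvd_pow_self p fun h0 => ?_
          rw [h0, pow_zero] at hn
          exact hne (Subgroup.card_eq_one.1 hn))
        have hx' : orderOf (x : G) = p := by rw [Subgroup.orderOf_coe, hx]
        obtain ⟨g, rfl⟩ := hconj x x.2 w hw (fun e => hp.ne_one
          (hx'.symm.trans (by rw [e, orderOf_one]))) hw1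
        rw [← pow_two, conj_pow, show (x : G) ^ 2 = 1 by
          rw [show (2 : ℕ) = orderOf (x : G) by omega]
          exact pow_orderOf_eq_one _,
          mul_one, mul_inv_cancel]
      have h1 := hsq _ (mul_mem hu hv)
      have hu' := inv_eq_of_mul_eq_one_left (hsq u hu)
      have hv' := inv_eq_of_mul_eq_one_left (hsq v hv)
      have h2 := inv_eq_of_mul_eq_one_left h1
      rw [mul_inv_rev, hu', hv'] at h2
      exact h2.symm
    obtain ⟨z₀, hz01⟩ := exists_ne (1 : Subgroup.center (S : Subgroup G))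
    set z : G := ((z₀ : (S : Subgroup G)) : G)
    have hzS : z ∈ (S : Subgroup G) := (z₀ : (S : Subgroup G)).2
    have hzne : z ≠ 1 := fun e => hz01 (Subtype.ext (Subtype.ext e))
    have hord : ∀ w ∈ (S : Subgroup G), ∃ k, orderOf w = p ^ k := fun w hw => by
      obtain ⟨k, hk'⟩ := IsPGroup.iff_orderOf.1 S.2 ⟨w, hw⟩
      exact ⟨k, by rw [← hk', Subgroup.orderOf_mk]⟩
    have hzc : ∀ s ∈ (S : Subgroup G), s * z = z * s := fun s hs =>
      congrArg Subtype.val (Subgroup.mem_center_iff.1 z₀.2 ⟨s, hs⟩)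
    have hzinv : z⁻¹ ∈ (S : Subgroup G) := inv_mem hzS
    -- an element of the normalizer inverting `z`
    obtain ⟨g, hg⟩ := hconj z hzS z⁻¹ hzinv hzne (by simpa using hzne)
    obtain ⟨n, hn, hne'⟩ := Sylow.conj_eq_normalizer_conj_of_mem_centralizer S z g⁻¹
      (Subgroup.mem_centralizer_iff.2 fun s hs => hzc s hs) (by
        rw [inv_inv, hg]
        exact Subgroup.mem_centralizer_iff.2 fun s hs => by
          have := hzc s hs
          calc s * z⁻¹ = z⁻¹ * (z * s) * z⁻¹ := by group
            _ = z⁻¹ * (s * z) * z⁻¹ := by rw [this]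
            _ = z⁻¹ * s := by group)
    rw [inv_inv, hg] at hne'
    set m := n⁻¹ with hm
    have hmN : m ∈ Subgroup.normalizer ((S : Subgroup G) : Set G) := inv_mem hn
    have hmz : m * z * m⁻¹ = z⁻¹ := by rw [hne', hm, inv_inv]
    -- its `p'`-part
    obtain ⟨h₀, hh0N, hh0z, hh0p⟩ : ∃ h₀ ∈ Subgroup.normalizer ((S : Subgroup G) : Set G),
        h₀ * z * h₀⁻¹ = z⁻¹ ∧ ¬ p ∣ orderOf h₀ := by
      obtain ⟨e, r, hr, he⟩ := Nat.exists_eq_pow_mul_and_not_dvd (orderOf_pos m).ne' p hp.ne_one
      have hodd : ∀ j, Odd j → m ^ j * z * (m ^ j)⁻¹ = z⁻¹ := by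
        rintro j ⟨i, rfl⟩
        induction i with
        | zero => simpa using hmz
        | succ i ih =>
          rw [show 2 * (i + 1) + 1 = 2 * i + 1 + 1 + 1 by ring, pow_succ', pow_succ']
          have h2 : m * z⁻¹ * m⁻¹ = z := by
            have := congrArg Inv.inv hmz
            simpa [mul_assoc] using this
          calc m * (m * m ^ (2 * i + 1)) * z * (m * (m * m ^ (2 * i + 1)))⁻¹
              = m * (m * (m ^ (2 * i + 1) * z * (m ^ (2 * i + 1))⁻¹) * m⁻¹) * m⁻¹ := by group
            _ = m * (m * z⁻¹ * m⁻¹) * m⁻¹ := by rw [ih]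
            _ = z⁻¹ := by rw [h2, hmz]
      refine ⟨m ^ p ^ e, pow_mem hmN _, hodd _ ((hp.odd_of_ne_two hp2).pow), ?_⟩
      rw [orderOf_pow' m (pow_ne_zero _ hp.ne_zero), he, Nat.gcd_eq_right (dvd_mul_right _ _),
        Nat.mul_div_cancel_left _ (pow_pos hp.pos e)]
      exact hr
    have hconjS : ∀ w ∈ (S : Subgroup G), h₀ * w * h₀⁻¹ ∈ (S : Subgroup G) := fun w hw =>
      (Subgroup.mem_normalizer_iff.1 hh0N w).1 hw
    -- a `p'`-element normalizing a `p`-subgroup inside a centralizer centralizes it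
    have hcentral : ∀ {w : G}, w ∈ (S : Subgroup G) → w ≠ 1 →
        ∀ h : G, ¬ p ∣ orderOf h → (∀ s ∈ (S : Subgroup G), h * s * h⁻¹ ∈ (S : Subgroup G)) →
        h * w = w * h → ∀ s ∈ (S : Subgroup G), s * w = w * s → h * s = s * h := by
      intro w hwS hw1 h hhp hhS hhw s hsS hsw
      set C := Subgroup.centralizer ({w} : Set G)
      have hC : ∀ y, y ∈ C ↔ y * w = w * y := fun y =>
        ⟨fun h' => (Subgroup.mem_centralizer_iff.1 h' w rfl).symm, fun h' =>
          Subgroup.mem_centralizer_iff.2 fun x hx => by rw [Set.mem_singleton_iff.1 hx]; exact h'.symm⟩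
      have hnc := hasNormalPComplement_centralizer hM hk (hord w hwS) hw1
      set R : Subgroup C := (S : Subgroup G).subgroupOf C
      have hRp : IsPGroup p R := S.2.comap_of_injective C.subtype C.subtype_injective
      have hhC : h ∈ C := (hC h).2 hhw
      have hnorm : (⟨h, hhC⟩ : C) ∈ Subgroup.normalizer (R : Set C) := by
        exact Subgroup.mem_normalizer_fintype fun y hy => hhS _ hy
      have := Fusion.mem_centralizer_of_hasNormalPComplement hnc hRp hnorm
        ((BlockChar.coprime_orderOf_iff hp _).2 (by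
          show ¬ p ∣ orderOf (⟨h, hhC⟩ : C)
          rwa [Subgroup.orderOf_mk]))
      exact (congrArg Subtype.val (Subgroup.mem_centralizer_iff.1 this
        (⟨s, (hC s).2 hsw⟩ : C) hsS)).symm
    have hzsq : z ≠ z⁻¹ := fun e => by
      have h2 : orderOf z ∣ 2 := orderOf_dvd_of_pow_eq_one (by
        rw [pow_two]; nth_rw 2 [e]; exact mul_inv_cancel z)
      obtain ⟨k, hk'⟩ := hord z hzS
      rw [hk'] at h2
      rcases Nat.eq_zero_or_pos k with rfl | hk0
      · exact hzne (orderOf_eq_one_iff.1 (by simpa using hk'))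
      · exact hp2 ((Nat.prime_dvd_prime_iff_eq hp Nat.prime_two).1
          ((dvd_pow_self p hk0.ne').trans h2))
    -- no fixed points
    have hfpf : ∀ w ∈ (S : Subgroup G), h₀ * w * h₀⁻¹ = w → w = 1 := by
      intro w hw hfix
      by_contra hw1
      have h1 := hcentral hw hw1 h₀ hh0p hconjS (mul_inv_eq_iff_eq_mul.1 hfix) z hzS
        (hzc w hw).symm
      rw [h1, mul_inv_cancel_right] at hh0z
      exact hzsq hh0z
    have hsq : ∀ w ∈ (S : Subgroup G), h₀ * (h₀ * w * h₀⁻¹) * h₀⁻¹ = w := by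
      intro w hw
      have hz2 : (h₀ * h₀) * z = z * (h₀ * h₀) := by
        have h2 : h₀ * z⁻¹ * h₀⁻¹ = z := by
          have := congrArg Inv.inv hh0z
          simpa [mul_assoc] using this
        refine mul_inv_eq_iff_eq_mul.1 ?_
        calc h₀ * h₀ * z * (h₀ * h₀)⁻¹ = h₀ * (h₀ * z * h₀⁻¹) * h₀⁻¹ := by group
          _ = z := by rw [hh0z, h2]
      have hp' : ¬ p ∣ orderOf (h₀ * h₀) := fun hd => hh0p (hd.trans (by
        rw [← pow_two]; exact orderOf_pow_dvd 2))
      have h1 := hcentral hzS hzne (h₀ * h₀) hp' (fun s hs => by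
        have := hconjS _ (hconjS s hs)
        convert this using 1
        group) hz2 w hw (hzc w hw)
      calc h₀ * (h₀ * w * h₀⁻¹) * h₀⁻¹ = (h₀ * h₀) * w * (h₀ * h₀)⁻¹ := by group
        _ = w := by rw [h1, mul_inv_cancel_right]
    let α : (S : Subgroup G) →* (S : Subgroup G) :=
      { toFun := fun w => ⟨h₀ * w * h₀⁻¹, hconjS w w.2⟩
        map_one' := Subtype.ext (by simp)
        map_mul' := fun a b => Subtype.ext (by
          show h₀ * ((a : G) * b) * h₀⁻¹ = h₀ * a * h₀⁻¹ * (h₀ * b * h₀⁻¹)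
          group) }
    have hfp : MonoidHom.FixedPointFree α := fun w hw =>
      Subtype.ext (hfpf w w.2 (congrArg Subtype.val hw))
    have hinvo : Function.Involutive α := fun w => Subtype.ext (hsq w w.2)
    intro u hu v hv
    exact congrArg Subtype.val (hfp.commute_all_of_involutive hinvo ⟨u, hu⟩ ⟨v, hv⟩)
  -- fusion in an abelian Sylow subgroup is controlled by the normalizer
  refine elementary_of_transitive S.2 fun u hu v hv hu1 hv1 => ?_
  obtain ⟨g, hg⟩ := hconj u hu v hv hu1 hv1
  obtain ⟨n, hn, he⟩ := Sylow.conj_eq_normalizer_conj_of_mem_centralizer S u g⁻¹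
    (Subgroup.mem_centralizer_iff.2 fun s hs => habel s hs u hu) (by
      rw [inv_inv, hg]
      exact Subgroup.mem_centralizer_iff.2 fun s hs => habel s hs v hv)
  rw [inv_inv, hg] at he
  exact ⟨n⁻¹, inv_mem hn, by rw [inv_inv]; exact he.symm⟩

end Cfsg.Agent.Blocks.OneSubsection
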