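import Cfsg.Agent.Blocks.SmallCentralizer
import Cfsg.Agent.Blocks.OneSubsection
import Cfsg.Agent.Char.FS
import Cfsg.Agent.Char.Integral
import Cfsg.Agent.SmallOrder.Involution
import Cfsg.Agent.Fusion.Residual

/-!
# Principal blocks with very few characters

If `z` is a non-trivial central element of a Sylow subgroup whose centralizer has a normal
`p`-complement, the values at `z` of the principal block have norm the Sylow order, are orthogonal
to the degrees, and satisfy a Frobenius–Schur identity.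
-/

set_option autoImplicit false

open scoped Classical

namespace Cfsg.Agent.Blocks.FewChars

open scoped ComplexConjugate
open Cfsg.Agent Cfsg.Agent.Blocks Cfsg.Agent.BlockChar

universe u

variable {G : Type u} [Group G] [Fintype G] {p : ℕ} {M : Ideal Cfsg.AlgInt}
variable {z : G} {C : Subgroup G} [Fintype C] {K : Subgroup C}

theorem principal_sum_eq [K.Normal] (hM : Cfsg.IsPModular p M) (hK : ¬ p ∣ Nat.card K)
    (hKi : ∃ k, K.index = p ^ k) (c : C) :
    ∑ φ ∈ (Cfsg.principalBlock M C).toFinite.toFinset, (φ : C → ℂ) 1 * conj ((φ : C → ℂ) c) =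
      if c ∈ K then (K.index : ℂ) else 0 := by
  have hC : (Nat.card C : ℂ) ≠ 0 := Nat.cast_ne_zero.2 Nat.card_pos.ne'
  have h := blockCoeff_principalBlock_of_complement hM K hK hKi c
  rw [Cfsg.blockCoeff, finsum_mem_eq_finite_toFinset_sum _ (Set.toFinite _),
    inv_mul_eq_iff_eq_mul₀ hC] at h
  rw [h]
  split_ifs
  · have hk : (Nat.card K : ℂ) ≠ 0 := Nat.cast_ne_zero.2 Nat.card_pos.ne'
    rw [mul_inv_eq_iff_eq_mul₀ hk, ← Nat.cast_mul, ← Subgroup.card_mul_index K, mul_comm]
  · rw [mul_zero]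

/-- The average over the complement picks out the principal block. -/
theorem sum_translate [K.Normal] (hM : Cfsg.IsPModular p M) (hz : ∃ k, orderOf z = p ^ k)
    (hC : ∀ a : G, a ∈ C ↔ z * a = a * z) (hK : ¬ p ∣ Nat.card K) (hKi : ∃ k, K.index = p ^ k)
    (χ : Cfsg.IrrCharacter G) :
    ∑ c ∈ Finset.univ.filter (fun c : C => c ∈ K), (χ : G → ℂ) (z * (c : G)) =
      if χ ∈ Cfsg.principalBlock M G then (Nat.card K : ℂ) * (χ : G → ℂ) z else 0 := by
  have hp := hM.1
  have := Fact.mk hp
  have hb := isPBlock_principalBlock (G := C) M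
  have hB := isPBlock_principalBlock (G := G) M
  have hidx : (K.index : ℂ) ≠ 0 := Nat.cast_ne_zero.2 Subgroup.index_ne_zero_of_finite
  have hkey : ∑ c : C, (χ : G → ℂ) (z * (c : G)) *
      (∑ φ ∈ (Cfsg.principalBlock M C).toFinite.toFinset, (φ : C → ℂ) 1 * conj ((φ : C → ℂ) c)) =
      (K.index : ℂ) *
        ∑ c ∈ Finset.univ.filter (fun c : C => c ∈ K), (χ : G → ℂ) (z * (c : G)) := by
    simp only [principal_sum_eq hM hK hKi, mul_ite, mul_zero, ← Finset.sum_filter]
    rw [Finset.mul_sum]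
    exact Finset.sum_congr rfl fun c _ => mul_comm _ _
  refine mul_left_cancel₀ hidx (hkey.symm.trans ?_)
  split_ifs with hχ
  · rw [← SmallCentralizer.subPart_one_eq hM hz hC hχ, ← mul_assoc,
      ← Nat.cast_mul, mul_comm K.index, Subgroup.card_mul_index K]
    simp only [subPart, subMult, Cfsg.classInner, Finset.mul_sum, Finset.sum_mul]
    rw [Finset.sum_comm]
    refine Finset.sum_congr rfl fun c _ => Finset.sum_congr rfl fun φ _ => ?_
    have : (Nat.card C : ℂ) ≠ 0 := Nat.cast_ne_zero.2 Nat.card_pos.ne'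
    field_simp
  · rw [mul_zero]
    obtain ⟨k, hk⟩ := hz
    have hP : IsPGroup p (Subgroup.zpowers z) :=
      IsPGroup.of_card (n := k) (by rw [Nat.card_zpowers, hk])
    have hH : ∀ a : G, a ∈ C ↔ ∀ u ∈ Subgroup.zpowers z, u * a = a * u := fun a => by
      rw [hC]
      exact ⟨fun h u ⟨i, hi⟩ => hi ▸ ((show Commute z a from h).zpow_left i).eq,
        fun h => h z (Subgroup.mem_zpowers z)⟩
    have hind : Cfsg.IsInducedBlock M C (Cfsg.principalBlock M C) (Cfsg.principalBlock M G) :=
      (mem_inducing_iff hM hP hH hB hb (triv_mem_principalBlock hM)).1 (by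
        rw [inducing_principalBlock hM hP hH]; exact triv_mem_principalBlock hM)
    have hnot : ¬ Cfsg.IsInducedBlock M C (Cfsg.principalBlock M C)
        (Cfsg.blockOf M (χ : G → ℂ)) := by
      intro h
      obtain ⟨ξ, hξ⟩ := IsPBlock.nonempty hM h.1
      refine hχ ?_
      rw [IsPBlock.eq_blockOf hM hB (triv_mem_principalBlock hM), ← blockOf_eq_of_sameBlock hM
        (χ := (χ : G → ℂ)) (fun g => ?_)]
      · exact mem_blockOf_self hM χ
      have := memLocalIdeal_sub hM (hind.2.2 ξ hξ (triv G) (triv_mem_principalBlock hM) g)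
        (h.2.2 ξ hξ χ (mem_blockOf_self hM χ) g)
      simpa using this
    have h := sum_section_kernel_eq_zero hM ⟨k, hk⟩ hC (isPBlock_blockOf χ) (mem_blockOf_self hM χ)
      hb hnot (y := (1 : C)) (by simp [hp.ne_one])
    simpa only [finsum_mem_eq_finite_toFinset_sum _ (Set.toFinite _)] using h

/-- The norm of the column of `z`. -/
theorem sum_normSq_eq [K.Normal] (hM : Cfsg.IsPModular p M) (hz : ∃ k, orderOf z = p ^ k)
    (hC : ∀ a : G, a ∈ C ↔ z * a = a * z) (hK : ¬ p ∣ Nat.card K) (hKi : ∃ k, K.index = p ^ k) :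
    ∑ χ ∈ (Cfsg.principalBlock M G).toFinite.toFinset,
      (χ : G → ℂ) z * conj ((χ : G → ℂ) z) = (K.index : ℂ) := by
  have hp := hM.1
  have hz' := hz
  obtain ⟨k, hk⟩ := hz'
  have hP : IsPGroup p (Subgroup.zpowers z) :=
    IsPGroup.of_card (n := k) (by rw [Nat.card_zpowers, hk])
  have hH : ∀ a : G, a ∈ C ↔ ∀ u ∈ Subgroup.zpowers z, u * a = a * u := fun a => by
    rw [hC]
    exact ⟨fun h u ⟨i, hi⟩ => hi ▸ ((show Commute z a from h).zpow_left i).eq,
      fun h => h z (Subgroup.mem_zpowers z)⟩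
  have h := section_identity hM hz hC (isPBlock_principalBlock (G := G) M) (a := 1) (b := 1)
    (by simp [hp.ne_one]) (by simp [hp.ne_one])
  rw [inducing_principalBlock hM hP hH, finsum_mem_eq_finite_toFinset_sum _ (Set.toFinite _),
    finsum_mem_eq_finite_toFinset_sum _ (Set.toFinite _), principal_sum_eq hM hK hKi,
    if_pos (one_mem K)] at h
  simpa using h

/-- The column of `z` is orthogonal to the degrees. -/
theorem sum_degree_mul_eq_zero [K.Normal] (hM : Cfsg.IsPModular p M)
    (hz : ∃ k, orderOf z = p ^ k) (hz1 : z ≠ 1)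
    (hC : ∀ a : G, a ∈ C ↔ z * a = a * z) (hK : ¬ p ∣ Nat.card K) (hKi : ∃ k, K.index = p ^ k) :
    ∑ χ ∈ (Cfsg.principalBlock M G).toFinite.toFinset,
      (Cfsg.charDegree (χ : G → ℂ) : ℂ) * (χ : G → ℂ) z = 0 := by
  have hp := hM.1
  have hzK : ∀ c : C, c ∈ K → z * (c : G) ≠ 1 := by
    intro c hc e
    obtain ⟨k, hk⟩ := hz
    have h1 : orderOf c ∣ Nat.card K := by
      simpa using orderOf_dvd_natCard (⟨c, hc⟩ : K)
    rw [← Subgroup.orderOf_coe, eq_inv_of_mul_eq_one_right e, orderOf_inv, hk] at h1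
    rcases k.eq_zero_or_pos with rfl | hk0
    · exact hz1 (orderOf_eq_one_iff.1 (hk.trans (pow_zero p)))
    · exact hK ((dvd_pow_self p hk0.ne').trans h1)
  have hall : ∑ χ : Cfsg.IrrCharacter G, (Cfsg.charDegree (χ : G → ℂ) : ℂ) *
      ∑ c ∈ Finset.univ.filter (fun c : C => c ∈ K), (χ : G → ℂ) (z * (c : G)) = 0 := by
    simp only [Finset.mul_sum]
    rw [Finset.sum_comm]
    refine Finset.sum_eq_zero fun c hc => ?_
    have h := Char.second_orthogonality (z * (c : G)) (1 : G)
    rw [if_neg (fun e => hzK c (Finset.mem_filter.1 hc).2 (isConj_one_right.1 e.symm))] at h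
    rw [← h]
    refine Finset.sum_congr rfl fun χ _ => ?_
    rw [(CharArith.irr_degree_spec χ).1, map_natCast, mul_comm]
  simp only [sum_translate hM hz hC hK hKi, mul_ite, mul_zero, ← Finset.sum_filter] at hall
  rw [show Finset.univ.filter (fun χ => χ ∈ Cfsg.principalBlock M G) =
    (Cfsg.principalBlock M G).toFinite.toFinset by ext; simp] at hall
  simp only [mul_left_comm _ (Nat.card K : ℂ), ← Finset.mul_sum] at hall
  exact (mul_eq_zero.1 hall).resolve_left (Nat.cast_ne_zero.2 Nat.card_pos.ne')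

/-- The Frobenius–Schur identity on the column of `z`. -/
theorem sum_fsInd_mul [K.Normal] (hM : Cfsg.IsPModular p M) (hp2 : p ≠ 2)
    (hz : ∃ k, orderOf z = p ^ k) (hC : ∀ a : G, a ∈ C ↔ z * a = a * z)
    (hK : ¬ p ∣ Nat.card K) (hKi : ∃ k, K.index = p ^ k) :
    ∑ χ ∈ (Cfsg.principalBlock M G).toFinite.toFinset,
      Char.fsInd (χ : G → ℂ) * (χ : G → ℂ) z = 1 := by
  have hp := hM.1
  have hzC : z ∈ C := (hC z).2 rfl
  set zc : C := ⟨z, hzC⟩
  -- square roots of `z * c` lie in the centralizer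
  have hroot : ∀ (c : C), c ∈ K → ∀ y : G, y * y = z * (c : G) → y ∈ C := by
    intro c hc y hy
    have hcz : Commute z (c : G) := (hC c).1 c.2
    obtain ⟨k, hk⟩ := hz
    have hcop : (orderOf z).Coprime (orderOf (c : G)) := by
      rw [hk, Subgroup.orderOf_coe]
      refine Nat.Coprime.pow_left k ((hp.coprime_iff_not_dvd).2 fun h => hK (h.trans ?_))
      simpa using orderOf_dvd_natCard (⟨c, hc⟩ : K)
    obtain ⟨j, hj⟩ : ∃ j : ℕ, (z * (c : G)) ^ j = z := by
      obtain ⟨t, ht⟩ := exists_pow_eq_self_of_coprime (n := orderOf (c : G)) (x := z) hcop.symm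
      refine ⟨orderOf (c : G) * t, ?_⟩
      rw [pow_mul, hcz.mul_pow, pow_orderOf_eq_one, mul_one, ht]
    rw [hC, ← hj, ← hy]
    exact ((Commute.refl y).mul_left (Commute.refl y)).pow_left j |>.eq
  have hodd : Odd (Nat.card (C ⧸ K)) := by
    obtain ⟨n, hn⟩ := hKi
    rw [← Subgroup.index_eq_card, hn]
    exact (hp.odd_of_ne_two hp2).pow
  obtain ⟨u₀, hu₀, huniq⟩ : ∃ u₀ : C ⧸ K, u₀ ^ 2 = (zc : C ⧸ K) ∧
      ∀ u : C ⧸ K, u ^ 2 = (zc : C ⧸ K) → u = u₀ := by
    have hco : (Nat.card (C ⧸ K)).Coprime 2 := Nat.coprime_two_right.2 hodd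
    refine ⟨(powCoprime hco).symm zc, (powCoprime hco).apply_symm_apply _, fun u hu => ?_⟩
    rw [← hu]
    exact ((powCoprime hco).symm_apply_apply u).symm
  -- the square roots are the fibre of `u₀`
  have hcount : ∑ c ∈ Finset.univ.filter (fun c : C => c ∈ K),
      Nat.card {y : G // y * y = z * (c : G)} = Nat.card K := by
    have h1 : ∀ c ∈ Finset.univ.filter (fun c : C => c ∈ K),
        Nat.card {y : G // y * y = z * (c : G)} =
          (Finset.univ.filter (fun y : C => y * y = zc * c)).card := by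
      intro c hc
      rw [← Fintype.card_subtype, ← Nat.card_eq_fintype_card]
      exact Nat.card_congr
        { toFun := fun y => ⟨⟨y, hroot c (Finset.mem_filter.1 hc).2 y y.2⟩, Subtype.ext y.2⟩
          invFun := fun y => ⟨y.1, congrArg Subtype.val y.2⟩
          left_inv := fun _ => rfl
          right_inv := fun _ => rfl }
    rw [Finset.sum_congr rfl h1, ← Finset.card_biUnion (fun c _ c' _ hne => by
      rw [Function.onFun, Finset.disjoint_left]
      intro y hy hy'
      exact hne (mul_left_cancel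
        ((Finset.mem_filter.1 hy).2.symm.trans (Finset.mem_filter.1 hy').2)))]
    obtain ⟨y₀, rfl⟩ := QuotientGroup.mk_surjective u₀
    rw [show ((Finset.univ.filter (fun c : C => c ∈ K)).biUnion
        fun c => Finset.univ.filter (fun y : C => y * y = zc * c)) =
        (Finset.univ.filter (fun c : C => c ∈ K)).image (fun c => y₀ * c) from ?_,
      Finset.card_image_of_injective _ (mul_right_injective y₀), ← Fintype.card_subtype,
      ← Nat.card_eq_fintype_card]
    ext y
    simp only [Finset.mem_biUnion, Finset.mem_filter, Finset.mem_univ, true_and, Finset.mem_image]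
    constructor
    · rintro ⟨c, hc, hy⟩
      refine ⟨y₀⁻¹ * y, QuotientGroup.eq.1 (huniq y ?_).symm, mul_inv_cancel_left _ _⟩
      rw [pow_two, ← QuotientGroup.mk_mul, hy, QuotientGroup.mk_mul,
        (QuotientGroup.eq_one_iff c).2 hc, mul_one]
    · rintro ⟨c, hc, rfl⟩
      refine ⟨zc⁻¹ * (y₀ * c * (y₀ * c)), QuotientGroup.eq.1 ?_, (mul_inv_cancel_left _ _).symm⟩
      rw [← hu₀, pow_two]
      simp [(QuotientGroup.eq_one_iff c).2 hc]
  have hsum : ∑ χ : Cfsg.IrrCharacter G, Char.fsInd (χ : G → ℂ) *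
      ∑ c ∈ Finset.univ.filter (fun c : C => c ∈ K), (χ : G → ℂ) (z * (c : G)) =
      (Nat.card K : ℂ) := by
    rw [← hcount, Nat.cast_sum]
    simp only [Finset.mul_sum]
    rw [Finset.sum_comm]
    exact Finset.sum_congr rfl fun c _ => (Char.card_sqrt_eq_sum _).symm
  simp only [sum_translate hM hz hC hK hKi, mul_ite, mul_zero, ← Finset.sum_filter] at hsum
  rw [show Finset.univ.filter (fun χ => χ ∈ Cfsg.principalBlock M G) =
    (Cfsg.principalBlock M G).toFinite.toFinset by ext; simp] at hsum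
  simp only [mul_left_comm _ (Nat.card K : ℂ), ← Finset.mul_sum] at hsum
  exact mul_left_cancel₀ (Nat.cast_ne_zero.2 Nat.card_pos.ne' : (Nat.card K : ℂ) ≠ 0)
    (hsum.trans (mul_one _).symm)

end Cfsg.Agent.Blocks.FewChars
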