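import Cfsg.Agent.Blocks.BrauerChar
import Cfsg.Agent.BlockThms.DefectCor
import Cfsg.Agent.S0916
import Cfsg.Agent.S0919

/-!
# Brauer's first main theorem
-/

namespace Cfsg.Agent.Blocks

open scoped ComplexConjugate
open Cfsg.Agent Cfsg.Agent.DefectThms

universe u

variable {G : Type u} [Group G] [Fintype G] {p : ℕ} [Fact p.Prime] {M : Ideal Cfsg.AlgInt}

omit [Fintype G] [Fact p.Prime] in
theorem map_subgroupOf_normalizer (D : Subgroup G) :
    (D.subgroupOf (Subgroup.normalizer (D : Set G))).map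
      (Subgroup.normalizer (D : Set G)).subtype = D :=
  Subgroup.map_subgroupOf_eq_of_le Subgroup.le_normalizer

omit [Fintype G] [Fact p.Prime] in
theorem normal_subgroupOf_normalizer (D : Subgroup G) :
    (D.subgroupOf (Subgroup.normalizer (D : Set G))).Normal :=
  (Subgroup.normal_subgroupOf_iff_le_normalizer Subgroup.le_normalizer).2 le_rfl

omit [Fintype G] [Fact p.Prime] in
theorem map_conj_subgroupOf_normalizer (D : Subgroup G) (k : Subgroup.normalizer (D : Set G)) :
    (D.subgroupOf (Subgroup.normalizer (D : Set G))).map (MulAut.conj k).toMonoidHom =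
      D.subgroupOf (Subgroup.normalizer (D : Set G)) := by
  have hn := normal_subgroupOf_normalizer D
  ext v
  constructor
  · rintro ⟨w, hw, rfl⟩
    exact hn.conj_mem w hw k
  · intro hv
    refine ⟨k⁻¹ * v * k, ?_, by simp [mul_assoc]⟩
    have := hn.conj_mem v hv k⁻¹
    rwa [inv_inv] at this

/-- If `D` is a Sylow p-subgroup of the centraliser of `c` inside `N(D)`, it is one in `G`. -/
theorem isSylC_of_normalizer {D : Subgroup G} {c : Subgroup.normalizer (D : Set G)}
    (h : IsSylC p c (D.subgroupOf (Subgroup.normalizer (D : Set G)))) :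
    IsSylC p (c : G) D := by
  have hmap := map_subgroupOf_normalizer D
  have hDp : IsPGroup p D := hmap ▸ h.2.1.map (Subgroup.normalizer (D : Set G)).subtype
  have hDc : D ≤ Subgroup.centralizer ({(c : G)} : Set G) := fun d hd =>
    Subgroup.mem_centralizer_singleton_iff.2 (congrArg Subtype.val
      (Subgroup.mem_centralizer_singleton_iff.1
        (h.1 (show (⟨d, Subgroup.le_normalizer hd⟩ : (Subgroup.normalizer (D : Set G))) ∈ D.subgroupOf (Subgroup.normalizer (D : Set G)) from hd))))
  obtain ⟨S, hS, hDS⟩ := exists_le_isSylC hDp hDc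
  suffices S ≤ D from le_antisymm hDS this ▸ hS
  by_contra hne
  have hlt : D.subgroupOf S < ⊤ := lt_top_iff_ne_top.2 fun e => hne (Subgroup.subgroupOf_eq_top.1 e)
  have := hS.2.1.isNilpotent
  obtain ⟨u, hu, hu'⟩ := SetLike.exists_of_lt
    (Group.normalizerCondition_of_isNilpotent (D.subgroupOf S) hlt)
  have huN : (u : G) ∈ (Subgroup.normalizer (D : Set G)) := by
    rw [Subgroup.mem_normalizer_iff] at hu
    rw [Subgroup.mem_normalizer_iff]
    intro v
    constructor
    · exact fun hv => (hu ⟨v, hDS hv⟩).1 hv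
    · intro hv
      have hv' : v ∈ S := by
        have := mul_mem (mul_mem (inv_mem u.2) (hDS hv)) u.2
        simpa [mul_assoc] using this
      exact (hu ⟨v, hv'⟩).2 hv
  set R : Subgroup (Subgroup.normalizer (D : Set G)) := S.subgroupOf (Subgroup.normalizer (D : Set G))
  have hRle : R ≤ Subgroup.centralizer ({c} : Set (Subgroup.normalizer (D : Set G))) := fun w hw =>
    Subgroup.mem_centralizer_singleton_iff.2
      (Subtype.ext (Subgroup.mem_centralizer_singleton_iff.1 (hS.1 hw)))
  have hRp : IsPGroup p R := hS.2.1.comap_subtype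
  have hle : D.subgroupOf (Subgroup.normalizer (D : Set G)) ≤ R := fun w hw => hDS hw
  have hcard : Nat.card R ≤ Nat.card (D.subgroupOf (Subgroup.normalizer (D : Set G))) := by
    obtain ⟨i, hi⟩ := IsPGroup.iff_card.1 hRp
    have hd := Subgroup.card_dvd_of_le hRle
    rw [h.2.2, hi]
    exact Nat.pow_le_pow_right (Fact.out : p.Prime).pos
      (((Fact.out : p.Prime).pow_dvd_iff_le_factorization Nat.card_pos.ne').1 (hi ▸ hd))
  have hmem : (⟨u, huN⟩ : (Subgroup.normalizer (D : Set G))) ∈ R := u.2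
  rw [← Subgroup.eq_of_le_of_card_ge hle hcard] at hmem
  exact hu' hmem

/-- On classes with defect group `D` a block of `N(D)` has the central character of the block it
induces. -/
theorem memLocalIdeal_centralChar_normalizer_sub (hM : Cfsg.IsPModular p M) {D : Subgroup G}
    (hD : IsPGroup p D) [Fintype (Subgroup.normalizer (D : Set G))]
    {b : Set (Cfsg.IrrCharacter (Subgroup.normalizer (D : Set G)))}
    {B : Set (Cfsg.IrrCharacter G)}
    (hind : Cfsg.IsInducedBlock M (Subgroup.normalizer (D : Set G)) b B)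
    {ξ : Cfsg.IrrCharacter (Subgroup.normalizer (D : Set G))} (hξ : ξ ∈ b)
    {χ : Cfsg.IrrCharacter G} (hχ : χ ∈ B) {c : Subgroup.normalizer (D : Set G)}
    (hc : IsSylC p c (D.subgroupOf (Subgroup.normalizer (D : Set G)))) :
    Cfsg.MemLocalIdeal M
      (Cfsg.centralChar (ξ : Subgroup.normalizer (D : Set G) → ℂ) c -
        Cfsg.centralChar (χ : G → ℂ) (c : G)) := by
  classical
  have hG := isSylC_of_normalizer hc
  have hcC : (c : G) ∈ Subgroup.centralizer (D : Set G) :=
    Subgroup.mem_centralizer_iff.2 fun d hd =>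
      Subgroup.mem_centralizer_singleton_iff.1 (hG.1 hd)
  have htr : trunc D (Subgroup.normalizer (D : Set G)) (classInd (c : G)) = classInd c := by
    funext a
    rw [trunc_apply, classInd_apply, classInd_apply]
    by_cases hca : IsConj c a
    · obtain ⟨k, hk⟩ := isConj_iff.1 hca
      rw [if_pos hca, if_pos (isConj_iff.2 ⟨(k : G), by rw [← hk]; simp⟩), if_pos]
      rw [← hk, Subgroup.coe_mul, Subgroup.coe_mul, Subgroup.coe_inv,
        conj_mem_centralizer_iff (P := D) (H := (Subgroup.normalizer (D : Set G))) le_rfl k]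
      exact hcC
    · rw [if_neg hca]
      split_ifs with h1 h2
      · obtain ⟨n, hn, hne⟩ := ((S0916.result p D hD).1 (c : G)
          (by obtain ⟨Q, hQ⟩ := isSylC_iff.1 hG; exact ⟨Q, hQ.symm⟩)).2 (c : G) (a : G)
          (IsConj.refl _) h2 hcC h1
        exact absurd (isConj_iff.2 ⟨⟨n, hn⟩, Subtype.ext hne⟩) hca
      · rfl
      · rfl
  have h1 := memLocalIdeal_induced_sub_brauer hM hD Subgroup.le_normalizer le_rfl ξ
    (c : G)
  rw [brauerCentralChar_eq_omega, htr, omega_classInd (Char.isClassFunction_of_isIrr ξ.2)] at h1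
  have h2 := memLocalIdeal_sub hM (hind.2.2 ξ hξ χ hχ (c : G)) h1
  simpa using h2

/-- Two blocks of `N(D)` with defect group `D` inducing the same block are equal. -/
theorem normalizer_block_unique (hM : Cfsg.IsPModular p M) {D : Subgroup G} (hD : IsPGroup p D)
    [Fintype (Subgroup.normalizer (D : Set G))]
    {b b' : Set (Cfsg.IrrCharacter (Subgroup.normalizer (D : Set G)))}
    {B : Set (Cfsg.IrrCharacter G)}
    (hdef : Cfsg.IsDefectGroup p M b (D.subgroupOf (Subgroup.normalizer (D : Set G))))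
    (hdef' : Cfsg.IsDefectGroup p M b' (D.subgroupOf (Subgroup.normalizer (D : Set G))))
    (hind : Cfsg.IsInducedBlock M (Subgroup.normalizer (D : Set G)) b B)
    (hind' : Cfsg.IsInducedBlock M (Subgroup.normalizer (D : Set G)) b' B) : b = b' := by
  classical
  obtain ⟨ξ, hξ⟩ := IsPBlock.nonempty hM hind.1
  obtain ⟨ξ', hξ'⟩ := IsPBlock.nonempty hM hind'.1
  obtain ⟨χ, hχ⟩ := IsPBlock.nonempty hM hind.2.1
  obtain ⟨c, hc, hcD⟩ := isDefectGroup_iff.1 hdef
  obtain ⟨c', hc', hcD'⟩ := isDefectGroup_iff.1 hdef'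
  rw [IsPBlock.eq_blockOf hM hind.1 hξ, IsPBlock.eq_blockOf hM hind'.1 hξ']
  refine blockOf_eq_of_sameBlock hM fun h => ?_
  -- agreement on classes with defect group `D`
  have hag : ∀ z : (Subgroup.normalizer (D : Set G)), IsSylC p z (D.subgroupOf (Subgroup.normalizer (D : Set G))) → Cfsg.MemLocalIdeal M
      (Cfsg.centralChar (ξ : (Subgroup.normalizer (D : Set G)) → ℂ) z - Cfsg.centralChar (ξ' : (Subgroup.normalizer (D : Set G)) → ℂ) z) := fun z hz => by
    have h1 := memLocalIdeal_centralChar_normalizer_sub hM hD hind hξ hχ hz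
    have h2 := memLocalIdeal_centralChar_normalizer_sub hM hD hind' hξ' hχ hz
    simpa using memLocalIdeal_sub hM h1 h2
  have : Finite (ConjClasses (Subgroup.normalizer (D : Set G))) := Quotient.finite _
  have := Fintype.ofFinite (ConjClasses (Subgroup.normalizer (D : Set G)))
  have hcc := isClassFunction_classInd c
  have hhc := isClassFunction_classInd h
  have hconv : Cfsg.MemLocalIdeal M (omega (ξ : (Subgroup.normalizer (D : Set G)) → ℂ) (conv (classInd c) (classInd h)) -
      omega (ξ' : (Subgroup.normalizer (D : Set G)) → ℂ) (conv (classInd c) (classInd h))) := by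
    rw [omega_eq_sum_classes (Char.isClassFunction_of_isIrr ξ.2) (isClassFunction_conv hcc hhc),
      omega_eq_sum_classes (Char.isClassFunction_of_isIrr ξ'.2) (isClassFunction_conv hcc hhc),
      ← Finset.sum_sub_distrib]
    refine memLocalIdeal_sum hM _ fun K _ => ?_
    rw [← mul_sub]
    set z := K.out
    have hzR := Blocks.memLocalRing_conv hM (Blocks.memLocalRing_classInd hM c)
      (Blocks.memLocalRing_classInd hM h) z
    by_cases hz : Cfsg.MemLocalIdeal M (conv (classInd c) (classInd h) z)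
    · exact memLocalIdeal_mul_right hM hz ((localRing hM).sub_mem
        (memLocalRing_centralChar hM ξ.2 z) (memLocalRing_centralChar hM ξ'.2 z))
    refine memLocalIdeal_mul_left hM hzR ?_
    by_cases hu : Cfsg.MemLocalIdeal M (Cfsg.centralChar (ξ : (Subgroup.normalizer (D : Set G)) → ℂ) z) ∧
        Cfsg.MemLocalIdeal M (Cfsg.centralChar (ξ' : (Subgroup.normalizer (D : Set G)) → ℂ) z)
    · exact memLocalIdeal_sub hM hu.1 hu.2
    refine hag z ?_
    obtain ⟨k, S, hS, hkS⟩ : ∃ k S, IsSylC p z S ∧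
        (D.subgroupOf (Subgroup.normalizer (D : Set G))).map (MulAut.conj k).toMonoidHom ≤ S := by
      rcases not_and_or.1 hu with hu | hu
      · exact exists_le_isSylC_of_unit hM hind.1 hc hcD hξ hu
      · exact exists_le_isSylC_of_unit hM hind'.1 hc' hcD' hξ' hu
    rw [map_conj_subgroupOf_normalizer] at hkS
    obtain ⟨l, hl⟩ := exists_conj_le_of_conv hM hcD hhc (Blocks.memLocalRing_classInd hM h) hz
      hS.2.1 hS.1
    have h1 := Nat.le_of_dvd Nat.card_pos (Subgroup.card_dvd_of_le hl)
    rw [card_map_conj] at h1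
    exact Subgroup.eq_of_le_of_card_ge hkS h1 ▸ hS
  rw [omega_conv ξ.2 hcc hhc, omega_conv ξ'.2 hcc hhc,
    omega_classInd (Char.isClassFunction_of_isIrr ξ.2),
    omega_classInd (Char.isClassFunction_of_isIrr ξ.2),
    omega_classInd (Char.isClassFunction_of_isIrr ξ'.2),
    omega_classInd (Char.isClassFunction_of_isIrr ξ'.2)] at hconv
  have h2 := memLocalIdeal_mul_right hM (hag c hcD) (memLocalRing_centralChar hM ξ'.2 h)
  have h3 : Cfsg.MemLocalIdeal M (Cfsg.centralChar (ξ : (Subgroup.normalizer (D : Set G)) → ℂ) c *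
      (Cfsg.centralChar (ξ : (Subgroup.normalizer (D : Set G)) → ℂ) h - Cfsg.centralChar (ξ' : (Subgroup.normalizer (D : Set G)) → ℂ) h)) := by
    have := memLocalIdeal_sub hM hconv h2
    convert this using 1
    ring
  exact (memLocalIdeal_of_mul hM (memLocalRing_centralChar hM ξ.2 c)
    ((localRing hM).sub_mem (memLocalRing_centralChar hM ξ.2 h)
      (memLocalRing_centralChar hM ξ'.2 h)) h3).resolve_left (hc.2.2 ξ hξ)

/-- Brauer's first main theorem, upwards. -/
theorem firstMain_up (hM : Cfsg.IsPModular p M) {D : Subgroup G} (hD : IsPGroup p D)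
    {b : Set (Cfsg.IrrCharacter (Subgroup.normalizer (D : Set G)))} (hb : Cfsg.IsPBlock M b)
    (hdef : Cfsg.IsDefectGroup p M b (D.subgroupOf (Subgroup.normalizer (D : Set G)))) :
    ∃ B : Set (Cfsg.IrrCharacter G), Cfsg.IsPBlock M B ∧ Cfsg.IsDefectGroup p M B D ∧
      Cfsg.IsInducedBlock M (Subgroup.normalizer (D : Set G)) b B := by
  classical
  obtain ⟨B, hind⟩ := S0919.result p M hM D (Subgroup.normalizer (D : Set G)) hD
    Subgroup.le_normalizer (Subgroup.centralizer_le_normalizer _) le_rfl b hb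
  obtain ⟨ξ, hξ⟩ := IsPBlock.nonempty hM hb
  obtain ⟨χ, hχ⟩ := IsPBlock.nonempty hM hind.2.1
  obtain ⟨E, hE, hDE⟩ := exists_defectGroup_ge_of_induced hM _ hb hind.2.1 hind hdef
  rw [map_subgroupOf_normalizer] at hDE
  obtain ⟨c, hc, hcD⟩ := isDefectGroup_iff.1 hdef
  obtain ⟨g, hg, hgE⟩ := isDefectGroup_iff.1 hE
  have hu : ¬ Cfsg.MemLocalIdeal M (Cfsg.centralChar (χ : G → ℂ) (c : G)) := fun h =>
    hc.2.2 ξ hξ (by
      simpa using memLocalIdeal_add hM
        (memLocalIdeal_centralChar_normalizer_sub hM hD hind hξ hχ hcD) h)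
  obtain ⟨k, S, hS, hkS⟩ := exists_le_isSylC_of_unit hM hind.2.1 hg hgE hχ hu
  have hcard : Nat.card E ≤ Nat.card D := by
    have h1 := Nat.le_of_dvd Nat.card_pos (Subgroup.card_dvd_of_le hkS)
    rwa [card_map_conj, hS.2.2, ← (isSylC_of_normalizer hcD).2.2] at h1
  exact ⟨B, hind.2.1, Subgroup.eq_of_le_of_card_ge hDE hcard ▸ hE, hind⟩

/-- Brauer's first main theorem, downwards. -/
theorem firstMain_down (hM : Cfsg.IsPModular p M) {D : Subgroup G}
    {B : Set (Cfsg.IrrCharacter G)} (hB : Cfsg.IsPBlock M B)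
    (hdef : Cfsg.IsDefectGroup p M B D) :
    ∃ b : Set (Cfsg.IrrCharacter (Subgroup.normalizer (D : Set G))), Cfsg.IsPBlock M b ∧
      Cfsg.IsDefectGroup p M b (D.subgroupOf (Subgroup.normalizer (D : Set G))) ∧
      Cfsg.IsInducedBlock M (Subgroup.normalizer (D : Set G)) b B := by
  classical
  have hD := isPGroup_of_isDefectGroup hdef
  obtain ⟨b, hb⟩ := (exists_inducing_iff hM hD
    (sup_le Subgroup.le_normalizer (Subgroup.centralizer_le_normalizer _)) le_rfl hB).2
      ⟨D, hdef, 1, (map_conj_one D).le⟩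
  refine ⟨b, hb.1, ?_, hb⟩
  obtain ⟨E₀, hE₀⟩ := exists_defectGroup hM hb.1
  have := normal_subgroupOf_normalizer D
  have hle : D.subgroupOf (Subgroup.normalizer (D : Set G)) ≤ E₀ := le_defectGroup_of_normal hM hb.1 hE₀ (D.subgroupOf (Subgroup.normalizer (D : Set G)))
    hD.comap_subtype
  obtain ⟨E, hE, hle'⟩ := exists_defectGroup_ge_of_induced hM (Subgroup.normalizer (D : Set G)) hb.1 hB hb hE₀
  have hcard : Nat.card E₀ ≤ Nat.card (D.subgroupOf (Subgroup.normalizer (D : Set G))) := by
    have h1 := Nat.le_of_dvd Nat.card_pos (Subgroup.card_dvd_of_le hle')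
    rw [Subgroup.card_map_of_injective (Subgroup.subtype_injective _),
      BlockChar.card_defectGroup hM hB hE, ← BlockChar.card_defectGroup hM hB hdef] at h1
    rwa [Nat.card_congr (Subgroup.subgroupOfEquivOfLe (Subgroup.le_normalizer (H := D))).toEquiv]
  exact Subgroup.eq_of_le_of_card_ge hle hcard ▸ hE₀

end Cfsg.Agent.Blocks
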