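import Cfsg.Agent.Blocks.KnorrCover
import Cfsg.Agent.BlockThms.Normal
import Cfsg.Agent.BlockThms.NormalCor
import Cfsg.Agent.BlockThms.DefectCor
import Cfsg.Agent.BlockThms.Eta
import Cfsg.Agent.Blocks.SecondMain
import Cfsg.Agent.S0919
import Cfsg.Agent.Char.NormalAbelianSylow

/-!
# The correspondence of Harris and Knörr

Blocks covering a block `d` of the normal subgroup `N` with defect group `Q` correspond, by block
induction, to the blocks of the normalizer of `Q` covering the Brauer correspondent of `d`.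
-/

namespace Cfsg.Agent.Blocks.HarrisKnorr

open scoped ComplexConjugate
open Cfsg.Agent
open Cfsg.Agent.Blocks

universe u

variable {G : Type u} [Group G] [Fintype G] {p : ℕ} [Fact p.Prime] {M : Ideal Cfsg.AlgInt}

omit [Fintype G] [Fact p.Prime] in
theorem eq_of_mem' [Finite G] (hM : Cfsg.IsPModular p M) {b b' : Set (Cfsg.IrrCharacter G)}
    (hb : Cfsg.IsPBlock M b) (hb' : Cfsg.IsPBlock M b') {χ : Cfsg.IrrCharacter G}
    (h : χ ∈ b) (h' : χ ∈ b') : b = b' := by
  rw [IsPBlock.eq_blockOf hM hb h, IsPBlock.eq_blockOf hM hb' h']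

omit [Fact p.Prime] in
theorem conv_delta (f : G → ℂ) : conv f (delta G) = f := by
  classical
  funext z
  rw [conv, Finset.sum_eq_single z]
  · simp [delta]
  · intro a _ ha
    simp [delta, inv_mul_eq_one, ha]
  · simp

/-- A block of a normal subgroup and its conjugates: at an element where the sum of their
idempotents is a unit, the `p`-subgroups of the centralizer are bounded by the defect group. -/
theorem card_le_of_indicator_unit {N : Subgroup G} [hN : N.Normal] [Fintype N]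
    (hM : Cfsg.IsPModular p M) {θ₀ : Cfsg.IrrCharacter N} {b : Set (Cfsg.IrrCharacter N)}
    (hb : Cfsg.IsPBlock M b) (hθ₀ : θ₀ ∈ b) {D : Subgroup N}
    (hD : Cfsg.IsDefectGroup p M b D) {f : G → ℂ} (hf : Cfsg.IsClassFunction G f)
    [∀ ψ : Cfsg.IrrCharacter N,
      Decidable (∃ g : G, Cfsg.SameBlock M (Char.conjFun g (θ₀ : N → ℂ)) (ψ : N → ℂ))]
    (hfo : ∀ ψ : Cfsg.IrrCharacter N, omega (ψ : N → ℂ) (fun n : N => f n) =
      if ∃ g : G, Cfsg.SameBlock M (Char.conjFun g (θ₀ : N → ℂ)) (ψ : N → ℂ) then 1 else 0)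
    {a : N} (ha : ¬ Cfsg.MemLocalIdeal M (f (a : G))) {R : Subgroup N} (hR : IsPGroup p R)
    (hRa : R ≤ Subgroup.centralizer ({a} : Set N)) : Nat.card R ≤ Nat.card D := by
  classical
  let B : G → Set (Cfsg.IrrCharacter N) :=
    fun g => Cfsg.blockOf M (Char.conjFun g (θ₀ : N → ℂ))
  have hB : ∀ g, Cfsg.IsPBlock M (B g) := fun g => ⟨⟨_, Char.isIrr_conjFun g θ₀.2⟩, rfl⟩
  set S : Finset (Set (Cfsg.IrrCharacter N)) := Finset.univ.image B with hS
  have hsum : (fun n : N => f (n : G)) = ∑ c ∈ S, Cfsg.blockCoeff c := by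
    refine classFun_ext_omega (isClassFunction_res N hf) (fun x k => ?_) fun ψ => ?_
    · simp only [Finset.sum_apply]
      exact Finset.sum_congr rfl fun c _ => isClassFunction_blockCoeff c x k
    rw [hfo, omega_sum]
    simp only [omega_blockCoeff]
    split_ifs with h
    · obtain ⟨g, hg⟩ := h
      rw [Finset.sum_eq_single (B g)]
      · rw [if_pos (mem_blockOf.2 hg)]
      · intro c hc hne
        rw [if_neg]
        intro hψ
        obtain ⟨g', -, rfl⟩ := Finset.mem_image.1 hc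
        exact hne (eq_of_mem' hM (hB g') (hB g) hψ (mem_blockOf.2 hg))
      · exact fun hc => absurd (Finset.mem_image_of_mem B (Finset.mem_univ g)) hc
    · rw [Finset.sum_eq_zero]
      intro c hc
      obtain ⟨g', -, rfl⟩ := Finset.mem_image.1 hc
      rw [if_neg fun hψ => h ⟨g', mem_blockOf.1 hψ⟩]
  obtain ⟨c, hc, hca⟩ : ∃ c ∈ S, ¬ Cfsg.MemLocalIdeal M (Cfsg.blockCoeff c a) := by
    by_contra! h
    refine ha ?_
    rw [congrFun hsum a, Finset.sum_apply]
    exact memLocalIdeal_sum hM _ h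
  obtain ⟨g, -, rfl⟩ := Finset.mem_image.1 hc
  set φ : N ≃* N := (MulAut.conjNormal g : MulAut N).symm
  have he : B g = BrauerPairs.mapBlock φ b := by
    refine eq_of_mem' hM (hB g) (BrauerPairs.isPBlock_mapBlock φ hb)
      (χ := ⟨_, Char.isIrr_conjFun g θ₀.2⟩) (mem_blockOf.2 (sameBlock_refl hM _)) ?_
    show BrauerPairs.compIrr φ _ ∈ b
    convert hθ₀ using 1
    refine Subtype.ext (funext fun n => ?_)
    rw [BrauerPairs.compIrr_apply]
    show Char.conjFun g (θ₀ : N → ℂ) (φ n) = _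
    rw [Char.conjFun_eq_comp]
    exact congrArg _ ((MulAut.conjNormal g : MulAut N).apply_symm_apply n)
  have hD' := BrauerPairs.isDefectGroup_mapBlock φ hD hM.1
  rw [← he] at hD'
  obtain ⟨q, hq, hqD⟩ := DefectThms.isDefectGroup_iff.1 hD'
  obtain ⟨T, hT, hRT⟩ := DefectThms.exists_le_isSylC hR hRa
  obtain ⟨k, hk⟩ := DefectThms.exists_conj_le_of_unit_coeff hM (hB g) hq hqD hca hT
  calc Nat.card R ≤ Nat.card T := Nat.le_of_dvd Nat.card_pos (Subgroup.card_dvd_of_le hRT)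
    _ = Nat.card (T.map (MulAut.conj k).toMonoidHom) := (DefectThms.card_map_conj T k).symm
    _ ≤ Nat.card (D.map φ.toMonoidHom) := Nat.le_of_dvd Nat.card_pos (Subgroup.card_dvd_of_le hk)
    _ = Nat.card D := (Nat.card_congr (D.equivMapOfInjective _ φ.injective).toEquiv).symm

/-- Transfer along induction inside `N`. -/
theorem memLocalIdeal_omega_transfer {N L : Subgroup G} [Fintype N] [Fintype L] (hLN : L ≤ N)
    (hM : Cfsg.IsPModular p M) {e : Set (Cfsg.IrrCharacter L)} {d : Set (Cfsg.IrrCharacter N)}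
    (h : Cfsg.IsInducedBlockIn M N L e d) {ξ : Cfsg.IrrCharacter L} (hξ : ξ ∈ e)
    {θ : Cfsg.IrrCharacter N} (hθ : θ ∈ d) {F : G → ℂ} (hF : Cfsg.IsClassFunction G F)
    (hFR : ∀ g, Cfsg.MemLocalRing M (F g)) :
    Cfsg.MemLocalIdeal M
      (omega (ξ : L → ℂ) (fun l : L => F l) - omega (θ : N → ℂ) (fun n : N => F n)) := by
  classical
  have : Finite (ConjClasses N) := Quotient.finite _
  have := Fintype.ofFinite (ConjClasses N)
  have hFN := isClassFunction_res N hF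
  have hexp : omega (ξ : L → ℂ) (fun l : L => F l) =
      ∑ C : ConjClasses N, F (C.out : G) *
        Cfsg.inducedCentralCharIn N L (ξ : L → ℂ) (C.out : G) := by
    rw [omega, Finset.sum_div, ← Finset.sum_fiberwise_of_maps_to
      (g := fun l : L => ConjClasses.mk (⟨l, hLN l.2⟩ : N)) (t := Finset.univ)
      (fun l _ => Finset.mem_univ _)]
    refine Finset.sum_congr rfl fun C _ => ?_
    rw [Cfsg.inducedCentralCharIn, finsum_mem_eq_finite_toFinset_sum _ (Set.toFinite _),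
      Finset.mul_sum]
    have hmem : ∀ l : L, ConjClasses.mk (⟨l, hLN l.2⟩ : N) = C ↔
        ∃ x : N, (x : G) * (l : G) * (x : G)⁻¹ = (C.out : G) := by
      intro l
      conv_lhs => rw [← Quotient.out_eq C]
      rw [show (⟦C.out⟧ : ConjClasses N) = ConjClasses.mk C.out from rfl,
        ConjClasses.mk_eq_mk_iff_isConj, isConj_iff]
      exact exists_congr fun x => Subtype.ext_iff
    refine Finset.sum_congr ?_ fun l hl => ?_
    · ext l; simp [hmem l]
    · obtain ⟨x, hx⟩ := (Set.Finite.mem_toFinset _).1 hl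
      rw [← hx, hF (l : G) (x : G), mul_div_assoc]
  rw [hexp, omega_eq_sum_classes (Char.isClassFunction_of_isIrr θ.2) hFN, ← Finset.sum_sub_distrib]
  refine memLocalIdeal_sum hM _ fun C _ => ?_
  rw [← mul_sub]
  exact memLocalIdeal_mul_left hM (hFR _) (h.2.2 ξ hξ θ hθ C.out)

variable {N : Subgroup G} [hN : N.Normal] {Q H : Subgroup G}

variable (p N Q) in
/-- No `p`-subgroup of `N` centralizing `y` is larger than `Q`. -/
def Good (y : G) : Prop :=
  ∀ R : Subgroup G, IsPGroup p R → R ≤ N → R ≤ Subgroup.centralizer ({y} : Set G) →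
    Nat.card R ≤ Nat.card Q

omit [Fintype G] [Fact p.Prime] in
theorem Good.conj {y y' : G} (h : Good p N Q y) (hyy' : IsConj y y') : Good p N Q y' := by
  obtain ⟨c, rfl⟩ := isConj_iff.1 hyy'
  intro R hR hRN hRC
  have hle := DefectThms.map_conj_le_centralizer hRC c⁻¹
  rw [show c⁻¹ * (c * y * c⁻¹) * c⁻¹⁻¹ = y by group] at hle
  rw [← DefectThms.card_map_conj R c⁻¹]
  refine h _ (hR.map _) ?_ hle
  rintro _ ⟨r, hr, rfl⟩
  exact hN.conj_mem r (hRN hr) c⁻¹

/-- Elements centralizing `Q` that are conjugate in `G` and good are conjugate in `H`. -/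
theorem eq_of_good (hHQ : H = Subgroup.normalizer (Q : Set G)) (hQ : IsPGroup p Q) (hQN : Q ≤ N)
    {K : H → ℂ} (hK : Cfsg.IsClassFunction H K) {y y' : H}
    (hy : (y : G) ∈ Subgroup.centralizer (Q : Set G))
    (hy' : (y' : G) ∈ Subgroup.centralizer (Q : Set G)) (hgood : Good p N Q (y : G))
    (hconj : IsConj (y : G) (y' : G)) : K y = K y' := by
  classical
  obtain ⟨c, hc⟩ := isConj_iff.1 hconj
  set T : Subgroup G := N ⊓ Subgroup.centralizer ({(y : G)} : Set G) with hTdef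
  set Q' := Q.map (MulAut.conj c⁻¹).toMonoidHom with hQ'
  have hQT : Q ≤ T := le_inf hQN fun q hq => Subgroup.mem_centralizer_singleton_iff.2
    (Subgroup.mem_centralizer_iff.1 hy q hq)
  have hQ'T : Q' ≤ T := by
    have hle := DefectThms.map_conj_le_centralizer (g := (y' : G)) (S := Q) (fun q hq =>
      Subgroup.mem_centralizer_singleton_iff.2 (Subgroup.mem_centralizer_iff.1 hy' q hq)) c⁻¹
    rw [← hc, show c⁻¹ * (c * (y : G) * c⁻¹) * c⁻¹⁻¹ = (y : G) by group] at hle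
    refine le_inf ?_ hle
    rintro _ ⟨q, hq, rfl⟩
    exact hN.conj_mem q (hQN hq) c⁻¹
  have hsyl : ∀ P : Subgroup G, IsPGroup p P → Nat.card P = Nat.card Q → P ≤ T →
      ∃ S : Sylow p T, (S : Subgroup T).map T.subtype = P := by
    intro P hP hcard hPT
    obtain ⟨S, hS⟩ := (hP.comap_subtype (K := T)).exists_le_sylow
    refine ⟨S, (Subgroup.eq_of_le_of_card_ge ?_ ?_).symm⟩
    · intro z hz
      exact ⟨⟨z, hPT hz⟩, hS hz, rfl⟩
    · rw [hcard]
      exact hgood _ (S.2.map _) ((Subgroup.map_subtype_le _).trans inf_le_left)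
        ((Subgroup.map_subtype_le _).trans inf_le_right)
  obtain ⟨S, hS⟩ := hsyl Q hQ rfl hQT
  obtain ⟨S', hS'⟩ := hsyl Q' (hQ.map _) (DefectThms.card_map_conj Q c⁻¹) hQ'T
  obtain ⟨t, rfl⟩ := MulAction.exists_smul_eq T S S'
  have hnorm : c * (t : G) ∈ Subgroup.normalizer (Q : Set G) := by
    have key : Q.map (MulAut.conj (t : G)).toMonoidHom = Q' := by
      rw [← hS', ← hS, Sylow.coe_subgroup_smul, Subgroup.map_map]
      ext z
      simp only [Subgroup.mem_map, Subgroup.mem_pointwise_smul_iff_inv_smul_mem]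
      constructor
      · rintro ⟨s, hs, rfl⟩
        refine ⟨t * s * t⁻¹, ?_, rfl⟩
        simpa [MulAut.smul_def, mul_assoc] using hs
      · rintro ⟨s, hs, rfl⟩
        refine ⟨t⁻¹ * s * t, ?_, ?_⟩
        · simpa [MulAut.smul_def, mul_assoc] using hs
        · simp [mul_assoc]
    rw [Subgroup.mem_normalizer_iff_map_conj_eq]
    have := congrArg (Subgroup.map (MulAut.conj c).toMonoidHom) key
    rw [hQ', Subgroup.map_map, Subgroup.map_map] at this
    calc Q.map (MulAut.conj (c * (t : G))).toMonoidHom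
        = Q.map ((MulAut.conj c).toMonoidHom.comp (MulAut.conj (t : G)).toMonoidHom) := by
          congr 1; ext z; simp [mul_assoc]
      _ = _ := this
      _ = Q := by
          rw [show (MulAut.conj c).toMonoidHom.comp (MulAut.conj c⁻¹).toMonoidHom =
            MonoidHom.id G from MonoidHom.ext fun z => by simp [mul_assoc], Subgroup.map_id]
  have hh : c * (t : G) ∈ H := hHQ ▸ hnorm
  have ht : (t : G) * (y : G) * (t : G)⁻¹ = (y : G) := by
    rw [mul_inv_eq_iff_eq_mul]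
    exact Subgroup.mem_centralizer_singleton_iff.1 t.2.2
  rw [← hK y ⟨_, hh⟩]
  congr 1
  refine Subtype.ext ?_
  push_cast
  rw [← hc, show c * (t : G) * (y : G) * (c * (t : G))⁻¹ =
    c * ((t : G) * (y : G) * (t : G)⁻¹) * c⁻¹ by group, ht]

/-- A class function of `H`, small at bad elements, is congruent as a central element to a class
function of `G`. -/
theorem exists_lift [Fintype H] (hHQ : H = Subgroup.normalizer (Q : Set G))
    (hM : Cfsg.IsPModular p M) (hQ : IsPGroup p Q) (hQN : Q ≤ N) {K : H → ℂ}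
    (hK : Cfsg.IsClassFunction H K) (hKR : ∀ a, Cfsg.MemLocalRing M (K a))
    (hbad : ∀ y : H, (y : G) ∈ Subgroup.centralizer (Q : Set G) → ¬ Good p N Q (y : G) →
      Cfsg.MemLocalIdeal M (K y)) :
    ∃ F : G → ℂ, Cfsg.IsClassFunction G F ∧ (∀ g, Cfsg.MemLocalRing M (F g)) ∧
      ((∀ a : H, (a : G) ∉ N → K a = 0) → ∀ g, g ∉ N → F g = 0) ∧
      ∀ ψ : Cfsg.IrrCharacter H, Cfsg.MemLocalIdeal M
        (omega (ψ : H → ℂ) (fun a : H => F a) - omega (ψ : H → ℂ) K) := by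
  classical
  let rel : G → H → Prop := fun z y =>
    (y : G) ∈ Subgroup.centralizer (Q : Set G) ∧ Good p N Q (y : G) ∧ IsConj z (y : G)
  let F : G → ℂ := fun z => if h : ∃ y, rel z y then K h.choose else 0
  have hF : ∀ z y, rel z y → F z = K y := by
    intro z y hy
    have h : ∃ y, rel z y := ⟨y, hy⟩
    simp only [F, dif_pos h]
    exact eq_of_good hHQ hQ hQN hK h.choose_spec.1 hy.1 h.choose_spec.2.1
      (h.choose_spec.2.2.symm.trans hy.2.2)
  have hFc : Cfsg.IsClassFunction G F := by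
    intro z k
    have hzk : IsConj z (k * z * k⁻¹) := isConj_iff.2 ⟨k, rfl⟩
    by_cases h : ∃ y, rel z y
    · obtain ⟨y, hy⟩ := h
      rw [hF z y hy, hF _ y ⟨hy.1, hy.2.1, hzk.symm.trans hy.2.2⟩]
    · have h' : ¬ ∃ y, rel (k * z * k⁻¹) y := fun ⟨y, hy⟩ =>
        h ⟨y, hy.1, hy.2.1, hzk.trans hy.2.2⟩
      simp only [F, dif_neg h, dif_neg h']
  have hFR : ∀ z, Cfsg.MemLocalRing M (F z) := fun z => by
    simp only [F]
    split
    · exact hKR _
    · exact (localRing hM).zero_mem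
  refine ⟨F, hFc, hFR, fun h0 z hz => ?_, fun ψ => ?_⟩
  · simp only [F]
    split
    · rename_i h
      refine h0 _ fun hy => hz ?_
      obtain ⟨c, hc⟩ := isConj_iff.1 h.choose_spec.2.2.symm
      exact hc ▸ hN.conj_mem _ hy c
    · rfl
  · have : Finite (ConjClasses H) := Quotient.finite _
    have := Fintype.ofFinite (ConjClasses H)
    have hQH : Q ≤ H := hHQ ▸ Subgroup.le_normalizer
    haveI : (Q.subgroupOf H).Normal := by
      subst hHQ; exact Subgroup.normal_in_normalizer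
    rw [omega_eq_sum_classes (Char.isClassFunction_of_isIrr ψ.2) (isClassFunction_res H hFc),
      omega_eq_sum_classes (Char.isClassFunction_of_isIrr ψ.2) hK, ← Finset.sum_sub_distrib]
    refine memLocalIdeal_sum hM _ fun C _ => ?_
    rw [← sub_mul]
    set x := C.out
    by_cases hx : (x : G) ∈ Subgroup.centralizer (Q : Set G)
    · refine memLocalIdeal_mul_right hM ?_ (memLocalRing_centralChar hM ψ.2 x)
      by_cases hg : Good p N Q (x : G)
      · rw [hF _ x ⟨hx, hg, IsConj.refl _⟩, sub_self]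
        exact memLocalIdeal_zero hM
      · rw [show F (x : G) = 0 from dif_neg fun ⟨y, hy⟩ => hg (hy.2.1.conj hy.2.2.symm), zero_sub]
        exact memLocalIdeal_neg (hbad x hx hg)
    · refine memLocalIdeal_mul_left hM ((localRing hM).sub_mem (hFR _) (hKR _)) ?_
      refine BlockThms.memLocalIdeal_centralChar_of_notMem (N := Q.subgroupOf H) hM
        hQ.comap_subtype ψ fun h => hx ?_
      rw [Subgroup.mem_centralizer_iff] at h ⊢
      exact fun q hq => congrArg Subtype.val (h ⟨q, hQH hq⟩ hq)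

/-- A product with a class function that is small where the centralizer in `N` has a `p`-subgroup
larger than `Q` is small at bad elements. -/
theorem conv_bad_mem [Fintype H] (hHQ : H = Subgroup.normalizer (Q : Set G))
    (hM : Cfsg.IsPModular p M) (hQ : IsPGroup p Q) (hQN : Q ≤ N) {f κ : H → ℂ}
    (hf : Cfsg.IsClassFunction H f) (hfR : ∀ a, Cfsg.MemLocalRing M (f a))
    (hκ : Cfsg.IsClassFunction H κ) (hκR : ∀ a, Cfsg.MemLocalRing M (κ a))
    (hcoef : ∀ (a : H) (R : Subgroup G), IsPGroup p R → R ≤ N → R ≤ H →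
      R ≤ Subgroup.centralizer ({(a : G)} : Set G) → Nat.card Q < Nat.card R →
      Cfsg.MemLocalIdeal M (f a)) {y : H}
    (hy : (y : G) ∈ Subgroup.centralizer (Q : Set G)) (hbad : ¬ Good p N Q (y : G)) :
    Cfsg.MemLocalIdeal M (conv f κ y) := by
  classical
  set T : Subgroup G := N ⊓ Subgroup.centralizer ({(y : G)} : Set G) with hTdef
  have hQT : Q ≤ T := le_inf hQN fun q hq => Subgroup.mem_centralizer_singleton_iff.2
    (Subgroup.mem_centralizer_iff.1 hy q hq)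
  obtain ⟨R₀, hR₀, hR₀N, hR₀C, hlt⟩ : ∃ R : Subgroup G, IsPGroup p R ∧ R ≤ N ∧
      R ≤ Subgroup.centralizer ({(y : G)} : Set G) ∧ Nat.card Q < Nat.card R := by
    simpa [Good] using hbad
  obtain ⟨S₀, hS₀⟩ := (hR₀.comap_subtype (K := T)).exists_le_sylow
  obtain ⟨S₁, hS₁⟩ := (hQ.comap_subtype (K := T)).exists_le_sylow
  set S := (S₁ : Subgroup T).map T.subtype with hSdef
  have hQS : Q ≤ S := fun q hq => ⟨⟨q, hQT hq⟩, hS₁ hq, rfl⟩
  have hSlt : Nat.card Q < Nat.card S := by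
    refine lt_of_lt_of_le hlt ?_
    rw [hSdef, Nat.card_congr ((S₁ : Subgroup T).equivMapOfInjective _
      T.subtype_injective).toEquiv.symm, S₁.card_eq_multiplicity, ← S₀.card_eq_multiplicity,
      Nat.card_congr ((S₀ : Subgroup T).equivMapOfInjective _ T.subtype_injective).toEquiv]
    exact Nat.le_of_dvd Nat.card_pos (Subgroup.card_dvd_of_le fun r hr =>
      ⟨⟨r, hR₀N hr, hR₀C hr⟩, hS₀ hr, rfl⟩)
  have hSp : IsPGroup p S := S₁.2.map _
  have hST : S ≤ T := Subgroup.map_subtype_le _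
  set R := S ⊓ H with hRdef
  have hQR : Q ≤ R := le_inf hQS (hHQ ▸ Subgroup.le_normalizer)
  have hRlt : Nat.card Q < Nat.card R := by
    by_contra hle
    have heq : Q = R := Subgroup.eq_of_le_of_card_ge hQR (not_lt.1 hle)
    have hnil : Group.IsNilpotent S := hSp.isNilpotent
    have hproper : Q.subgroupOf S < ⊤ := by
      refine lt_top_iff_ne_top.2 fun h => hSlt.ne ?_
      rw [Subgroup.subgroupOf_eq_top] at h
      rw [le_antisymm hQS h]
    obtain ⟨-, s, hs, hsQ⟩ := SetLike.lt_iff_le_and_exists.1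
      (normalizerCondition_of_isNilpotent (Q.subgroupOf S) hproper)
    refine hsQ ?_
    rw [Subgroup.mem_subgroupOf, heq, hRdef]
    refine ⟨s.2, ?_⟩
    rw [hHQ]
    refine Subgroup.mem_normalizer_iff.2 ?_
    rw [Subgroup.mem_normalizer_iff] at hs
    intro z
    constructor
    · intro hz
      exact (hs ⟨z, hQS hz⟩).1 hz
    · intro hz
      have hzS : z ∈ S := by
        simpa [mul_assoc] using S.mul_mem (S.mul_mem (S.inv_mem s.2) (hQS hz)) s.2
      exact (hs ⟨z, hzS⟩).2 hz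
  have hRH : R ≤ H := inf_le_right
  have hRT : R ≤ T := inf_le_left.trans hST
  set P : Subgroup H := R.subgroupOf H
  have hP : IsPGroup p P := (hSp.to_le inf_le_left).comap_subtype
  letI : MulAction P H := MulAction.compHom H ((MulAut.conj : H →* MulAut H).comp P.subtype)
  have hsmul : ∀ (u : P) (a : H), u • a = (u : H) * a * (u : H)⁻¹ := fun _ _ => rfl
  have huy : ∀ u : P, (u : H)⁻¹ * y * (u : H) = y := fun u => Subtype.ext (by
    push_cast
    rw [mul_assoc, ← Subgroup.mem_centralizer_singleton_iff.1 (hRT (Subgroup.mem_subgroupOf.1 u.2)).2,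
      inv_mul_cancel_left])
  have key := memLocalIdeal_sum_sub_fixed hM hP (fun a : H => f a * κ (a⁻¹ * y))
    (fun a => (localRing hM).mul_mem (hfR a) (hκR _)) fun u a => by
      simp only [hsmul]
      rw [hf a (u : H), show ((u : H) * a * (u : H)⁻¹)⁻¹ * y =
        (u : H) * (a⁻¹ * ((u : H)⁻¹ * y * (u : H))) * (u : H)⁻¹ by group, huy, hκ]
  have hfix : Cfsg.MemLocalIdeal M
      (∑ a ∈ Finset.univ.filter (· ∈ MulAction.fixedPoints P H), f a * κ (a⁻¹ * y)) := by
    refine memLocalIdeal_sum hM _ fun a ha => memLocalIdeal_mul_right hM ?_ (hκR _)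
    refine hcoef a R (hSp.to_le inf_le_left) (hRT.trans inf_le_left) hRH (fun r hr => ?_) hRlt
    rw [Subgroup.mem_centralizer_singleton_iff]
    have h := congrArg Subtype.val ((Finset.mem_filter.1 ha).2
      (⟨⟨r, hRH hr⟩, Subgroup.mem_subgroupOf.2 hr⟩ : P))
    rw [hsmul] at h
    push_cast at h
    exact mul_inv_eq_iff_eq_mul.1 h
  simpa [conv] using memLocalIdeal_add hM key hfix

/-- The identification of `H ⊓ N` with the normal subgroup of `H` it determines. -/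
def interEquiv (N H : Subgroup G) : ↥(H ⊓ N) ≃* N.subgroupOf H where
  toFun l := ⟨⟨l, l.2.1⟩, l.2.2⟩
  invFun x := ⟨((x : H) : G), (x : H).2, x.2⟩
  left_inv _ := rfl
  right_inv _ := rfl
  map_mul' _ _ := rfl

theorem classInner_interEquiv [Fintype H] [Fintype ↥(H ⊓ N)] [Fintype (N.subgroupOf H)]
    (ψ : H → ℂ) (η : N.subgroupOf H → ℂ) :
    Cfsg.classInner (fun l : ↥(H ⊓ N) => ψ (Subgroup.inclusion inf_le_left l))
        (fun l => η (interEquiv N H l)) =
      Cfsg.classInner (fun x : N.subgroupOf H => ψ x) η := by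
  rw [Cfsg.classInner, Cfsg.classInner, Nat.card_congr (interEquiv N H).toEquiv]
  exact congrArg _ (Fintype.sum_equiv (interEquiv N H).toEquiv _ _ fun l => rfl)

theorem omega_interEquiv [Fintype ↥(H ⊓ N)] [Fintype (N.subgroupOf H)]
    (ξ : Cfsg.IrrCharacter ↥(H ⊓ N)) (F : G → ℂ) :
    omega (BrauerPairs.compIrr (interEquiv N H).symm ξ : N.subgroupOf H → ℂ)
        (fun x : N.subgroupOf H => F ((x : H) : G)) =
      omega (ξ : ↥(H ⊓ N) → ℂ) (fun l : ↥(H ⊓ N) => F l) := by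
  rw [omega, omega]
  refine congrArg₂ _ (Fintype.sum_equiv (interEquiv N H).symm.toEquiv _ _ fun x => rfl) ?_
  rw [BrauerPairs.compIrr_apply, map_one]

theorem main [Fintype N] [Fintype H] [Fintype ↥(H ⊓ N)]
    (hHQ : H = Subgroup.normalizer (Q : Set G)) (hM : Cfsg.IsPModular p M) (hQ : IsPGroup p Q)
    (hQN : Q ≤ N) {d : Set (Cfsg.IrrCharacter N)} (hd : Cfsg.IsPBlock M d)
    (hdQ : Cfsg.IsDefectGroup p M d (Q.subgroupOf N)) {e : Set (Cfsg.IrrCharacter ↥(H ⊓ N))}
    (he : Cfsg.IsPBlock M e) (heQ : Cfsg.IsDefectGroup p M e (Q.subgroupOf (H ⊓ N)))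
    (hed : Cfsg.IsInducedBlockIn M N (H ⊓ N) e d) :
    (∀ c : Set (Cfsg.IrrCharacter H), Cfsg.IsPBlock M c →
      (∃ ψ ∈ c, ∃ ξ ∈ e, Cfsg.classInner
        (fun l : ↥(H ⊓ N) => (ψ : H → ℂ) (Subgroup.inclusion inf_le_left l))
        (ξ : ↥(H ⊓ N) → ℂ) ≠ 0) →
      ∃! B : Set (Cfsg.IrrCharacter G), Cfsg.IsInducedBlock M H c B ∧
        (∃ χ ∈ B, ∃ θ ∈ d, Cfsg.classInner (fun n : N => (χ : G → ℂ) n) (θ : N → ℂ) ≠ 0)) ∧
    (∀ B : Set (Cfsg.IrrCharacter G), Cfsg.IsPBlock M B →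
      (∃ χ ∈ B, ∃ θ ∈ d, Cfsg.classInner (fun n : N => (χ : G → ℂ) n) (θ : N → ℂ) ≠ 0) →
      ∃! c : Set (Cfsg.IrrCharacter H), (Cfsg.IsPBlock M c ∧
        ∃ ψ ∈ c, ∃ ξ ∈ e, Cfsg.classInner
          (fun l : ↥(H ⊓ N) => (ψ : H → ℂ) (Subgroup.inclusion inf_le_left l))
          (ξ : ↥(H ⊓ N) → ℂ) ≠ 0) ∧ Cfsg.IsInducedBlock M H c B) := by
  classical
  have := Fintype.ofFinite (N.subgroupOf H)
  haveI hN' : (N.subgroupOf H).Normal := hN.subgroupOf H
  have hQH : Q ≤ H := hHQ ▸ Subgroup.le_normalizer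
  have hCH : Subgroup.centralizer (Q : Set G) ≤ H := by
    rw [hHQ]; exact Subgroup.centralizer_le_normalizer _
  set φ := interEquiv N H
  set e' := BrauerPairs.mapBlock φ e with he'
  have he'B : Cfsg.IsPBlock M e' := BrauerPairs.isPBlock_mapBlock φ he
  have he'D := BrauerPairs.isDefectGroup_mapBlock φ heQ hM.1
  rw [← he'] at he'D
  -- covering of `e` seen inside `H`
  have hmem : ∀ ξ : Cfsg.IrrCharacter ↥(H ⊓ N), ξ ∈ e → BrauerPairs.compIrr φ.symm ξ ∈ e' :=
    fun ξ hξ => by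
      show BrauerPairs.compIrr φ (BrauerPairs.compIrr φ.symm ξ) ∈ e
      rwa [show BrauerPairs.compIrr φ (BrauerPairs.compIrr φ.symm ξ) = ξ from
        (BrauerPairs.compIrrEquiv φ.symm).symm_apply_apply ξ]
  have hto : ∀ (ψ : Cfsg.IrrCharacter H) (ξ : Cfsg.IrrCharacter ↥(H ⊓ N)), Cfsg.classInner
      (fun l : ↥(H ⊓ N) => (ψ : H → ℂ) (Subgroup.inclusion inf_le_left l))
      (ξ : ↥(H ⊓ N) → ℂ) ≠ 0 →
      Cfsg.classInner (fun x : N.subgroupOf H => (ψ : H → ℂ) x)
        (BrauerPairs.compIrr φ.symm ξ : N.subgroupOf H → ℂ) ≠ 0 := by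
    intro ψ ξ h
    rw [← classInner_interEquiv]
    convert h using 2
    funext l
    rw [BrauerPairs.compIrr_apply, φ.symm_apply_apply]
  have hfrom : ∀ c : Set (Cfsg.IrrCharacter H),
      (∃ ψ ∈ c, ∃ η ∈ e', Cfsg.classInner (fun x : N.subgroupOf H => (ψ : H → ℂ) x)
        ((η : Cfsg.IrrCharacter (N.subgroupOf H)) : N.subgroupOf H → ℂ) ≠ 0) →
      ∃ ψ ∈ c, ∃ ξ ∈ e, Cfsg.classInner
        (fun l : ↥(H ⊓ N) => (ψ : H → ℂ) (Subgroup.inclusion inf_le_left l))
        (ξ : ↥(H ⊓ N) → ℂ) ≠ 0 := by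
    rintro c ⟨ψ, hψ, η, hη, h⟩
    refine ⟨ψ, hψ, BrauerPairs.compIrr φ η, hη, ?_⟩
    rw [← classInner_interEquiv] at h
    exact h
  obtain ⟨ξ₀, hξ₀⟩ := IsPBlock.nonempty hM he
  set θ' := BrauerPairs.compIrr φ.symm ξ₀ with hθ'
  obtain ⟨f, hf, hf0, hfR, hfo⟩ := BlockThms.exists_orbit_indicator (G := H)
    (N := N.subgroupOf H) hM θ'
  have hθ'e : θ' ∈ e' := hmem ξ₀ hξ₀
  have hself : ∃ h : H, Cfsg.SameBlock M (Char.conjFun h (θ' : N.subgroupOf H → ℂ))
      (θ' : N.subgroupOf H → ℂ) := ⟨1, by rw [Char.conjFun_one]; exact sameBlock_refl hM _⟩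
  have hcoef : ∀ (a : H) (R : Subgroup G), IsPGroup p R → R ≤ N → R ≤ H →
      R ≤ Subgroup.centralizer ({(a : G)} : Set G) → Nat.card Q < Nat.card R →
      Cfsg.MemLocalIdeal M (f a) := by
    intro a R hR hRN hRH hRa hlt
    by_contra ha
    have haN : a ∈ N.subgroupOf H := by
      by_contra h
      exact ha (by rw [hf0 a h]; exact memLocalIdeal_zero hM)
    let ι : R →* N.subgroupOf H := MonoidHom.mk' (fun r => ⟨⟨r, hRH r.2⟩, hRN r.2⟩) fun _ _ => rfl
    have hinj : Function.Injective ι := fun r s h =>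
      Subtype.ext (congrArg (fun x : N.subgroupOf H => ((x : H) : G)) h)
    have hle := card_le_of_indicator_unit hM he'B hθ'e he'D hf hfo (a := ⟨a, haN⟩) ha
      (R := ι.range) (hR.of_surjective ι.rangeRestrict ι.rangeRestrict_surjective) (by
        rintro _ ⟨r, rfl⟩
        refine Subgroup.mem_centralizer_singleton_iff.2 (Subtype.ext (Subtype.ext ?_))
        exact Subgroup.mem_centralizer_singleton_iff.1 (hRa r.2))
    rw [← Nat.card_congr (MonoidHom.ofInjective hinj).toEquiv,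
      ← Nat.card_congr ((Q.subgroupOf (H ⊓ N)).equivMapOfInjective φ.toMonoidHom φ.injective).toEquiv,
      Nat.card_congr (Subgroup.subgroupOfEquivOfLe (le_inf hQH hQN)).toEquiv] at hle
    omega
  -- the indicator on a block covering `e`
  have hf1 : ∀ c : Set (Cfsg.IrrCharacter H), Cfsg.IsPBlock M c →
      (∃ ψ ∈ c, ∃ ξ ∈ e, Cfsg.classInner
        (fun l : ↥(H ⊓ N) => (ψ : H → ℂ) (Subgroup.inclusion inf_le_left l))
        (ξ : ↥(H ⊓ N) → ℂ) ≠ 0) →
      ∀ ψ ∈ c, Cfsg.MemLocalIdeal M (omega (ψ : H → ℂ) f - 1) := by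
    rintro c hc ⟨ψ₁, hψ₁, ξ, hξ, hcon⟩ ψ hψ
    have h1 : omega (ψ₁ : H → ℂ) f = 1 := by
      rw [BlockThms.omega_res_eq ψ₁.2 (BrauerPairs.compIrr φ.symm ξ).2 (hto ψ₁ ξ hcon) hf hf0, hfo,
        if_pos ⟨1, by
          rw [Char.conjFun_one]; exact IsPBlock.sameBlock hM he'B hθ'e (hmem ξ hξ)⟩]
    rw [← h1]
    exact memLocalIdeal_omega_sub hM ψ.2 ψ₁.2 hf hfR (IsPBlock.sameBlock hM hc hψ hψ₁)
  refine ⟨fun c hc hcov => ?_, fun B hB hcov => ?_⟩
  · obtain ⟨B, hB⟩ := S0919.result p M hM Q H hQ hQH hCH hHQ.le c hc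
    obtain ⟨ψ, hψ, ξ, hξ, hcon⟩ := hcov
    refine ⟨B, ⟨hB, (BlockThms.covering_iff hM hB.2.1 hd).2 fun χ hχ θ hθ n => ?_⟩,
      fun B' hB' => induced_unique hM hB'.1 hB⟩
    have hF := isClassFunction_classInd (G := G) (n : G)
    have hFR := memLocalRing_classInd hM (n : G)
    have h1 := memLocalIdeal_omega_transfer inf_le_right hM hed hξ hθ hF hFR
    have hsupp : ∀ a : H, a ∉ N.subgroupOf H → classInd (n : G) (a : G) = 0 := fun a ha => by
      rw [classInd_apply, if_neg fun hc => ha ?_]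
      obtain ⟨k, hk⟩ := isConj_iff.1 hc
      exact Subgroup.mem_subgroupOf.2 (hk ▸ hN.conj_mem _ n.2 k)
    rw [← omega_interEquiv, ← BlockThms.omega_res_eq ψ.2 (BrauerPairs.compIrr φ.symm ξ).2
      (hto ψ ξ hcon) (isClassFunction_res H hF) hsupp, ← inducedCentralChar_eq_omega,
      ← inducedCentralChar_eq_omega] at h1
    have h2 := memLocalIdeal_sub hM h1 (hB.2.2 ψ hψ χ hχ n)
    simpa using h2
  · obtain ⟨χ, hχ, θ, hθ, hcon⟩ := hcov
    obtain ⟨D, hD, hDN, -⟩ := exists_defectGroup_inf_eq hM hd hdQ hB ⟨χ, hχ, θ, hθ, hcon⟩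
    have hQD : Q ≤ D := by
      have h : Q ≤ D ⊓ N := by
        rw [hDN, Subgroup.subgroupOf_map_subtype]; exact le_inf le_rfl hQN
      exact h.trans inf_le_left
    obtain ⟨c, hc⟩ := (DefectThms.exists_inducing_iff hM (H := H) hQ (sup_le hQH hCH) hHQ.le hB).2
      ⟨D, hD, 1, by rintro _ ⟨q, hq, rfl⟩; simpa using hQD hq⟩
    -- lift of the indicator
    obtain ⟨F₀, hF₀, hF₀R, hF₀0, hF₀ω⟩ := exists_lift hHQ hM hQ hQN hf hfR fun y hy hb => by
      have := conv_bad_mem hHQ hM hQ hQN hf hfR isClassFunction_delta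
        (by rw [← classInd_one]; exact memLocalRing_classInd hM (1 : H)) hcoef hy hb
      rwa [conv_delta] at this
    have hF₀N : ∀ g, g ∉ N → F₀ g = 0 :=
      hF₀0 fun a ha => hf0 a fun h => ha (Subgroup.mem_subgroupOf.1 h)
    obtain ⟨ψ, hψ⟩ := IsPBlock.nonempty hM hc.1
    obtain ⟨ψ₀, hψ₀⟩ := Char.exists_over (N.subgroupOf H) θ'
    have a1 := hF₀ω ψ₀
    rw [BlockThms.omega_res_eq ψ₀.2 θ'.2 hψ₀ hf hf0, hfo, if_pos hself,
      BlockThms.omega_res_eq ψ₀.2 θ'.2 hψ₀ (isClassFunction_res H hF₀)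
        (fun a ha => hF₀N a fun h => ha (Subgroup.mem_subgroupOf.2 h)), hθ', omega_interEquiv] at a1
    have a2 := memLocalIdeal_omega_transfer inf_le_right hM hed hξ₀ hθ hF₀ hF₀R
    have a3 := BlockThms.memLocalIdeal_omega_res_sub hM H (Char.isClassFunction_of_isIrr χ.2) hF₀
      hF₀R (hc.2.2 ψ hψ χ hχ)
    rw [BlockThms.omega_res_eq χ.2 θ.2 hcon hF₀ hF₀N] at a3
    have a4 := hF₀ω ψ
    have hω : Cfsg.MemLocalIdeal M (omega (ψ : H → ℂ) f - 1) := by
      have := memLocalIdeal_add hM (memLocalIdeal_sub hM (memLocalIdeal_sub hM a3 a4) a2) a1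
      convert this using 1
      ring
    obtain ⟨η, hη⟩ := Char.exists_constituent_res (N := N.subgroupOf H) ψ.2
    rw [BlockThms.omega_res_eq ψ.2 η.2 hη hf hf0, hfo] at hω
    split_ifs at hω with horb
    swap
    · exact absurd (by simpa using memLocalIdeal_neg hω) (not_memLocalIdeal_one hM)
    obtain ⟨h₀, hh₀⟩ := horb
    have hcovc : ∃ ψ ∈ c, ∃ ξ ∈ e, Cfsg.classInner
        (fun l : ↥(H ⊓ N) => (ψ : H → ℂ) (Subgroup.inclusion inf_le_left l))
        (ξ : ↥(H ⊓ N) → ℂ) ≠ 0 := by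
      refine hfrom c ⟨ψ, hψ, ⟨_, Char.isIrr_conjFun h₀⁻¹ η.2⟩,
        IsPBlock.mem_of_sameBlock hM he'B hθ'e ?_, ?_⟩
      · have := BlockThms.sameBlock_conjFun (Char.isIrr_conjFun h₀ θ'.2) η.2 hh₀ h₀⁻¹
        rwa [Char.conjFun_inv_cancel] at this
      · rw [← Char.conjFun_res h₀⁻¹ (Char.isClassFunction_of_isIrr ψ.2)]
        rwa [Char.classInner_conjFun]
    refine ⟨c, ⟨⟨hc.1, hcovc⟩, hc⟩, ?_⟩
    rintro c' ⟨⟨hc'B, hc'cov⟩, hc'⟩
    obtain ⟨ψ', hψ'⟩ := IsPBlock.nonempty hM hc'B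
    refine eq_of_mem' hM hc'B hc.1 (IsPBlock.mem_of_sameBlock hM hc'B hψ' ?_) hψ
    intro x
    have hκ := isClassFunction_classInd (G := H) x
    have hκR := memLocalRing_classInd hM x
    have hKR : ∀ a, Cfsg.MemLocalRing M (conv f (classInd x) a) := fun a =>
      memLocalRing_conv hM hfR hκR a
    obtain ⟨F, hFc, hFR, -, hFω⟩ := exists_lift hHQ hM hQ hQN (isClassFunction_conv hf hκ) hKR
      fun y hy hb => conv_bad_mem hHQ hM hQ hQN hf hfR hκ hκR hcoef hy hb
    have key : ∀ c₁ : Set (Cfsg.IrrCharacter H), Cfsg.IsPBlock M c₁ →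
        (∃ ψ ∈ c₁, ∃ ξ ∈ e, Cfsg.classInner
          (fun l : ↥(H ⊓ N) => (ψ : H → ℂ) (Subgroup.inclusion inf_le_left l))
          (ξ : ↥(H ⊓ N) → ℂ) ≠ 0) → Cfsg.IsInducedBlock M H c₁ B → ∀ ψ₁ ∈ c₁,
        Cfsg.MemLocalIdeal M (Cfsg.centralChar (ψ₁ : H → ℂ) x - omega (χ : G → ℂ) F) := by
      intro c₁ hc₁ hcov₁ hind₁ ψ₁ hψ₁
      have b1 := hFω ψ₁
      rw [omega_conv ψ₁.2 hf hκ, omega_classInd (Char.isClassFunction_of_isIrr ψ₁.2)] at b1
      have b2 := BlockThms.memLocalIdeal_omega_res_sub hM H (Char.isClassFunction_of_isIrr χ.2)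
        hFc hFR (hind₁.2.2 ψ₁ hψ₁ χ hχ)
      have b3 := memLocalIdeal_mul_right hM (hf1 c₁ hc₁ hcov₁ ψ₁ hψ₁)
        (memLocalRing_centralChar hM ψ₁.2 x)
      have := memLocalIdeal_sub hM (memLocalIdeal_sub hM b2 b1) b3
      convert this using 1
      ring
    have := memLocalIdeal_sub hM (key c' hc'B hc'cov hc' ψ' hψ') (key c hc.1 hcovc hc ψ hψ)
    simpa using this

end Cfsg.Agent.Blocks.HarrisKnorr
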