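import Cfsg.Agent.Blocks.KnorrCover

/-!
# A height zero character with a large stabilizer
-/

namespace Cfsg.Agent.Blocks

open scoped ComplexConjugate
open Cfsg.Agent

universe u

variable {G : Type u} [Group G] [Fintype G] {p : ℕ} [Fact p.Prime] {M : Ideal Cfsg.AlgInt}
  {N : Subgroup G} [hN : N.Normal] [Fintype N]

omit [Fact p.Prime] in
theorem minVal_mapBlock {A C : Type u} [Group A] [Group C] [Finite A] [Finite C] (φ : A ≃* C)
    (hM : Cfsg.IsPModular p M) {E : Set (Cfsg.IrrCharacter A)} (hE : Cfsg.IsPBlock M E) :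
    BlockChar.minVal p (BrauerPairs.mapBlock φ E) = BlockChar.minVal p E := by
  have hd : ∀ χ : Cfsg.IrrCharacter C,
      Cfsg.charDegree (BrauerPairs.compIrr φ χ : A → ℂ) = Cfsg.charDegree (χ : C → ℂ) := fun χ => by
    rw [Cfsg.charDegree, Cfsg.charDegree, BrauerPairs.compIrr_apply, map_one]
  refine le_antisymm ?_ ?_
  · obtain ⟨χ, hχ, he⟩ := BlockChar.exists_height_zero (p := p) (IsPBlock.nonempty hM hE)
    have h1 : BrauerPairs.compIrr φ (BrauerPairs.compIrr φ.symm χ) = χ :=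
      (BrauerPairs.compIrrEquiv φ.symm).symm_apply_apply χ
    rw [← he, ← h1, hd]
    exact BlockChar.minVal_le (show BrauerPairs.compIrr φ (BrauerPairs.compIrr φ.symm χ) ∈ E by
      rwa [h1])
  · obtain ⟨χ, hχ, he⟩ := BlockChar.exists_height_zero (p := p)
      (IsPBlock.nonempty hM (BrauerPairs.isPBlock_mapBlock φ hE))
    rw [← he, ← hd]
    exact BlockChar.minVal_le hχ

/-- An invariant block has a character of height zero with stabilizer of index prime to `p`. -/
theorem exists_height_zero_stable_of_invariant (hM : Cfsg.IsPModular p M)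
    {b : Set (Cfsg.IrrCharacter N)} (hb : Cfsg.IsPBlock M b)
    (hinv : ∀ (g : G) (θ : Cfsg.IrrCharacter N), θ ∈ b →
      (⟨_, Char.isIrr_conjFun g θ.2⟩ : Cfsg.IrrCharacter N) ∈ b) :
    ∃ θ ∈ b, (Cfsg.charDegree (θ : N → ℂ)).factorization p = BlockChar.minVal p b ∧
      ¬ p ∣ (Char.inertia (θ : N → ℂ)).index := by
  classical
  obtain ⟨η, hη⟩ := IsPBlock.nonempty hM hb
  have hne : Cfsg.indFun N (η : N → ℂ) ≠ 0 := fun h => by
    have h1 := congrFun h 1
    rw [Char.indFun_apply_one, Pi.zero_apply, mul_eq_zero] at h1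
    exact h1.elim (fun h2 => Subgroup.index_ne_zero_of_finite (Nat.cast_eq_zero.1 h2))
      (Char.IsIrr.one_ne_zero η.2)
  obtain ⟨χ₁, hχ₁⟩ :=
    Char.IsChar.exists_constituent (Char.isCharacter_indFun N (Char.IsIrr.isCharacter η.2)) hne
  rw [Char.classInner_indFun_left N _ (Char.isClassFunction_of_isIrr χ₁.2),
    ← Char.classInner_conj_symm, map_ne_zero] at hχ₁
  let S := Finset.univ.filter fun χ : Cfsg.IrrCharacter G =>
    ∃ θ ∈ b, Cfsg.classInner (fun n : N => (χ : G → ℂ) n) (θ : N → ℂ) ≠ 0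
  obtain ⟨χ₂, hχ₂, hmax⟩ := Finset.exists_max_image S
    (fun χ => Cfsg.blockDefect p (Cfsg.blockOf M (χ : G → ℂ)))
    ⟨χ₁, Finset.mem_filter.2 ⟨Finset.mem_univ _, η, hη, hχ₁⟩⟩
  obtain ⟨θ₂, hθ₂, hc₂⟩ := (Finset.mem_filter.1 hχ₂).2
  set B := Cfsg.blockOf M (χ₂ : G → ℂ) with hBdef
  have hB : Cfsg.IsPBlock M B := isPBlock_blockOf χ₂
  have hcov : ∃ χ ∈ B, ∃ θ ∈ b, Cfsg.classInner (fun n : N => (χ : G → ℂ) n) (θ : N → ℂ) ≠ 0 :=
    ⟨χ₂, mem_blockOf_self hM χ₂, θ₂, hθ₂, hc₂⟩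
  obtain ⟨P, hP⟩ := DefectThms.exists_defectGroup hM hB
  obtain ⟨-, -, hdef⟩ := DefectThms.fong hM hb hinv hB hcov
    (fun B' hB' ⟨χ, hχ, θ, hθ, hc⟩ => by
      rw [IsPBlock.eq_blockOf hM hB' hχ]
      exact hmax χ (Finset.mem_filter.2 ⟨Finset.mem_univ _, θ, hθ, hc⟩)) hP
  obtain ⟨χ, hχ, hχv⟩ := BlockChar.exists_height_zero (p := p) (IsPBlock.nonempty hM hB)
  obtain ⟨θ, hθc⟩ := Char.exists_constituent_res (N := N) χ.2
  have hθb := constituent_mem hM hb hinv hB hcov hχ hθc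
  refine ⟨θ, hθb, ?_⟩
  have hle := BlockChar.minVal_le (p := p) hθb
  have hBle := (BlockChar.minVal_le (p := p) hχ).trans (BlockChar.degree_val_le χ)
  have hble := hle.trans (BlockChar.degree_val_le θ)
  have hG : (Nat.card G).factorization p =
      N.index.factorization p + (Nat.card N).factorization p := by
    rw [← Subgroup.index_mul_card N, Nat.factorization_mul Subgroup.index_ne_zero_of_finite
      Nat.card_pos.ne', Finsupp.add_apply]
  rw [BlockChar.blockDefect_eq, BlockChar.blockDefect_eq] at hdef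
  obtain ⟨e, he⟩ := Char.classInner_isCharacter_eq_natCast
    (Char.isCharacter_res N (Char.IsIrr.isCharacter χ.2)) (Char.IsIrr.isCharacter θ.2)
  have hdeg := Char.degree_eq_of_clifford χ.2 θ.2 hθc
  rw [he, (CharArith.irr_degree_spec χ).1, (CharArith.irr_degree_spec θ).1] at hdeg
  have hdeg' : Cfsg.charDegree (χ : G → ℂ) =
      e * (Char.inertia (θ : N → ℂ)).index * Cfsg.charDegree (θ : N → ℂ) := by
    exact_mod_cast hdeg
  have he0 : e ≠ 0 := by rintro rfl; exact hθc (by rw [he, Nat.cast_zero])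
  have hi0 : (Char.inertia (θ : N → ℂ)).index ≠ 0 := Subgroup.index_ne_zero_of_finite
  rw [hdeg', Nat.factorization_mul (mul_ne_zero he0 hi0) (CharArith.irr_degree_spec θ).2.ne',
    Nat.factorization_mul he0 hi0, Finsupp.add_apply, Finsupp.add_apply] at hχv
  refine ⟨by omega, fun hd => ?_⟩
  have := Nat.Prime.factorization_pos_of_dvd hM.1 hi0 hd
  omega

/-- A block of a normal subgroup has a character of height zero whose stabilizer has index
prime to `p` in the stabilizer of the block. -/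
theorem exists_height_zero_stable (hM : Cfsg.IsPModular p M) {b : Set (Cfsg.IrrCharacter N)}
    (hb : Cfsg.IsPBlock M b) {T : Subgroup G}
    (hT : ∀ g : G, g ∈ T ↔ ∀ θ ∈ b, ∀ θ' : Cfsg.IrrCharacter N,
      (∀ n : N, (θ' : N → ℂ) n = (θ : N → ℂ) ⟨g * n * g⁻¹, hN.conj_mem n n.2 g⟩) → θ' ∈ b) :
    ∃ θ ∈ b, Cfsg.blockHeight p b (θ : N → ℂ) = 0 ∧
      ¬ p ∣ (T ⊓ Char.inertia (θ : N → ℂ)).relIndex T := by
  classical
  have hNT : N ≤ T := by
    obtain ⟨T', h1, h2⟩ := exists_stabilizer hM hb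
    exact fun n hn => (hT n).2 ((h2 n).1 (h1 hn))
  have := Fintype.ofFinite T
  have := Fintype.ofFinite (N.subgroupOf T)
  have : (N.subgroupOf T).Normal := hN.subgroupOf T
  obtain ⟨θ', hθ', hv, hidx⟩ := exists_height_zero_stable_of_invariant hM
    (BrauerPairs.isPBlock_mapBlock (Subgroup.subgroupOfEquivOfLe hNT).symm hb)
    (mapBlock_invariant hNT hT)
  set φ := (Subgroup.subgroupOfEquivOfLe hNT).symm
  refine ⟨BrauerPairs.compIrr φ θ', hθ', ?_, ?_⟩
  · rw [BlockChar.blockHeight_eq, ← minVal_mapBlock φ hM hb, ← hv]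
    rw [Cfsg.charDegree, Cfsg.charDegree, BrauerPairs.compIrr_apply, map_one, Nat.sub_self]
  · rw [Subgroup.relIndex, show (T ⊓ Char.inertia (BrauerPairs.compIrr φ θ' : N → ℂ)).subgroupOf T =
      Char.inertia (θ' : N.subgroupOf T → ℂ) from ?_]
    · exact hidx
    ext t
    rw [Subgroup.mem_subgroupOf, Subgroup.mem_inf, Char.mem_inertia, Char.mem_inertia]
    simp only [SetLike.coe_mem, true_and]
    constructor
    · intro h
      funext n
      exact congrFun h (φ.symm n)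
    · intro h
      funext n
      exact congrFun h (φ n)

end Cfsg.Agent.Blocks
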