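import Cfsg.Agent.Blocks.Projection

/-!
# Independence of the block partition from the choice of the maximal ideal
-/

namespace Cfsg.Agent.Blocks

open scoped ComplexConjugate
open Cfsg.Agent

universe u

variable {G : Type u} [Group G] {p : ℕ} {M : Ideal Cfsg.AlgInt}

/-- A local combination of characters vanishing at p-singular elements has degree divisible by
the p-part of the group order. -/
theorem memLocalRing_div_order [Fintype G] (hM : Cfsg.IsPModular p M)
    {ι : Type*} (T : Finset ι) (c : ι → ℂ) (χ : ι → G → ℂ)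
    (hc : ∀ i ∈ T, Cfsg.MemLocalRing M (c i)) (hχ : ∀ i ∈ T, Cfsg.IsCharacter G (χ i))
    (hvan : ∀ x : G, p ∣ orderOf x → ∑ i ∈ T, c i * χ i x = 0) :
    Cfsg.MemLocalRing M ((∑ i ∈ T, c i * χ i 1) *
      (((p ^ (Nat.card G).factorization p : ℕ) : ℂ))⁻¹) := by
  have h := memLocalRing_div_of_vanish hM T c χ hc hχ hvan (g := (1 : G))
    (by simp [hM.1.ne_one])
  have e : Subgroup.centralizer ({(1 : G)} : Set G) = ⊤ :=
    eq_top_iff.2 fun x _ => Subgroup.mem_centralizer_singleton_iff.2 (by simp)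
  rwa [e, Subgroup.card_top] at h

/-- The idempotent of a block for one maximal ideal is integral at every maximal ideal over `p`. -/
theorem memLocalRing_blockCoeff_of_ne [Finite G] (hM : Cfsg.IsPModular p M)
    {B : Set (Cfsg.IrrCharacter G)} (hB : Cfsg.IsPBlock M B) {M' : Ideal Cfsg.AlgInt}
    (hM' : Cfsg.IsPModular p M') (g : G) : Cfsg.MemLocalRing M' (Cfsg.blockCoeff B g) := by
  classical
  have := Fintype.ofFinite G
  by_cases hg : p ∣ orderOf g
  · rw [blockCoeff_eq_zero_of_dvd hM hB hg]; exact (localRing hM').zero_mem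
  have h := memLocalRing_div_order hM' B.toFinite.toFinset
    (fun χ => conj ((χ : G → ℂ) g)) (fun χ => (χ : G → ℂ))
    (fun χ _ => memLocalRing_of_isIntegral hM'
      (Char.IsChar.inv_eq_conj (Char.IsIrr.isCharacter χ.2) g ▸
        Char.IsChar.isIntegral (Char.IsIrr.isCharacter χ.2) g⁻¹))
    (fun χ _ => Char.IsIrr.isCharacter χ.2) fun x hx => by
      have := congrArg conj (weak_orthogonality hM hB hg hx)
      rw [finsum_mem_eq_finite_toFinset_sum _ B.toFinite] at this
      simpa using this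
  have hq : ((p ^ (Nat.card G).factorization p : ℕ) : ℂ) ≠ 0 :=
    Nat.cast_ne_zero.2 (pow_pos hM.1.pos _).ne'
  have hsplit : (Nat.card G : ℂ)⁻¹ =
      ((p ^ (Nat.card G).factorization p : ℕ) : ℂ)⁻¹ *
        ((Nat.card G / p ^ (Nat.card G).factorization p : ℕ) : ℂ)⁻¹ := by
    rw [← mul_inv, ← Nat.cast_mul, Nat.ordProj_mul_ordCompl_eq_self]
  rw [Cfsg.blockCoeff, hsplit, mul_right_comm,
    finsum_mem_eq_finite_toFinset_sum _ B.toFinite]
  refine (localRing hM').mul_mem ?_
    (memLocalRing_natCast_inv hM' (Nat.not_dvd_ordCompl hM.1 Nat.card_pos.ne'))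
  rw [mul_comm]
  rw [mem_localRing] 
  convert h using 2
  all_goals exact Finset.sum_congr rfl fun χ _ => mul_comm (G := ℂ) _ _

/-- The block relation does not depend on the maximal ideal over `p`. -/
theorem sameBlock_of_sameBlock [Finite G] (hM : Cfsg.IsPModular p M) {M' : Ideal Cfsg.AlgInt}
    (hM' : Cfsg.IsPModular p M') {χ ψ : Cfsg.IrrCharacter G}
    (h : Cfsg.SameBlock M (χ : G → ℂ) (ψ : G → ℂ)) :
    Cfsg.SameBlock M' (χ : G → ℂ) (ψ : G → ℂ) :=
  mem_of_sameBlock_of_memLocalRing hM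
    (memLocalRing_blockCoeff_of_ne hM' (isPBlock_blockOf χ) hM) (mem_blockOf_self hM' χ) h

end Cfsg.Agent.Blocks

namespace Cfsg.Agent.Blocks

open Cfsg.Agent

/-- An element `z` with `n • z` integral that is local at every maximal ideal over the primes
dividing `n` is integral. -/
theorem isIntegral_of_forall_local {q k : ℕ} (hq : q.Prime) {z : ℂ}
    (hz : IsIntegral ℤ (((q ^ k : ℕ) : ℂ) * z))
    (h : ∀ M : Ideal Cfsg.AlgInt, Cfsg.IsPModular q M → Cfsg.MemLocalRing M z) :
    IsIntegral ℤ z := by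
  let I : Ideal Cfsg.AlgInt :=
    { carrier := {a | (a : ℂ) * z ∈ Cfsg.AlgInt}
      add_mem' := fun {a b} ha hb => by
        simp only [Set.mem_ofPred_eq, Subalgebra.coe_add, add_mul] at *
        exact add_mem ha hb
      zero_mem' := by simp
      smul_mem' := fun c a ha => by
        simp only [Set.mem_ofPred_eq, smul_eq_mul, Subalgebra.coe_mul, mul_assoc] at *
        exact mul_mem c.2 ha }
  by_cases hI : I = ⊤
  · have : (1 : Cfsg.AlgInt) ∈ I := hI ▸ Submodule.mem_top
    have h1 : ((1 : Cfsg.AlgInt) : ℂ) * z ∈ Cfsg.AlgInt := this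
    simpa [mem_algInt] using h1
  obtain ⟨N, hN, hIN⟩ := Ideal.exists_le_maximal I hI
  have hqk : ((q ^ k : ℕ) : Cfsg.AlgInt) ∈ I := by
    show (((q ^ k : ℕ) : Cfsg.AlgInt) : ℂ) * z ∈ Cfsg.AlgInt
    rw [coe_natCast]; exact hz
  have hqN : (q : Cfsg.AlgInt) ∈ N := hN.isPrime.mem_of_pow_mem k (by
    have := hIN hqk; rwa [Nat.cast_pow] at this)
  obtain ⟨a, c, hc, e⟩ := h N ⟨hq, hN, hqN⟩
  exact absurd (hIN (show (c : ℂ) * z ∈ Cfsg.AlgInt from by
    have : (c : ℂ) * z = (a : ℂ) := by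
      rw [← e, mul_div_cancel₀ _ (coe_ne_zero_of_notMem hc)]
    rw [this]; exact a.2)) hc

end Cfsg.Agent.Blocks
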