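import Cfsg.Agent.Blocks.KleinPattern
import Cfsg.Agent.BlockChar.Cyclic.Correspondent

/-!
# A block with Klein four defect group and its correspondent
-/

namespace Cfsg.Agent.Blocks.Klein

open Cfsg.Agent Cfsg.Agent.Blocks Cfsg.Agent.BrauerPairs Cfsg.Agent.BlockChar

universe u

variable {G : Type u} [Group G] [Fintype G] {M : Ideal Cfsg.AlgInt}

local notation "CG[" Q "]" => Subgroup.centralizer (SetLike.coe Q)

open scoped Classical in
/-- A block with Klein four defect group is perfectly isometric to its correspondent. -/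
theorem correspondent (hM : Cfsg.IsPModular 2 M) {B : Set (Cfsg.IrrCharacter G)}
    (hB : Cfsg.IsPBlock M B) {P : Subgroup G} (hPD : Cfsg.IsDefectGroup 2 M B P)
    (hV : IsKleinFour P) {H : Subgroup G} [Fintype H]
    (hH : Subgroup.normalizer (P : Set G) ≤ H) {c : Set (Cfsg.IrrCharacter H)}
    (hcD : Cfsg.IsDefectGroup 2 M c (P.subgroupOf H)) (hc : Cfsg.IsInducedBlock M H c B) :
    ∃ (I : Cfsg.IrrCharacter H → Cfsg.IrrCharacter G) (ε : Cfsg.IrrCharacter H → ℤ),
      Cfsg.IsPerfectIsometry 2 M c B I ε := by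
  have := Fact.mk Nat.prime_two
  have : M.IsMaximal := hM.2.1
  have hPH : P ≤ H := Subgroup.le_normalizer.trans hH
  have hCP : CG[P] ≤ H := (Subgroup.centralizer_le_normalizer _).trans hH
  obtain ⟨e', hmax'⟩ := exists_maximal_on hM hc.1 hcD
  obtain ⟨e, rfl⟩ : ∃ e, resBlock hPH hCP e = e' :=
    ⟨upBlock hPH hCP e', resBlock_upBlock hPH hCP e'⟩
  have he : Cfsg.IsPBlock M e := by
    have := isPBlock_upBlock (M := M) hPH hCP hmax'.1.1.2
    rwa [upBlock_resBlock] at this
  have hind' := BlockChar.isInducedBlock_of_pair hM hmax'.1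
  have hind := Cyclic.isInducedBlock_upBlock hM hPH hCP he hind' hc
  obtain ⟨T, hTdef⟩ : ∃ T, T = Cyclic.pairStab (⟨P, e⟩ : Cfsg.BrauerPairIdx G) := ⟨_, rfl⟩
  obtain ⟨T', hT'def⟩ : ∃ T', T' = Cyclic.pairStab
      (⟨P.subgroupOf H, resBlock hPH hCP e⟩ : Cfsg.BrauerPairIdx H) := ⟨_, rfl⟩
  have hT := Cyclic.mem_pairStab (p := 2) hM he
  have hT' := Cyclic.mem_pairStab (p := 2) hM hmax'.1.1.2
  rw [← hTdef] at hT
  rw [← hT'def] at hT'
  have eqv := Subgroup.subgroupOfEquivOfLe hPH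
  have hV' : IsKleinFour (P.subgroupOf H) :=
    { card_four := (Nat.card_congr eqv.toEquiv).trans hV.card_four
      exponent_two := (Monoid.exponent_eq_of_mulEquiv eqv).trans hV.exponent_two }
  have hTeq : T' = T.subgroupOf H := by
    ext g
    refine ⟨fun hg => ?_, fun hg => ?_⟩
    · obtain ⟨h1, h2⟩ := (hT' g).1 hg
      exact (hT _).2 (Cyclic.stab_of_local_stab hM he hPH hCP h1 h2)
    · obtain ⟨h1, h2⟩ := (hT _).1 (Subgroup.mem_subgroupOf.1 hg)
      have hn : g ∈ Subgroup.normalizer ((P.subgroupOf H : Subgroup H) : Set H) :=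
        Subgroup.mem_normalizer_iff.2 fun r => by
          simp only [Subgroup.mem_subgroupOf, Subgroup.coe_mul, Subgroup.coe_inv]
          exact Subgroup.mem_normalizer_iff.1 h1 (r : G)
      refine (hT' g).2 ((conjPair_eq_iff hM hmax'.1.1.2 g).1 (idx_ext (map_conj_eq hn) fun x => ?_))
      have hfix := (conjPair_eq_iff hM he (g : G)).2 ⟨h1, h2⟩
      have h3 := sbc_conjPair (g : G) (⟨P, e⟩ : Cfsg.BrauerPairIdx G) (x : G)
      rw [hfix] at h3
      rw [sbc_conjPair]
      show Cfsg.subgroupBlockCoeff _ (resBlock hPH hCP e) (g⁻¹ * x * g) =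
        Cfsg.subgroupBlockCoeff _ (resBlock hPH hCP e) x
      rw [sbc_resBlock, sbc_resBlock]
      simpa using h3.symm
  have hidx : (Subgroup.centralizer ((P.subgroupOf H : Subgroup H) : Set H)).relIndex T' =
      (CG[P]).relIndex T := by
    have hC : Subgroup.centralizer ((P.subgroupOf H : Subgroup H) : Set H) =
        (CG[P]).subgroupOf H := by
      ext a
      simp only [Subgroup.mem_subgroupOf, Subgroup.mem_centralizer_iff]
      exact ⟨fun h b hb => congrArg Subtype.val (h ⟨b, hPH hb⟩ hb),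
        fun h b hb => Subtype.ext (h b hb)⟩
    rw [hC, hTeq, Subgroup.relIndex_subgroupOf fun g hg => hH ((hT g).1 hg).1]
  obtain ⟨h13, hk, hl⟩ := klein_four_block hM hB hPD hV hind hT
  obtain ⟨-, hk', hl'⟩ := klein_four_block hM hc.1 hcD hV' hind' hT'
  have hll : Cfsg.blockRank 2 c = Cfsg.blockRank 2 B := hl'.trans (hidx.trans hl.symm)
  obtain ⟨lab, t, hp⟩ := exists_pattern hM hB hPD hV hk (hl ▸ h13)
  obtain ⟨lab', t', hp'⟩ := exists_pattern hM hc.1 hcD hV' hk' (hll ▸ (hl ▸ h13))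
  rw [hll] at hp'
  exact isometry_of_patterns hM hp hp'

end Cfsg.Agent.Blocks.Klein
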