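import Cfsg.Agent.Blocks.Star.MajorLattice
import Cfsg.Agent.Blocks.Star.HeightBound
import Cfsg.Agent.BlockChar.KleinFour
import Cfsg.Agent.BlockChar.RankLtCard
import Cfsg.Agent.BlockChar.Cyclic.IsoLocal

/-!
# The sign patterns of a block with Klein four defect group

Up to signs and order the singular values of the four characters are combinations of columns of
the Hadamard matrix of degree four: of three of them if the rank is one, of the first one if the
rank is three.  Two blocks with the same pattern are perfectly isometric.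
-/

namespace Cfsg.Agent.Blocks.Klein

open Cfsg.Agent Cfsg.Agent.Blocks Cfsg.Agent.Blocks.Star
open scoped ComplexConjugate

universe u v

/-- The Hadamard matrix of degree four. -/
def had (j i : Fin 4) : ℤ :=
  if j = 0 ∨ i = 0 ∨ i = j then 1 else -1

theorem sum_had_mul (j k : Fin 4) : ∑ i, had j i * had k i = if j = k then 4 else 0 := by
  revert j k; decide

/-- A labelling and signs of the characters of a block in which its singular values are
combinations of the rows in `S` and its regular values are orthogonal to them. -/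
def HasPattern {G : Type u} [Group G] (M : Ideal Cfsg.AlgInt) (B : Set (Cfsg.IrrCharacter G))
    (lab : Fin 4 → Cfsg.IrrCharacter G) (t : Fin 4 → ℤ) (S : Finset (Fin 4)) : Prop :=
  Function.Injective lab ∧ Set.range lab = B ∧ (∀ i, t i = 1 ∨ t i = -1) ∧
    (∀ x : G, ¬ 2 ∣ orderOf x →
      ∀ j ∈ S, ∑ i, (had j i : ℂ) * ((t i : ℂ) * (lab i : G → ℂ) x) = 0) ∧
    ∀ g : G, 2 ∣ orderOf g → ∃ a : Fin 4 → ℂ, (∀ j, j ∉ S → a j = 0) ∧
      (∀ j, Cfsg.MemLocalRing M (a j)) ∧
      (∀ j, Cfsg.MemLocalRing M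
        (4 * a j / (Nat.card (Subgroup.centralizer ({g} : Set G)) : ℂ))) ∧
      ∀ i, (t i : ℂ) * (lab i : G → ℂ) g = ∑ j, a j * (had j i : ℂ)

theorem sum_mul_pattern (a a' : Fin 4 → ℂ) :
    ∑ i, (∑ j, a j * (had j i : ℂ)) * (∑ k, a' k * (had k i : ℂ)) = ∑ j, 4 * (a j * a' j) := by
  simp only [Finset.sum_mul_sum]
  rw [Finset.sum_comm]
  refine Finset.sum_congr rfl fun j _ => ?_
  rw [Finset.sum_comm, Finset.sum_congr rfl (g := fun k =>
    a j * a' k * ((∑ i, had j i * had k i : ℤ) : ℂ)) fun k _ => by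
      push_cast; rw [Finset.mul_sum]; exact Finset.sum_congr rfl fun i _ => by ring]
  simp only [sum_had_mul]
  simp
  ring

open scoped Classical in
/-- Blocks with the same pattern are perfectly isometric. -/
theorem isometry_of_patterns {G : Type u} [Group G] [Fintype G] {H : Type v} [Group H] [Fintype H]
    {M : Ideal Cfsg.AlgInt} (hM : Cfsg.IsPModular 2 M) {B : Set (Cfsg.IrrCharacter G)}
    {c : Set (Cfsg.IrrCharacter H)} {lab : Fin 4 → Cfsg.IrrCharacter G}
    {lab' : Fin 4 → Cfsg.IrrCharacter H} {t t' : Fin 4 → ℤ} {S : Finset (Fin 4)}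
    (h : HasPattern M B lab t S) (h' : HasPattern M c lab' t' S) :
    ∃ (I : Cfsg.IrrCharacter H → Cfsg.IrrCharacter G) (ε : Cfsg.IrrCharacter H → ℤ),
      Cfsg.IsPerfectIsometry 2 M c B I ε := by
  obtain ⟨hinj, hrange, ht, hreg, hsing⟩ := h
  obtain ⟨hinj', hrange', ht', hreg', hsing'⟩ := h'
  let I : Cfsg.IrrCharacter H → Cfsg.IrrCharacter G := fun η => lab (Function.invFun lab' η)
  let ε : Cfsg.IrrCharacter H → ℤ := fun η =>
    t (Function.invFun lab' η) * t' (Function.invFun lab' η)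
  have hI : ∀ i, I (lab' i) = lab i ∧ ε (lab' i) = t i * t' i := fun i => by
    simp [I, ε, Function.leftInverse_invFun hinj' i]
  refine ⟨I, ε, ?_, ?_, ?_⟩
  · rw [← hrange, ← hrange']
    refine ⟨?_, ?_, ?_⟩
    · rintro _ ⟨i, rfl⟩; exact ⟨i, (hI i).1.symm⟩
    · rintro _ ⟨i, rfl⟩ _ ⟨k, rfl⟩ hik
      rw [(hI i).1, (hI k).1] at hik
      rw [hinj hik]
    · rintro _ ⟨i, rfl⟩; exact ⟨lab' i, ⟨i, rfl⟩, (hI i).1⟩
  · rw [← hrange']
    rintro _ ⟨i, rfl⟩
    rw [(hI i).2]
    rcases ht i with a | a <;> rcases ht' i with b | b <;> simp [a, b]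
  have hμ : ∀ x y, Cfsg.signedBijectionKernel c I ε x y =
      ∑ i, ((t i : ℂ) * (lab i : G → ℂ) x) * ((t' i : ℂ) * (lab' i : H → ℂ) y) := by
    intro x y
    rw [Cfsg.signedBijectionKernel, ← hrange', finsum_mem_range hinj', finsum_eq_sum_of_fintype]
    exact Finset.sum_congr rfl fun i _ => by rw [(hI i).1, (hI i).2]; push_cast; ring
  have hcross : ∀ (R : Fin 4 → ℂ) (a : Fin 4 → ℂ), (∀ j, j ∉ S → a j = 0) →
      (∀ j ∈ S, ∑ i, (had j i : ℂ) * R i = 0) → ∑ i, R i * ∑ j, a j * (had j i : ℂ) = 0 := by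
    intro R a ha hR
    simp only [Finset.mul_sum]
    rw [Finset.sum_comm]
    refine Finset.sum_eq_zero fun j _ => ?_
    by_cases hj : j ∈ S
    · rw [Finset.sum_congr rfl (g := fun i => a j * ((had j i : ℂ) * R i)) fun i _ => by ring,
        ← Finset.mul_sum, hR j hj, mul_zero]
    · simp [ha j hj]
  have hmixed : ∀ (x : G) (y : H), ¬ (Cfsg.IsPRegular 2 x ↔ Cfsg.IsPRegular 2 y) →
      Cfsg.signedBijectionKernel c I ε x y = 0 := by
    intro x y hxy
    rw [hμ]
    by_cases hx : 2 ∣ orderOf x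
    · have hy : ¬ 2 ∣ orderOf y := fun hy => hxy ⟨fun a => absurd hx a, fun a => absurd hy a⟩
      obtain ⟨a, ha, -, -, hval⟩ := hsing x hx
      rw [Finset.sum_congr rfl fun i _ => by rw [hval i, mul_comm]]
      exact hcross _ a ha (hreg' y hy)
    · have hy : 2 ∣ orderOf y := by_contra fun hy => hxy (iff_of_true hx hy)
      obtain ⟨a, ha, -, -, hval⟩ := hsing' y hy
      rw [Finset.sum_congr rfl fun i _ => by rw [hval i]]
      exact hcross _ a ha (hreg x hx)
  have hloc : ∀ z : ℤ, Cfsg.MemLocalRing M (z : ℂ) := fun z =>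
    memLocalRing_of_isIntegral hM (isIntegral_intCast z)
  intro x y
  by_cases hxy : Cfsg.IsPRegular 2 x ↔ Cfsg.IsPRegular 2 y
  swap
  · rw [hmixed x y hxy, zero_div, zero_div]
    exact ⟨(localRing hM).zero_mem, (localRing hM).zero_mem, Or.inr rfl⟩
  refine ⟨?_, ?_, Or.inl hxy⟩ <;> by_cases hx : 2 ∣ orderOf x
  rotate_right
  · have hy : ¬ 2 ∣ orderOf y := hxy.1 hx
    refine BlockChar.Cyclic.memLocalRing_div_natCast hM Nat.card_pos.ne' ?_
    rw [hμ, Finset.sum_congr rfl (g := fun i =>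
      ((t i : ℂ) * (lab i : G → ℂ) x * (t' i : ℂ)) * (lab' i : H → ℂ) y) fun i _ => by ring]
    refine memLocalRing_div_of_vanish hM Finset.univ
      (fun i => (t i : ℂ) * (lab i : G → ℂ) x * (t' i : ℂ)) (fun i => (lab' i : H → ℂ))
      (fun i _ => (localRing hM).mul_mem ((localRing hM).mul_mem (hloc _) (BlockChar.Cyclic.memLocalRing_irr hM _ _))
        (hloc _)) (fun i _ => Char.IsIrr.isCharacter (lab' i).2) (fun y' hy' => ?_) hy
    rw [Finset.sum_congr rfl (g := fun i =>
      ((t i : ℂ) * (lab i : G → ℂ) x) * ((t' i : ℂ) * (lab' i : H → ℂ) y')) fun i _ => by ring,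
      ← hμ]
    exact hmixed x y' fun h2 => (h2.1 hx) hy'
  rotate_left
  · have hy : ¬ 2 ∣ orderOf y := hxy.1 hx
    refine BlockChar.Cyclic.memLocalRing_div_natCast hM Nat.card_pos.ne' ?_
    rw [hμ, Finset.sum_congr rfl (g := fun i =>
      ((t' i : ℂ) * (lab' i : H → ℂ) y * (t i : ℂ)) * (lab i : G → ℂ) x) fun i _ => by ring]
    refine memLocalRing_div_of_vanish hM Finset.univ
      (fun i => (t' i : ℂ) * (lab' i : H → ℂ) y * (t i : ℂ)) (fun i => (lab i : G → ℂ))
      (fun i _ => (localRing hM).mul_mem ((localRing hM).mul_mem (hloc _) (BlockChar.Cyclic.memLocalRing_irr hM _ _))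
        (hloc _)) (fun i _ => Char.IsIrr.isCharacter (lab i).2) (fun x' hx' => ?_) hx
    rw [Finset.sum_congr rfl (g := fun i =>
      ((t i : ℂ) * (lab i : G → ℂ) x') * ((t' i : ℂ) * (lab' i : H → ℂ) y)) fun i _ => by ring,
      ← hμ]
    exact hmixed x' y fun h2 => (h2.2 hy) hx'
  all_goals
    have hy : 2 ∣ orderOf y := by_contra fun hy => (hxy.2 hy) hx
    obtain ⟨a, -, hal, had', hval⟩ := hsing x hx
    obtain ⟨a', -, hal', had'', hval'⟩ := hsing' y hy
    rw [hμ, Finset.sum_congr rfl fun i _ => by rw [hval i, hval' i], sum_mul_pattern,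
      Finset.sum_div]
    refine (localRing hM).sum_mem fun j _ => ?_
  · rw [show 4 * (a j * a' j) / (Nat.card (Subgroup.centralizer ({y} : Set H)) : ℂ) =
      a j * (4 * a' j / (Nat.card (Subgroup.centralizer ({y} : Set H)) : ℂ)) by ring]
    exact (localRing hM).mul_mem (hal j) (had'' j)
  · rw [show 4 * (a j * a' j) / (Nat.card (Subgroup.centralizer ({x} : Set G)) : ℂ) =
      a' j * (4 * a j / (Nat.card (Subgroup.centralizer ({x} : Set G)) : ℂ)) by ring]
    exact (localRing hM).mul_mem (hal' j) (had' j)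

variable {G : Type u} [Group G] [Fintype G] {M : Ideal Cfsg.AlgInt}
  {B : Set (Cfsg.IrrCharacter G)} {P : Subgroup G}

local notation "CG[" Q "]" => Subgroup.centralizer (SetLike.coe Q)
local notation "sbc" => Cfsg.subgroupBlockCoeff

open scoped Classical in
/-- A section at an involution is a sign vector times a projective character. -/
theorem sect_signs (hM : Cfsg.IsPModular 2 M) (hPD : Cfsg.IsDefectGroup 2 M B P)
    (hV : IsKleinFour P) (hk : Nat.card B = 4) {u : G} (hu : ∃ k, orderOf u = 2 ^ k) (hu1 : u ≠ 1)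
    {b : Set (Cfsg.IrrCharacter CG[Subgroup.zpowers u])}
    (hpair : Cfsg.IsBrauerPairOf 2 M B (Subgroup.zpowers u) b) :
    ∃ (D : Cfsg.IrrCharacter G → ℤ) (F : G → ℂ),
      (∀ χ ∈ B, D χ = 1 ∨ D χ = -1) ∧
      (∀ x : G, ¬ 2 ∣ orderOf x → ∑ χ ∈ B.toFinite.toFinset, (D χ : ℂ) * (χ : G → ℂ) x = 0) ∧
      ∀ y ∈ regC 2 u,
        (∀ χ ∈ B, sect (χ : G → ℂ) u (sbc CG[Subgroup.zpowers u] b) y = (D χ : ℂ) * F y) ∧
        Cfsg.MemLocalRing M (F y) ∧
        Cfsg.MemLocalRing M
          (4 * F y / (Nat.card (Subgroup.centralizer ({u * y} : Set G)) : ℂ)) := by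
  have := Fact.mk Nat.prime_two
  letI := Fintype.ofFinite CG[Subgroup.zpowers u]
  have hB := hpair.2.1
  have hbP : Cfsg.IsPBlock M b := hpair.1.2
  obtain ⟨⟨D', c'⟩, hmax, hle⟩ := BrauerPairs.exists_maximal_above hM hpair
  simp only at hmax hle
  have hD' := BrauerPairs.isDefectGroup_of_maximal hM hmax
  obtain ⟨g, hg⟩ := DefectThms.exists_defectGroup_conj hM hB hPD hD'
  have huD : u ∈ D' := BlockChar.le_of_subpairLE hle (Subgroup.mem_zpowers u)
  -- `D'` is a four group
  have hsqP : ∀ z ∈ P, z * z = 1 := fun z hz => by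
    have h := Monoid.pow_exponent_eq_one (⟨z, hz⟩ : P)
    rw [hV.exponent_two, pow_two] at h
    exact congrArg Subtype.val h
  have hsq : ∀ z ∈ D', z * z = 1 := by
    rw [← hg]
    rintro _ ⟨z, hz, rfl⟩
    rw [← map_mul, hsqP z hz, map_one]
  have hab : ∀ z ∈ D', ∀ w ∈ D', z * w = w * z := fun z hz w hw => by
    have hi : ∀ z ∈ D', z⁻¹ = z := fun z hz => inv_eq_of_mul_eq_one_left (hsq z hz)
    rw [← hi _ (D'.mul_mem hz hw), mul_inv_rev, hi z hz, hi w hw]
  have hd : Cfsg.blockDefect 2 B = 2 := by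
    have h := BlockChar.card_defectGroup hM hB hPD
    rw [hV.card_four, show 4 = 2 ^ 2 by norm_num] at h
    exact (Nat.pow_right_injective le_rfl h).symm
  have huo : orderOf u = 2 := orderOf_eq_prime (by rw [pow_two]; exact hsq u huD) hu1
  have hdb : Cfsg.blockDefect 2 b = Cfsg.blockDefect 2 B :=
    blockDefect_eq_of_central hM hmax
      ⟨huD, Subgroup.mem_centralizer_iff.2 fun z hz => hab z hz u huD⟩ hle
  have hH := mem_zpowers_centralizer' (G := G) u
  have hl : Cfsg.blockRank 2 b = 1 :=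
    BlockChar.blockRank_eq_one_of_central_two hM
      (s := (⟨u, (hH u).2 rfl⟩ : CG[Subgroup.zpowers u]))
      (Subgroup.mem_center_iff.2 fun z => Subtype.ext ((hH z).1 z.2).symm)
      (by rw [Subgroup.orderOf_mk]; exact huo) hbP (by omega)
  have hind := (mem_inducing_iff_pair hM hpair.1.1 hB hbP).2 hpair
  obtain ⟨φ, d, ⟨n, hn⟩, hdφ, hsum⟩ := BlockChar.rank_one_cartan hM hbP hl
  rw [hdb, hd, finsum_mem_eq_finite_toFinset_sum _ (Set.toFinite b)] at hsum
  set Sb := b.toFinite.toFinset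
  have hmemb : ∀ {η}, η ∈ Sb ↔ η ∈ b := fun {η} => Set.Finite.mem_toFinset _
  obtain ⟨η₀, hη₀⟩ := IsPBlock.nonempty hM hbP
  have h1reg : ¬ 2 ∣ orderOf (1 : CG[Subgroup.zpowers u]) := by simp
  have hφ1 : φ 1 ≠ 0 := fun h => Char.IsIrr.one_ne_zero η₀.2
    (by rw [hdφ η₀ hη₀ 1 h1reg, h, mul_zero])
  -- the scalars are signs
  have hsgn : ∀ η : Cfsg.IrrCharacter CG[Subgroup.zpowers u],
      ∃ σ : ℤ, shiftScalar hH η = (σ : ℂ) := fun η => by
    have h := shiftScalar_pow hH η (show u ^ 2 = 1 by rw [pow_two]; exact hsq u huD)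
    rw [pow_two, mul_self_eq_one_iff] at h
    rcases h with h | h
    · exact ⟨1, by simp [h]⟩
    · exact ⟨-1, by simp [h]⟩
  choose σ hσ using hsgn
  let D : Cfsg.IrrCharacter G → ℤ := fun χ => ∑ η ∈ Sb, σ η * (resMult χ η : ℤ) * (d η : ℤ)
  let A : Cfsg.IrrCharacter CG[Subgroup.zpowers u] → Fin 1 → ℤ := fun η _ => (d η : ℤ)
  let ψ : Fin 1 → CG[Subgroup.zpowers u] → ℂ := fun _ => φ
  have hA : ∀ η ∈ b, ∀ c, ¬ 2 ∣ orderOf c →
      (η : CG[Subgroup.zpowers u] → ℂ) c = ∑ i, (A η i : ℂ) * ψ i c := fun η hη c hc => by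
    simpa [A, ψ] using hdφ η hη c hc
  have hli : ∀ a : Fin 1 → ℂ, (∀ c, ¬ 2 ∣ orderOf c → ∑ i, a i * ψ i c = 0) → a = 0 := by
    intro a ha
    have h : a 0 * φ 1 = 0 := by simpa [ψ] using ha 1 h1reg
    funext i
    rw [Fin.fin_one_eq_zero i]
    exact (mul_eq_zero.1 h).resolve_right hφ1
  have hsec : ∀ χ, secCoord u b A χ 0 = (D χ : ℂ) := fun χ => by
    simp only [secCoord, D, A, Int.cast_sum, Int.cast_mul, Int.cast_natCast]
    exact Finset.sum_congr rfl fun η _ => by rw [shiftCoef_eq hH, hσ η]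
  have hBP : ∀ (χ : Cfsg.IrrCharacter G) (c : CG[Subgroup.zpowers u]), ¬ 2 ∣ orderOf c →
      Cfsg.blockPart b (fun a : CG[Subgroup.zpowers u] => (χ : G → ℂ) (u * (a : G))) c =
        (D χ : ℂ) * φ c := fun χ c hc => by
    rw [blockPart_eq_secCoord ψ A hA χ hc, Fin.sum_univ_one, hsec]
  set SB := B.toFinite.toFinset
  have hD0 : ∀ χ ∈ B, D χ ≠ 0 := by
    intro χ hχ h
    refine major_contrib_ne_zero hM hu hH hind hdb hχ ?_
    rw [contrib_eq_sum_regular hH, Finset.sum_eq_zero, mul_zero]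
    intro c _
    split_ifs with hc
    · rfl
    · rw [hBP χ c hc, h]; simp
  have hsq4 : ∑ χ ∈ SB, D χ * D χ = 4 := by
    have h := sum_secCoord_mul hM hH hu hind ψ A hA hli 0 0
    simp only [hsec, map_intCast, cartanOf] at h
    have h2 : ((∑ χ ∈ SB, D χ * D χ : ℤ) : ℂ) = ((∑ η ∈ Sb, (d η : ℤ) * (d η : ℤ) : ℤ) : ℂ) := by
      simp only [A, Int.cast_sum, Int.cast_mul, Int.cast_natCast] at h ⊢; exact h
    rw [Int.cast_inj.1 h2]
    simp only [← pow_two]
    exact_mod_cast hsum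
  have hpm : ∀ χ ∈ B, D χ = 1 ∨ D χ = -1 := by
    have hle' : ∀ χ ∈ SB, (1 : ℤ) ≤ D χ * D χ := fun χ hχ =>
      mul_self_pos.2 (hD0 χ ((Set.Finite.mem_toFinset _).1 hχ))
    have hcard : (SB.card : ℤ) = 4 := by
      rw [← Set.ncard_eq_toFinset_card, ← Nat.card_coe_set_eq, hk]; rfl
    have := (Finset.sum_eq_sum_iff_of_le hle').1 (by
      rw [hsq4, Finset.sum_const, nsmul_one, hcard])
    exact fun χ hχ => mul_self_eq_one_iff.1 (this χ ((Set.Finite.mem_toFinset _).2 hχ)).symm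
  -- orthogonal to the regular values
  have horth : ∀ x : G, ¬ 2 ∣ orderOf x → ∑ χ ∈ SB, (D χ : ℂ) * (χ : G → ℂ) x = 0 := by
    intro x hx
    set W : CG[Subgroup.zpowers u] → ℂ := fun c =>
      ∑ᶠ ψ ∈ b, (ψ : CG[Subgroup.zpowers u] → ℂ) 1 * conj ((ψ : CG[Subgroup.zpowers u] → ℂ) c)
    have h0 : ∑ χ ∈ SB, ((D χ : ℂ) * φ 1) * conj ((χ : G → ℂ) x) = 0 := by
      rw [Finset.sum_congr rfl (g := fun χ : Cfsg.IrrCharacter G =>
        (Nat.card CG[Subgroup.zpowers u] : ℂ)⁻¹ * ∑ c : CG[Subgroup.zpowers u],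
          W c * ((χ : G → ℂ) (u * (c : G)) * conj ((χ : G → ℂ) x))) fun χ _ => by
        rw [← hBP χ 1 h1reg, blockPart_eq_kernel, mul_assoc, Finset.sum_mul]
        exact congrArg _ (Finset.sum_congr rfl fun c _ => by ring), ← Finset.mul_sum,
        Finset.sum_comm, Finset.sum_eq_zero, mul_zero]
      intro c _
      by_cases hc : 2 ∣ orderOf c
      · refine Finset.sum_eq_zero fun χ _ => ?_
        rw [show W c = 0 from weak_orthogonality hM hbP h1reg hc, zero_mul]
      · rw [← Finset.mul_sum]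
        have hs : 2 ∣ orderOf (u * (c : G)) := by
          have hcG : ¬ 2 ∣ orderOf (c : G) := by rwa [Subgroup.orderOf_coe]
          rw [Commute.orderOf_mul_eq_mul_orderOf_of_coprime ((hH c).1 c.2)
            (huo ▸ Nat.prime_two.coprime_iff_not_dvd.2 hcG), huo]
          exact dvd_mul_right 2 _
        have hw := weak_orthogonality hM hB hx hs
        rw [finsum_mem_eq_finite_toFinset_sum _ B.toFinite] at hw
        have := congrArg conj hw
        rw [map_sum, map_zero] at this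
        rw [show ∑ χ ∈ SB, (χ : G → ℂ) (u * (c : G)) * conj ((χ : G → ℂ) x) = 0 from
          (Finset.sum_congr rfl fun χ _ => by rw [map_mul, Complex.conj_conj]; ring).trans this,
          mul_zero]
    rw [Finset.sum_congr rfl (g := fun χ : Cfsg.IrrCharacter G =>
      φ 1 * ((D χ : ℂ) * conj ((χ : G → ℂ) x))) fun χ _ => by ring, ← Finset.mul_sum,
      mul_eq_zero] at h0
    have := congrArg conj (h0.resolve_left hφ1)
    simpa [map_sum] using this
  -- projectivity
  have hproj : ∀ c : CG[Subgroup.zpowers u], 2 ∣ orderOf c →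
      ∑ η ∈ Sb, (d η : ℂ) * (η : CG[Subgroup.zpowers u] → ℂ) c = 0 := by
    intro c hc
    have hw := weak_orthogonality hM hbP h1reg hc
    rw [finsum_mem_eq_finite_toFinset_sum _ b.toFinite, Finset.sum_congr rfl
      (g := fun η : Cfsg.IrrCharacter CG[Subgroup.zpowers u] =>
        φ 1 * ((d η : ℂ) * conj ((η : CG[Subgroup.zpowers u] → ℂ) c))) fun η hη => by
      rw [hdφ η (hmemb.1 hη) 1 h1reg]; ring, ← Finset.mul_sum, mul_eq_zero] at hw
    have := congrArg conj (hw.resolve_left hφ1)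
    simpa only [map_sum, map_mul, map_natCast, Complex.conj_conj, map_zero] using this
  let F : G → ℂ := fun y => if hy : y ∈ CG[Subgroup.zpowers u] then φ ⟨y, hy⟩ else 0
  refine ⟨D, F, hpm, horth, fun y hy => ?_⟩
  obtain ⟨hyC, hyr⟩ := mem_zpowers_centralizer_of_regC hy
  have hyr' : ¬ 2 ∣ orderOf (⟨y, hyC⟩ : CG[Subgroup.zpowers u]) := by rwa [Subgroup.orderOf_mk]
  have hF : F y = φ ⟨y, hyC⟩ := dif_pos hyC
  refine ⟨fun χ _ => ?_, ?_, ?_⟩
  · rw [hF, ← hBP χ _ hyr', ← sect_eq_blockPart]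
  · rw [hF, hn _ hyr', finsum_mem_eq_finite_toFinset_sum _ b.toFinite]
    exact (localRing hM).sum_mem fun η _ => (localRing hM).mul_mem
      (memLocalRing_of_isIntegral hM (isIntegral_intCast _)) (BlockChar.Cyclic.memLocalRing_irr hM _ _)
  · rw [BlockChar.Cyclic.card_centralizer_mul Nat.prime_two hu hyr ((hH y).1 hyC) hyC,
      hF, show (4 : ℂ) * φ ⟨y, hyC⟩ =
        ∑ η ∈ Sb, (d η : ℂ) * (η : CG[Subgroup.zpowers u] → ℂ) ⟨y, hyC⟩ by
      rw [Finset.sum_congr rfl (g := fun η => ((d η ^ 2 : ℕ) : ℂ) * φ ⟨y, hyC⟩) fun η hη => by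
        rw [hdφ η (hmemb.1 hη) _ hyr']; push_cast; ring, ← Finset.sum_mul, ← Nat.cast_sum, hsum]
      norm_num]
    exact BlockChar.Cyclic.memLocalRing_div_natCast hM Nat.card_pos.ne'
      (memLocalRing_div_of_vanish hM Sb (fun η => (d η : ℂ))
        (fun η => (η : CG[Subgroup.zpowers u] → ℂ)) (fun η _ => memLocalRing_natCast hM _)
        (fun η _ => Char.IsIrr.isCharacter η.2) hproj hyr')

open scoped Classical in
/-- The pattern of a block with Klein four defect group is determined by its rank. -/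
theorem exists_pattern (hM : Cfsg.IsPModular 2 M) (hB : Cfsg.IsPBlock M B)
    (hPD : Cfsg.IsDefectGroup 2 M B P) (hV : IsKleinFour P) (hk : Nat.card B = 4)
    (hl : Cfsg.blockRank 2 B = 1 ∨ Cfsg.blockRank 2 B = 3) :
    ∃ lab t, HasPattern M B lab t
      (if Cfsg.blockRank 2 B = 1 then ({1, 2, 3} : Finset (Fin 4)) else {0}) := by
  have := Fact.mk Nat.prime_two
  let lab : Fin 4 → Cfsg.IrrCharacter G := fun i => ((Finite.equivFinOfCardEq hk).symm i : B)
  have hinj : Function.Injective lab :=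
    Subtype.val_injective.comp (Finite.equivFinOfCardEq hk).symm.injective
  have hrange : Set.range lab = B := Set.ext fun χ =>
    ⟨fun ⟨i, hi⟩ => hi ▸ ((Finite.equivFinOfCardEq hk).symm i).2,
      fun h => ⟨Finite.equivFinOfCardEq hk ⟨χ, h⟩, by simp [lab]⟩⟩
  have hlabB : ∀ i, lab i ∈ B := fun i => hrange ▸ Set.mem_range_self i
  have hsumB : ∀ f : Cfsg.IrrCharacter G → ℂ, ∑ χ ∈ B.toFinite.toFinset, f χ = ∑ i, f (lab i) := by
    intro f
    rw [← finsum_mem_eq_finite_toFinset_sum _ B.toFinite, ← finsum_eq_sum_of_fintype,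
      ← finsum_mem_range hinj, hrange]
  -- the common pattern
  obtain ⟨t, S, hS, ht, hreg, hfit⟩ : ∃ (t : Fin 4 → ℤ) (S : Finset (Fin 4)),
      S = (if Cfsg.blockRank 2 B = 1 then ({1, 2, 3} : Finset (Fin 4)) else {0}) ∧
      (∀ i, t i = 1 ∨ t i = -1) ∧
      (∀ x : G, ¬ 2 ∣ orderOf x →
        ∀ j ∈ S, ∑ i, (had j i : ℂ) * ((t i : ℂ) * (lab i : G → ℂ) x) = 0) ∧
      ∀ D : Fin 4 → ℤ, (∀ i, D i = 1 ∨ D i = -1) →
        (∀ x : G, ¬ 2 ∣ orderOf x → ∑ i, (D i : ℂ) * (lab i : G → ℂ) x = 0) →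
        ∃ j ∈ S, ∃ e : ℤ, ∀ i, t i * D i = e * had j i := by
    rcases hl with h1 | h3
    · obtain ⟨φ, d, -, hdφ, hsum⟩ := BlockChar.rank_one_cartan hM hB h1
      have hd2 : Cfsg.blockDefect 2 B = 2 := by
        have h := BlockChar.card_defectGroup hM hB hPD
        rw [hV.card_four, show 4 = 2 ^ 2 by norm_num] at h
        exact (Nat.pow_right_injective le_rfl h).symm
      rw [← hrange, finsum_mem_range hinj, finsum_eq_sum_of_fintype, hrange, hd2] at hsum
      have h1reg : ¬ 2 ∣ orderOf (1 : G) := by simp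
      have hne : ∀ i, φ 1 ≠ 0 ∧ 1 ≤ d (lab i) := fun i => by
        have h := Char.IsIrr.one_ne_zero (lab i).2
        rw [hdφ _ (hlabB i) 1 h1reg, mul_ne_zero_iff, Nat.cast_ne_zero] at h
        exact ⟨h.2, Nat.one_le_iff_ne_zero.2 h.1⟩
      have hd1 : ∀ i, d (lab i) = 1 := fun i => by
        have hs := hsum
        rw [Fin.sum_univ_four] at hs
        have := (hne 0).2; have := (hne 1).2; have := (hne 2).2; have := (hne 3).2
        have e0 : d (lab 0) ≤ d (lab 0) ^ 2 := Nat.le_self_pow two_ne_zero _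
        have e1 : d (lab 1) ≤ d (lab 1) ^ 2 := Nat.le_self_pow two_ne_zero _
        have e2 : d (lab 2) ≤ d (lab 2) ^ 2 := Nat.le_self_pow two_ne_zero _
        have e3 : d (lab 3) ≤ d (lab 3) ^ 2 := Nat.le_self_pow two_ne_zero _
        fin_cases i <;> simp <;> omega
      have hval : ∀ i, ∀ x : G, ¬ 2 ∣ orderOf x → (lab i : G → ℂ) x = φ x := fun i x hx => by
        rw [hdφ _ (hlabB i) x hx, hd1 i]; simp
      refine ⟨fun _ => 1, {1, 2, 3}, by rw [if_pos h1], fun _ => Or.inl rfl, fun x hx j hj => ?_,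
        fun D hD horth => ?_⟩
      · rw [Finset.sum_congr rfl (g := fun i => (had j i : ℂ) * φ x) fun i _ => by
          rw [hval i x hx]; simp, ← Finset.sum_mul, ← Int.cast_sum,
          show ∑ i, had j i = 0 by revert hj; revert j; decide]
        simp
      · have h0 := horth 1 h1reg
        rw [Finset.sum_congr rfl (g := fun i => (D i : ℂ) * φ 1) fun i _ => by rw [hval i 1 h1reg],
          ← Finset.sum_mul, mul_eq_zero, or_iff_left (hne 0).1, ← Int.cast_sum, Int.cast_eq_zero,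
          Fin.sum_univ_four] at h0
        refine ⟨if D 1 = D 0 then 1 else if D 2 = D 0 then 2 else 3,
          by split_ifs <;> decide, D 0, fun i => ?_⟩
        rcases hD 0 with a | a <;> rcases hD 1 with b | b <;> rcases hD 2 with c | c <;>
            rcases hD 3 with e | e <;>
          first
          | (exfalso; omega)
          | (fin_cases i <;> simp [a, b, c, e, had])
    · -- the relations form a line
      obtain ⟨c, hmax⟩ := BrauerPairs.exists_maximal_on hM hB hPD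
      have hP1 : P ≠ ⊥ := fun h => by
        have := hV.card_four; rw [h, Subgroup.card_bot] at this; omega
      obtain ⟨u, huP, hu1⟩ := (Subgroup.bot_or_exists_ne_one P).resolve_left hP1
      obtain ⟨b, hb⟩ := (BrauerPairs.existsUnique_subpairLE hM hmax.1.1
        (Subgroup.zpowers_le.2 huP)).exists
      obtain ⟨k, hk2⟩ := IsPGroup.iff_orderOf.1 hmax.1.1.1 ⟨u, huP⟩
      rw [Subgroup.orderOf_mk] at hk2
      obtain ⟨δ, -, hδ, hδorth, -⟩ := sect_signs hM hPD hV hk ⟨k, hk2⟩ hu1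
        ((BrauerPairs.isBrauerPairOf_iff_of_subpairLE hM hb B).1 hmax.1)
      let f : (Fin 4 → ℂ) →ₗ[ℂ] (G → ℂ) :=
        Fintype.linearCombination ℂ fun i => Cfsg.pRegularPart 2 (lab i : G → ℂ)
      have hf : ∀ v : Fin 4 → ℂ, (∀ x : G, ¬ 2 ∣ orderOf x → ∑ i, v i * (lab i : G → ℂ) x = 0) →
          f v = 0 := fun v hv => funext fun x => by
        rw [Fintype.linearCombination_apply, Finset.sum_apply]
        simp only [Pi.smul_apply, smul_eq_mul, pRegularPart_apply, Pi.zero_apply]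
        by_cases hx : 2 ∣ orderOf x
        · simp [hx]
        · simpa [hx] using hv x hx
      have hker : Module.finrank ℂ (LinearMap.ker f) = 1 := by
        have h := LinearMap.finrank_range_add_finrank_ker f
        have hr : Module.finrank ℂ (LinearMap.range f) = 3 := by
          rw [Fintype.range_linearCombination, ← h3, Cfsg.blockRank, ← hrange, ← Set.range_comp]
          rfl
        rw [hr, Module.finrank_fin_fun] at h
        omega
      have hmem : ∀ D : Fin 4 → ℤ, (∀ x : G, ¬ 2 ∣ orderOf x →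
          ∑ i, (D i : ℂ) * (lab i : G → ℂ) x = 0) → (fun i => (D i : ℂ)) ∈ LinearMap.ker f :=
        fun D h => LinearMap.mem_ker.2 (hf _ h)
      have hδ' : ∀ x : G, ¬ 2 ∣ orderOf x → ∑ i, (δ (lab i) : ℂ) * (lab i : G → ℂ) x = 0 :=
        fun x hx => by
          rw [← hsumB fun χ => (δ χ : ℂ) * (χ : G → ℂ) x]; exact hδorth x hx
      refine ⟨fun i => δ (lab i), {0}, by rw [if_neg (by omega)], fun i => hδ _ (hlabB i),
        fun x hx j hj => ?_, fun D hD horth => ?_⟩
      · rw [Finset.mem_singleton] at hj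
        subst hj
        simpa [had] using hδ' x hx
      · let v : LinearMap.ker f := ⟨_, hmem _ hδ'⟩
        have hv : v ≠ 0 := fun h => by
          have := congrFun (congrArg Subtype.val h) 0
          rcases hδ _ (hlabB 0) with a | a <;> simp [v, a] at this
        obtain ⟨s, hs⟩ := (finrank_eq_one_iff_of_nonzero' v hv).1 hker ⟨_, hmem D horth⟩
        have hs' : ∀ i, s * (δ (lab i) : ℂ) = (D i : ℂ) := fun i =>
          congrFun (congrArg Subtype.val hs) i
        refine ⟨0, Finset.mem_singleton_self _, δ (lab 0) * D 0, fun i => ?_⟩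
        have h2 : ((δ (lab i) * D i : ℤ) : ℂ) = ((δ (lab 0) * D 0 : ℤ) : ℂ) := by
          push_cast
          rw [← hs' i, ← hs' 0]
          rcases hδ _ (hlabB i) with a | a <;> rcases hδ _ (hlabB 0) with b | b <;> simp [a, b]
        rw [Int.cast_inj.1 h2]
        simp [had]
  rw [← hS]
  refine ⟨lab, t, hinj, hrange, ht, hreg, fun g hg => ?_⟩
  -- the singular values
  obtain ⟨z, hzdef⟩ : ∃ z, z = pPartOf 2 g := ⟨_, rfl⟩
  obtain ⟨s, hsdef⟩ : ∃ s, s = pPrimePartOf 2 g := ⟨_, rfl⟩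
  have hgzs : z * s = g := hzdef ▸ hsdef ▸ pPartOf_mul_pPrimePartOf Nat.prime_two g
  have hz : ∃ k, orderOf z = 2 ^ k := hzdef ▸ orderOf_pPartOf Nat.prime_two g
  have hz1 : z ≠ 1 := fun h => (pPartOf_eq_one_iff Nat.prime_two g).1 (hzdef ▸ h) hg
  have hs : s ∈ regC 2 z := by
    simp only [regC, Finset.mem_filter, Finset.mem_univ, true_and]
    exact ⟨hsdef ▸ not_dvd_orderOf_pPrimePartOf Nat.prime_two g,
      hzdef ▸ hsdef ▸ (commute_pPartOf_pPrimePartOf g).eq⟩
  let Rep : (Fin 4 → ℂ) → Prop := fun f => ∃ a : Fin 4 → ℂ, (∀ j, j ∉ S → a j = 0) ∧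
    (∀ j, Cfsg.MemLocalRing M (a j)) ∧
    (∀ j, Cfsg.MemLocalRing M
      (4 * a j / (Nat.card (Subgroup.centralizer ({g} : Set G)) : ℂ))) ∧
    ∀ i, (t i : ℂ) * f i = ∑ j, a j * (had j i : ℂ)
  show Rep fun i => (lab i : G → ℂ) g
  have hzero : Rep 0 := ⟨0, fun _ _ => rfl, fun _ => (localRing hM).zero_mem,
    fun _ => by rw [Pi.zero_apply, mul_zero, zero_div]; exact (localRing hM).zero_mem,
    fun i => by simp⟩
  have hadd : ∀ f f', Rep f → Rep f' → Rep (f + f') := by
    rintro f f' ⟨a, h1, h2, h3, h4⟩ ⟨a', h1', h2', h3', h4'⟩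
    refine ⟨a + a', fun j hj => by rw [Pi.add_apply, h1 j hj, h1' j hj, add_zero],
      fun j => (localRing hM).add_mem (h2 j) (h2' j), fun j => ?_, fun i => ?_⟩
    · rw [Pi.add_apply, mul_add, add_div]
      exact (localRing hM).add_mem (h3 j) (h3' j)
    · rw [Pi.add_apply, mul_add, h4 i, h4' i, ← Finset.sum_add_distrib]
      exact Finset.sum_congr rfl fun j _ => by rw [Pi.add_apply, add_mul]
  rw [show (fun i => (lab i : G → ℂ) g) =
      ∑ e ∈ Bk M z, fun i => sect (lab i : G → ℂ) z e s from funext fun i => by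
    rw [Finset.sum_apply, ← apply_section hM (lab i) hz hs, hgzs]]
  refine Finset.sum_induction _ Rep hadd hzero fun e he => ?_
  obtain ⟨b, hb, rfl⟩ := mem_Bk.1 he
  by_cases hpair : Cfsg.IsBrauerPairOf 2 M B (Subgroup.zpowers z) b
  · obtain ⟨D, F, hD, horth, hsect⟩ := sect_signs hM hPD hV hk hz hz1 hpair
    obtain ⟨hval, hFl, hFd⟩ := hsect s hs
    rw [hgzs] at hFd
    obtain ⟨j, hj, e, hje⟩ := hfit (fun i => D (lab i)) (fun i => hD _ (hlabB i)) fun x hx => by
      rw [← hsumB fun χ => (D χ : ℂ) * (χ : G → ℂ) x]; exact horth x hx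
    have he' : Cfsg.MemLocalRing M (e : ℂ) := memLocalRing_of_isIntegral hM (isIntegral_intCast e)
    refine ⟨fun k => if k = j then (e : ℂ) * F s else 0, fun k hk' => if_neg fun h => hk' (by rw [h]; exact hj),
      fun k => ?_, fun k => ?_, fun i => ?_⟩
    · dsimp only
      split_ifs
      · exact (localRing hM).mul_mem he' hFl
      · exact (localRing hM).zero_mem
    · dsimp only
      split_ifs
      · rw [mul_left_comm, mul_div_assoc]
        exact (localRing hM).mul_mem he' hFd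
      · rw [mul_zero, zero_div]; exact (localRing hM).zero_mem
    · simp only [ite_mul, zero_mul, Finset.sum_ite_eq', Finset.mem_univ, if_true]
      rw [hval _ (hlabB i), ← mul_assoc, ← Int.cast_mul, hje i]
      push_cast
      ring
  · have hz0 : (fun i => sect (lab i : G → ℂ) z (sbc CG[Subgroup.zpowers z] b) s) = 0 :=
      funext fun i => by_contra fun hne =>
        hpair (pair_of_sect_ne_zero hM hB (hlabB i) hz hb hs hne)
    rw [hz0]
    exact hzero

end Cfsg.Agent.Blocks.Klein
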