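import Cfsg.Agent.Blocks.CoveringNormal

/-!
# Knörr: defect groups of a covering block

A block covering a block `b` of a normal subgroup `N` has a defect group meeting `N` in a given
defect group of `b`.
-/

namespace Cfsg.Agent.Blocks

open scoped ComplexConjugate
open Cfsg.Agent

universe u

variable {G : Type u} [Group G] [Fintype G] {p : ℕ} [Fact p.Prime] {M : Ideal Cfsg.AlgInt}
  {N : Subgroup G} [hN : N.Normal] [Fintype N]

local notation "sbc" => Cfsg.subgroupBlockCoeff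

theorem exists_defectGroup_inf_eq_of_invariant (hM : Cfsg.IsPModular p M)
    {b : Set (Cfsg.IrrCharacter N)} (hb : Cfsg.IsPBlock M b)
    (hinv : ∀ (g : G) (θ : Cfsg.IrrCharacter N), θ ∈ b →
      (⟨_, Char.isIrr_conjFun g θ.2⟩ : Cfsg.IrrCharacter N) ∈ b)
    {Q : Subgroup N} (hQ : Cfsg.IsDefectGroup p M b Q) {B : Set (Cfsg.IrrCharacter G)}
    (hB : Cfsg.IsPBlock M B)
    (hcov : ∃ χ ∈ B, ∃ θ ∈ b, Cfsg.classInner (fun n : N => (χ : G → ℂ) n) (θ : N → ℂ) ≠ 0) :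
    ∃ D : Subgroup G, Cfsg.IsDefectGroup p M B D ∧ D ⊓ N = Q.map N.subtype := by
  classical
  obtain ⟨D, hD, hQD⟩ := exists_defectGroup_ge hM hb hinv hQ hB hcov
  refine ⟨D, hD, (Subgroup.eq_of_le_of_card_ge (le_inf hQD (Subgroup.map_subtype_le Q)) ?_).symm⟩
  obtain ⟨χ, hχ⟩ := IsPBlock.nonempty hM hB
  obtain ⟨η, hη⟩ := Char.exists_constituent_res (N := N) χ.2
  have hec := isInv_sbc_top hM hb hinv
  have h1 : omega (χ : G → ℂ) (sbc N b) = 1 := by
    rw [BlockThms.omega_res_eq χ.2 η.2 hη hec fun y hy => BrauerPairs.sbc_of_notMem b hy,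
      show (fun n : N => sbc N b (n : G)) = Cfsg.blockCoeff b from
        funext fun n => BrauerPairs.sbc_apply b n, omega_blockCoeff,
      if_pos (constituent_mem hM hb hinv hB hcov hχ hη)]
  have : Finite (ConjClasses G) := Quotient.finite _
  have := Fintype.ofFinite (ConjClasses G)
  obtain ⟨g, hge, hgc⟩ : ∃ g : G, ¬ Cfsg.MemLocalIdeal M (sbc N b g) ∧
      ¬ Cfsg.MemLocalIdeal M (Cfsg.centralChar (χ : G → ℂ) g) := by
    by_contra! hne
    refine not_memLocalIdeal_one hM ?_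
    rw [← h1, omega_eq_sum_classes (Char.isClassFunction_of_isIrr χ.2) hec]
    refine memLocalIdeal_sum hM _ fun C _ => ?_
    by_cases h : Cfsg.MemLocalIdeal M (sbc N b C.out)
    · exact memLocalIdeal_mul_right hM h (memLocalRing_centralChar hM χ.2 _)
    · exact memLocalIdeal_mul_left hM (BrauerPairs.memLocalRing_sbc hM hb _) (hne _ h)
  have hgN : g ∈ N := by
    by_contra hgN
    exact hge (by rw [BrauerPairs.sbc_of_notMem b hgN]; exact memLocalIdeal_zero hM)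
  rw [BrauerPairs.sbc_of_mem b hgN] at hge
  obtain ⟨d, hd, hdD⟩ := DefectThms.isDefectGroup_iff.1 hD
  obtain ⟨k, S, hS, hkS⟩ := DefectThms.exists_le_isSylC_of_unit hM hB hd hdD hχ hgc
  set D₁ := D.map (MulAut.conj k).toMonoidHom
  set P : Subgroup N := (D₁ ⊓ N).subgroupOf N with hP
  have hPp : IsPGroup p P :=
    (((DefectThms.isPGroup_of_isDefectGroup hD).map _).to_le inf_le_left).comap_subtype
  have hPle : P ≤ Subgroup.centralizer ({⟨g, hgN⟩} : Set N) := fun y hy =>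
    Subgroup.mem_centralizer_singleton_iff.2 (Subtype.ext
      (Subgroup.mem_centralizer_singleton_iff.1 (hS.1 (hkS (Subgroup.mem_subgroupOf.1 hy).1))))
  obtain ⟨T, hT, hPT⟩ := DefectThms.exists_le_isSylC hPp hPle
  obtain ⟨q, hq, hqQ⟩ := DefectThms.isDefectGroup_iff.1 hQ
  obtain ⟨c, hc⟩ := DefectThms.exists_conj_le_of_unit_coeff hM hb hq hqQ hge hT
  calc Nat.card ↥(D ⊓ N) = Nat.card ↥(D₁ ⊓ N) := by
        rw [← DefectThms.card_map_conj (D ⊓ N) k, Subgroup.map_inf _ _ _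
          (MulAut.conj k).injective]
        rw [show N.map (MulAut.conj k).toMonoidHom = N from
          le_antisymm (fun y ⟨x, hx, e⟩ => e ▸ hN.conj_mem x hx k)
            fun y hy => ⟨k⁻¹ * y * k, by simpa using hN.conj_mem y hy k⁻¹, by
              simp only [MulEquiv.coe_toMonoidHom, MulAut.conj_apply]; group⟩]
    _ = Nat.card P := (Nat.card_congr (Subgroup.subgroupOfEquivOfLe inf_le_right).toEquiv).symm
    _ ≤ Nat.card T := Nat.le_of_dvd Nat.card_pos (Subgroup.card_dvd_of_le hPT)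
    _ = Nat.card (T.map (MulAut.conj c).toMonoidHom) := (DefectThms.card_map_conj T c).symm
    _ ≤ Nat.card Q := Nat.le_of_dvd Nat.card_pos (Subgroup.card_dvd_of_le hc)
    _ = Nat.card (Q.map N.subtype) :=
        Nat.card_congr (Q.equivMapOfInjective _ N.subtype_injective).toEquiv

theorem exists_stabilizer (hM : Cfsg.IsPModular p M) {b : Set (Cfsg.IrrCharacter N)}
    (hb : Cfsg.IsPBlock M b) :
    ∃ T : Subgroup G, N ≤ T ∧ ∀ g : G, g ∈ T ↔ ∀ θ ∈ b, ∀ θ' : Cfsg.IrrCharacter N,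
      (∀ n : N, (θ' : N → ℂ) n = (θ : N → ℂ) ⟨g * n * g⁻¹, hN.conj_mem n n.2 g⟩) → θ' ∈ b := by
  classical
  refine ⟨BrauerPairs.invSubgroup (sbc N b), fun n hn x => BrauerPairs.isInv_sbc b n hn x,
    fun g => ?_⟩
  set T := BrauerPairs.invSubgroup (sbc N b) with hTdef
  have hg : ∀ (g : G) y, y ∈ N ↔ g * y * g⁻¹ ∈ N := fun g y =>
    ⟨fun h => hN.conj_mem y h g, fun h => by simpa [mul_assoc] using hN.conj_mem _ h g⁻¹⟩
  rw [← T.inv_mem_iff]
  trans BrauerPairs.IsInv {g⁻¹} (sbc N b)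
  · exact ⟨fun h k hk x => by rw [Set.mem_singleton_iff] at hk; subst hk; exact h x,
      fun h x => h g⁻¹ rfl x⟩
  rw [← BrauerPairs.stabilizes_iff_isInv hM hb (hg g⁻¹)]
  constructor
  · intro h θ hθ θ' he
    refine h θ hθ θ' fun n m e => (he m).trans (congrArg (θ : N → ℂ) (Subtype.ext ?_))
    show g * (m : G) * g⁻¹ = n
    rw [e]; group
  · intro h θ hθ θ' he
    refine h θ hθ θ' fun n => he _ n ?_
    show (n : G) = g⁻¹ * (g * n * g⁻¹) * g⁻¹⁻¹
    group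

omit [Fact p.Prime] in
/-- In the stabilizer `b` is invariant. -/
theorem mapBlock_invariant {b : Set (Cfsg.IrrCharacter N)} {T : Subgroup G} (hNT : N ≤ T)
    [hN' : (N.subgroupOf T).Normal]
    (hT : ∀ g : G, g ∈ T ↔ ∀ θ ∈ b, ∀ θ' : Cfsg.IrrCharacter N,
      (∀ n : N, (θ' : N → ℂ) n = (θ : N → ℂ) ⟨g * n * g⁻¹, hN.conj_mem n n.2 g⟩) → θ' ∈ b)
    (t : T) (θ : Cfsg.IrrCharacter (N.subgroupOf T))
    (hθ : θ ∈ BrauerPairs.mapBlock (Subgroup.subgroupOfEquivOfLe hNT).symm b) :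
    (⟨_, Char.isIrr_conjFun t θ.2⟩ : Cfsg.IrrCharacter (N.subgroupOf T)) ∈
      BrauerPairs.mapBlock (Subgroup.subgroupOfEquivOfLe hNT).symm b := by
  have h := conjFun_mem hT t.2 hθ
  show BrauerPairs.compIrr _ _ ∈ b
  convert h using 1
  exact Subtype.ext (funext fun n => rfl)

/-- Covering, read inside the stabilizer. -/
theorem exists_mapBlock_constituent {b : Set (Cfsg.IrrCharacter N)} {T : Subgroup G} [Fintype T]
    (hNT : N ≤ T) [Fintype (N.subgroupOf T)] (ψ : Cfsg.IrrCharacter T)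
    (h : OverBlock hNT b (ψ : T → ℂ)) :
    ∃ η ∈ BrauerPairs.mapBlock (Subgroup.subgroupOfEquivOfLe hNT).symm b,
      Cfsg.classInner (fun n : N.subgroupOf T => (ψ : T → ℂ) n) (η : N.subgroupOf T → ℂ) ≠ 0 := by
  obtain ⟨θ, hθ, hc⟩ := h
  set φ : N ≃* N.subgroupOf T := (Subgroup.subgroupOfEquivOfLe hNT).symm with hφ
  refine ⟨BrauerPairs.compIrr φ.symm θ, ?_, ?_⟩
  · show BrauerPairs.compIrr φ (BrauerPairs.compIrr φ.symm θ) ∈ b
    rwa [show BrauerPairs.compIrr φ (BrauerPairs.compIrr φ.symm θ) = θ from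
      (BrauerPairs.compIrrEquiv φ.symm).symm_apply_apply θ]
  · convert hc using 1
    rw [Cfsg.classInner, Cfsg.classInner, Nat.card_congr φ.symm.toEquiv]
    exact congrArg _ (Fintype.sum_equiv φ.symm.toEquiv _ _ fun n => rfl)

/-- The defect group can be taken in the stabilizer of `b`. -/
theorem exists_defectGroup_inf_eq (hM : Cfsg.IsPModular p M)
    {b : Set (Cfsg.IrrCharacter N)} (hb : Cfsg.IsPBlock M b)
    {Q : Subgroup N} (hQ : Cfsg.IsDefectGroup p M b Q) {B : Set (Cfsg.IrrCharacter G)}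
    (hB : Cfsg.IsPBlock M B)
    (hcov : ∃ χ ∈ B, ∃ θ ∈ b, Cfsg.classInner (fun n : N => (χ : G → ℂ) n) (θ : N → ℂ) ≠ 0) :
    ∃ D : Subgroup G, Cfsg.IsDefectGroup p M B D ∧ D ⊓ N = Q.map N.subtype ∧
      ∀ g ∈ D, ∀ θ ∈ b, ∀ θ' : Cfsg.IrrCharacter N,
        (∀ n : N, (θ' : N → ℂ) n = (θ : N → ℂ) ⟨g * n * g⁻¹, hN.conj_mem n n.2 g⟩) → θ' ∈ b := by
  classical
  obtain ⟨T, hNT, hT⟩ := exists_stabilizer hM hb
  have := Fintype.ofFinite T
  obtain ⟨B', hB', ⟨ψ, hψ, hov⟩, hind⟩ := exists_inducing hNT hM hb hT hB hcov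
  obtain ⟨hdef, -⟩ := defect_and_heights hNT hM hb hT hB' ⟨ψ, hψ, hov⟩ hind
  set N' := N.subgroupOf T
  have := Fintype.ofFinite N'
  have hN' : N'.Normal := hN.subgroupOf T
  set φ : N ≃* N' := (Subgroup.subgroupOfEquivOfLe hNT).symm with hφ
  have hb' := BrauerPairs.isPBlock_mapBlock (M := M) φ hb
  have hinv' := mapBlock_invariant hNT hT
  have hcov' : ∃ χ ∈ B', ∃ η ∈ BrauerPairs.mapBlock φ b,
      Cfsg.classInner (fun n : N' => (χ : T → ℂ) n) (η : N' → ℂ) ≠ 0 :=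
    ⟨ψ, hψ, exists_mapBlock_constituent hNT ψ hov⟩
  obtain ⟨D', hD', hDN⟩ := exists_defectGroup_inf_eq_of_invariant hM hb' hinv'
    (BrauerPairs.isDefectGroup_mapBlock φ hQ hM.1) hB' hcov'
  refine ⟨D'.map T.subtype, hdef D' hD', ?_, fun g hg => (hT g).1 (Subgroup.map_subtype_le D' hg)⟩
  have h1 := congrArg (Subgroup.map T.subtype) hDN
  rw [Subgroup.map_inf _ _ _ T.subtype_injective, Subgroup.subgroupOf_map_subtype,
    inf_eq_left.2 hNT, Subgroup.map_map, Subgroup.map_map] at h1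
  exact h1

end Cfsg.Agent.Blocks
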