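import Cfsg.Agent.BlockChar.ResidueBlock
import Cfsg.Agent.BlockThms.DefectGroup
import Mathlib.GroupTheory.PGroup
import Mathlib.GroupTheory.FiniteAbelian.Basic

/-!
# Blocks of minimal dimension

If `∑ χ(1) ^ 2` over a block is as small as possible, the translates of the reduced idempotent by
one double coset `PzP` of a Sylow group form a basis of the block algebra.  Hence every fusion of
a subgroup carrying the block is realised in `P`, and the block is nilpotent.
-/

set_option autoImplicit false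

namespace Cfsg.Agent.Blocks.MinimalDim

open Cfsg.Agent Cfsg.Agent.Blocks

attribute [local instance] Ideal.Quotient.field

universe u

section fixed

variable {p : ℕ} {k : Type*} [CommRing k] {H α : Type*} [Group H] [MulAction H α]

/-- An invariant function with non-zero sum is non-zero at a fixed point. -/
theorem exists_fixed_of_sum_ne_zero [Fact p.Prime] [Finite H] [Fintype α] (hp : (p : k) = 0)
    (hH : IsPGroup p H) (f : α → k) (hinv : ∀ (a : H) x, f (a • x) = f x) (hne : ∑ x, f x ≠ 0) :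
    ∃ x, (∀ a : H, a • x = x) ∧ f x ≠ 0 := by
  classical
  by_contra hcon
  simp only [not_exists, not_and_or, not_not] at hcon
  refine hne ?_
  rw [← Finset.sum_fiberwise (s := Finset.univ)
    (g := fun x => (Quotient.mk'' x : MulAction.orbitRel.Quotient H α)) (f := f)]
  refine Finset.sum_eq_zero fun q _ => ?_
  induction q using Quotient.inductionOn' with
  | _ x =>
  have hfil : (Finset.univ.filter fun y => (Quotient.mk'' y : MulAction.orbitRel.Quotient H α) =
      Quotient.mk'' x) = (MulAction.orbit H x).toFinset := by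
    ext y
    simp only [Finset.mem_filter, Finset.mem_univ, true_and, Set.mem_toFinset]
    rw [Quotient.eq'']
    exact Iff.rfl
  rw [hfil, Finset.sum_congr rfl (g := fun _ => f x) fun y hy => by
    obtain ⟨a, rfl⟩ := Set.mem_toFinset.1 hy
    exact hinv a x, Finset.sum_const, nsmul_eq_mul]
  obtain ⟨n, hn⟩ := hH.card_orbit x
  rw [Set.toFinset_card, ← Nat.card_eq_fintype_card, hn]
  rcases Nat.eq_zero_or_pos n with rfl | hn0
  · rcases hcon x with h | h
    · refine absurd (fun a => ?_) h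
      have : Subsingleton (MulAction.orbit H x) := (Nat.card_eq_one_iff_unique.1 (by simpa using hn)).1
      exact congrArg Subtype.val (Subsingleton.elim
        (⟨a • x, MulAction.mem_orbit x a⟩ : MulAction.orbit H x) ⟨x, MulAction.mem_orbit_self x⟩)
    · simp [h]
  · rw [Nat.cast_pow, hp, zero_pow hn0.ne', zero_mul]

/-- A non-zero stable additive group of functions has a non-zero invariant member. -/
theorem exists_invariant_mem [Fact p.Prime] [Finite H] [Fintype α] (hp : (p : k) = 0)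
    (hH : IsPGroup p H) (K : AddSubgroup (α → k))
    (hK : ∀ (a : H), ∀ f ∈ K, (fun x => f (a • x)) ∈ K) {f : α → k} (hf : f ∈ K) (hf0 : f ≠ 0) :
    ∃ g ∈ K, g ≠ 0 ∧ ∀ (a : H) x, g (a • x) = g x := by
  classical
  have := Fintype.ofFinite H
  let T : H → (α → k) := fun a x => f (a • x)
  set S := AddSubgroup.closure (Set.range T) with hS
  have hSK : S ≤ K := (AddSubgroup.closure_le _).2 (by rintro _ ⟨a, rfl⟩; exact hK a f hf)
  have hpz : ∀ g : α → k, (p : ℕ) • g = 0 := fun g => by
    funext x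
    rw [Pi.smul_apply, nsmul_eq_mul, hp, zero_mul]; rfl
  have : Finite S := by
    have : AddGroup.FG S := (AddGroup.fg_iff_addSubgroup_fg S).2
      ((AddSubgroup.fg_iff S).2 ⟨Set.range T, hS.symm, Set.finite_range T⟩)
    refine AddCommGroup.finite_of_fg_torsion _ fun g => ?_
    exact isOfFinAddOrder_iff_nsmul_eq_zero.2
      ⟨p, (Fact.out : p.Prime).pos, Subtype.ext (hpz g.1)⟩
  have hstab : ∀ (a : H), ∀ g ∈ S, (fun x => g (a • x)) ∈ S := by
    intro a g hg
    induction hg using AddSubgroup.closure_induction with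
    | mem g hg =>
      obtain ⟨b, rfl⟩ := hg
      exact AddSubgroup.subset_closure ⟨b * a, funext fun x => by simp [T, mul_smul]⟩
    | zero => exact S.zero_mem
    | add g g' _ _ h h' => exact S.add_mem h h'
    | neg g _ h => exact S.neg_mem h
  letI : MulAction H S :=
    { smul := fun a g => ⟨fun x => g.1 (a⁻¹ • x), hstab a⁻¹ g.1 g.2⟩
      one_smul := fun g => Subtype.ext (funext fun x => by
        show g.1 ((1 : H)⁻¹ • x) = g.1 x
        rw [inv_one, one_smul])
      mul_smul := fun a b g => Subtype.ext (funext fun x => by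
        show g.1 ((a * b)⁻¹ • x) = g.1 (b⁻¹ • a⁻¹ • x)
        rw [mul_inv_rev, mul_smul]) }
  have hfS : f ∈ S := AddSubgroup.subset_closure ⟨1, funext fun x => by simp [T]⟩
  have : Nontrivial S := ⟨⟨⟨f, hfS⟩, 0, fun h => hf0 (congrArg Subtype.val h)⟩⟩
  obtain ⟨q, hq, hqd⟩ := Nat.exists_prime_and_dvd (Finite.one_lt_card (α := S)).ne'
  have : Fact q.Prime := ⟨hq⟩
  obtain ⟨g, hg⟩ := exists_prime_addOrderOf_dvd_card' (G := S) q hqd
  have hqp : q = p := (Nat.prime_dvd_prime_iff_eq hq Fact.out).1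
    (hg ▸ addOrderOf_dvd_of_nsmul_eq_zero (Subtype.ext (hpz g.1)))
  have h0 : (0 : S) ∈ MulAction.fixedPoints H S := fun a => Subtype.ext (funext fun x => rfl)
  obtain ⟨b, hb, hb0⟩ :=
    hH.exists_fixed_point_of_prime_dvd_card_of_fixed_point S (hqp ▸ hqd) h0
  refine ⟨b.1, hSK b.2, fun h => hb0 (Subtype.ext h.symm), fun a x => ?_⟩
  have h1 : b.1 (a⁻¹⁻¹ • x) = b.1 x := congrFun (congrArg Subtype.val (hb a⁻¹)) x
  rwa [inv_inv] at h1

end fixed

variable {G : Type u} [Group G] [Fintype G] {p : ℕ} [Fact p.Prime] {M : Ideal Cfsg.AlgInt}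

/-- The double coset action of `P × P`. -/
@[reducible] def twoSided (P : Subgroup G) : MulAction (P × P) G where
  smul a g := (a.1 : G) * g * (a.2 : G)⁻¹
  one_smul g := by
    show ((1 : P) : G) * g * ((1 : P) : G)⁻¹ = g
    simp
  mul_smul a b g := by
    show ((a.1 * b.1 : P) : G) * g * ((a.2 * b.2 : P) : G)⁻¹ =
      (a.1 : G) * ((b.1 : G) * g * (b.2 : G)⁻¹) * (a.2 : G)⁻¹
    simp [mul_assoc]

/-- Lifts of an independent family over a finite index type are independent. -/
theorem linearIndependent_lift' [M.IsMaximal] (hM : Cfsg.IsPModular p M) {ι κ : Type*} [Fintype ι]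
    [Fintype κ] (v : κ → ι → Cfsg.AlgInt ⧸ M) (hv : LinearIndependent (Cfsg.AlgInt ⧸ M) v)
    (V : κ → ι → ℂ) (hVR : ∀ i x, Cfsg.MemLocalRing M (V i x))
    (hV : ∀ i x, resFun hM (V i x) = v i x) : LinearIndependent ℂ V := by
  have e := (Fintype.equivFin κ).symm
  refine (linearIndependent_equiv e).1 ?_
  exact BlockChar.ResidueBlock.linearIndependent_lift hM (v ∘ e)
    ((linearIndependent_equiv e).2 hv) (V ∘ e) (fun i x => hVR _ x) fun i x => hV _ x

/-- Fusion in a block of minimal dimension is realised inside a Sylow subgroup. -/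
theorem exists_sylow_element (hM : Cfsg.IsPModular p M) {B : Set (Cfsg.IrrCharacter G)}
    (hB : Cfsg.IsPBlock M B) {D : Subgroup G} (hD : Cfsg.IsDefectGroup p M B D) (P : Sylow p G)
    {d : ℕ} (hd : Nat.card D = p ^ d)
    (hmin : ∑ᶠ χ ∈ B, Cfsg.charDegree (χ : G → ℂ) ^ 2 =
      p ^ (2 * (Nat.card G).factorization p - d))
    {Q : Subgroup G} (hQP : Q ≤ (P : Subgroup G)) {y : G}
    (hyC : y ∈ Subgroup.centralizer (Q : Set G))
    (hy : ¬ Cfsg.MemLocalIdeal M (Cfsg.blockCoeff B y))
    {h : G} (hh : ∀ q ∈ Q, h⁻¹ * q * h ∈ (P : Subgroup G)) :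
    ∃ w ∈ (P : Subgroup G), ∀ q ∈ Q, h⁻¹ * q * h = w⁻¹ * q * w := by
  classical
  have : M.IsMaximal := hM.2.1
  set k := Cfsg.AlgInt ⧸ M
  have hp0 : (p : k) = 0 := by
    rw [← map_natCast (Ideal.Quotient.mk M), Ideal.Quotient.eq_zero_iff_mem]
    exact hM.2.2
  set β := Cfsg.blockCoeff B with hβ
  have hβR : ∀ g, Cfsg.MemLocalRing M (β g) := memLocalRing_blockCoeff hM hB
  have hβc : Cfsg.IsClassFunction G β := isClassFunction_blockCoeff B
  let b : G → k := fun g => resFun hM (β g)
  have hbc : ∀ s z : G, b (s * z * s⁻¹) = b z := fun s z => congrArg (resFun hM) (hβc z s)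
  have hbb : ∀ z, ∑ g, b g * b (g⁻¹ * z) = b z := fun z => by
    have h1 := congrArg (resFun hM) (congrFun (blockCoeff_conv B) z)
    simp only [conv] at h1
    rw [BlockThms.OrderP.resFun_sum hM _ fun g _ => (localRing hM).mul_mem (hβR g) (hβR _)] at h1
    refine Eq.trans ?_ h1
    exact Finset.sum_congr rfl fun g _ => (resFun_mul hM (hβR g) (hβR _)).symm
  let W : G → G → k := fun g z => b (z * g⁻¹)
  -- the range of the idempotent
  let K : AddSubgroup (G → k) :=
    { carrier := {f | ∀ z, ∑ g, f g * W g z = f z}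
      zero_mem' := fun z => by simp
      add_mem' := fun {f f'} hf hf' z => by
        simp only [Pi.add_apply, add_mul, Finset.sum_add_distrib, hf z, hf' z]
      neg_mem' := fun {f} hf z => by
        show ∑ g, -f g * W g z = -f z
        rw [← hf z, ← Finset.sum_neg_distrib]
        exact Finset.sum_congr rfl fun g _ => by ring }
  have hWK : ∀ u, W u ∈ K := fun u z => by
    show ∑ g, b (g * u⁻¹) * b (z * g⁻¹) = b (z * u⁻¹)
    rw [← hbb (z * u⁻¹)]
    refine Fintype.sum_equiv (Equiv.mulRight u⁻¹) _ _ fun g => ?_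
    simp only [Equiv.coe_mulRight]
    congr 1
    rw [← hbc (g * u⁻¹) ((g * u⁻¹)⁻¹ * (z * u⁻¹))]
    congr 1
    group
  letI : MulAction (↥(P : Subgroup G) × ↥(P : Subgroup G)) G := twoSided (P : Subgroup G)
  set H := ↥(P : Subgroup G) × ↥(P : Subgroup G)
  letI : Fintype H := Fintype.ofFinite H
  have hHp : IsPGroup p H := by
    obtain ⟨n, hn⟩ := IsPGroup.iff_card.1 P.2
    exact IsPGroup.of_card (n := n + n) (by rw [Nat.card_prod, hn, pow_add])
  have hsmul : ∀ (a : H) g, a • g = (a.1 : G) * g * (a.2 : G)⁻¹ := fun _ _ => rfl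
  have hWsmul : ∀ (a : H) g z, W (a • g) (a • z) = W g z := fun a g z => by
    show b (a • z * (a • g)⁻¹) = b (z * g⁻¹)
    rw [← hbc (a.1 : G) (z * g⁻¹), hsmul, hsmul]
    congr 1
    group
  have hKst : ∀ (a : H), ∀ f ∈ K, (fun x => f (a • x)) ∈ K := fun a f hf z => by
    show ∑ g, f (a • g) * W g z = f (a • z)
    rw [← hf (a • z)]
    exact Fintype.sum_equiv (MulAction.toPerm a) _ _ fun g => by
      rw [MulAction.toPerm_apply, hWsmul]
  let O : G → Finset G := fun z => (MulAction.orbit H z).toFinset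
  have hOsmul : ∀ (a : H) z g, a • g ∈ O z ↔ g ∈ O z := fun a z g => by
    simp only [O, Set.mem_toFinset, MulAction.mem_orbit_iff]
    exact ⟨fun ⟨c, hc⟩ => ⟨a⁻¹ * c, by rw [mul_smul, hc, inv_smul_smul]⟩,
      fun ⟨c, hc⟩ => ⟨a * c, by rw [mul_smul, hc]⟩⟩
  -- an invariant element of the range meets an orbit with non-zero sum
  have hstep : ∀ f ∈ K, f ≠ 0 → (∀ (a : H) x, f (a • x) = f x) →
      ∃ z, f z ≠ 0 ∧ (∑ g ∈ O z, W g) ≠ 0 := by
    intro f hfK hf0 hinv
    by_contra hcon
    simp only [not_exists, not_and_or, not_not] at hcon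
    refine hf0 (funext fun x => ?_)
    rw [← hfK x, ← Finset.sum_fiberwise (s := Finset.univ)
      (g := fun g => (Quotient.mk'' g : MulAction.orbitRel.Quotient H G))]
    refine Finset.sum_eq_zero fun q _ => ?_
    induction q using Quotient.inductionOn' with
    | _ z =>
    rw [show (Finset.univ.filter fun y => (Quotient.mk'' y : MulAction.orbitRel.Quotient H G) =
        Quotient.mk'' z) = O z by
      ext y
      simp only [Finset.mem_filter, Finset.mem_univ, true_and, O, Set.mem_toFinset]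
      rw [Quotient.eq'']
      exact Iff.rfl]
    rw [Finset.sum_congr rfl (g := fun g => f z * W g x) fun g hg => by
      obtain ⟨a, rfl⟩ := Set.mem_toFinset.1 hg
      rw [hinv], ← Finset.mul_sum]
    rcases hcon z with h1 | h1
    · rw [h1, zero_mul]
    · rw [← Finset.sum_apply, h1, Pi.zero_apply, mul_zero]
  have hby : b y ≠ 0 := fun h0 => hy ((resFun_eq_zero_iff hM (hβR y)).1 h0)
  obtain ⟨f₁, hf₁K, hf₁0, hf₁inv⟩ := exists_invariant_mem hp0 hHp K hKst (hWK 1)
    (fun h0 => hby (by have := congrFun h0 y; simpa [W] using this))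
  obtain ⟨z₁, -, hS0⟩ := hstep f₁ hf₁K hf₁0 hf₁inv
  set S := ∑ g ∈ O z₁, W g with hS
  have hSinv : ∀ (a : H) x, S (a • x) = S x := fun a x => by
    simp only [hS, Finset.sum_apply]
    refine (Finset.sum_equiv (MulAction.toPerm a) (fun g => ?_) fun g _ => ?_).symm
    · rw [MulAction.toPerm_apply, hOsmul]
    · rw [MulAction.toPerm_apply, hWsmul]
  obtain ⟨z, hSz, hsum⟩ := hstep S (K.sum_mem fun g _ => hWK g) hS0 hSinv
  -- the stabilizer is small
  set R := MulAction.stabilizer H z
  have hRp : IsPGroup p R := hHp.to_subgroup R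
  obtain ⟨g₀, hg₀, hg₀ne⟩ := exists_fixed_of_sum_ne_zero (H := R) hp0 hRp
    (fun g => if g ∈ O z₁ then W g z else 0) (fun a g => by
      show (if (a : H) • g ∈ O z₁ then W ((a : H) • g) z else 0) = _
      rw [if_congr (hOsmul (a : H) z₁ g) rfl rfl, ← hWsmul (a : H) g z,
        show (a : H) • z = z from a.2])
    (by rw [Finset.sum_ite_mem, Finset.univ_inter, ← Finset.sum_apply]; exact hSz)
  have hW0 : b (z * g₀⁻¹) ≠ 0 := fun h0 => hg₀ne (by simp [W, h0])
  set x := z * g₀⁻¹ with hx
  have hRcard : Nat.card R ≤ p ^ d := by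
    let φ : R →* G :=
      { toFun := fun a => ((a : H).1 : G), map_one' := rfl, map_mul' := fun _ _ => rfl }
    have hfix : ∀ a : R, (φ a) * z * ((a : H).2 : G)⁻¹ = z := fun a => a.2
    have hinj : Function.Injective φ := fun a a' e => by
      have e1 := (hfix a).trans (hfix a').symm
      rw [e] at e1
      exact Subtype.ext (Prod.ext (Subtype.ext e) (Subtype.ext (inv_inj.1 (mul_left_cancel e1))))
    have hle : φ.range ≤ Subgroup.centralizer ({x} : Set G) := by
      rintro _ ⟨a, rfl⟩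
      rw [Subgroup.mem_centralizer_singleton_iff]
      have h1 : φ a * g₀ * ((a : H).2 : G)⁻¹ = g₀ := hg₀ a
      calc φ a * x = φ a * z * ((a : H).2 : G)⁻¹ * ((a : H).2 : G) * g₀⁻¹ := by rw [hx]; group
        _ = z * g₀⁻¹ * (g₀ * ((a : H).2 : G) * g₀⁻¹) := by rw [hfix a]; group
        _ = x * φ a := by
          rw [hx]
          congr 1
          rw [← mul_inv_eq_iff_eq_mul.1 h1, mul_inv_cancel_right]
    obtain ⟨g, hgB, hgD⟩ := DefectThms.isDefectGroup_iff.1 hD
    obtain ⟨T, hT, hRT⟩ := DefectThms.exists_le_isSylC (hRp.of_equiv (MonoidHom.ofInjective hinj)) hle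
    obtain ⟨c, hc⟩ := DefectThms.exists_conj_le_of_unit_coeff hM hB hgB hgD
      (fun h0 => hW0 ((resFun_eq_zero_iff hM (hβR x)).2 h0)) hT
    calc Nat.card R = Nat.card φ.range := Nat.card_congr (MonoidHom.ofInjective hinj).toEquiv
      _ ≤ Nat.card T := Nat.le_of_dvd Nat.card_pos (Subgroup.card_dvd_of_le hRT)
      _ = Nat.card (T.map (MulAut.conj c).toMonoidHom) := (DefectThms.card_map_conj T c).symm
      _ ≤ Nat.card D := Nat.le_of_dvd Nat.card_pos (Subgroup.card_dvd_of_le hc)
      _ = p ^ d := hd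
  -- the translates along the orbit are independent
  set Ω := O z with hΩ
  have hindep : ∀ c : G → k, (∀ g, g ∉ Ω → c g = 0) → (∀ u, ∑ g, c g * W g u = 0) → c = 0 := by
    let N : AddSubgroup (G → k) :=
      { carrier := {c | (∀ g, g ∉ Ω → c g = 0) ∧ ∀ u, ∑ g, c g * W g u = 0}
        zero_mem' := ⟨fun _ _ => rfl, fun u => by simp⟩
        add_mem' := fun {c c'} hc hc' => ⟨fun g hg => by simp [hc.1 g hg, hc'.1 g hg],
          fun u => by simp [add_mul, Finset.sum_add_distrib, hc.2 u, hc'.2 u]⟩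
        neg_mem' := fun {c} hc => ⟨fun g hg => by simp [hc.1 g hg],
          fun u => by
            rw [← neg_zero, ← hc.2 u, ← Finset.sum_neg_distrib]
            exact Finset.sum_congr rfl fun g _ => by rw [Pi.neg_apply]; ring⟩ }
    intro c h1 h2
    by_contra hc
    obtain ⟨e, ⟨he1, he2⟩, he0, heinv⟩ := exists_invariant_mem hp0 hHp N
      (fun a f hf => ⟨fun g hg => hf.1 _ fun h' => hg ((hOsmul a z g).1 h'), fun u => by
        rw [← hf.2 (a • u)]
        exact Fintype.sum_equiv (MulAction.toPerm a) _ _ fun g => by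
          rw [MulAction.toPerm_apply, hWsmul]⟩) (show c ∈ N from ⟨h1, h2⟩) hc
    have hconst : ∀ g ∈ Ω, e g = e z := fun g hg => by
      obtain ⟨a, rfl⟩ := Set.mem_toFinset.1 hg
      exact heinv a z
    have hez : e z ≠ 0 := fun h0 => he0 (funext fun g => if hg : g ∈ Ω then (hconst g hg).trans h0
      else he1 g hg)
    refine hsum (funext fun u => ?_)
    rw [Finset.sum_apply, Pi.zero_apply]
    refine (mul_eq_zero.1 ?_).resolve_left hez
    rw [Finset.mul_sum, ← he2 u,
      ← Finset.sum_subset (Finset.subset_univ Ω) (fun g _ hg => by rw [he1 g hg, zero_mul])]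
    exact Finset.sum_congr rfl fun g hg => by rw [hconst g hg]
  have hΩli : LinearIndependent k (fun g : Ω => W g) := by
    rw [Fintype.linearIndependent_iff]
    intro c hc i
    have h1 := hindep (fun g => if hg : g ∈ Ω then c ⟨g, hg⟩ else 0)
      (fun g hg => dif_neg hg) (fun u => by
        rw [← Finset.sum_subset (Finset.subset_univ Ω) (fun g _ hg => by rw [dif_neg hg, zero_mul]),
          ← Finset.sum_coe_sort]
        have := congrFun hc u
        simp only [Finset.sum_apply, Pi.smul_apply, smul_eq_mul, Pi.zero_apply] at this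
        rw [← this]
        exact Finset.sum_congr rfl fun g _ => by rw [dif_pos g.2])
    have := congrFun h1 i.1
    simpa using this
  -- dimension of the block algebra
  set T := LinearMap.range (BlockChar.ResidueBlock.convMap β)
  set a := (Nat.card G).factorization p with ha
  have hT : Module.finrank ℂ T = p ^ (2 * a - d) := by
    have hproj : LinearMap.IsProj T (BlockChar.ResidueBlock.convMap β) :=
      ⟨fun f => ⟨f, rfl⟩, fun f ⟨f', hf'⟩ => by
        rw [← hf']
        show conv β (conv β f') = conv β f'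
        rw [BlockChar.ResidueBlock.conv_assoc, blockCoeff_conv]⟩
    have h1 := hproj.trace
    rw [BlockChar.ResidueBlock.trace_convMap, hβ, Cfsg.blockCoeff,
      finsum_mem_eq_finite_toFinset_sum _ B.toFinite, ← mul_assoc,
      mul_inv_cancel₀ (Nat.cast_ne_zero.2 Nat.card_pos.ne'), one_mul] at h1
    rw [← hmin, finsum_mem_eq_finite_toFinset_sum _ B.toFinite]
    refine Nat.cast_injective (R := ℂ) (h1.symm.trans ?_)
    rw [Nat.cast_sum]
    refine Finset.sum_congr rfl fun χ _ => ?_
    rw [(CharArith.irr_degree_spec χ).1, Complex.conj_natCast, Nat.cast_pow, sq]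
  have hcardΩ : p ^ (2 * a - d) ≤ Fintype.card Ω := by
    have h1 := MulAction.card_orbit_mul_card_stabilizer_eq_card_group H z
    rw [← Nat.card_eq_fintype_card, ← Nat.card_eq_fintype_card, ← Nat.card_eq_fintype_card,
      Nat.card_prod, Sylow.card_eq_multiplicity P, ← ha, ← pow_add] at h1
    have h2 : Nat.card (MulAction.orbit H z) = Fintype.card Ω := by
      rw [Nat.card_eq_fintype_card, ← Set.toFinset_card, Fintype.card_coe]
    rw [← h2]
    by_contra hlt
    rw [not_le] at hlt
    have h3 := Nat.mul_lt_mul_of_lt_of_le hlt hRcard (pow_pos (Fact.out : p.Prime).pos d)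
    rw [h1, ← pow_add] at h3
    have hda : d ≤ a := by
      have hdvd : p ^ d ∣ Nat.card G := hd ▸ D.card_subgroup_dvd_card
      exact ((Fact.out : p.Prime).pow_dvd_iff_le_factorization Nat.card_pos.ne').1 hdvd
    have e : 2 * a - d + d = a + a := by omega
    exact absurd h3 (by rw [e]; exact lt_irrefl _)
  have hspan : ∀ u, W u ∈ Submodule.span k (Set.range fun g : Ω => W g) := by
    intro u
    by_contra hu
    have hopt : LinearIndependent k (fun o : Option Ω => Option.casesOn' o (W u) fun g => W g) :=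
      hΩli.option hu
    let V : Option Ω → G → ℂ := fun o => conv β (Pi.single (Option.casesOn' o u Subtype.val) 1)
    have hconv : ∀ g v : G, conv β (Pi.single g (1 : ℂ)) v = β (v * g⁻¹) := fun g v => by
      show ∑ l, β l * (Pi.single g (1 : ℂ) : G → ℂ) (l⁻¹ * v) = _
      rw [Finset.sum_eq_single (v * g⁻¹)]
      · rw [show (v * g⁻¹)⁻¹ * v = g by group, Pi.single_eq_same, mul_one]
      · intro l _ hl
        rw [Pi.single_eq_of_ne (fun e => hl (by rw [← e]; group)), mul_zero]
      · simp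
    have hV : LinearIndependent ℂ V := linearIndependent_lift' hM _ hopt V
      (fun o v => by rw [show V o v = _ from hconv _ v]; exact hβR _)
      (fun o v => by
        rw [show V o v = _ from hconv _ v]
        cases o <;> rfl)
    have hV' : LinearIndependent ℂ (fun o => (⟨V o, ⟨_, rfl⟩⟩ : T)) :=
      LinearIndependent.of_comp T.subtype hV
    have h1 := hV'.fintype_card_le_finrank
    rw [Fintype.card_option, hT] at h1
    omega
  -- the coefficients of a translate
  obtain ⟨c₀, hc₀⟩ := (Submodule.mem_span_range_iff_exists_fun k).1 (hspan h)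
  let c : G → k := fun g => if hg : g ∈ Ω then c₀ ⟨g, hg⟩ else 0
  have hcsupp : ∀ g, g ∉ Ω → c g = 0 := fun g hg => dif_neg hg
  have hcW : ∀ u, ∑ g, c g * W g u = W h u := fun u => by
    rw [← Finset.sum_subset (Finset.subset_univ Ω)
      (fun g _ hg => by rw [hcsupp g hg, zero_mul]), ← Finset.sum_coe_sort, ← hc₀, Finset.sum_apply]
    exact Finset.sum_congr rfl fun g _ => by
      simp only [c, dif_pos g.2, Pi.smul_apply, smul_eq_mul]
  -- the twisted action of `Q`
  let ρ : Q →* H :=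
    { toFun := fun q => (⟨q, hQP q.2⟩, ⟨h⁻¹ * q * h, hh q q.2⟩)
      map_one' := Prod.ext (Subtype.ext rfl) (Subtype.ext (by simp))
      map_mul' := fun q q' => Prod.ext (Subtype.ext rfl) (Subtype.ext (by
        show h⁻¹ * ((q : G) * q') * h = h⁻¹ * q * h * (h⁻¹ * q' * h)
        group)) }
  letI : MulAction Q G := MulAction.compHom G ρ
  have hρh : ∀ q : Q, ρ q • h = h := fun q => by
    show (q : G) * h * (h⁻¹ * q * h)⁻¹ = h
    group
  have hρy : ∀ q : Q, ρ q • (y * h) = y * h := fun q => by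
    show (q : G) * (y * h) * (h⁻¹ * q * h)⁻¹ = y * h
    rw [show (q : G) * (y * h) * (h⁻¹ * q * h)⁻¹ = (q : G) * y * (q : G)⁻¹ * h by group,
      (Subgroup.mem_centralizer_iff.1 hyC (q : G) q.2), mul_inv_cancel_right]
  have hcinv : ∀ (q : Q) g, c (ρ q • g) = c g := fun q g => by
    have h1 := hindep (fun g => c (ρ q • g) - c g)
      (fun g hg => by rw [hcsupp g hg, hcsupp _ (fun h' => hg ((hOsmul _ z g).1 h')), sub_zero])
      (fun u => by
        simp only [sub_mul, Finset.sum_sub_distrib, hcW u]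
        rw [sub_eq_zero]
        conv_rhs => rw [← hWsmul (ρ q) h u, hρh q, ← hcW (ρ q • u)]
        exact Fintype.sum_equiv (MulAction.toPerm (ρ q)) _ _ fun g => by
          rw [MulAction.toPerm_apply, hWsmul])
    exact sub_eq_zero.1 (congrFun h1 g)
  obtain ⟨g, hgfix, hgne⟩ := exists_fixed_of_sum_ne_zero (H := Q) hp0 (P.2.to_le hQP)
    (fun g => c g * W g (y * h)) (fun q g => by
      show c (ρ q • g) * W (ρ q • g) (y * h) = _
      conv_lhs => rw [← hρy q]
      rw [hcinv, hWsmul])
    (by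
      rw [hcW]
      show b (y * h * h⁻¹) ≠ 0
      rwa [mul_inv_cancel_right])
  have hgΩ : g ∈ Ω := by
    by_contra h'
    exact hgne (by rw [hcsupp g h', zero_mul])
  -- realising `z` inside `P`
  obtain ⟨α, hα⟩ := Set.mem_toFinset.1 hgΩ
  have hzx : ∃ w₀ ∈ (P : Subgroup G), ∀ r ∈ (P : Subgroup G), z⁻¹ * r * z ∈ (P : Subgroup G) →
      z⁻¹ * r * z = w₀⁻¹ * r * w₀ := by
    -- the block is carried by the stabilizer
    obtain ⟨c₁, hc₁⟩ := (Submodule.mem_span_range_iff_exists_fun k).1 (hspan 1)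
    let e : G → k := fun g => if hg : g ∈ Ω then c₁ ⟨g, hg⟩ else 0
    have hesupp : ∀ g, g ∉ Ω → e g = 0 := fun g hg => dif_neg hg
    have heW : ∀ u, ∑ g, e g * W g u = W 1 u := fun u => by
      rw [← Finset.sum_subset (Finset.subset_univ Ω)
        (fun g _ hg => by rw [hesupp g hg, zero_mul]), ← Finset.sum_coe_sort, ← hc₁,
        Finset.sum_apply]
      exact Finset.sum_congr rfl fun g _ => by
        simp only [e, dif_pos g.2, Pi.smul_apply, smul_eq_mul]
    let δ : R →* H :=
      { toFun := fun a => ((a : H).1, (a : H).1), map_one' := rfl, map_mul' := fun _ _ => rfl }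
    have hRC : ∀ a : R, ((a : H).1 : G) * x = x * ((a : H).1 : G) := fun a => by
      have h1 : ((a : H).1 : G) * g₀ * ((a : H).2 : G)⁻¹ = g₀ := hg₀ a
      have h2 : ((a : H).1 : G) * z * ((a : H).2 : G)⁻¹ = z := a.2
      calc ((a : H).1 : G) * x
          = ((a : H).1 : G) * z * ((a : H).2 : G)⁻¹ * ((a : H).2 : G) * g₀⁻¹ := by rw [hx]; group
        _ = z * g₀⁻¹ * (g₀ * ((a : H).2 : G) * g₀⁻¹) := by rw [h2]; group
        _ = x * ((a : H).1 : G) := by
          rw [hx]
          congr 1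
          rw [← mul_inv_eq_iff_eq_mul.1 h1, mul_inv_cancel_right]
    letI : MulAction R G := MulAction.compHom G δ
    have hδ1 : ∀ a : R, δ a • (1 : G) = 1 := fun a => by
      show ((a : H).1 : G) * 1 * ((a : H).1 : G)⁻¹ = 1
      group
    have hδx : ∀ a : R, δ a • x = x := fun a => by
      show ((a : H).1 : G) * x * ((a : H).1 : G)⁻¹ = x
      rw [hRC a, mul_inv_cancel_right]
    have heinv : ∀ (a : R) g, e (δ a • g) = e g := fun a g => by
      have h1 := hindep (fun g => e (δ a • g) - e g)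
        (fun g hg => by rw [hesupp g hg, hesupp _ (fun h' => hg ((hOsmul _ z g).1 h')), sub_zero])
        (fun u => by
          simp only [sub_mul, Finset.sum_sub_distrib, heW u]
          rw [sub_eq_zero]
          conv_rhs => rw [← hWsmul (δ a) 1 u, hδ1 a, ← heW (δ a • u)]
          exact Fintype.sum_equiv (MulAction.toPerm (δ a)) _ _ fun g => by
            rw [MulAction.toPerm_apply, hWsmul])
      exact sub_eq_zero.1 (congrFun h1 g)
    obtain ⟨v, hvfix, hvne⟩ := exists_fixed_of_sum_ne_zero (H := R) hp0 hRp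
      (fun g => e g * W g x) (fun a g => by
        show e (δ a • g) * W (δ a • g) x = _
        conv_lhs => rw [← hδx a]
        rw [heinv, hWsmul])
      (by
        rw [heW]
        show b (x * 1⁻¹) ≠ 0
        rwa [inv_one, mul_one])
    have hvΩ : v ∈ Ω := by
      by_contra h'
      exact hvne (by rw [hesupp v h', zero_mul])
    obtain ⟨⟨s, t⟩, hst⟩ := Set.mem_toFinset.1 hvΩ
    refine ⟨(s : G)⁻¹ * t, mul_mem (inv_mem s.2) t.2, fun r hr hrz => ?_⟩
    have hz : z = (s : G)⁻¹ * v * t := by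
      rw [← hst]
      show z = (s : G)⁻¹ * ((s : G) * z * (t : G)⁻¹) * t
      group
    have hcomm : ∀ r, r ∈ (P : Subgroup G) → z⁻¹ * r * z ∈ (P : Subgroup G) → r * v = v * r := by
      intro r hr hrz
      have ha : ((⟨r, hr⟩, ⟨z⁻¹ * r * z, hrz⟩) : H) ∈ R := by
        show r * z * (z⁻¹ * r * z)⁻¹ = z
        group
      exact mul_inv_eq_iff_eq_mul.1 (hvfix ⟨_, ha⟩ : r * v * r⁻¹ = v)
    let A := {r : G // r ∈ (P : Subgroup G) ∧ z⁻¹ * r * z ∈ (P : Subgroup G)}
    let φ : A → A := fun r => ⟨(s : G)⁻¹ * r.1 * s, mul_mem (mul_mem (inv_mem s.2) r.2.1) s.2, by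
      have h1 : z⁻¹ * ((s : G)⁻¹ * r.1 * s) * z = (t : G)⁻¹ * r.1 * t := by
        refine (congrArg (fun w => w⁻¹ * ((s : G)⁻¹ * r.1 * s) * w) hz).trans ?_
        calc ((s : G)⁻¹ * v * t)⁻¹ * ((s : G)⁻¹ * r.1 * s) * ((s : G)⁻¹ * v * t)
            = (t : G)⁻¹ * (v⁻¹ * (r.1 * v)) * t := by group
          _ = (t : G)⁻¹ * r.1 * t := by rw [hcomm r.1 r.2.1 r.2.2, inv_mul_cancel_left]
      rw [h1]
      exact mul_mem (mul_mem (inv_mem t.2) r.2.1) t.2⟩
    have hφ : Function.Injective φ := fun r r' e =>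
      Subtype.ext (mul_left_cancel (mul_right_cancel (congrArg Subtype.val e)))
    obtain ⟨r', hr'⟩ := Finite.surjective_of_injective hφ ⟨r, hr, hrz⟩
    have hr'' : r = (s : G)⁻¹ * r'.1 * s := (congrArg Subtype.val hr').symm
    have h2 : (s : G) * r * (s : G)⁻¹ = r'.1 := by rw [hr'']; group
    calc z⁻¹ * r * z = (t : G)⁻¹ * (v⁻¹ * ((s : G) * r * (s : G)⁻¹ * v)) * t := by rw [hz]; group
      _ = (t : G)⁻¹ * ((s : G) * r * (s : G)⁻¹) * t := by
        rw [h2, hcomm r'.1 r'.2.1 r'.2.2, inv_mul_cancel_left]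
      _ = ((s : G)⁻¹ * t)⁻¹ * r * ((s : G)⁻¹ * t) := by group
  obtain ⟨w₀, hw₀, hconj⟩ := hzx
  refine ⟨(α.1 : G) * w₀ * (α.2 : G)⁻¹, mul_mem (mul_mem α.1.2 hw₀) (inv_mem α.2.2),
    fun q hq => ?_⟩
  have hfix : q * g * (h⁻¹ * q * h)⁻¹ = g := hgfix ⟨q, hq⟩
  have hg : g = (α.1 : G) * z * (α.2 : G)⁻¹ := hα.symm
  have hq' : h⁻¹ * q * h = g⁻¹ * q * g := by
    rw [show g⁻¹ * q * g = g⁻¹ * (q * g * (h⁻¹ * q * h)⁻¹) * (h⁻¹ * q * h) by group, hfix]
    group
  have hr : (α.1 : G)⁻¹ * q * (α.1 : G) ∈ (P : Subgroup G) :=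
    mul_mem (mul_mem (inv_mem α.1.2) (hQP hq)) α.1.2
  have hrz : z⁻¹ * ((α.1 : G)⁻¹ * q * (α.1 : G)) * z ∈ (P : Subgroup G) := by
    have h3 : (α.2 : G)⁻¹ * (g⁻¹ * q * g) * (α.2 : G) ∈ (P : Subgroup G) :=
      mul_mem (mul_mem (inv_mem α.2.2) (hq' ▸ hh q hq)) α.2.2
    convert h3 using 1
    rw [hg]
    group
  rw [hq', hg, show ((α.1 : G) * z * (α.2 : G)⁻¹)⁻¹ * q * ((α.1 : G) * z * (α.2 : G)⁻¹) =
    (α.2 : G) * (z⁻¹ * ((α.1 : G)⁻¹ * q * (α.1 : G)) * z) * (α.2 : G)⁻¹ by group, hconj _ hr hrz]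
  group

end Cfsg.Agent.Blocks.MinimalDim
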