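import Mathlib

/-!
# Cancellation in the complex of normal chains of p-subgroups fixed by a p-element
-/

namespace Cfsg.Agent.Blocks.NormalChains

universe u

variable {G : Type u} [Group G] [Finite G] {p : ℕ}

/-- A nonempty chain of nontrivial p-subgroups, all normal in the largest one. -/
def IsNChain (p : ℕ) (s : Finset (Subgroup G)) : Prop :=
  s.Nonempty ∧ (∀ Q ∈ s, ∀ R ∈ s, Q ≤ R ∨ R ≤ Q) ∧ (∀ Q ∈ s, Q ≠ ⊥ ∧ IsPGroup p Q) ∧
    ∃ T ∈ s, ∀ Q ∈ s, Q ≤ T ∧ T ≤ Subgroup.normalizer ((Q : Subgroup G) : Set G)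

/-- The stabiliser of a chain. -/
noncomputable def stab (s : Finset (Subgroup G)) : Subgroup G :=
  ⨅ Q ∈ s, Subgroup.normalizer ((Q : Subgroup G) : Set G)

omit [Finite G] in
theorem mem_stab {s : Finset (Subgroup G)} {g : G} :
    g ∈ stab s ↔ ∀ Q ∈ s, g ∈ Subgroup.normalizer ((Q : Subgroup G) : Set G) := by
  simp [stab, Subgroup.mem_iInf]

theorem normalizer_sup {A B : Subgroup G} {g : G}
    (hA : g ∈ Subgroup.normalizer (A : Set G)) (hB : g ∈ Subgroup.normalizer (B : Set G)) :
    g ∈ Subgroup.normalizer ((A ⊔ B : Subgroup G) : Set G) := by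
  rw [Subgroup.mem_normalizer_iff_map_conj_eq] at *
  rw [Subgroup.map_sup, hA, hB]

omit [Finite G] in
theorem mem_normalizer_bot (g : G) : g ∈ Subgroup.normalizer ((⊥ : Subgroup G) : Set G) := by
  rw [Subgroup.mem_normalizer_iff_map_conj_eq, Subgroup.map_bot]

/-- the normal closure of `x` in `T` -/
def ncl (T : Subgroup G) (x : G) : Subgroup G :=
  Subgroup.closure {y | ∃ t ∈ T, t * x * t⁻¹ = y}

omit [Finite G] in
theorem mem_ncl_self (T : Subgroup G) (x : G) : x ∈ ncl T x :=
  Subgroup.subset_closure ⟨1, T.one_mem, by simp⟩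

omit [Finite G] in
theorem ncl_le {T A : Subgroup G} {x : G} (h : ∀ t ∈ T, t * x * t⁻¹ ∈ A) : ncl T x ≤ A := by
  refine (Subgroup.closure_le _).2 ?_
  rintro _ ⟨t, ht, rfl⟩
  exact h t ht

omit [Finite G] in
theorem normalizer_ncl {T : Subgroup G} {x g : G} (hT : g ∈ Subgroup.normalizer (T : Set G))
    (hx : g * x = x * g) : g ∈ Subgroup.normalizer ((ncl T x : Subgroup G) : Set G) := by
  refine Subgroup.normalizer_le_normalizer_closure _ ?_
  rw [Subgroup.mem_set_normalizer_iff]
  intro y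
  constructor
  · rintro ⟨t, ht, rfl⟩
    refine ⟨g * t * g⁻¹, ((Subgroup.mem_normalizer_iff.1 hT) t).1 ht, ?_⟩
    calc g * t * g⁻¹ * x * (g * t * g⁻¹)⁻¹ = g * t * g⁻¹ * (x * g) * t⁻¹ * g⁻¹ := by group
      _ = _ := by rw [← hx]; group
  · rintro ⟨t, ht, e⟩
    refine ⟨g⁻¹ * t * g, ?_, ?_⟩
    · exact ((Subgroup.mem_normalizer_iff.1 hT) (g⁻¹ * t * g)).2 (by
        simpa [mul_assoc] using ht)
    · calc g⁻¹ * t * g * x * (g⁻¹ * t * g)⁻¹ = g⁻¹ * t * (g * x) * g⁻¹ * t⁻¹ * g := by group
        _ = g⁻¹ * (t * x * t⁻¹) * g := by rw [hx]; group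
        _ = y := by rw [e]; group

omit [Finite G] in
theorem le_normalizer_ncl (T : Subgroup G) (x : G) :
    T ≤ Subgroup.normalizer ((ncl T x : Subgroup G) : Set G) := by
  refine Subgroup.le_normalizer_closure_iff.2 fun h hh y hy => ?_
  obtain ⟨t, ht, rfl⟩ := hy
  exact Subgroup.subset_closure ⟨h * t, T.mul_mem hh ht, by group⟩

/-- In a p-group a subgroup which generates it together with the conjugates of an element
generates it together with the element. -/
theorem sup_zpowers_eq_of_sup_ncl [Fact p.Prime] {T P₀ : Subgroup G} (hT : IsPGroup p T) {x : G}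
    (hP : P₀ ≤ T) (hx : x ∈ T) (h : P₀ ⊔ ncl T x = T) : P₀ ⊔ Subgroup.zpowers x = T := by
  have hST : P₀ ⊔ Subgroup.zpowers x ≤ T := sup_le hP (Subgroup.zpowers_le.2 hx)
  rcases eq_top_or_exists_le_coatom ((P₀ ⊔ Subgroup.zpowers x).subgroupOf T) with hS | ⟨C, hC, hSC⟩
  · exact le_antisymm hST (Subgroup.subgroupOf_eq_top.1 hS)
  · exfalso
    haveI := hT.isNilpotent
    have hCn : C.Normal :=
      Subgroup.NormalizerCondition.normal_of_coatom C Group.normalizerCondition_of_isNilpotent hC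
    have hxC : (⟨x, hx⟩ : T) ∈ C :=
      hSC (Subgroup.mem_subgroupOf.2 (Subgroup.mem_sup_right (Subgroup.mem_zpowers x)))
    have hle : T ≤ C.map T.subtype := by
      conv_lhs => rw [← h]
      refine sup_le (fun q hq => ⟨⟨q, hP hq⟩, hSC (Subgroup.mem_subgroupOf.2
        (Subgroup.mem_sup_left hq)), rfl⟩) (ncl_le fun t ht => ?_)
      exact ⟨_, hCn.conj_mem _ hxC ⟨t, ht⟩, rfl⟩
    refine hC.1 (eq_top_iff.2 fun y _ => ?_)
    obtain ⟨c, hc, hcy⟩ := hle y.2
    rwa [← Subtype.ext hcy]

open scoped Classical in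
/-- the largest member not containing `x`, or `⊥` -/
noncomputable def low (x : G) (s : Finset (Subgroup G)) : Subgroup G :=
  (s.filter fun Q => x ∉ Q).sup id

/-- the subgroup to insert or remove -/
noncomputable def piv (x : G) (s : Finset (Subgroup G)) : Subgroup G :=
  low x s ⊔ ncl (s.sup id) x

open scoped Classical in
/-- the partner chain -/
noncomputable def partner (x : G) (s : Finset (Subgroup G)) : Finset (Subgroup G) :=
  if piv x s ∈ s then s.erase (piv x s) else insert (piv x s) s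

omit [Finite G] in
open scoped Classical in
theorem low_mem {x : G} {s : Finset (Subgroup G)}
    (hch : ∀ Q ∈ s, ∀ R ∈ s, Q ≤ R ∨ R ≤ Q) :
    low x s = ⊥ ∨ (low x s ∈ s ∧ x ∉ low x s) := by
  rcases (s.filter fun Q => x ∉ Q).eq_empty_or_nonempty with h | h
  · exact Or.inl (by rw [low, h, Finset.sup_empty])
  · refine Or.inr ((Finset.mem_filter (s := s) (p := fun Q => x ∉ Q)).1 ?_)
    obtain ⟨m, hm, hmax⟩ := (s.filter fun Q => x ∉ Q).exists_maximal h
    have : low x s = m := le_antisymm (Finset.sup_le fun Q hQ => by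
      rcases hch Q (Finset.mem_filter.1 hQ).1 m (Finset.mem_filter.1 hm).1 with h1 | h1
      · exact h1
      · exact hmax hQ h1) (Finset.le_sup (f := id) hm)
    rw [this]
    exact hm

omit [Finite G] in
open scoped Classical in
theorem sup_eq_top_member {s : Finset (Subgroup G)} {T : Subgroup G} (hT : T ∈ s)
    (h : ∀ Q ∈ s, Q ≤ T) : s.sup id = T :=
  le_antisymm (Finset.sup_le h) (Finset.le_sup (f := id) hT)

variable [Fact p.Prime] {x : G}

open scoped Classical in
theorem partner_spec {s : Finset (Subgroup G)} (hs : IsNChain p s) (hxs : x ∈ stab s)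
    (hx : ∃ k, orderOf x = p ^ k) (hx1 : x ≠ 1) (hne : s ≠ {Subgroup.zpowers x}) :
    IsNChain p (partner x s) ∧ x ∈ stab (partner x s) ∧ partner x s ≠ {Subgroup.zpowers x} ∧
      partner x (partner x s) = s ∧
      (∀ g : G, g * x = x * g → (g ∈ stab (partner x s) ↔ g ∈ stab s)) ∧
      ((partner x s).card = s.card + 1 ∨ (partner x s).card + 1 = s.card) := by
  obtain ⟨hsne, hch, hQ, T, hT, hTop⟩ := hs
  have hsup : s.sup id = T := sup_eq_top_member hT fun Q hQ => (hTop Q hQ).1
  have hxn := mem_stab.1 hxs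
  set R := piv x s with hR
  have hxR : x ∈ R := by
    rw [hR, piv]; exact Subgroup.mem_sup_right (mem_ncl_self _ _)
  have hxz : IsPGroup p (Subgroup.zpowers x) := by
    obtain ⟨k, hk⟩ := hx
    exact IsPGroup.of_card (n := k) (by rw [Nat.card_zpowers, hk])
  have hT'p : IsPGroup p (T ⊔ Subgroup.zpowers x : Subgroup G) :=
    IsPGroup.to_sup_of_normal_left' (hQ T hT).2 hxz (Subgroup.zpowers_le.2 (hxn T hT))
  have hlowT : low x s ≤ T := Finset.sup_le fun Q hQ => (hTop Q (Finset.mem_filter.1 hQ).1).1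
  have hlowN : ∀ g, (∀ Q ∈ s, g ∈ Subgroup.normalizer (Q : Set G)) →
      g ∈ Subgroup.normalizer ((low x s : Subgroup G) : Set G) := by
    intro g hg
    rcases low_mem (x := x) hch with h | h
    · rw [h]; exact mem_normalizer_bot g
    · exact hg _ h.1
  have hnclT' : ncl T x ≤ T ⊔ Subgroup.zpowers x := ncl_le fun t ht =>
    Subgroup.mul_mem _ (Subgroup.mul_mem _ (Subgroup.mem_sup_left ht)
      (Subgroup.mem_sup_right (Subgroup.mem_zpowers x))) (Subgroup.mem_sup_left (inv_mem ht))
  have hRT' : R ≤ T ⊔ Subgroup.zpowers x := by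
    rw [hR, piv, hsup]; exact sup_le (hlowT.trans le_sup_left) hnclT'
  have hRp : IsPGroup p R := hT'p.to_le hRT'
  have hR1 : R ≠ ⊥ := fun h => hx1 (Subgroup.mem_bot.1 (h ▸ hxR))
  have hRn : ∀ g, g * x = x * g → (∀ Q ∈ s, g ∈ Subgroup.normalizer (Q : Set G)) →
      g ∈ Subgroup.normalizer ((R : Subgroup G) : Set G) := by
    intro g hg hgs
    rw [hR, piv, hsup]
    exact normalizer_sup (hlowN g hgs) (normalizer_ncl (hgs T hT) hg)
  have hRabove : ∀ Q ∈ s, x ∈ Q → R ≤ Q := by
    intro Q hQs hxQ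
    rw [hR, piv, hsup]
    refine sup_le (Finset.sup_le fun Q' hQ' => ?_) (ncl_le fun t ht =>
      ((Subgroup.mem_normalizer_iff.1 ((hTop Q hQs).2 ht)) x).1 hxQ)
    obtain ⟨hQ's, hxQ'⟩ := Finset.mem_filter.1 hQ'
    exact (hch Q' hQ's Q hQs).resolve_right fun h => hxQ' (h hxQ)
  have hbelow : ∀ Q ∈ s, x ∉ Q → Q ≤ R := by
    intro Q hQs hxQ
    rw [hR, piv]
    exact le_sup_of_le_left (Finset.le_sup (f := id) (Finset.mem_filter.2 ⟨hQs, hxQ⟩))
  have hTR : T ≤ Subgroup.normalizer ((R : Subgroup G) : Set G) := fun t ht => by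
    rw [hR, piv, hsup]
    exact normalizer_sup (hlowN t fun Q hQ => (hTop Q hQ).2 ht) (le_normalizer_ncl T x ht)
  by_cases hmem : R ∈ s
  · -- removal
    have hpart : partner x s = s.erase R := by rw [partner, if_pos hmem]
    rw [hpart]
    have hfilt : (s.erase R).filter (fun Q => x ∉ Q) = s.filter (fun Q => x ∉ Q) := by
      rw [Finset.filter_erase]
      exact Finset.erase_eq_of_notMem fun h => (Finset.mem_filter.1 h).2 hxR
    have hlow : low x (s.erase R) = low x s := by rw [low, hfilt]; rfl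
    -- when the top is removed the new top is the lower member
    have htop : R = T → low x s ⊔ Subgroup.zpowers x = T ∧
        ∀ Q ∈ s.erase R, Q ≤ low x s ∧ x ∉ Q := by
      intro hRT
      refine ⟨sup_zpowers_eq_of_sup_ncl (hQ T hT).2 hlowT (hRT ▸ hxR) ?_, fun Q hQ' => ?_⟩
      · conv_rhs => rw [← hRT, hR, piv, hsup]
      · obtain ⟨hne', hQs⟩ := Finset.mem_erase.1 hQ'
        have hxQ : x ∉ Q := fun h => hne' (le_antisymm (hRT ▸ (hTop Q hQs).1) (hRabove Q hQs h))
        exact ⟨Finset.le_sup (f := id) (Finset.mem_filter.2 ⟨hQs, hxQ⟩), hxQ⟩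
    have hne' : (s.erase R).Nonempty := by
      rw [Finset.nonempty_iff_ne_empty]
      intro he
      apply hne
      have hs1 : s = {R} := by rw [← Finset.insert_erase hmem, he]; rfl
      have hTR' : R = T := (Finset.mem_singleton.1 (hs1 ▸ hT)).symm
      have hl : low x s = ⊥ := by
        rw [low, hs1, Finset.filter_singleton, if_neg (not_not.2 hxR), Finset.sup_empty]
      have h := (htop hTR').1
      rw [hl, bot_sup_eq] at h
      rw [hs1, hTR', h]
    obtain ⟨T₁, hT₁, hT₁top⟩ : ∃ T₁ ∈ s.erase R, ∀ Q ∈ s.erase R, Q ≤ T₁ := by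
      by_cases hRT : R = T
      · obtain ⟨Q₀, hQ₀⟩ := hne'
        rcases low_mem (x := x) hch with h | h
        · have := ((htop hRT).2 Q₀ hQ₀).1
          rw [h, le_bot_iff] at this
          exact absurd this (hQ Q₀ (Finset.mem_of_mem_erase hQ₀)).1
        · exact ⟨low x s, Finset.mem_erase.2 ⟨fun e => h.2 (e ▸ hxR), h.1⟩,
            fun Q hQ' => ((htop hRT).2 Q hQ').1⟩
      · exact ⟨T, Finset.mem_erase.2 ⟨Ne.symm hRT, hT⟩,
          fun Q hQ' => (hTop Q (Finset.mem_of_mem_erase hQ')).1⟩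
    have hpiv : piv x (s.erase R) = R := by
      rw [piv, hlow, sup_eq_top_member hT₁ hT₁top]
      by_cases hRT : R = T
      · refine le_antisymm ?_ ?_
        · rw [hR, piv, hsup]
          refine sup_le_sup le_rfl (Subgroup.closure_mono ?_)
          rintro _ ⟨t, ht, rfl⟩
          exact ⟨t, (hTop T₁ (Finset.mem_of_mem_erase hT₁)).1 ht, rfl⟩
        · conv_lhs => rw [hRT, ← (htop hRT).1]
          exact sup_le_sup le_rfl (Subgroup.zpowers_le.2 (mem_ncl_self _ _))
      · rw [show T₁ = T from le_antisymm (hTop T₁ (Finset.mem_of_mem_erase hT₁)).1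
          (hT₁top T (Finset.mem_erase.2 ⟨Ne.symm hRT, hT⟩)), hR, piv, hsup]
    refine ⟨⟨hne', fun Q hQ' Q' hQ'' => hch Q (Finset.mem_of_mem_erase hQ') Q'
        (Finset.mem_of_mem_erase hQ''), fun Q hQ' => hQ Q (Finset.mem_of_mem_erase hQ'),
        T₁, hT₁, fun Q hQ' => ⟨hT₁top Q hQ',
          (hTop T₁ (Finset.mem_of_mem_erase hT₁)).1.trans (hTop Q (Finset.mem_of_mem_erase hQ')).2⟩⟩,
      mem_stab.2 fun Q hQ' => hxn Q (Finset.mem_of_mem_erase hQ'), ?_, ?_, ?_, ?_⟩
    · intro e
      have h1 : piv x (s.erase R) = Subgroup.zpowers x := by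
        rw [e, piv, low, Finset.filter_singleton, if_neg (not_not.2 (Subgroup.mem_zpowers x)),
          Finset.sup_empty, bot_sup_eq, Finset.sup_singleton, id]
        refine le_antisymm (ncl_le fun t ht => ?_) (Subgroup.zpowers_le.2 (mem_ncl_self _ _))
        exact mul_mem (mul_mem ht (Subgroup.mem_zpowers x)) (inv_mem ht)
      have : Subgroup.zpowers x ∈ s.erase R := e ▸ Finset.mem_singleton_self _
      rw [hpiv] at h1
      exact (Finset.mem_erase.1 this).1 h1.symm
    · rw [partner, hpiv, if_neg (Finset.notMem_erase R s), Finset.insert_erase hmem]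
    · intro g hg
      refine ⟨fun h => mem_stab.2 fun Q hQ' => ?_, fun h => mem_stab.2 fun Q hQ' =>
        mem_stab.1 h Q (Finset.mem_of_mem_erase hQ')⟩
      by_cases hQR : Q = R
      · subst hQR
        by_cases hRT : R = T
        · conv => rw [hRT, ← (htop hRT).1]
          refine normalizer_sup ?_ ?_
          · rcases low_mem (x := x) hch with h' | h'
            · rw [h']; exact mem_normalizer_bot g
            · exact mem_stab.1 h _ (Finset.mem_erase.2 ⟨fun e => h'.2 (e ▸ hxR), h'.1⟩)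
          · rw [Subgroup.mem_normalizer_iff_map_conj_eq, MonoidHom.map_zpowers]
            congr 1
            show g * x * g⁻¹ = x
            rw [hg, mul_inv_cancel_right]
        · rw [hR, piv, hsup]
          refine normalizer_sup ?_ (normalizer_ncl
            (mem_stab.1 h T (Finset.mem_erase.2 ⟨Ne.symm hRT, hT⟩)) hg)
          rcases low_mem (x := x) hch with h' | h'
          · rw [h']; exact mem_normalizer_bot g
          · exact mem_stab.1 h _ (Finset.mem_erase.2 ⟨fun e => h'.2 (e ▸ hxR), h'.1⟩)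
      · exact mem_stab.1 h Q (Finset.mem_erase.2 ⟨hQR, hQ'⟩)
    · exact Or.inr (Finset.card_erase_add_one hmem)
  · -- insertion
    have hpart : partner x s = insert R s := by rw [partner, if_neg hmem]
    rw [hpart]
    have hfilt : (insert R s).filter (fun Q => x ∉ Q) = s.filter (fun Q => x ∉ Q) := by
      rw [Finset.filter_insert, if_neg (not_not.2 hxR)]
    have hlow : low x (insert R s) = low x s := by rw [low, hfilt]; rfl
    have hTTn : ∀ Q ∈ s, T ⊔ Subgroup.zpowers x ≤ Subgroup.normalizer (Q : Set G) := fun Q hQ' =>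
      sup_le (hTop Q hQ').2 (Subgroup.zpowers_le.2 (hxn Q hQ'))
    have hnormR : T ⊔ Subgroup.zpowers x ≤ Subgroup.normalizer ((R : Subgroup G) : Set G) :=
      sup_le hTR ((Subgroup.zpowers_le.2 hxR).trans Subgroup.le_normalizer)
    have htop' : T ⊔ Subgroup.zpowers x ∈ insert R s := by
      by_cases hxT : x ∈ T
      · rw [sup_eq_left.2 (Subgroup.zpowers_le.2 hxT)]; exact Finset.mem_insert_of_mem hT
      · have : R = T ⊔ Subgroup.zpowers x := le_antisymm hRT'
          (sup_le (hbelow T hT hxT) (Subgroup.zpowers_le.2 hxR))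
        rw [← this]; exact Finset.mem_insert_self _ _
    have htopall : ∀ Q ∈ insert R s, Q ≤ T ⊔ Subgroup.zpowers x := by
      intro Q hQ'
      rcases Finset.mem_insert.1 hQ' with rfl | h
      · exact hRT'
      · exact (hTop Q h).1.trans le_sup_left
    have hpiv : piv x (insert R s) = R := by
      rw [piv, hlow, sup_eq_top_member htop' htopall]
      refine le_antisymm ?_ ?_
      · by_cases hxT : x ∈ T
        · rw [sup_eq_left.2 (Subgroup.zpowers_le.2 hxT), hR, piv, hsup]
        · have : R = T ⊔ Subgroup.zpowers x := le_antisymm hRT'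
            (sup_le (hbelow T hT hxT) (Subgroup.zpowers_le.2 hxR))
          rw [this]
          exact sup_le (hlowT.trans le_sup_left) (ncl_le fun t ht => mul_mem
            (mul_mem ht (Subgroup.mem_sup_right (Subgroup.mem_zpowers x))) (inv_mem ht))
      · rw [hR, piv, hsup]
        refine sup_le_sup le_rfl (Subgroup.closure_mono ?_)
        rintro _ ⟨t, ht, rfl⟩
        exact ⟨t, Subgroup.mem_sup_left ht, rfl⟩
    refine ⟨⟨Finset.insert_nonempty _ _, ?_, ?_, _, htop', fun Q hQ' => ⟨htopall Q hQ', ?_⟩⟩,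
      mem_stab.2 fun Q hQ' => ?_, ?_, ?_, ?_, Or.inl (Finset.card_insert_of_notMem hmem)⟩
    · intro Q hQ' Q' hQ''
      rcases Finset.mem_insert.1 hQ' with h | h <;> rcases Finset.mem_insert.1 hQ'' with h' | h'
      · subst h; subst h'; exact Or.inl le_rfl
      · subst h
        by_cases hxQ : x ∈ Q'
        · exact Or.inl (hRabove Q' h' hxQ)
        · exact Or.inr (hbelow Q' h' hxQ)
      · subst h'
        by_cases hxQ : x ∈ Q
        · exact Or.inr (hRabove Q h hxQ)
        · exact Or.inl (hbelow Q h hxQ)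
      · exact hch Q h Q' h'
    · intro Q hQ'
      rcases Finset.mem_insert.1 hQ' with rfl | h
      · exact ⟨hR1, hRp⟩
      · exact hQ Q h
    · rcases Finset.mem_insert.1 hQ' with rfl | h
      · exact hnormR
      · exact hTTn Q h
    · rcases Finset.mem_insert.1 hQ' with rfl | h
      · exact Subgroup.le_normalizer hxR
      · exact hxn Q h
    · intro e
      obtain ⟨Q₀, hQ₀⟩ := hsne
      have h1 : Q₀ = R := (Finset.mem_singleton.1 (e ▸ Finset.mem_insert_of_mem hQ₀)).trans
        (Finset.mem_singleton.1 (e ▸ Finset.mem_insert_self R s)).symm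
      exact hmem (h1 ▸ hQ₀)
    · rw [partner, hpiv, if_pos (Finset.mem_insert_self R s), Finset.erase_insert hmem]
    · intro g hg
      refine ⟨fun h => mem_stab.2 fun Q hQ' => mem_stab.1 h Q (Finset.mem_insert_of_mem hQ'),
        fun h => mem_stab.2 fun Q hQ' => ?_⟩
      rcases Finset.mem_insert.1 hQ' with rfl | h'
      · exact hRn g hg (mem_stab.1 h)
      · exact mem_stab.1 h Q h'

omit [Finite G] [Fact p.Prime] in
theorem singleton_spec (hx : ∃ k, orderOf x = p ^ k) (hx1 : x ≠ 1) :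
    IsNChain p ({Subgroup.zpowers x} : Finset (Subgroup G)) ∧
      x ∈ stab ({Subgroup.zpowers x} : Finset (Subgroup G)) ∧
      ∀ g : G, g * x = x * g → g ∈ stab ({Subgroup.zpowers x} : Finset (Subgroup G)) := by
  obtain ⟨k, hk⟩ := hx
  refine ⟨⟨Finset.singleton_nonempty _, fun Q hQ R hR => ?_, fun Q hQ => ?_,
    _, Finset.mem_singleton_self _, fun Q hQ => ?_⟩, ?_, fun g hg => ?_⟩
  · rw [Finset.mem_singleton.1 hQ, Finset.mem_singleton.1 hR]; exact Or.inl le_rfl
  · rw [Finset.mem_singleton.1 hQ]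
    exact ⟨by simpa using hx1, IsPGroup.of_card (n := k) (by rw [Nat.card_zpowers, hk])⟩
  · rw [Finset.mem_singleton.1 hQ]; exact ⟨le_rfl, Subgroup.le_normalizer⟩
  · refine mem_stab.2 fun Q hQ => ?_
    rw [Finset.mem_singleton.1 hQ]
    exact Subgroup.le_normalizer (Subgroup.mem_zpowers x)
  · refine mem_stab.2 fun Q hQ => ?_
    rw [Finset.mem_singleton.1 hQ, Subgroup.mem_normalizer_iff_map_conj_eq, MonoidHom.map_zpowers]
    congr 1
    show g * x * g⁻¹ = x
    rw [hg, mul_inv_cancel_right]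

open scoped Classical in
/-- The alternating sum over the chains fixed by `x` collapses to the chain `{⟨x⟩}`. -/
theorem sum_chains {β : Type*} [CommRing β] (hx : ∃ k, orderOf x = p ^ k) (hx1 : x ≠ 1)
    (C : Finset (Finset (Subgroup G))) (hC : ∀ s, s ∈ C ↔ IsNChain p s)
    (f : Subgroup G → β) :
    ∑ s ∈ C.filter (fun s => x ∈ stab s),
      (-1 : β) ^ (s.card - 1) * f (stab s ⊓ Subgroup.centralizer ({x} : Set G)) =
      f (Subgroup.centralizer ({x} : Set G)) := by
  obtain ⟨h1, h2, h3⟩ := singleton_spec (p := p) hx hx1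
  set s₀ : Finset (Subgroup G) := {Subgroup.zpowers x}
  set S := C.filter (fun s => x ∈ stab s)
  have hs₀ : s₀ ∈ S := Finset.mem_filter.2 ⟨(hC _).2 h1, h2⟩
  rw [← Finset.add_sum_erase _ _ hs₀]
  have hrest : ∑ s ∈ S.erase s₀,
      (-1 : β) ^ (s.card - 1) * f (stab s ⊓ Subgroup.centralizer ({x} : Set G)) = 0 := by
    have hsp : ∀ s ∈ S.erase s₀, _ := fun s hs =>
      partner_spec (p := p) ((hC s).1 (Finset.mem_filter.1 (Finset.mem_of_mem_erase hs)).1)
        (Finset.mem_filter.1 (Finset.mem_of_mem_erase hs)).2 hx hx1 (Finset.mem_erase.1 hs).1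
    refine Finset.sum_involution (fun s _ => partner x s) (fun s hs => ?_) (fun s hs _ h => ?_)
      (fun s hs => ?_) (fun s hs => (hsp s hs).2.2.2.1)
    · obtain ⟨hc', -, -, -, hstab, hcard⟩ := hsp s hs
      have he : stab (partner x s) ⊓ Subgroup.centralizer ({x} : Set G) =
          stab s ⊓ Subgroup.centralizer ({x} : Set G) := by
        ext g
        simp only [Subgroup.mem_inf, Subgroup.mem_centralizer_singleton_iff]
        exact ⟨fun ⟨a, b⟩ => ⟨(hstab g b).1 a, b⟩, fun ⟨a, b⟩ => ⟨(hstab g b).2 a, b⟩⟩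
      rw [he, ← add_mul]
      have hp1 := hc'.1.card_pos
      have hp2 := ((hC s).1 (Finset.mem_filter.1 (Finset.mem_of_mem_erase hs)).1).1.card_pos
      rcases hcard with h | h
      · rw [h, show s.card + 1 - 1 = (s.card - 1) + 1 by omega, pow_succ]; ring
      · rw [← h, show (partner x s).card + 1 - 1 = ((partner x s).card - 1) + 1 by omega,
          pow_succ]
        ring
    · obtain ⟨-, -, -, -, -, hcard⟩ := hsp s hs
      rw [h] at hcard
      omega
    · obtain ⟨hc', hx', hne', -, -, -⟩ := hsp s hs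
      exact Finset.mem_erase.2 ⟨hne', Finset.mem_filter.2 ⟨(hC _).2 hc', hx'⟩⟩
  rw [hrest, add_zero]
  simp only [s₀, Finset.card_singleton, Nat.sub_self, pow_zero, one_mul]
  congr 1
  exact inf_eq_right.2 fun g hg => h3 g (Subgroup.mem_centralizer_singleton_iff.1 hg)

end Cfsg.Agent.Blocks.NormalChains
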