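import Cfsg.Agent.Blocks.KnorrCover
import Cfsg.Agent.Char.Glauberman.Bridge

/-!
# Stabilizers of covered blocks above a defect group
-/

namespace Cfsg.Agent.Blocks

open scoped ComplexConjugate
open Cfsg.Agent

universe u

variable {G : Type u} [Group G] [Fintype G] {p : ℕ} [Fact p.Prime] {M : Ideal Cfsg.AlgInt}
  {N : Subgroup G} [hN : N.Normal] [Fintype N]

omit [Fact p.Prime] hN in
/-- Constituents on `N` factor through an intermediate subgroup. -/
theorem exists_constituent_over {L : Subgroup G} [Fintype L] [Fintype (N.subgroupOf L)]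
    (hNL : N ≤ L) (χ : Cfsg.IrrCharacter G) (θ : Cfsg.IrrCharacter N)
    (h : Cfsg.classInner (fun n : N => (χ : G → ℂ) n) (θ : N → ℂ) ≠ 0) :
    ∃ η : Cfsg.IrrCharacter L, Cfsg.classInner (fun l : L => (χ : G → ℂ) l) (η : L → ℂ) ≠ 0 ∧
      Cfsg.classInner (fun n : N.subgroupOf L => (η : L → ℂ) n)
        (BrauerPairs.compIrr (Subgroup.subgroupOfEquivOfLe hNL) θ : N.subgroupOf L → ℂ) ≠ 0 := by
  classical
  by_contra! hall
  apply h
  set e := Subgroup.subgroupOfEquivOfLe hNL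
  have h4 : Cfsg.classInner (fun n : N => (χ : G → ℂ) n) (θ : N → ℂ) =
      Cfsg.classInner (fun n : N.subgroupOf L => (χ : G → ℂ) ((n : L) : G))
        (BrauerPairs.compIrr e θ : N.subgroupOf L → ℂ) := by
    rw [Cfsg.classInner, Cfsg.classInner, Nat.card_congr e.symm.toEquiv]
    exact congrArg _ (Fintype.sum_equiv e.symm.toEquiv _ _ fun k => rfl)
  have hf : (fun n : N.subgroupOf L => (χ : G → ℂ) ((n : L) : G)) =
      ∑ η : Cfsg.IrrCharacter L, Cfsg.classInner (fun l : L => (χ : G → ℂ) l) (η : L → ℂ) •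
        fun n : N.subgroupOf L => (η : L → ℂ) n := by
    funext n
    have h1 := congrFun (Char.classFun_expansion (Char.isClassFunction_of_isCharacter
      (Char.isCharacter_res L (Char.IsIrr.isCharacter χ.2)))) (n : L)
    simp only [Finset.sum_apply, Pi.smul_apply] at h1 ⊢
    exact h1
  rw [h4, hf, Char.classInner_sum_left]
  refine Finset.sum_eq_zero fun η _ => ?_
  rw [Char.classInner_smul_left]
  by_cases hη : Cfsg.classInner (fun l : L => (χ : G → ℂ) l) (η : L → ℂ) = 0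
  · rw [hη, zero_mul]
  · rw [hall η hη, mul_zero]

/-- With p-power index, a covered block of a normal subgroup containing a defect group has
trivial stabilizer modulo the subgroup. -/
theorem stabilizer_le_of_pPower (hM : Cfsg.IsPModular p M) (hidx : ∃ k : ℕ, N.index = p ^ k)
    {c : Set (Cfsg.IrrCharacter N)} (hc : Cfsg.IsPBlock M c) {B : Set (Cfsg.IrrCharacter G)}
    (hB : Cfsg.IsPBlock M B)
    (hcov : ∃ χ ∈ B, ∃ θ ∈ c, Cfsg.classInner (fun n : N => (χ : G → ℂ) n) (θ : N → ℂ) ≠ 0)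
    {D : Subgroup G} (hD : Cfsg.IsDefectGroup p M B D) (hDN : D ≤ N) {g : G}
    (hg : ∀ θ ∈ c, ∀ θ' : Cfsg.IrrCharacter N,
      (∀ n : N, (θ' : N → ℂ) n = (θ : N → ℂ) ⟨g * n * g⁻¹, hN.conj_mem n n.2 g⟩) → θ' ∈ c) :
    g ∈ N := by
  classical
  obtain ⟨T, hNT, hT⟩ := exists_stabilizer hM hc
  have hgT : g ∈ T := (hT g).2 hg
  have := Fintype.ofFinite T
  obtain ⟨B', hB', ⟨ψ, hψ, hov⟩, hind⟩ := exists_inducing hNT hM hc hT hB hcov
  obtain ⟨hdef, -⟩ := defect_and_heights hNT hM hc hT hB' ⟨ψ, hψ, hov⟩ hind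
  have := Fintype.ofFinite (N.subgroupOf T)
  have : (N.subgroupOf T).Normal := hN.subgroupOf T
  have hidx' : ∃ k : ℕ, (N.subgroupOf T).index = p ^ k := by
    obtain ⟨k, hk⟩ := hidx
    obtain ⟨j, -, hj⟩ := (Nat.dvd_prime_pow hM.1).1
      (hk ▸ Subgroup.relIndex_dvd_index_of_le hNT : N.relIndex T ∣ p ^ k)
    exact ⟨j, hj⟩
  set φ := (Subgroup.subgroupOfEquivOfLe hNT).symm
  have hc' := BrauerPairs.isPBlock_mapBlock (M := M) φ hc
  have hcov' : ∃ χ ∈ B', ∃ η ∈ BrauerPairs.mapBlock φ c,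
      Cfsg.classInner (fun n : N.subgroupOf T => (χ : T → ℂ) n) (η : N.subgroupOf T → ℂ) ≠ 0 :=
    ⟨ψ, hψ, exists_mapBlock_constituent hNT ψ hov⟩
  obtain ⟨D', hD'⟩ := DefectThms.exists_defectGroup hM hB'
  have hD'N : D' ≤ N.subgroupOf T := by
    intro x hx
    obtain ⟨k, hk⟩ := DefectThms.exists_defectGroup_conj hM hB hD (hdef D' hD')
    obtain ⟨y, hy, he⟩ : (x : G) ∈ D.map (MulAut.conj k).toMonoidHom :=
      hk ▸ Subgroup.mem_map_of_mem T.subtype hx
    rw [Subgroup.mem_subgroupOf, ← he]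
    exact hN.conj_mem y (hDN hy) k
  obtain ⟨B₀, -, huniq⟩ := BlockThms.existsUnique_covering hM hidx' hc'
  obtain ⟨hnd, -, -⟩ := DefectThms.fong hM hc' (mapBlock_invariant hNT hT) hB' hcov'
    (fun B'' hB'' h'' => le_of_eq (congrArg _
      ((huniq B'' ⟨hB'', h''⟩).trans (huniq B' ⟨hB', hcov'⟩).symm))) hD'
  rw [sup_eq_right.2 hD'N] at hnd
  obtain ⟨j, hj⟩ := hidx'
  rcases Nat.eq_zero_or_pos j with rfl | hj0
  · rw [pow_zero, Subgroup.index_eq_one, Subgroup.subgroupOf_eq_top] at hj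
    exact hj hgT
  · exact absurd (hj ▸ dvd_pow_self p hj0.ne') hnd

end Cfsg.Agent.Blocks
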