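import Cfsg.Agent.Blocks.TwistedRank
import Cfsg.Agent.Blocks.WeakOrth
import Cfsg.Agent.Char.Galois
import Mathlib.RingTheory.ZMod.UnitsCyclic

/-!
# At least as many p-rational characters in a block as its rank

For odd `p` the Galois group fixing the p-prime roots of unity is cyclic; the trace of a generator
on a block splits over the sections, and each section contributes a natural number.
-/

set_option autoImplicit false

namespace Cfsg.Agent.Blocks

open scoped ComplexConjugate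
open Cfsg.Agent

universe u

variable {G : Type u} [Group G] [Fintype G] {p : ℕ} {M : Ideal Cfsg.AlgInt}

omit [Fintype G] in
theorem pPart_pow [Finite G] (hp : p.Prime) (g : G) (k : ℕ) :
    pPartOf p (g ^ k) = pPartOf p g ^ k ∧ pPrimePartOf p (g ^ k) = pPrimePartOf p g ^ k := by
  rw [show g ^ k = pPartOf p g ^ k * pPrimePartOf p g ^ k by
    rw [← (commute_pPartOf_pPrimePartOf g).mul_pow, pPartOf_mul_pPrimePartOf hp]]
  have h2 : ∀ a : G, ¬ p ∣ orderOf a → ¬ p ∣ orderOf (a ^ k) := fun a ha h =>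
    ha (h.trans (orderOf_pow_dvd (x := a) k))
  obtain ⟨j, hj⟩ := orderOf_pPartOf hp g
  obtain ⟨i, -, hi⟩ := (Nat.dvd_prime_pow hp).1 (hj ▸ orderOf_pow_dvd (x := pPartOf p g) k :
    orderOf (pPartOf p g ^ k) ∣ p ^ j)
  exact parts_mul hp ((commute_pPartOf_pPrimePartOf g).pow_pow k k) ⟨i, hi⟩
    (h2 _ (not_dvd_orderOf_pPrimePartOf hp g))

open scoped Classical in
/-- The trace of a Galois automorphism fixing the p-prime roots of unity, on a block. -/
theorem blockRank_le_fixed [Fact p.Prime] [M.IsMaximal] (hM : Cfsg.IsPModular p M)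
    {B : Set (Cfsg.IrrCharacter G)} (hB : Cfsg.IsPBlock M B) (k : ℕ)
    (hk : k.Coprime (Nat.card G)) (hk1 : ∀ g : G, ¬ p ∣ orderOf g → g ^ k = g) :
    Cfsg.blockRank p B ≤ Nat.card {χ : Cfsg.IrrCharacter G //
      χ ∈ B ∧ ∀ g : G, (χ : G → ℂ) (g ^ k) = (χ : G → ℂ) g} := by
  have hp : p.Prime := Fact.out
  obtain ⟨S, hS⟩ : ∃ S : Finset (Cfsg.IrrCharacter G), ∀ χ, χ ∈ S ↔ χ ∈ B :=
    ⟨B.toFinite.toFinset, fun χ => B.toFinite.mem_toFinset⟩
  have hsum : ∀ φ : Cfsg.IrrCharacter G → ℂ, ∑ᶠ χ ∈ B, φ χ = ∑ χ ∈ S, φ χ := fun φ => by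
    rw [finsum_mem_eq_finite_toFinset_sum _ B.toFinite]
    exact Finset.sum_congr (Finset.ext fun χ => B.toFinite.mem_toFinset.trans (hS χ).symm)
      fun _ _ => rfl
  obtain ⟨χ₀, hχ₀⟩ := IsPBlock.nonempty hM hB
  set F : G → ℂ := fun g => ∑ᶠ χ ∈ B, (χ : G → ℂ) (g ^ k) * conj ((χ : G → ℂ) g) with hF
  -- the trace counts fixed characters
  have hcount : ∑ g, F g = (Nat.card G : ℂ) * (Nat.card {χ : Cfsg.IrrCharacter G //
      χ ∈ B ∧ ∀ g : G, (χ : G → ℂ) (g ^ k) = (χ : G → ℂ) g} : ℂ) := by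
    simp only [hF, hsum]
    rw [Finset.sum_comm, Nat.card_eq_fintype_card (α := {χ : Cfsg.IrrCharacter G // _}),
      Fintype.card_subtype, show Finset.univ.filter (fun χ : Cfsg.IrrCharacter G =>
        χ ∈ B ∧ ∀ g : G, (χ : G → ℂ) (g ^ k) = (χ : G → ℂ) g) =
        S.filter (fun χ : Cfsg.IrrCharacter G => ∀ g : G, (χ : G → ℂ) (g ^ k) = (χ : G → ℂ) g) by ext; simp [hS],
      ← Finset.sum_boole, Finset.mul_sum]
    refine Finset.sum_congr rfl fun χ _ => ?_
    have h := Char.classInner_irr (Char.isIrr_comp_pow k hk χ.2) χ.2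
    rw [Cfsg.classInner, inv_mul_eq_iff_eq_mul₀ (Nat.cast_ne_zero.2 Nat.card_pos.ne')] at h
    rw [h]
    congr 1
    exact if_congr funext_iff rfl rfl
  -- each nontrivial section gives a natural number
  have hsec : ∀ u : G, u ≠ 1 → ∃ m : ℕ,
      ∑ g ∈ Finset.univ.filter (fun g => pPartOf p g = u), F g = (m : ℂ) := by
    intro u hu
    by_cases hfib : ∃ g₀, pPartOf p g₀ = u
    swap
    · refine ⟨0, ?_⟩
      rw [Nat.cast_zero, Finset.sum_eq_zero fun g hg => absurd ⟨g, (Finset.mem_filter.1 hg).2⟩ hfib]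
    obtain ⟨g₀, hg₀⟩ := hfib
    obtain ⟨j, hj⟩ := orderOf_pPartOf hp g₀
    rw [hg₀] at hj
    by_cases hconj : IsConj u (u ^ k)
    swap
    · refine ⟨0, ?_⟩
      rw [Nat.cast_zero]
      refine Finset.sum_eq_zero fun g hg => ?_
      rw [hF]
      show ∑ᶠ χ ∈ B, (χ : G → ℂ) (g ^ k) * conj ((χ : G → ℂ) g) = 0
      rw [← block_orthogonality hM hB (g ^ k) g⁻¹ ?_]
      · exact finsum_congr fun χ => finsum_congr fun _ => by
          rw [Char.IsChar.inv_eq_conj (Char.IsIrr.isCharacter χ.2)]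
      · rw [(pPart_pow hp g k).1, (Finset.mem_filter.1 hg).2]
        have : (pPartOf p g⁻¹)⁻¹ = u := by
          rw [inv_eq_iff_eq_inv, ← (Finset.mem_filter.1 hg).2]
          conv_lhs => rw [← pPartOf_mul_pPrimePartOf hp g, mul_inv_rev,
            ← ((commute_pPartOf_pPrimePartOf g).inv_inv).eq]
          refine (parts_mul hp (commute_pPartOf_pPrimePartOf g).inv_inv ?_ ?_).1
          · obtain ⟨i, hi⟩ := orderOf_pPartOf hp g
            exact ⟨i, by rw [orderOf_inv, hi]⟩
          · rw [orderOf_inv]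
            exact not_dvd_orderOf_pPrimePartOf hp g
        rw [this]
        exact fun h => hconj h.symm
    obtain ⟨h, hh⟩ := isConj_iff.1 hconj
    let C := Subgroup.centralizer ({u} : Set G)
    letI : Fintype C := Fintype.ofFinite C
    have hkord : (orderOf u).Coprime k :=
      (Nat.Coprime.coprime_dvd_right (orderOf_dvd_natCard u) hk).symm
    have hmem : ∀ a : G, a ∈ C ↔ h * a * h⁻¹ ∈ C := by
      intro a
      have e1 : u * (h * a * h⁻¹) = h * a * h⁻¹ * u ↔ u ^ k * (h * a * h⁻¹) = h * a * h⁻¹ * u ^ k := by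
        refine ⟨fun e => ((show Commute u _ from e).pow_left k).eq, fun e => ?_⟩
        obtain ⟨m, hm⟩ := exists_pow_eq_self_of_coprime (x := u) hkord.symm
        have := ((show Commute (u ^ k) _ from e).pow_left m).eq
        rwa [hm] at this
      show a ∈ Subgroup.centralizer ({u} : Set G) ↔ _
      rw [mem_centralizer_iff_comm, mem_centralizer_iff_comm, e1, ← hh,
        show h * u * h⁻¹ * (h * a * h⁻¹) = h * (u * a) * h⁻¹ by group,
        show h * a * h⁻¹ * (h * u * h⁻¹) = h * (a * u) * h⁻¹ by group]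
      simp
    have hmem' : ∀ a : G, a ∈ C → h⁻¹ * a * h ∈ C := fun a ha => by
      refine (hmem _).2 ?_
      rwa [show h * (h⁻¹ * a * h) * h⁻¹ = a by group]
    let e : C ≃* C :=
      { toFun := fun a => ⟨h⁻¹ * a * h, hmem' a a.2⟩
        invFun := fun a => ⟨h * a * h⁻¹, (hmem a).1 a.2⟩
        left_inv := fun a => Subtype.ext (by simp [mul_assoc])
        right_inv := fun a => Subtype.ext (by simp [mul_assoc])
        map_mul' := fun a b => Subtype.ext (by simp [mul_assoc]) }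
    set A := Blocks.over M ((MonoidHom.id G).comp C.subtype) (χ₀ : G → ℂ) with hA
    obtain ⟨n, hn⟩ := exists_nat_twisted (K := C) hM e (A := A)
      (fun ψ hψ ξ hs => over_sameBlock hM _ _ hψ hs) (fun ψ hψ ξ hξ g => by
        have e1 := hψ g
        have : omega (ξ : C → ℂ) (fun a => classInd g ((MonoidHom.id G).comp C.subtype a)) =
            omega (ψ : C → ℂ) (fun a => classInd g ((MonoidHom.id G).comp C.subtype a)) := by
          rw [omega, omega, hξ 1, map_one]
          congr 1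
          refine Fintype.sum_equiv e.toEquiv _ _ fun a => ?_
          rw [hξ a]
          show classInd g (a : G) * _ = classInd g (h⁻¹ * (a : G) * h) * _
          have h5 : classInd g (h⁻¹ * (a : G) * h) = classInd g (a : G) := by
            simpa using isClassFunction_classInd g (a : G) h⁻¹
          rw [h5]
          rfl
        rwa [this])
    refine ⟨Nat.card C * n, ?_⟩
    rw [sum_pPart_fiber hp ⟨j, hj⟩, Nat.cast_mul, ← hn]
    refine Finset.sum_congr (Finset.ext fun x => by simp) fun s _ => ?_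
    split_ifs with hs
    · rfl
    · have hes : ¬ p ∣ orderOf (e s) := by
        rwa [show orderOf (e s) = orderOf s from orderOf_injective e.toMonoidHom e.injective s]
      rw [hF, ← over_id hM hB hχ₀]
      show ∑ᶠ χ ∈ Blocks.over M (MonoidHom.id G) (χ₀ : G → ℂ),
        (χ : G → ℂ) ((u * (s : G)) ^ k) * conj ((χ : G → ℂ) (u * (s : G))) = _
      rw [hA, ← over_section_identity_pair hM (MonoidHom.id G) (χ₀ : G → ℂ) ⟨j, hj⟩ hes hs]
      refine finsum_congr fun χ => finsum_congr fun _ => ?_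
      congr 1
      rw [(show Commute u (s : G) from (mem_centralizer_iff_comm u _).1 s.2).mul_pow,
        hk1 (s : G) (by rwa [Subgroup.orderOf_coe]), ← hh,
        ← Char.isClassFunction_of_isIrr χ.2 (u * ((e s : C) : G)) h]
      refine congrArg (χ : G → ℂ) ?_
      show h * u * h⁻¹ * (s : G) = h * (u * (h⁻¹ * (s : G) * h)) * h⁻¹
      group
  choose m hm using fun u : {u : G // u ≠ 1} => hsec u.1 u.2
  -- the regular elements give the rank
  have hone : ∑ g ∈ Finset.univ.filter (fun g => pPartOf p g = 1), F g =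
      (Nat.card G : ℂ) * (Cfsg.blockRank p B : ℂ) := by
    rw [card_mul_blockRank hM hB, Finset.sum_filter]
    refine Finset.sum_congr rfl fun g _ => ?_
    by_cases hg : p ∣ orderOf g
    · rw [if_pos hg, if_neg fun h => (pPartOf_eq_one_iff hp g).1 h hg]
    · rw [if_neg hg, if_pos ((pPartOf_eq_one_iff hp g).2 hg), hF]
      show ∑ᶠ χ ∈ B, (χ : G → ℂ) (g ^ k) * conj ((χ : G → ℂ) g) = _
      rw [hk1 g hg]
  rw [← Finset.sum_fiberwise Finset.univ (pPartOf p) F,
    ← Finset.add_sum_erase _ _ (Finset.mem_univ (1 : G)), hone] at hcount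
  have hrest : ∑ u ∈ Finset.univ.erase (1 : G),
      ∑ g ∈ Finset.univ.filter (fun g => pPartOf p g = u), F g = ((∑ u, m u : ℕ) : ℂ) := by
    rw [Nat.cast_sum, ← Finset.sum_subtype (Finset.univ.erase (1 : G))
      (fun u => by simp) (fun u => ∑ g ∈ Finset.univ.filter (fun g => pPartOf p g = u), F g) |>.trans
        (Finset.sum_congr rfl fun u _ => hm u)]
  rw [hrest] at hcount
  norm_cast at hcount
  have hG : 0 < Nat.card G := Nat.card_pos
  exact Nat.le_of_mul_le_mul_left (Nat.le.intro hcount) hG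

/-- A single exponent generating the automorphisms that fix the p-prime roots of unity. -/
theorem exists_generator [Fact p.Prime] (hodd : p ≠ 2) :
    ∃ k₀ : ℕ, k₀.Coprime (Nat.card G) ∧ (∀ g : G, ¬ p ∣ orderOf g → g ^ k₀ = g) ∧
      k₀ ≡ 1 [MOD Nat.card G / p ^ (Nat.card G).factorization p] ∧
      ∀ k : ℕ, Nat.Coprime k (Nat.card G) →
        k ≡ 1 [MOD Nat.card G / p ^ (Nat.card G).factorization p] →
        ∃ j : ℕ, ∀ g : G, g ^ k = g ^ (k₀ ^ j) := by
  have hp : p.Prime := Fact.out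
  set a := (Nat.card G).factorization p with ha
  set m := Nat.card G / p ^ a with hm
  have hnm : p ^ a * m = Nat.card G := Nat.ordProj_mul_ordCompl_eq_self _ p
  have hpm : (p ^ a).Coprime m :=
    Nat.Coprime.pow_left a (Nat.coprime_ordCompl hp Nat.card_pos.ne')
  have := ZMod.isCyclic_units_of_prime_pow p hp hodd a
  obtain ⟨g₀, hg₀⟩ := IsCyclic.exists_generator (α := (ZMod (p ^ a))ˣ)
  haveI : NeZero (p ^ a) := ⟨(pow_pos hp.pos a).ne'⟩
  obtain ⟨k₀, hka, hkm⟩ := Nat.chineseRemainder hpm (g₀ : ZMod (p ^ a)).val 1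
  have hcast : ((k₀ : ℕ) : ZMod (p ^ a)) = (g₀ : ZMod (p ^ a)) := by
    rw [(ZMod.natCast_eq_natCast_iff _ _ _).2 hka, ZMod.natCast_zmod_val]
  have hc : k₀.Coprime (p ^ a) := by
    rw [← ZMod.isUnit_iff_coprime, hcast]
    exact g₀.isUnit
  have hc' : k₀.Coprime m := by
    rw [Nat.Coprime, Nat.ModEq.gcd_eq hkm, Nat.gcd_one_left]
  refine ⟨k₀, hnm ▸ hc.mul_right hc', fun g hg => ?_, hkm, fun k hk hk1 => ?_⟩
  · conv_rhs => rw [← pow_one g]
    refine pow_eq_pow_iff_modEq.2 (hkm.of_dvd ?_)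
    exact ((hp.coprime_iff_not_dvd.2 hg).symm.pow_right a).dvd_of_dvd_mul_left
      (hnm.symm ▸ orderOf_dvd_natCard g)
  · have hk' : k.Coprime (p ^ a) := Nat.Coprime.coprime_dvd_right ⟨m, hnm.symm⟩ hk
    obtain ⟨j, hj⟩ := Submonoid.mem_powers_iff _ _ |>.1
      ((mem_powers_iff_mem_zpowers).2 (hg₀ (ZMod.unitOfCoprime k hk')))
    refine ⟨j, fun g => pow_eq_pow_iff_modEq.2 (Nat.ModEq.of_dvd (orderOf_dvd_natCard g) ?_)⟩
    rw [← hnm]
    refine (Nat.modEq_and_modEq_iff_modEq_mul hpm).1 ⟨?_, hk1.trans ?_⟩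
    · rw [← ZMod.natCast_eq_natCast_iff, Nat.cast_pow, hcast, ← Units.val_pow_eq_pow_val, hj]
      rfl
    · simpa using (hkm.pow j).symm

end Cfsg.Agent.Blocks
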