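import Cfsg.Agent.Blocks.CoveringAll
import Cfsg.Agent.Blocks.FongReynolds
import Cfsg.Agent.Blocks.Star.Section
import Cfsg.Agent.Blocks.Star.Action
import Cfsg.Agent.BlockChar.ThirdMain
import Cfsg.Agent.Char.Suborbit
import Cfsg.Agent.Char.QuasiElem
import Cfsg.Agent.Fusion.Control
import Cfsg.Agent.Fusion.Residual

/-!
# Groups whose principal block meets the Sylow permutation character trivially

If no non-trivial character of the principal block occurs in the permutation character of a Sylow
`p`-subgroup `P`, then its projection at an element `u ∈ P` is `1`, which bounds the orbits of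
`C(u)` on the fixed cosets of `u` by one: `P` controls its fusion and there is a normal
`p`-complement.
-/

namespace Cfsg.Agent.Blocks

open Cfsg.Agent Cfsg.Agent.Blocks.Star
open scoped ComplexConjugate

universe u

variable {G : Type u} [Group G] [Fintype G] {p : ℕ} [Fact p.Prime] {M : Ideal Cfsg.AlgInt}

local notation "CG[" Q "]" => Subgroup.centralizer ((Q : Subgroup G) : Set G)
local notation "sbc" => Cfsg.subgroupBlockCoeff

open scoped Classical in
/-- A character of the centralizer with at least two trivial constituents. -/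
theorem two_le_sum_principal {H : Type u} [Group H] [Fintype H] (hM : Cfsg.IsPModular p M)
    {f : H → ℂ} (hf : Cfsg.IsCharacter H f) {m : ℕ}
    (hm : Cfsg.classInner f (fun _ => (1 : ℂ)) = (m : ℂ)) {r : ℕ}
    (hr : ∑ a, Cfsg.blockCoeff (Cfsg.principalBlock M H) a * f a = (r : ℂ)) : m ≤ r := by
  set b := Cfsg.principalBlock M H
  choose n hn using fun ψ : Cfsg.IrrCharacter H =>
    Char.classInner_isCharacter_eq_natCast hf (Char.IsIrr.isCharacter ψ.2)
  have h : ∑ a, Cfsg.blockCoeff b a * f a =
      ((∑ ψ ∈ b.toFinite.toFinset, n ψ * Cfsg.charDegree (ψ : H → ℂ) : ℕ) : ℂ) := by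
    conv_lhs => rw [Char.classFun_expansion (Char.isClassFunction_of_isCharacter hf)]
    simp only [Finset.sum_apply, Pi.smul_apply, smul_eq_mul, Finset.mul_sum]
    rw [Finset.sum_comm, Finset.sum_congr rfl (g := fun ψ : Cfsg.IrrCharacter H =>
      if ψ ∈ b then ((n ψ * Cfsg.charDegree (ψ : H → ℂ) : ℕ) : ℂ) else 0) fun ψ _ => ?_,
      ← Finset.sum_filter, Nat.cast_sum]
    · exact Finset.sum_congr (by ext; simp) fun _ _ => rfl
    · have h1 := sum_blockCoeff_mul_irr b ψ 1
      simp only [one_mul] at h1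
      rw [Finset.sum_congr rfl (g := fun a => Cfsg.classInner f (ψ : H → ℂ) *
        (Cfsg.blockCoeff b a * (ψ : H → ℂ) a)) fun a _ => by ring, ← Finset.mul_sum, h1, hn ψ,
        mul_ite, mul_zero, (CharArith.irr_degree_spec ψ).1, Nat.cast_mul]
  rw [hr] at h
  have h' := Nat.cast_injective h
  have ht : triv H ∈ b.toFinite.toFinset :=
    (Set.Finite.mem_toFinset _).2 (triv_mem_principalBlock hM)
  have hle := Finset.single_le_sum (f := fun ψ : Cfsg.IrrCharacter H =>
    n ψ * Cfsg.charDegree (ψ : H → ℂ)) (fun _ _ => Nat.zero_le _) ht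
  have hnt : n (triv H) = m := Nat.cast_injective ((hn (triv H)).symm.trans hm)
  rw [← h', hnt] at hle
  exact le_trans (Nat.le_mul_of_pos_right m (CharArith.irr_degree_spec (triv H)).2) hle

open scoped Classical in
/-- The hypothesis forces a normal `p`-complement. -/
theorem hasNormalPComplement_of_perm (hM : Cfsg.IsPModular p M) (P : Sylow p G)
    (h : ∀ ψ ∈ Cfsg.principalBlock M G, (ψ : G → ℂ) ≠ (fun _ => 1) →
      Cfsg.classInner (fun y : (P : Subgroup G) => (ψ : G → ℂ) y) (fun _ => 1) = 0) :
    Cfsg.HasNormalPComplement p G := by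
  refine Fusion.hasNormalPComplement_of_conj_controls P fun x hx g hg => ?_
  let Ω := G ⧸ (P : Subgroup G)
  letI : Fintype Ω := Fintype.ofFinite Ω
  let π : G → ℂ := fun y => (Nat.card (MulAction.fixedBy Ω y) : ℂ)
  have hπ : Cfsg.IsCharacter G π := Char.pi_isCharacter
  have hπind : π = Cfsg.indFun (P : Subgroup G) (fun _ => 1) := funext fun y =>
    (Char.indFun_one_eq_card_fixed (P : Subgroup G) y).symm
  set B := Cfsg.principalBlock M G with hB
  have hBb : Cfsg.IsPBlock M B := isPBlock_principalBlock M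
  obtain ⟨k, hk⟩ := IsPGroup.iff_orderOf.1 P.2 ⟨x, hx⟩
  rw [Subgroup.orderOf_mk] at hk
  have hxk : ∃ k, orderOf x = p ^ k := ⟨k, hk⟩
  set C := CG[Subgroup.zpowers x]
  letI : Fintype C := Fintype.ofFinite C
  set b0 := Cfsg.principalBlock M C with hb0
  have hb0b : Cfsg.IsPBlock M b0 := isPBlock_principalBlock M
  have h1 : (1 : G) ∈ regC p x := by
    simp [regC, (Fact.out : p.Prime).ne_one]
  have hQ : IsPGroup p (Subgroup.zpowers x) := isPGroup_zpowers_of_orderOf hxk
  have hsbc : ∀ b, Cfsg.IsPBlock M b → Cfsg.IsBrauerPairOf p M B (Subgroup.zpowers x) b → b = b0 :=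
    fun b hb hp => (BlockChar.isBrauerPairOf_principal_iff hM _ hQ hb).1 hp
  have hpair0 : Cfsg.IsBrauerPairOf p M B (Subgroup.zpowers x) b0 :=
    (BlockChar.isBrauerPairOf_principal_iff hM _ hQ hb0b).2 rfl
  -- the principal section of a character
  have hsect : ∀ ψ : Cfsg.IrrCharacter G, sect (ψ : G → ℂ) x (sbc C b0) 1 =
      if ψ ∈ B then (ψ : G → ℂ) x else 0 := by
    intro ψ
    split_ifs with hψ
    · have hap := apply_section hM ψ hxk h1
      rw [mul_one] at hap
      rw [hap, Finset.sum_eq_single (sbc C b0)]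
      · intro e he hne
        obtain ⟨b, hb, rfl⟩ := mem_Bk.1 he
        by_contra hne0
        exact hne (by rw [hsbc b hb (pair_of_sect_ne_zero hM hBb hψ hxk hb h1 hne0)])
      · exact fun hn => absurd (sbc_mem_Bk hb0b) hn
    · by_contra hne0
      have hp := pair_of_sect_ne_zero hM (isPBlock_blockOf ψ) (mem_blockOf_self hM ψ) hxk hb0b h1 hne0
      have i1 := (mem_inducing_iff_pair hM hQ (isPBlock_blockOf ψ) hb0b).2 hp
      have i2 := (mem_inducing_iff_pair hM hQ hBb hb0b).2 hpair0
      exact hψ (induced_unique hM i1 i2 ▸ mem_blockOf_self hM ψ)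
  -- the value is one
  have hval : sect π x (sbc C b0) 1 = 1 := by
    have hexp := Char.classFun_expansion (Char.isClassFunction_of_isCharacter hπ)
    rw [show sect π x (sbc C b0) 1 = ∑ ψ : Cfsg.IrrCharacter G,
        Cfsg.classInner π (ψ : G → ℂ) * sect (ψ : G → ℂ) x (sbc C b0) 1 by
      simp only [sect, Finset.mul_sum]
      rw [Finset.sum_comm]
      refine Finset.sum_congr rfl fun a _ => ?_
      conv_lhs => rw [hexp]
      simp only [Finset.sum_apply, Pi.smul_apply, smul_eq_mul, Finset.mul_sum]
      exact Finset.sum_congr rfl fun ψ _ => by ring]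
    rw [Finset.sum_eq_single (triv G)]
    · rw [hsect, if_pos (triv_mem_principalBlock hM)]
      have : MulAction.IsPretransitive G Ω := inferInstance
      have h2 : Cfsg.classInner π (fun _ => (1 : ℂ)) = 1 := Char.pi_inner_one
      show Cfsg.classInner π (fun _ => (1 : ℂ)) * (1 : ℂ) = 1
      rw [h2, one_mul]
    · intro ψ _ hne
      rw [hsect]
      split_ifs with hψ
      · have h2 := h ψ hψ fun e => hne (Subtype.ext e)
        rw [hπind, Char.classInner_indFun_left _ _ (Char.isClassFunction_of_isIrr ψ.2),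
          ← Char.classInner_conj_symm, h2]
        simp
      · rw [mul_zero]
    · exact fun hn => absurd (Finset.mem_univ _) hn
  -- the centralizer on the fixed cosets
  let Y := {w : Ω // x • w = w}
  have hcomm : ∀ c : C, x * (c : G) = (c : G) * x := fun c => mem_zpowers_centralizer.1 c.2
  letI : MulAction C Y :=
    { smul := fun c w => ⟨(c : G) • (w : Ω), by rw [← mul_smul, hcomm c, mul_smul, w.2]⟩
      one_smul := fun w => Subtype.ext (one_smul G (w : Ω))
      mul_smul := fun c d w => Subtype.ext (mul_smul (c : G) (d : G) (w : Ω)) }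
  letI : Fintype Y := Fintype.ofFinite Y
  let π' : C → ℂ := fun c => (Nat.card (MulAction.fixedBy Y c) : ℂ)
  have hπ' : Cfsg.IsCharacter C π' := Char.pi_isCharacter
  have hreg : ∀ c : C, ¬ p ∣ orderOf c → π (x * (c : G)) = π' c := by
    intro c hc
    have hcG : ¬ p ∣ orderOf (c : G) := by rwa [Subgroup.orderOf_coe]
    have hcop : (orderOf x).Coprime (orderOf (c : G)) :=
      hk ▸ ((Fact.out : p.Prime).coprime_iff_not_dvd.2 hcG).pow_left k
    have hfix : ∀ w : Ω, (x * (c : G)) • w = w ↔ x • w = w ∧ (c : G) • w = w := fun w => by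
      refine ⟨fun hw => ?_, fun hw => by rw [mul_smul, hw.2, hw.1]⟩
      obtain ⟨e1, e2⟩ := parts_mul (Fact.out : p.Prime) (hcomm c) hxk hcG
      have hpow : ∀ n : ℕ, (x * (c : G)) ^ n • w = w := fun n => by
        induction n with
        | zero => rw [pow_zero, one_smul]
        | succ n ih => rw [pow_succ, mul_smul, hw, ih]
      constructor
      · conv_lhs => rw [← e1]
        exact hpow _
      · conv_lhs => rw [← e2]
        exact hpow _
    show ((Nat.card (MulAction.fixedBy Ω (x * (c : G))) : ℕ) : ℂ) =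
      ((Nat.card (MulAction.fixedBy Y c) : ℕ) : ℂ)
    congr 1
    exact Nat.card_congr
      { toFun := fun w => ⟨⟨w.1, ((hfix w.1).1 w.2).1⟩, Subtype.ext ((hfix w.1).1 w.2).2⟩
        invFun := fun w => ⟨w.1.1, (hfix _).2 ⟨w.1.2, congrArg Subtype.val w.2⟩⟩
        left_inv := fun _ => rfl
        right_inv := fun _ => rfl }
  have hval' : ∑ c : C, Cfsg.blockCoeff b0 c * π' c = 1 := by
    rw [← hval]
    simp only [sect, mul_one]
    rw [← Finset.sum_filter_add_sum_filter_not Finset.univ (fun y : G => y ∈ C),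
      Finset.sum_eq_zero (s := Finset.univ.filter fun y : G => ¬ y ∈ C) fun y hy => by
        rw [BrauerPairs.sbc_of_notMem b0 (Finset.mem_filter.1 hy).2, zero_mul], add_zero,
      Finset.sum_subtype (p := fun y => y ∈ C) _ (by simp)]
    refine Finset.sum_congr rfl fun c _ => ?_
    rw [BrauerPairs.sbc_of_mem b0 c.2]
    by_cases hc : p ∣ orderOf c
    · rw [blockCoeff_eq_zero_of_dvd hM hb0b hc]; simp
    · rw [hreg c hc]
  -- one orbit
  have horb : Cfsg.classInner π' (fun _ => (1 : ℂ)) =
      (Fintype.card (MulAction.orbitRel.Quotient C Y) : ℂ) := by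
    simp only [Cfsg.classInner, map_one, mul_one, π', Nat.card_eq_fintype_card]
    rw [← Nat.cast_sum, MulAction.sum_card_fixedBy_eq_card_orbits_mul_card_group C Y, Nat.cast_mul]
    field_simp
  have hle := two_le_sum_principal hM hπ' horb (r := 1) (by rw [hval']; simp)
  have htrans : ∀ w w' : Y, w' ∈ MulAction.orbit C w := by
    intro w w'
    have := Fintype.card_le_one_iff_subsingleton.1 hle
    exact Quotient.exact' (Subsingleton.elim (Quotient.mk'' w' : MulAction.orbitRel.Quotient C Y)
      (Quotient.mk'' w))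
  -- control of fusion
  have hfixed : ∀ a : G, a⁻¹ * x * a ∈ (P : Subgroup G) → x • (a : Ω) = a := fun a ha => by
    rw [MulAction.Quotient.smul_mk, smul_eq_mul, eq_comm, QuotientGroup.eq, ← mul_assoc]
    exact ha
  obtain ⟨c, hc⟩ := htrans ⟨((1 : G) : Ω), hfixed 1 (by rw [inv_one, one_mul, mul_one]; exact hx)⟩
    ⟨((g⁻¹ : G) : Ω), hfixed g⁻¹ (by rw [inv_inv]; exact hg)⟩
  have hc' : (((c : G) * 1 : G) : Ω) = ((g⁻¹ : G) : Ω) := congrArg Subtype.val hc
  rw [mul_one, QuotientGroup.eq] at hc'
  have hs := inv_mem hc'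
  rw [mul_inv_rev, inv_inv, inv_inv] at hs
  refine ⟨g * (c : G), hs, ?_⟩
  calc g * (c : G) * x * (g * (c : G))⁻¹ = g * ((c : G) * x) * (c : G)⁻¹ * g⁻¹ := by group
    _ = g * x * g⁻¹ := by rw [← hcomm c]; group

open scoped Classical in
/-- `p`-length one from irreducible restrictions to the Sylow normalizer. -/
theorem exists_normal_complement_series (hM : Cfsg.IsPModular p M) (P : Sylow p G)
    (h : ∀ χ ∈ Cfsg.principalBlock M G, Cfsg.IsIrrCharacter
      ↥(Subgroup.normalizer ((P : Subgroup G) : Set G))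
      (fun n : ↥(Subgroup.normalizer ((P : Subgroup G) : Set G)) => (χ : G → ℂ) n)) :
    Cfsg.HasNormalPComplement p ↥(Subgroup.normalClosure ((P : Subgroup G) : Set G)) := by
  set L := Subgroup.normalClosure ((P : Subgroup G) : Set G)
  have hPL : (P : Subgroup G) ≤ L := Subgroup.subset_normalClosure
  set N := Subgroup.normalizer ((P : Subgroup G) : Set G)
  letI := Fintype.ofFinite L
  letI := Fintype.ofFinite N
  -- constituents trivial on `P` are trivial on `L`
  have hkey : ∀ χ ∈ Cfsg.principalBlock M G,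
      Cfsg.classInner (fun y : (P : Subgroup G) => (χ : G → ℂ) y) (fun _ => 1) ≠ 0 →
      ∀ l ∈ L, (χ : G → ℂ) l = (χ : G → ℂ) 1 := by
    intro χ hχ hne
    set P' := (P : Subgroup G).subgroupOf N
    letI := Fintype.ofFinite P'
    have : P'.Normal := Subgroup.normal_in_normalizer
    have hPN : (P : Subgroup G) ≤ N := Subgroup.le_normalizer
    have hne' : Cfsg.classInner (fun n : P' => (fun m : N => (χ : G → ℂ) m) n) (fun _ => 1) ≠ 0 := by
      refine fun h0 => hne ?_
      rw [← h0]
      simp only [Cfsg.classInner]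
      congr 1
      · rw [Nat.card_congr (Subgroup.subgroupOfEquivOfLe hPN).toEquiv]
      · exact (Fintype.sum_equiv (Subgroup.subgroupOfEquivOfLe hPN).toEquiv _ _ fun _ => rfl).symm
    have htriv := (BlockThms.triv_constituent_iff (h χ hχ)).1 hne'
    have hker : L ≤ Char.kerSubgroup (Char.IsIrr.isCharacter χ.2) :=
      Subgroup.normalClosure_le_normal fun y hy => (Char.mem_kerSubgroup _).2
        (htriv ⟨y, hPN hy⟩ hy)
    exact fun l hl => (Char.mem_kerSubgroup _).1 (hker hl)
  have hPL' : (P : Subgroup G).subgroupOf L = ((P.subtype hPL : Sylow p L) : Subgroup L) := rfl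
  refine hasNormalPComplement_of_perm hM (P.subtype hPL) fun ψ hψ hψ1 => ?_
  by_contra hne
  obtain ⟨χ, hχ, hcon⟩ := exists_over_of_covering hM (isPBlock_principalBlock M)
    (isPBlock_principalBlock M) ⟨triv G, triv_mem_principalBlock hM, triv L,
      triv_mem_principalBlock hM, by
        show Cfsg.classInner (fun _ : L => (1 : ℂ)) (fun _ => 1) ≠ 0
        rw [Char.classInner_irr_self Char.isIrrCharacter_one]; exact one_ne_zero⟩ hψ
  refine hψ1 ?_
  have hχP : Cfsg.classInner (fun y : (P : Subgroup G) => (χ : G → ℂ) y) (fun _ => 1) ≠ 0 := by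
    set Q := ((P.subtype hPL : Sylow p L) : Subgroup L) with hQ
    choose n hn using fun θ : Cfsg.IrrCharacter L => Char.classInner_isCharacter_eq_natCast
      (Char.isCharacter_res L (Char.IsIrr.isCharacter χ.2)) (Char.IsIrr.isCharacter θ.2)
    choose m hm using fun θ : Cfsg.IrrCharacter L => Char.classInner_isCharacter_eq_natCast
      (Char.isCharacter_res Q (Char.IsIrr.isCharacter θ.2)) Char.isCharacter_one
    have hexp := Char.classFun_expansion (Char.isClassFunction_of_isCharacter
      (Char.isCharacter_res L (Char.IsIrr.isCharacter χ.2)))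
    have hsum : Cfsg.classInner (fun y : (P : Subgroup G) => (χ : G → ℂ) y) (fun _ => 1) =
        ((∑ θ : Cfsg.IrrCharacter L, n θ * m θ : ℕ) : ℂ) := by
      have e : Cfsg.classInner (fun y : (P : Subgroup G) => (χ : G → ℂ) y) (fun _ => 1) =
          Cfsg.classInner (fun y : Q => (χ : G → ℂ) ((y : L) : G)) (fun _ => 1) := by
        simp only [Cfsg.classInner]
        congr 1
        · show ((Nat.card (P : Subgroup G) : ℕ) : ℂ)⁻¹ = ((Nat.card ((P : Subgroup G).subgroupOf L) : ℕ) : ℂ)⁻¹
          rw [Nat.card_congr (Subgroup.subgroupOfEquivOfLe hPL).toEquiv]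
        · exact (Fintype.sum_equiv (Subgroup.subgroupOfEquivOfLe hPL).toEquiv _ _ fun _ => rfl).symm
      rw [e, show (fun y : Q => (χ : G → ℂ) ((y : L) : G)) =
        ∑ θ : Cfsg.IrrCharacter L, (n θ : ℂ) • (fun y : Q => (θ : L → ℂ) (y : L)) from
        funext fun y => by
          rw [Finset.sum_apply]
          refine (congrFun hexp (y : L)).trans ?_
          rw [Finset.sum_apply]
          exact Finset.sum_congr rfl fun θ _ => by
            rw [Pi.smul_apply, Pi.smul_apply, hn θ],
        Char.classInner_sum_left, Nat.cast_sum]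
      exact Finset.sum_congr rfl fun θ _ => by
        rw [Char.classInner_smul_left, hm θ, Nat.cast_mul]
    rw [hsum, Nat.cast_ne_zero]
    refine fun h0 => (Nat.mul_ne_zero ?_ ?_) ((Finset.sum_eq_zero_iff.1 h0) ψ (Finset.mem_univ _))
    · exact fun e => hcon (by rw [hn ψ, e, Nat.cast_zero])
    · exact fun e => hne (by rw [hm ψ, e, Nat.cast_zero])
  have hl := hkey χ hχ hχP
  by_contra hne1
  refine hcon ?_
  rw [show (fun l : L => (χ : G → ℂ) l) = (χ : G → ℂ) 1 • (fun _ : L => (1 : ℂ)) from
    funext fun l => by rw [hl l l.2, Pi.smul_apply, smul_eq_mul, mul_one],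
    Char.classInner_smul_left, show (fun _ : L => (1 : ℂ)) = ((triv L) : L → ℂ) from rfl,
    Char.classInner_irrChar, if_neg (fun e => hne1 (by rw [← e]; rfl)), mul_zero]

end Cfsg.Agent.Blocks
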