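import Cfsg.Agent.Blocks.Principal
import Cfsg.Agent.Blocks.Rank

/-!
# Columns of the principal block at p-elements
-/

namespace Cfsg.Agent.Blocks

open scoped ComplexConjugate
open Cfsg.Agent

universe u

variable {G : Type u} [Group G] [Fintype G] {p : ℕ} {M : Ideal Cfsg.AlgInt}

omit [Fintype G] in
theorem pPartOf_pElement [Finite G] (hp : p.Prime) {y : G} (hy : ∃ k, orderOf y = p ^ k) :
    pPartOf p y = y := by
  have := (parts_mul hp (Commute.one_right y) hy (by simp [hp.ne_one])).1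
  simpa using this

omit [Fintype G] in
theorem exists_orderOf_of_mem {P : Subgroup G} (hP : IsPGroup p P) [Fact p.Prime] {y : G}
    (hy : y ∈ P) : ∃ k, orderOf y = p ^ k := by
  obtain ⟨k, hk⟩ := IsPGroup.iff_orderOf.1 hP ⟨y, hy⟩
  exact ⟨k, by rwa [Subgroup.orderOf_mk] at hk⟩

theorem block_column_zero (hM : Cfsg.IsPModular p M) {B : Set (Cfsg.IrrCharacter G)}
    (hB : Cfsg.IsPBlock M B) {y z : G} (hy : ∃ k, orderOf y = p ^ k)
    (hz : ∃ k, orderOf z = p ^ k) (h : ¬ IsConj z y) :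
    ∑ᶠ χ ∈ B, (χ : G → ℂ) z * conj ((χ : G → ℂ) y) = 0 := by
  rw [← block_orthogonality hM hB z y⁻¹ ?_]
  · exact finsum_congr fun χ => finsum_congr fun _ => by
      rw [Char.IsChar.inv_eq_conj (Char.IsIrr.isCharacter χ.2)]
  · rw [pPartOf_pElement hM.1 hz, pPartOf_pElement hM.1 (y := y⁻¹) (by simpa using hy), inv_inv]
    exact h

/-- The norm of a column of the principal block at a p-element is the sum of the squares of the
degrees of the principal block of its centraliser. -/
theorem principal_column_self (hM : Cfsg.IsPModular p M) {y : G} (hy : ∃ k, orderOf y = p ^ k) :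
    ∑ᶠ χ ∈ Cfsg.principalBlock M G, (χ : G → ℂ) y * conj ((χ : G → ℂ) y) =
      ((∑ᶠ ψ ∈ Cfsg.principalBlock M ↥(Subgroup.centralizer ({y} : Set G)),
        Cfsg.charDegree (ψ : ↥(Subgroup.centralizer ({y} : Set G)) → ℂ) ^ 2 : ℕ) : ℂ) := by
  classical
  obtain ⟨k, hk⟩ := hy
  set H := Subgroup.centralizer ({y} : Set G)
  have : Fintype H := Fintype.ofFinite H
  have hP : IsPGroup p (Subgroup.zpowers y) :=
    IsPGroup.of_card (n := k) (by rw [Nat.card_zpowers, hk])
  have hH : ∀ a : G, a ∈ H ↔ y * a = a * y := mem_centralizer_iff_comm y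
  have hH' : ∀ a : G, a ∈ H ↔ ∀ u ∈ Subgroup.zpowers y, u * a = a * u := fun a => by
    rw [hH]
    exact ⟨fun h u ⟨i, hi⟩ => hi ▸ ((show Commute y a from h).zpow_left i).eq,
      fun h => h y (Subgroup.mem_zpowers y)⟩
  have h1 : ¬ p ∣ orderOf (1 : H) := by simp [hM.1.ne_one]
  have h := section_identity hM ⟨k, hk⟩ hH (isPBlock_principalBlock (G := G) M) h1 h1
  rw [inducing_principalBlock hM hP hH'] at h
  simp only [OneMemClass.coe_one, mul_one] at h
  rw [h, finsum_mem_eq_finite_toFinset_sum _ (Set.toFinite _),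
    finsum_mem_eq_finite_toFinset_sum _ (Set.toFinite _), Nat.cast_sum]
  refine Finset.sum_congr rfl fun ψ _ => ?_
  obtain ⟨n, -, hn⟩ := Char.IsIrr.degree ψ.2
  simp [Cfsg.charDegree, hn, sq]

end Cfsg.Agent.Blocks
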