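import Cfsg.Agent.BlockChar.RegInner
import Cfsg.Agent.BlockThms.Eta
import Mathlib.NumberTheory.Padics.PadicVal.Basic

/-!
# The exact power of `p` in the regular inner products of a block

For `χ` of height zero the number `p ^ a [χ°, ξ]` has the exponent of `p` of `ξ 1`, for every `ξ` in
the block; for `χ` of positive height the exponent is larger for every `ξ`.
-/

namespace Cfsg.Agent.Blocks

open Cfsg.Agent

universe u

variable {G : Type u} [Group G] [Fintype G] {p : ℕ} {M : Ideal Cfsg.AlgInt}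
  {B : Set (Cfsg.IrrCharacter G)}

/-- The exponent of `p` in an entry of the regular matrix. -/
theorem regM_valuation (hM : Cfsg.IsPModular p M) {χ ξ : Cfsg.IrrCharacter G} (hξ : ξ ∈ B) {k : ℤ}
    (hk : BlockChar.regM p B ξ χ = (k : ℂ)) :
    (k ≠ 0 ∧ padicValInt p k = Cfsg.blockHeight p B (ξ : G → ℂ)) ↔
      ¬ Cfsg.MemLocalIdeal M (omega (ξ : G → ℂ) (BlockChar.regConj p (χ : G → ℂ))) := by
  haveI := Fact.mk hM.1
  set m := Nat.card G / p ^ (Nat.card G).factorization p with hm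
  have hpm : ¬ p ∣ m := Nat.not_dvd_ordCompl hM.1 Nat.card_pos.ne'
  set W := omega (ξ : G → ℂ) (BlockChar.regConj p (χ : G → ℂ)) with hW
  obtain ⟨-, hv, hb0⟩ := BlockChar.redDeg_mul (B := B) hM.1 hξ
  set ht := Cfsg.blockHeight p B (ξ : G → ℂ)
  set b := BlockChar.redDeg p B ξ
  set b' := b / p ^ ht with hb'
  have hbb : p ^ ht * b' = b := Nat.mul_div_cancel' (hv ▸ Nat.ordProj_dvd _ _)
  have hb'u : ¬ p ∣ b' := by
    rw [hb', ← hv]
    exact Nat.not_dvd_ordCompl hM.1 hb0.ne'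
  have e := BlockChar.regM_eq hM.1 hξ χ
  rw [hk, ← hm, ← hW] at e
  have hp0 : (p : ℂ) ≠ 0 := Nat.cast_ne_zero.2 hM.1.ne_zero
  have hrat : (b' : ℂ) * W = ((((m : ℚ) * k / (p : ℚ) ^ ht : ℚ)) : ℂ) := by
    push_cast
    rw [eq_div_iff (pow_ne_zero _ hp0), e, show (BlockChar.redDeg p B ξ : ℂ) = ((p ^ ht * b' : ℕ) : ℂ)
      by rw [hbb]]
    push_cast
    ring
  have hint : IsIntegral ℤ ((b' : ℂ) * W) :=
    (Blocks.isIntegral_natCast _).mul (BlockChar.isIntegral_omega_regConj ξ χ)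
  obtain ⟨n, hn⟩ := Blocks.exists_int_of_isIntegral_rat hint _ hrat
  have hmk : (m : ℤ) * k = (p : ℤ) ^ ht * n := by
    have : (m : ℂ) * k = (p : ℂ) ^ ht * n := by
      rw [e, ← hn, show (BlockChar.redDeg p B ξ : ℂ) = ((p ^ ht * b' : ℕ) : ℂ) by rw [hbb]]
      push_cast
      ring
    exact_mod_cast this
  have hWn : Cfsg.MemLocalIdeal M W ↔ (p : ℤ) ∣ n := by
    rw [← memLocalIdeal_intCast_iff hM n, ← hn]
    refine ⟨fun h => memLocalIdeal_mul_left hM (memLocalRing_natCast hM _) h, fun h => ?_⟩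
    exact (memLocalIdeal_of_mul hM (memLocalRing_natCast hM _)
      (memLocalRing_of_isIntegral hM (BlockChar.isIntegral_omega_regConj ξ χ)) h).resolve_left
      (mt (memLocalIdeal_natCast_iff hM _).1 hb'u)
  rw [hWn]
  have hm0 : (m : ℤ) ≠ 0 := by
    exact_mod_cast (Nat.ordCompl_pos p Nat.card_pos.ne').ne'
  have hmv : padicValInt p (m : ℤ) = 0 := by
    rw [padicValInt.of_nat]
    exact padicValNat.eq_zero_of_not_dvd hpm
  constructor
  · rintro ⟨hk0, hval⟩ hdvd
    have h1 : (p : ℤ) ^ (ht + 1) ∣ (m : ℤ) * k := by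
      rw [hmk, pow_succ]
      exact mul_dvd_mul_left _ hdvd
    have h2 := ((padicValInt_dvd_iff (ht + 1) _).1 h1).resolve_left (mul_ne_zero hm0 hk0)
    rw [padicValInt.mul hm0 hk0, hmv, zero_add, hval] at h2
    omega
  · intro hn'
    have hn0 : n ≠ 0 := by
      rintro rfl
      exact hn' (dvd_zero _)
    have hk0 : k ≠ 0 := by
      rintro rfl
      rw [mul_zero, eq_comm, mul_eq_zero] at hmk
      exact hmk.elim (pow_ne_zero _ (by exact_mod_cast hM.1.ne_zero)) hn0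
    refine ⟨hk0, ?_⟩
    have h := congrArg (padicValInt p) hmk
    rw [padicValInt.mul hm0 hk0, hmv, zero_add,
      padicValInt.mul (pow_ne_zero _ (by exact_mod_cast hM.1.ne_zero)) hn0,
      padicValInt.eq_zero_of_not_dvd hn', add_zero,
      show ((p : ℤ) ^ ht) = ((p ^ ht : ℕ) : ℤ) by push_cast; rfl, padicValInt.of_nat,
      padicValNat.prime_pow] at h
    exact h

/-- Height zero is detected by any single entry. -/
theorem height_zero_iff_unit (hM : Cfsg.IsPModular p M) (hB : Cfsg.IsPBlock M B)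
    {χ ξ : Cfsg.IrrCharacter G} (hχ : χ ∈ B) (hξ : ξ ∈ B) :
    Cfsg.blockHeight p B (χ : G → ℂ) = 0 ↔
      ¬ Cfsg.MemLocalIdeal M (omega (ξ : G → ℂ) (BlockChar.regConj p (χ : G → ℂ))) := by
  refine ⟨fun h => BlockChar.not_memLocalIdeal_omega_regConj hM hB hξ hχ h, fun h => ?_⟩
  by_contra hh
  obtain ⟨χ₀, hχ₀, hh₀⟩ := BlockThms.exists_height_zero hM hB
  have hr : p ∣ BlockChar.redDeg p B χ := by
    by_contra hr
    exact hh ((BlockChar.not_dvd_redDeg_iff hM.1 hχ).1 hr)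
  have h1 : Cfsg.MemLocalIdeal M (BlockChar.regM p B χ₀ χ) := by
    rw [← BlockChar.regM_comm hM]
    exact (BlockChar.regM_memLocalIdeal_iff hM hχ χ₀).2 (Or.inl hr)
  rcases (BlockChar.regM_memLocalIdeal_iff hM hχ₀ χ).1 h1 with h2 | h2
  · exact (BlockChar.not_dvd_redDeg_iff hM.1 hχ₀).2 hh₀ h2
  · exact h (BlockChar.omega_regConj_congr hM hB hχ₀ hξ χ h2)

/-- The statement in terms of `p ^ a [χ°, ξ]`. -/
theorem height_zero_iff_valuation (hM : Cfsg.IsPModular p M) (hB : Cfsg.IsPBlock M B)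
    {χ ξ : Cfsg.IrrCharacter G} (hχ : χ ∈ B) (hξ : ξ ∈ B) :
    Cfsg.blockHeight p B (χ : G → ℂ) = 0 ↔ ∃ n : ℤ,
      Cfsg.classInner (fun x : G => if p ∣ orderOf x then (0 : ℂ) else
          ((p ^ (Nat.card G).factorization p : ℕ) : ℂ) * (χ : G → ℂ) x) (ξ : G → ℂ) = (n : ℂ) ∧
        n ≠ 0 ∧ padicValInt p n = (Cfsg.charDegree (ξ : G → ℂ)).factorization p := by
  classical
  haveI := Fact.mk hM.1
  obtain ⟨k, hk⟩ := BlockChar.exists_int_regM hM hξ χ
  rw [height_zero_iff_unit hM hB hχ hξ, ← regM_valuation hM hξ hk]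
  have hmin := BlockChar.minVal_le (p := p) hξ
  have hsum : Cfsg.blockDefect p B + BlockChar.minVal p B = (Nat.card G).factorization p := by
    have h1 := hmin.trans (BlockChar.degree_val_le ξ)
    rw [BlockChar.blockDefect_eq]
    omega
  have hinner : Cfsg.classInner (fun x : G => if p ∣ orderOf x then (0 : ℂ) else
      ((p ^ (Nat.card G).factorization p : ℕ) : ℂ) * (χ : G → ℂ) x) (ξ : G → ℂ) =
      (((p : ℤ) ^ BlockChar.minVal p B * k : ℤ) : ℂ) := by
    push_cast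
    rw [← hk, ← BlockChar.regM_comm hM ξ χ, BlockChar.regM, BlockChar.regSum, Cfsg.classInner,
      ← hsum, Finset.mul_sum, Finset.mul_sum, Finset.mul_sum]
    refine Finset.sum_congr rfl fun x _ => ?_
    by_cases hx : p ∣ orderOf x
    · simp [Cfsg.IsPRegular, hx]
    · simp only [Cfsg.IsPRegular, hx, if_false, not_false_eq_true, if_true]
      push_cast
      ring
  have hpz : (p : ℤ) ^ BlockChar.minVal p B ≠ 0 := pow_ne_zero _ (by exact_mod_cast hM.1.ne_zero)
  have hv : k ≠ 0 → padicValInt p ((p : ℤ) ^ BlockChar.minVal p B * k) =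
      BlockChar.minVal p B + padicValInt p k := fun hk0 => by
    rw [padicValInt.mul hpz hk0,
      show ((p : ℤ) ^ BlockChar.minVal p B) = ((p ^ BlockChar.minVal p B : ℕ) : ℤ) by push_cast; rfl,
      padicValInt.of_nat, padicValNat.prime_pow]
  have hh : Cfsg.blockHeight p B (ξ : G → ℂ) =
      (Cfsg.charDegree (ξ : G → ℂ)).factorization p - BlockChar.minVal p B :=
    BlockChar.blockHeight_eq _
  constructor
  · rintro ⟨hk0, hval⟩
    refine ⟨_, hinner, mul_ne_zero hpz hk0, ?_⟩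
    rw [hv hk0, hval, hh]
    omega
  · rintro ⟨n, hn, hn0, hval⟩
    rw [hinner, Int.cast_inj] at hn
    subst hn
    have hk0 : k ≠ 0 := right_ne_zero_of_mul hn0
    rw [hv hk0] at hval
    exact ⟨hk0, by omega⟩

end Cfsg.Agent.Blocks
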