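import Cfsg.Agent.BlockChar.CardBound
import Cfsg.Agent.BlockChar.ThirdMain
import Cfsg.Agent.Blocks.Principal

/-!
# Principal blocks and a small centralizer

If a `p`-element has a centralizer whose order has `p`-part at most `p ^ 2`, the principal block has
at most `p ^ 2` characters of degree prime to `p`.
-/

set_option autoImplicit false

namespace Cfsg.Agent.Blocks.SmallCentralizer

open scoped ComplexConjugate
open Cfsg.Agent Cfsg.Agent.Blocks Cfsg.Agent.BlockChar

universe u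

variable {G : Type u} [Group G] [Fintype G] {p : ℕ} {M : Ideal Cfsg.AlgInt}
  {B : Set (Cfsg.IrrCharacter G)}

open scoped Classical in
/-- A subsection of order `p` with small centralizer bounds the characters that do not vanish at it. -/
theorem card_le_sq_of_subsection (hM : Cfsg.IsPModular p M) (hB : Cfsg.IsPBlock M B)
    {y : G} (hy : orderOf y = p) {C : Subgroup G} [Fintype C]
    (hC : ∀ a : G, a ∈ C ↔ y * a = a * y) {b : Set (Cfsg.IrrCharacter C)}
    (hind : Cfsg.IsInducedBlock M C b B) (hbd : Cfsg.blockDefect p b = 2) {s : C}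
    (hsy : (s : G) = y) [(Subgroup.zpowers s).Normal] [Fintype (C ⧸ Subgroup.zpowers s)]
    {b' : Set (Cfsg.IrrCharacter (C ⧸ Subgroup.zpowers s))} (hb' : Cfsg.IsPBlock M b')
    (hiff : ∀ η, η ∈ b' ↔ inflIrr (Subgroup.zpowers s) η ∈ b)
    (hd' : Cfsg.blockDefect p b' = 1) {S : Finset (Cfsg.IrrCharacter G)}
    (hS : S ⊆ B.toFinite.toFinset) (hne : ∀ χ ∈ S, subPart y C b χ 1 ≠ 0) : S.card ≤ p ^ 2 := by
  have hp := hM.1
  have hb := hind.1
  have : NeZero p := ⟨hp.ne_zero⟩
  have := Fact.mk hp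
  set N := Subgroup.zpowers s
  have hso : orderOf s = p := by rw [← Subgroup.orderOf_coe, hsy, hy]
  have hNcard : Nat.card N = p := by rw [Nat.card_zpowers, hso]
  have hN : IsPGroup p N := IsPGroup.of_card (n := 1) (by rw [hNcard, pow_one])
  have hs : s ∈ Subgroup.center C := Subgroup.mem_center_iff.2 fun t => Subtype.ext (by
    rw [Subgroup.coe_mul, Subgroup.coe_mul, hsy]; exact ((hC t).1 t.2).symm)
  have hc : N ≤ Subgroup.center C := Subgroup.zpowers_le.2 hs
  set T := b.toFinite.toFinset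
  set T' := b'.toFinite.toFinset
  obtain ⟨ζ, hζ⟩ : ∃ ζ : ℂ, IsPrimitiveRoot ζ p := ⟨_, Complex.isPrimitiveRoot_exp p hp.ne_zero⟩
  have hsp : s ^ p = 1 := by rw [← hso]; exact pow_orderOf_eq_one s
  have hidx : ∀ φ : Cfsg.IrrCharacter C, ∃ i : Fin p, subScalar s φ = ζ ^ (i : ℕ) := fun φ => by
    obtain ⟨i, hi, h⟩ := hζ.eq_pow_of_pow_eq_one (subScalar_pow_eq_one hs hsp φ)
    exact ⟨⟨i, hi⟩, h.symm⟩
  choose ix hix using hidx
  have hlift : ∀ φ : Cfsg.IrrCharacter C, ∃ z : Cfsg.IrrCharacter (C ⧸ N) → ℤ, φ ∈ b →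
      (∀ η, z η ≠ 0 → η ∈ b') ∧ ∀ w : C, ¬ p ∣ orderOf w → (φ : C → ℂ) w =
        ∑ η ∈ T', (z η : ℂ) * (η : C ⧸ N → ℂ) (w : C ⧸ N) := fun φ => by
    by_cases hφ : φ ∈ b
    · obtain ⟨z, hz, hval⟩ := exists_int_lift N hM hN hc hb hiff hφ
      refine ⟨z, fun _ => ⟨hz, fun w hw => ?_⟩⟩
      rw [hval w hw, ← Finset.sum_subset (Finset.subset_univ T') fun η _ hη => ?_]
      rw [show z η = 0 from by_contra fun h => hη (b'.toFinite.mem_toFinset.2 (hz η h))]
      simp
    · exact ⟨0, fun h => absurd h hφ⟩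
  choose zl hzl using hlift
  choose n hn using fun χ : Cfsg.IrrCharacter G => fun φ : Cfsg.IrrCharacter C =>
    exists_nat_resMult C χ φ
  -- the integer coordinates
  let z : Cfsg.IrrCharacter G → Fin p → Cfsg.IrrCharacter (C ⧸ N) → ℤ := fun χ i η =>
    ∑ φ ∈ T, if ix φ = i then (n χ φ : ℤ) * zl φ η else 0
  have hsub : ∀ χ (j : ℕ) (w : C), ¬ p ∣ orderOf w →
      subPart ((s ^ j : C) : G) C b χ w = ∑ i : Fin p, (ζ ^ j) ^ (i : ℕ) *
        ∑ η ∈ T', (z χ i η : ℂ) * (η : C ⧸ N → ℂ) (w : C ⧸ N) := by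
    intro χ j w hw
    simp only [subPart, z, Int.cast_sum, Finset.sum_mul, Finset.mul_sum]
    rw [Finset.sum_congr rfl fun i _ => Finset.sum_comm, Finset.sum_comm]
    refine Finset.sum_congr rfl fun φ hφ => ?_
    rw [subMult_eq (pow_mem hs j) rfl, subScalar_pow hs, hix, hn,
      (hzl φ (b.toFinite.mem_toFinset.1 hφ)).2 w hw, Finset.mul_sum,
      Finset.sum_eq_single (ix φ)]
    · refine Finset.sum_congr rfl fun η _ => ?_
      rw [if_pos rfl, ← pow_mul, ← pow_mul, mul_comm j]
      push_cast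
      ring
    · intro i _ hi
      simp [Ne.symm hi]
    · simp
  -- the diagonal contribution as a form
  set F : Cfsg.IrrCharacter G → Fin p → Fin p → ℂ :=
    fun χ i i' => regForm p b' (z χ i) (z χ i')
  have hcard : (Nat.card C : ℂ) = (p : ℂ) * (Nat.card (C ⧸ N) : ℂ) := by
    rw [Subgroup.card_eq_card_quotient_mul_card_subgroup N, hNcard]; push_cast; ring
  have hcontrib : ∀ χ (j : ℕ), contrib p ((s ^ j : C) : G) C b χ χ =
      ∑ i : Fin p, ∑ i' : Fin p, (ζ ^ j) ^ (i : ℕ) * conj ((ζ ^ j) ^ (i' : ℕ)) * F χ i i' := by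
    intro χ j
    rw [contrib_eq, Finset.sum_congr rfl (g := fun w : C => (fun q : C ⧸ N =>
      (∑ i : Fin p, (ζ ^ j) ^ (i : ℕ) * ∑ η ∈ T', (z χ i η : ℂ) * (η : C ⧸ N → ℂ) q) *
        conj (∑ i : Fin p, (ζ ^ j) ^ (i : ℕ) * ∑ η ∈ T', (z χ i η : ℂ) * (η : C ⧸ N → ℂ) q))
        (w : C ⧸ N)) (fun w hw => by rw [hsub χ j w (Finset.mem_filter.1 hw).2]),
      sum_regular_quotient N hp hN hc (fun q : C ⧸ N =>
      (∑ i : Fin p, (ζ ^ j) ^ (i : ℕ) * ∑ η ∈ T', (z χ i η : ℂ) * (η : C ⧸ N → ℂ) q) *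
        conj (∑ i : Fin p, (ζ ^ j) ^ (i : ℕ) * ∑ η ∈ T', (z χ i η : ℂ) * (η : C ⧸ N → ℂ) q)),
      hbd, hcard]
    simp only [F, regForm_eq, hd']
    refine mul_sum_conj_expand ?_ (fun i : Fin p => (ζ ^ j) ^ (i : ℕ))
      (fun i (q : C ⧸ N) => ∑ η ∈ T', (z χ i η : ℂ) * (η : C ⧸ N → ℂ) q) _
    have : (p : ℂ) ≠ 0 := Nat.cast_ne_zero.2 hp.ne_zero
    push_cast
    field_simp
    rfl
  -- the hypotheses for the powers
  have hpow : ∀ j ∈ (Finset.range p).erase 0, (∃ k, orderOf ((s ^ j : C) : G) = p ^ k) ∧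
      ∀ a : G, a ∈ C ↔ ((s ^ j : C) : G) * a = a * ((s ^ j : C) : G) := by
    intro j hj
    obtain ⟨hj0, hjp⟩ := Finset.mem_erase.1 hj
    have hco : Nat.Coprime j p := ((hp.coprime_iff_not_dvd).2 fun h =>
      absurd (Nat.le_of_dvd (Nat.pos_of_ne_zero hj0) h) (not_le.2 (Finset.mem_range.1 hjp))).symm
    rw [Subgroup.coe_pow, hsy]
    refine ⟨⟨1, ?_⟩, fun a => ?_⟩
    · rw [pow_one, Nat.Coprime.orderOf_pow (hy.symm ▸ hco.symm), hy]
    · obtain ⟨t, ht⟩ := exists_pow_eq_self_of_coprime (n := j) (x := y) (hy.symm ▸ hco)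
      rw [hC]
      exact ⟨fun h => (Commute.pow_left (show Commute y a from h) j).eq,
        fun h => by rw [← ht]; exact (Commute.pow_left (show Commute (y ^ j) a from h) t).eq⟩
  -- the lower bound for each character
  have hlow : ∀ χ ∈ B.toFinite.toFinset, ∃ N : ℤ,
      ∑ j ∈ (Finset.range p).erase 0, contrib p ((s ^ j : C) : G) C b χ χ = (N : ℂ) ∧
      (if χ ∈ S then ((p : ℤ) - 1) * Cfsg.blockRank p b' else 0) ≤ N := by
    intro χ hχ
    have hχB := B.toFinite.mem_toFinset.1 hχ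
    let L : Fin p → C → ℂ := fun i w => if p ∣ orderOf w then 0 else
      ∑ η ∈ T', (z χ i η : ℂ) * (η : C ⧸ N → ℂ) (w : C ⧸ N)
    have hQ : ∀ i i', ∃ Q : ℤ, regForm p b' (z χ i) (z χ i') = (Q : ℂ) := fun i i' => by
      have hk : ∀ η η', ∃ k : ℤ, η ∈ b' → regM p b' η η' = (k : ℂ) := fun η η' => by
        by_cases h : η ∈ b'
        · obtain ⟨k, hk⟩ := exists_int_regM hM h η'
          exact ⟨k, fun _ => hk⟩
        · exact ⟨0, fun h' => absurd h' h⟩
      choose k hk using hk
      refine ⟨∑ η ∈ T', ∑ η' ∈ T', z χ i η * z χ i' η' * k η η', ?_⟩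
      rw [regForm]
      push_cast
      exact Finset.sum_congr rfl fun η hη => Finset.sum_congr rfl fun η' _ => by
        rw [hk η η' (b'.toFinite.mem_toFinset.1 hη)]
    choose Q hQ using hQ
    have hdiff : ∀ i i', L i ≠ L i' →
        (Cfsg.blockRank p b' : ℤ) ≤ Q i i + Q i' i' - Q i i' - Q i' i := by
      intro i i' hne
      obtain ⟨w, hw⟩ := Function.ne_iff.1 hne
      have hwr : ¬ p ∣ orderOf w := fun h => hw (by simp [L, h])
      have hne' : ∑ η ∈ T', ((z χ i - z χ i') η : ℂ) * (η : C ⧸ N → ℂ) (w : C ⧸ N) ≠ 0 := by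
        simp only [L, if_neg hwr] at hw
        simp only [Pi.sub_apply, Int.cast_sub, sub_mul, Finset.sum_sub_distrib]
        exact sub_ne_zero.2 hw
      obtain ⟨R, hR, hle⟩ :=
        blockRank_le_regForm hM hb' hd' (z χ i - z χ i') (isPRegular_mk N hwr) hne'
      rw [regForm_sub_self, hQ, hQ, hQ, hQ] at hR
      have hR' : Q i i + Q i' i' - Q i i' - Q i' i = R := by exact_mod_cast hR
      rw [hR']
      exact hle
    have hsame : ∀ i i', L i = L i' → 0 = Q i i + Q i' i' - Q i i' - Q i' i := by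
      intro i i' he
      have h : regForm p b' (z χ i - z χ i') (z χ i - z χ i') = 0 := by
        rw [regForm_eq, Finset.sum_eq_zero fun q hq => ?_, mul_zero]
        have hzero : ∑ η ∈ T', ((z χ i - z χ i') η : ℂ) * (η : C ⧸ N → ℂ) q = 0 := by
          obtain ⟨g, rfl⟩ := QuotientGroup.mk_surjective q
          have hmk : ((pPrimePartOf p g : C) : C ⧸ N) = (g : C ⧸ N) := by
            have h1 := sum_regular_quotient (A := ℕ) N hp hN hc
              (fun r => if r = (g : C ⧸ N) then 1 else 0)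
            rw [Finset.sum_ite_eq', if_pos hq] at h1
            obtain ⟨w, hwm, hwne⟩ := Finset.exists_ne_zero_of_sum_ne_zero (h1 ▸ one_ne_zero)
            have hwg : (w : C ⧸ N) = (g : C ⧸ N) := by_contra fun hn => hwne (if_neg hn)
            have hn : w⁻¹ * g ∈ N := QuotientGroup.eq.1 hwg
            have hcomm : Commute (w⁻¹ * g) w := (Subgroup.mem_center_iff.1 (hc hn) w).symm
            obtain ⟨k, hk⟩ := IsPGroup.iff_orderOf.1 hN ⟨_, hn⟩
            have h2 := (parts_mul hp hcomm ⟨k, (Subgroup.orderOf_coe (⟨_, hn⟩ : N)).trans hk⟩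
              (Finset.mem_filter.1 hwm).2).2
            rw [show w⁻¹ * g * w = g by rw [hcomm.eq, mul_inv_cancel_left]] at h2
            rw [h2, hwg]
          have h2 := congrFun he (pPrimePartOf p g)
          simp only [L, if_neg (not_dvd_orderOf_pPrimePartOf hp g), hmk] at h2
          simp only [Pi.sub_apply, Int.cast_sub, sub_mul, Finset.sum_sub_distrib]
          exact sub_eq_zero.2 h2
        rw [hzero, zero_mul]
      rw [regForm_sub_self, hQ, hQ, hQ, hQ] at h
      exact_mod_cast h.symm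
    refine ⟨(p : ℤ) * ∑ i, Q i i - ∑ i, ∑ i', Q i i', ?_, ?_⟩
    · have hfull : ∑ j ∈ Finset.range p, contrib p ((s ^ j : C) : G) C b χ χ =
          (p : ℂ) * ∑ i : Fin p, F χ i i := by
        simp only [hcontrib]
        rw [Finset.sum_comm, Finset.mul_sum]
        refine Finset.sum_congr rfl fun i _ => ?_
        rw [Finset.sum_comm]
        simp only [← Finset.sum_mul, sum_pow_mul_conj hζ hp.one_lt, ite_mul, zero_mul,
          Finset.sum_ite_eq, Finset.mem_univ, if_true]
      rw [Finset.sum_erase_eq_sub (Finset.mem_range.2 hp.pos), hfull, hcontrib χ 0]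
      simp [F, hQ]
    · set l : ℤ := (Cfsg.blockRank p b' : ℤ)
      have hge : ∀ i i', (if L i ≠ L i' then l else 0) ≤ Q i i + Q i' i' - Q i i' - Q i' i := by
        intro i i'
        split_ifs with h
        · exact hdiff i i' h
        · rw [not_not] at h; rw [← hsame i i' h]
      have h2 : ∑ i : Fin p, ∑ i' : Fin p, (Q i i + Q i' i' - Q i i' - Q i' i) =
          2 * ((p : ℤ) * ∑ i, Q i i - ∑ i, ∑ i', Q i i') := by
        simp only [Finset.sum_sub_distrib, Finset.sum_add_distrib, Finset.sum_const,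
          Finset.card_univ, Fintype.card_fin, nsmul_eq_mul, ← Finset.mul_sum]
        rw [Finset.sum_comm (f := fun i i' => Q i' i)]
        ring
      split_ifs with hχS
      swap
      · have h3 : (0 : ℤ) ≤ ∑ i : Fin p, ∑ i' : Fin p, (Q i i + Q i' i' - Q i i' - Q i' i) :=
          Finset.sum_nonneg fun i _ => Finset.sum_nonneg fun i' _ =>
            le_trans (by split_ifs <;> simp [l]) (hge i i')
        linarith
      -- the values do not all agree
      obtain ⟨i0, i1, h01⟩ : ∃ i0 i1, L i0 ≠ L i1 := by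
        by_contra! hall
        refine hne χ hχS ?_
        have hwr : ¬ p ∣ orderOf (1 : C) := by simp [hp.ne_one]
        have hL : ∀ i, ∑ η ∈ T', (z χ i η : ℂ) * (η : C ⧸ N → ℂ) ((1 : C) : C ⧸ N) =
            ∑ η ∈ T', (z χ 0 η : ℂ) * (η : C ⧸ N → ℂ) ((1 : C) : C ⧸ N) := fun i => by
          have := congrFun (hall i 0) 1
          simpa [L, hwr, hp.ne_one] using this
        have hgeom : ∑ i : Fin p, (ζ ^ 1) ^ (i : ℕ) = 0 := by
          rw [Fin.sum_univ_eq_sum_range (fun i => (ζ ^ 1) ^ i), pow_one,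
            hζ.geom_sum_eq_zero hp.one_lt]
        have h1 := hsub χ 1 1 hwr
        rw [pow_one, hsy] at h1
        rw [h1]
        simp only [hL, ← Finset.sum_mul]
        rw [show (∑ i : Fin p, (ζ ^ 1) ^ (i : ℕ)) = 0 from hgeom, zero_mul]
      have hpairs : 2 * ((p : ℤ) - 1) * l ≤ ∑ i, ∑ i', if L i ≠ L i' then l else 0 := by
        have hl : 0 ≤ l := Int.natCast_nonneg _
        set S := Finset.univ.filter fun i => L i = L i0
        have h1 : 1 ≤ S.card := Finset.card_pos.2 ⟨i0, by simp [S]⟩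
        have h2 : 1 ≤ Sᶜ.card := Finset.card_pos.2 ⟨i1, by simp [S, Ne.symm h01]⟩
        have h3 : S.card + Sᶜ.card = p := by rw [Finset.card_add_card_compl, Fintype.card_fin]
        have h4 : ∀ i ∈ S, ∀ i' ∈ Sᶜ, L i ≠ L i' := fun i hi i' hi' e => by
          simp only [S, Finset.mem_compl, Finset.mem_filter, Finset.mem_univ, true_and] at hi hi'
          exact hi' (e ▸ hi)
        calc 2 * ((p : ℤ) - 1) * l ≤ 2 * ((S.card : ℤ) * (Sᶜ.card : ℤ)) * l := by
              refine mul_le_mul_of_nonneg_right (mul_le_mul_of_nonneg_left ?_ zero_le_two) hl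
              have h1' : (1 : ℤ) ≤ S.card := by exact_mod_cast h1
              have h2' : (1 : ℤ) ≤ Sᶜ.card := by exact_mod_cast h2
              have h3' : (S.card : ℤ) + Sᶜ.card = p := by exact_mod_cast h3
              nlinarith [mul_nonneg (sub_nonneg.2 h1') (sub_nonneg.2 h2')]
          _ = ∑ i ∈ S, ∑ i' ∈ Sᶜ, l + ∑ i ∈ Sᶜ, ∑ i' ∈ S, l := by
              simp only [Finset.sum_const, nsmul_eq_mul]; ring
          _ ≤ ∑ i ∈ S, ∑ i', (if L i ≠ L i' then l else 0) +
              ∑ i ∈ Sᶜ, ∑ i', (if L i ≠ L i' then l else 0) := by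
              refine add_le_add (Finset.sum_le_sum fun i hi => ?_)
                (Finset.sum_le_sum fun i hi => ?_)
              · calc ∑ i' ∈ Sᶜ, l = ∑ i' ∈ Sᶜ, (if L i ≠ L i' then l else 0) :=
                      Finset.sum_congr rfl fun i' hi' => by rw [if_pos (h4 i hi i' hi')]
                  _ ≤ _ := Finset.sum_le_univ_sum_of_nonneg fun i' => by split_ifs <;> omega
              · calc ∑ i' ∈ S, l = ∑ i' ∈ S, (if L i ≠ L i' then l else 0) :=
                      Finset.sum_congr rfl fun i' hi' => by rw [if_pos (h4 i' hi' i hi).symm]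
                  _ ≤ _ := Finset.sum_le_univ_sum_of_nonneg fun i' => by split_ifs <;> omega
          _ = _ := Finset.sum_add_sum_compl S _
      have h3 := (hpairs.trans (Finset.sum_le_sum fun i _ =>
        Finset.sum_le_sum fun i' _ => hge i i')).trans_eq h2
      linarith
  choose! Nv hNv hNle using hlow
  -- the total
  have htot : ((∑ χ ∈ B.toFinite.toFinset, Nv χ : ℤ) : ℂ) =
      ((((p : ℤ) - 1) * ((p : ℤ) ^ 2 * Cfsg.blockRank p b) : ℤ) : ℂ) := by
    rw [Int.cast_sum, Finset.sum_congr rfl fun χ hχ => (hNv χ hχ).symm, Finset.sum_comm,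
      Finset.sum_congr rfl fun j hj => sum_contrib_self hM hB (hpow j hj).1 (hpow j hj).2 hind,
      Finset.sum_const, Finset.card_erase_of_mem (Finset.mem_range.2 hp.pos), Finset.card_range,
      nsmul_eq_mul, hbd, Nat.cast_sub hp.one_le]
    push_cast
    ring
  have htot' : ∑ χ ∈ B.toFinite.toFinset, Nv χ =
      ((p : ℤ) - 1) * ((p : ℤ) ^ 2 * Cfsg.blockRank p b) := by exact_mod_cast htot
  have hsum := Finset.sum_le_sum fun χ hχ => hNle χ hχ
  rw [Finset.sum_ite_mem, Finset.inter_eq_right.2 hS, Finset.sum_const, nsmul_eq_mul,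
    htot'] at hsum
  have hll : (Cfsg.blockRank p b : ℤ) ≤ Cfsg.blockRank p b' := by
    exact_mod_cast blockRank_le_quotient N hM hN hc hb hiff
  have hpos : 0 < Cfsg.blockRank p b' := by
    obtain ⟨η, hη⟩ := IsPBlock.nonempty hM hb'
    rw [Cfsg.blockRank, Module.finrank_pos_iff_exists_ne_zero]
    refine ⟨⟨_, Submodule.subset_span ⟨η, hη, rfl⟩⟩, fun e => ?_⟩
    have := congrFun (congrArg Subtype.val e) 1
    simp only [ZeroMemClass.coe_zero, Pi.zero_apply, pRegularPart_apply, orderOf_one,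
      Nat.dvd_one, hp.ne_one, if_false] at this
    exact Char.IsIrr.one_ne_zero η.2 this
  have hp1 : (0 : ℤ) < (p : ℤ) - 1 := by have := hp.two_le; omega
  have hfin : (S.card : ℤ) * (((p : ℤ) - 1) * Cfsg.blockRank p b') ≤
      (p : ℤ) ^ 2 * (((p : ℤ) - 1) * Cfsg.blockRank p b') := by
    refine hsum.trans ?_
    rw [mul_left_comm]
    exact mul_le_mul_of_nonneg_left (mul_le_mul_of_nonneg_left hll hp1.le) (sq_nonneg _)
  have hc' := le_of_mul_le_mul_right hfin (mul_pos hp1 (by exact_mod_cast hpos))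
  exact_mod_cast hc'

/-- The translate of a character at a `p`-element lives in the principal block of the centralizer. -/
theorem subPart_one_eq (hM : Cfsg.IsPModular p M) {y : G} (hy : ∃ k, orderOf y = p ^ k)
    {C : Subgroup G} [Fintype C] (hC : ∀ a : G, a ∈ C ↔ y * a = a * y)
    {χ : Cfsg.IrrCharacter G} (hχ : χ ∈ Cfsg.principalBlock M G) :
    subPart y C (Cfsg.principalBlock M C) χ 1 = (χ : G → ℂ) y := by
  classical
  have hy' := hy
  obtain ⟨k, hk⟩ := hy'
  have hP : IsPGroup p (Subgroup.zpowers y) :=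
    IsPGroup.of_card (n := k) (by rw [Nat.card_zpowers, hk])
  have hH : ∀ a : G, a ∈ C ↔ ∀ u ∈ Subgroup.zpowers y, u * a = a * u := fun a => by
    rw [hC]
    exact ⟨fun h u ⟨i, hi⟩ => hi ▸ ((show Commute y a from h).zpow_left i).eq,
      fun h => h y (Subgroup.mem_zpowers y)⟩
  have hB := isPBlock_principalBlock (G := G) M
  have hcl : Cfsg.IsClassFunction C (fun t : C => (χ : G → ℂ) (y * (t : G))) := fun t c => by
    show (χ : G → ℂ) (y * ((c : G) * t * (c : G)⁻¹)) = _
    refine Eq.trans ?_ (Char.isClassFunction_of_isIrr χ.2 (y * (t : G)) (c : G))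
    rw [← mul_assoc, ← mul_assoc, (hC (c : G)).1 c.2]
    group
  have hexp := congrFun (Char.classFun_expansion hcl) 1
  simp only [OneMemClass.coe_one, mul_one, Finset.sum_apply, Pi.smul_apply, smul_eq_mul] at hexp
  rw [hexp]
  unfold subPart
  rw [← Finset.sum_fiberwise (s := Finset.univ)
    (g := fun φ : Cfsg.IrrCharacter C => Cfsg.blockOf M (φ : C → ℂ))
    (f := fun φ : Cfsg.IrrCharacter C =>
      Cfsg.classInner (fun t : C => (χ : G → ℂ) (y * (t : G))) (φ : C → ℂ) * (φ : C → ℂ) 1),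
    Finset.sum_eq_single (Cfsg.principalBlock M C)]
  · refine Finset.sum_congr ?_ fun φ _ => rfl
    ext φ
    simp only [Set.Finite.mem_toFinset, Finset.mem_filter, Finset.mem_univ, true_and]
    exact ⟨fun h => (IsPBlock.eq_blockOf hM (isPBlock_principalBlock M) h).symm,
      fun h => h ▸ mem_blockOf_self hM φ⟩
  · intro b' _ hne
    rcases (Finset.univ.filter fun φ : Cfsg.IrrCharacter C =>
      Cfsg.blockOf M (φ : C → ℂ) = b').eq_empty_or_nonempty with h0 | ⟨φ₀, hφ₀⟩
    · rw [h0, Finset.sum_empty]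
    obtain ⟨-, rfl⟩ := Finset.mem_filter.1 hφ₀
    have hb' := isPBlock_blockOf (M := M) φ₀
    have hnot : ¬ Cfsg.IsInducedBlock M C (Cfsg.blockOf M (φ₀ : C → ℂ))
        (Cfsg.principalBlock M G) := fun h => hne (by
      have := (mem_inducing_iff hM hP hH hB hb' (mem_blockOf_self hM φ₀)).2 h
      rw [inducing_principalBlock hM hP hH] at this
      exact (IsPBlock.eq_blockOf hM (isPBlock_principalBlock M) this).symm)
    have h := sum_section_kernel_eq_zero hM hy hC hB hχ hb' hnot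
      (y := (1 : C)) (by simp [hM.1.ne_one])
    have e : ∑ φ ∈ Finset.univ.filter (fun φ : Cfsg.IrrCharacter C =>
        Cfsg.blockOf M (φ : C → ℂ) = Cfsg.blockOf M (φ₀ : C → ℂ)),
        Cfsg.classInner (fun t : C => (χ : G → ℂ) (y * (t : G))) (φ : C → ℂ) * (φ : C → ℂ) 1 =
        (Nat.card C : ℂ)⁻¹ * ∑ c : C, (χ : G → ℂ) (y * (c : G)) *
          ∑ᶠ ψ ∈ Cfsg.blockOf M (φ₀ : C → ℂ), (ψ : C → ℂ) 1 * conj ((ψ : C → ℂ) c) := by
      simp only [Cfsg.classInner, finsum_mem_eq_finite_toFinset_sum _ (Set.toFinite _),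
        Finset.mul_sum, Finset.sum_mul]
      rw [Finset.sum_comm]
      refine Finset.sum_congr rfl fun c _ => Finset.sum_congr ?_ fun φ _ => by ring
      ext φ
      simp only [Set.Finite.mem_toFinset, Finset.mem_filter, Finset.mem_univ, true_and]
      exact ⟨fun h => h ▸ mem_blockOf_self hM φ, fun h => (IsPBlock.eq_blockOf hM hb' h).symm⟩
    rw [e, h, mul_zero]
  · exact fun h => absurd (Finset.mem_univ _) h

/-- A character of degree prime to `p` does not vanish at a `p`-element. -/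
theorem apply_ne_zero (hM : Cfsg.IsPModular p M) {y : G} {k : ℕ} (hy : orderOf y = p ^ k)
    {χ : Cfsg.IrrCharacter G} (hχ : ¬ p ∣ Cfsg.charDegree (χ : G → ℂ)) : (χ : G → ℂ) y ≠ 0 := by
  classical
  set U := Subgroup.zpowers y
  letI := Fintype.ofFinite U
  let u : U := ⟨y, Subgroup.mem_zpowers y⟩
  have hu : u ∈ Subgroup.center U := Subgroup.mem_center_iff.2 fun t => by
    obtain ⟨n, hn⟩ := t.2
    exact Subtype.ext (show (t : G) * y = y * t from hn ▸ ((Commute.refl y).zpow_left n).eq)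
  have hexp := fun w : U => congrFun (Char.classFun_expansion
    (Char.isClassFunction_of_isCharacter (Char.isCharacter_res U (Char.IsIrr.isCharacter χ.2)))) w
  intro h0
  have h1 := hexp 1
  have hy1 := hexp u
  simp only [Finset.sum_apply, Pi.smul_apply, smul_eq_mul] at h1 hy1
  have hd : (χ : G → ℂ) 1 = (Cfsg.charDegree (χ : G → ℂ) : ℂ) := (CharArith.irr_degree_spec χ).1
  refine hχ ((memLocalIdeal_natCast_iff hM _).1 ?_)
  rw [← hd]
  have hm : Cfsg.MemLocalIdeal M ((χ : G → ℂ) 1 - (χ : G → ℂ) y) := by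
    rw [show (χ : G → ℂ) 1 = (χ : G → ℂ) ((1 : U) : G) from rfl,
      show (χ : G → ℂ) y = (χ : G → ℂ) (u : G) from rfl, h1, hy1, ← Finset.sum_sub_distrib]
    refine memLocalIdeal_sum hM _ fun φ _ => ?_
    obtain ⟨n, hn⟩ := Char.classInner_isCharacter_eq_natCast
      (Char.isCharacter_res U (Char.IsIrr.isCharacter χ.2)) (Char.IsIrr.isCharacter φ.2)
    rw [show (φ : U → ℂ) u = Cfsg.centralChar (φ : U → ℂ) u * (φ : U → ℂ) 1 by
      conv_lhs => rw [← mul_one u]
      exact irr_mul_central φ.2 hu 1, hn, ← mul_sub,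
      show (φ : U → ℂ) 1 - Cfsg.centralChar (φ : U → ℂ) u * (φ : U → ℂ) 1 =
        -(Cfsg.centralChar (φ : U → ℂ) u - 1) * (φ : U → ℂ) 1 by ring]
    have hroot : Cfsg.centralChar (φ : U → ℂ) u ^ p ^ k = 1 :=
      centralChar_pow_eq_one φ hu (Subtype.ext (by simp [u, ← hy, pow_orderOf_eq_one]))
    have h2 : Cfsg.MemLocalIdeal M (Cfsg.centralChar (φ : U → ℂ) u - 1) := by
      have h := (memLocalIdeal_coe_iff hM _).2 (sub_one_mem_of_pow_prime_pow hM
        (z := ⟨Cfsg.centralChar (φ : U → ℂ) u,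
          isIntegral_of_pow_eq_one (pow_pos hM.1.pos k) hroot⟩)
        (k := k) (Subtype.ext (by simpa using hroot)))
      simpa using h
    refine memLocalIdeal_mul_left hM (memLocalRing_natCast hM n)
      (memLocalIdeal_mul_right hM (memLocalIdeal_neg h2) ?_)
    rw [(CharArith.irr_degree_spec φ).1]
    exact memLocalRing_natCast hM _
  rwa [h0, sub_zero] at hm

/-- A combination of the `p ^ 2`-th roots of unity which does not vanish has large trace norm. -/
theorem le_sum_normSq {ζ : ℂ} (hp : p.Prime) (hζ : IsPrimitiveRoot ζ (p * p)) (c : Fin (p * p) → ℤ)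
    (hne : ∑ i, (c i : ℂ) * ζ ^ (i : ℕ) ≠ 0) :
    ∃ R : ℤ, (p : ℤ) * ((p : ℤ) - 1) ≤ R ∧
      ∑ j ∈ (Finset.range (p * p)).filter (fun j => ¬ p ∣ j),
        (∑ i, (c i : ℂ) * (ζ ^ j) ^ (i : ℕ)) * conj (∑ i, (c i : ℂ) * (ζ ^ j) ^ (i : ℕ)) =
        (R : ℂ) := by
  classical
  have hpos := hp.pos
  let res : Fin (p * p) → Fin p := fun i => ⟨(i : ℕ) % p, Nat.mod_lt _ hpos⟩
  let S : Fin p → ℤ := fun k => ∑ i ∈ Finset.univ.filter (fun i => res i = k), c i
  have hω : IsPrimitiveRoot (ζ ^ p) p := hζ.pow (Nat.mul_pos hpos hpos) rfl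
  have hsq : ∀ {n : ℕ} {ξ : ℂ} (_ : IsPrimitiveRoot ξ n) (_ : 1 < n) (d : Fin n → ℤ),
      ∑ j ∈ Finset.range n, (∑ i, (d i : ℂ) * (ξ ^ j) ^ (i : ℕ)) *
        conj (∑ i, (d i : ℂ) * (ξ ^ j) ^ (i : ℕ)) = (((n : ℤ) * ∑ i, d i ^ 2 : ℤ) : ℂ) := by
    intro n ξ hξ hn d
    simp only [map_sum, map_mul, Finset.sum_mul_sum, map_intCast]
    rw [Finset.sum_comm, Int.cast_mul, Int.cast_sum, Finset.mul_sum]
    refine Finset.sum_congr rfl fun i _ => ?_
    rw [Finset.sum_comm, Finset.sum_eq_single i]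
    · rw [Finset.sum_congr rfl (g := fun j => ((d i : ℂ) * (d i : ℂ)) *
        ((ξ ^ j) ^ (i : ℕ) * conj ((ξ ^ j) ^ (i : ℕ)))) (fun j _ => by ring), ← Finset.mul_sum,
        sum_pow_mul_conj hξ hn, if_pos rfl]
      push_cast
      ring
    · intro i' _ hne
      rw [Finset.sum_congr rfl (g := fun j => ((d i : ℂ) * (d i' : ℂ)) *
        ((ξ ^ j) ^ (i : ℕ) * conj ((ξ ^ j) ^ (i' : ℕ)))) (fun j _ => by ring), ← Finset.mul_sum,
        sum_pow_mul_conj hξ hn, if_neg (Ne.symm hne), mul_zero]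
    · exact fun h => absurd (Finset.mem_univ _) h
  have hfold : ∀ u : ℕ, ∑ i, (c i : ℂ) * (ζ ^ (p * u)) ^ (i : ℕ) =
      ∑ k : Fin p, (S k : ℂ) * ((ζ ^ p) ^ u) ^ (k : ℕ) := by
    intro u
    rw [← Finset.sum_fiberwise (s := Finset.univ) (g := res)]
    refine Finset.sum_congr rfl fun k _ => ?_
    rw [Int.cast_sum, Finset.sum_mul]
    refine Finset.sum_congr rfl fun i hi => ?_
    have hk : (i : ℕ) % p = (k : ℕ) := congrArg Fin.val (Finset.mem_filter.1 hi).2
    congr 1
    rw [← pow_mul ζ p u]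
    conv_lhs => rw [← Nat.div_add_mod (i : ℕ) p, hk, pow_add, pow_mul, ← pow_mul ζ (p * u) p,
      show p * u * p = p * p * u by ring, pow_mul, hζ.pow_eq_one, one_pow, one_pow, one_mul]
  have hmult : ∑ j ∈ (Finset.range (p * p)).filter (fun j => p ∣ j),
      (∑ i, (c i : ℂ) * (ζ ^ j) ^ (i : ℕ)) * conj (∑ i, (c i : ℂ) * (ζ ^ j) ^ (i : ℕ)) =
      (((p : ℤ) * ∑ k, S k ^ 2 : ℤ) : ℂ) := by
    rw [← hsq hω hp.one_lt S]
    refine (Finset.sum_bij (fun u _ => p * u) (fun u hu => ?_) (fun u _ u' _ e => ?_) (fun j hj => ?_)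
      (fun u _ => ?_)).symm
    · exact Finset.mem_filter.2 ⟨Finset.mem_range.2
        (Nat.mul_lt_mul_of_pos_left (Finset.mem_range.1 hu) hpos), dvd_mul_right p u⟩
    · exact Nat.eq_of_mul_eq_mul_left hpos e
    · obtain ⟨hjr, u, rfl⟩ := Finset.mem_filter.1 hj
      exact ⟨u, Finset.mem_range.2 (Nat.lt_of_mul_lt_mul_left (Finset.mem_range.1 hjr)), rfl⟩
    · rw [hfold]
  have hall := hsq hζ (Nat.one_lt_mul_iff.2 ⟨hpos, hpos, Or.inl hp.one_lt⟩) c
  rw [← Finset.sum_filter_add_sum_filter_not (Finset.range (p * p)) (fun j => p ∣ j), hmult] at hall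
  refine ⟨((p * p : ℕ) : ℤ) * ∑ i, c i ^ 2 - (p : ℤ) * ∑ k, S k ^ 2, ?_, ?_⟩
  swap
  · rw [Int.cast_sub, ← hall]
    ring
  -- the fibres
  let D : Fin p → ℤ := fun k => (p : ℤ) * ∑ i ∈ Finset.univ.filter (fun i => res i = k), c i ^ 2 -
    S k ^ 2
  have hfib : ∀ k, (Finset.univ.filter (fun i : Fin (p * p) => res i = k)).card = p := by
    intro k
    refine (Finset.card_bij (s := (Finset.univ : Finset (Fin p))) (fun (t : Fin p) _ => (⟨(k : ℕ) + p * t, by
      have := k.2; have := t.2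
      calc (k : ℕ) + p * t < p + p * t := by omega
        _ = p * ((t : ℕ) + 1) := by ring
        _ ≤ p * p := Nat.mul_le_mul_left p (by omega)⟩ : Fin (p * p))) (fun t _ => ?_)
      (fun t _ t' _ e => ?_) (fun i hi => ?_)).symm.trans (by simp)
    · refine Finset.mem_filter.2 ⟨Finset.mem_univ _, Fin.ext ?_⟩
      show ((k : ℕ) + p * t) % p = k
      rw [Nat.add_mul_mod_self_left, Nat.mod_eq_of_lt k.2]
    · refine Fin.ext (Nat.eq_of_mul_eq_mul_left hpos ?_)
      have := congrArg Fin.val e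
      simp only at this
      omega
    · have hk : (i : ℕ) % p = (k : ℕ) := congrArg Fin.val (Finset.mem_filter.1 hi).2
      refine ⟨⟨(i : ℕ) / p, Nat.div_lt_of_lt_mul i.2⟩, Finset.mem_univ _, Fin.ext ?_⟩
      show (k : ℕ) + p * ((i : ℕ) / p) = i
      rw [← hk, Nat.mod_add_div]
  have hpair : ∀ k, 2 * D k = ∑ i ∈ Finset.univ.filter (fun i => res i = k),
      ∑ i' ∈ Finset.univ.filter (fun i => res i = k), (c i - c i') ^ 2 := by
    intro k
    simp only [sub_sq, Finset.sum_add_distrib, Finset.sum_sub_distrib, Finset.sum_const, hfib,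
      nsmul_eq_mul, ← Finset.mul_sum, ← Finset.sum_mul]
    simp only [D, S]
    ring
  have hD0 : ∀ k, 0 ≤ D k := fun k => by
    have := hpair k
    have h2 : 0 ≤ ∑ i ∈ Finset.univ.filter (fun i => res i = k),
        ∑ i' ∈ Finset.univ.filter (fun i => res i = k), (c i - c i') ^ 2 :=
      Finset.sum_nonneg fun i _ => Finset.sum_nonneg fun i' _ => sq_nonneg _
    linarith
  obtain ⟨a, b, hab, hcab⟩ : ∃ a b, res a = res b ∧ c a ≠ c b := by
    by_contra hcon
    push Not at hcon
    refine hne ?_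
    rw [← Finset.sum_fiberwise (s := Finset.univ) (g := res)]
    refine Finset.sum_eq_zero fun k _ => ?_
    obtain ⟨i₀, hi₀⟩ := Finset.card_pos.1 ((hfib k).symm ▸ hpos)
    rw [Finset.sum_congr rfl (g := fun i : Fin (p * p) => (c i₀ : ℂ) * ζ ^ (i : ℕ)) fun i hi => by
      rw [hcon i i₀ ((Finset.mem_filter.1 hi).2.trans (Finset.mem_filter.1 hi₀).2.symm)],
      ← Finset.mul_sum]
    refine mul_eq_zero_of_right _ ?_
    rw [← Finset.sum_bij (s := (Finset.univ : Finset (Fin p)))
      (f := fun t : Fin p => ζ ^ (k : ℕ) * (ζ ^ p) ^ (t : ℕ))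
      (fun (t : Fin p) _ => (⟨(k : ℕ) + p * t, by
      have := k.2; have := t.2
      calc (k : ℕ) + p * t < p + p * t := by omega
        _ = p * ((t : ℕ) + 1) := by ring
        _ ≤ p * p := Nat.mul_le_mul_left p (by omega)⟩ : Fin (p * p))) (fun t _ => ?_)
      (fun t _ t' _ e => ?_) (fun i hi => ?_) (fun t _ => ?_), ← Finset.mul_sum,
      Fin.sum_univ_eq_sum_range (fun t => (ζ ^ p) ^ t), hω.geom_sum_eq_zero hp.one_lt, mul_zero]
    · refine Finset.mem_filter.2 ⟨Finset.mem_univ _, Fin.ext ?_⟩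
      show ((k : ℕ) + p * t) % p = k
      rw [Nat.add_mul_mod_self_left, Nat.mod_eq_of_lt k.2]
    · refine Fin.ext (Nat.eq_of_mul_eq_mul_left hpos ?_)
      have := congrArg Fin.val e
      simp only at this
      omega
    · have hk : (i : ℕ) % p = (k : ℕ) := congrArg Fin.val (Finset.mem_filter.1 hi).2
      refine ⟨⟨(i : ℕ) / p, Nat.div_lt_of_lt_mul i.2⟩, Finset.mem_univ _, Fin.ext ?_⟩
      show (k : ℕ) + p * ((i : ℕ) / p) = i
      rw [← hk, Nat.mod_add_div]
    · rw [← pow_mul, ← pow_add]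
  set F := Finset.univ.filter (fun i => res i = res a)
  have haF : a ∈ F := Finset.mem_filter.2 ⟨Finset.mem_univ _, rfl⟩
  have hbF : b ∈ F := Finset.mem_filter.2 ⟨Finset.mem_univ _, hab.symm⟩
  have hba : b ∈ F.erase a := Finset.mem_erase.2 ⟨fun e => hcab (e ▸ rfl), hbF⟩
  have hDa : (p : ℤ) - 1 ≤ D (res a) := by
    have h := hpair (res a)
    rw [← Finset.add_sum_erase F _ haF, ← Finset.add_sum_erase (F.erase a) _ hba] at h
    have hsum : ((F.erase a).erase b).card = p - 2 := by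
      rw [Finset.card_erase_of_mem hba, Finset.card_erase_of_mem haF, hfib]; omega
    have hstep : ∀ i, (1 : ℤ) ≤ (c a - c i) ^ 2 + (c b - c i) ^ 2 := fun i => by
      rcases eq_or_ne (c a - c i) 0 with h0 | h0
      · have : c b - c i ≠ 0 := by omega
        have := Int.one_le_abs this
        nlinarith [sq_abs (c b - c i)]
      · have := Int.one_le_abs h0
        nlinarith [sq_abs (c a - c i), sq_nonneg (c b - c i)]
    have h1 : (p : ℤ) ≤ ∑ i' ∈ F, ((c a - c i') ^ 2 + (c b - c i') ^ 2) := by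
      calc (p : ℤ) = ∑ i' ∈ F, (1 : ℤ) := by rw [Finset.sum_const, hfib]; simp
        _ ≤ _ := Finset.sum_le_sum fun i _ => hstep i
    have h2 : ((p - 2 : ℕ) : ℤ) ≤
        ∑ i ∈ (F.erase a).erase b, ∑ i' ∈ F, (c i - c i') ^ 2 := by
      calc ((p - 2 : ℕ) : ℤ) = ∑ i ∈ (F.erase a).erase b, (1 : ℤ) := by
            rw [Finset.sum_const, hsum]; simp
        _ ≤ _ := Finset.sum_le_sum fun i _ => by
          calc (1 : ℤ) ≤ (c a - c i) ^ 2 + (c b - c i) ^ 2 := hstep i
            _ = ∑ i' ∈ ({a, b} : Finset (Fin (p * p))), (c i - c i') ^ 2 := by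
              rw [Finset.sum_pair (fun e => hcab (congrArg c e))]; ring
            _ ≤ _ := Finset.sum_le_sum_of_subset_of_nonneg (by
              intro x hx
              rcases Finset.mem_insert.1 hx with rfl | hx
              · exact haF
              · rw [Finset.mem_singleton.1 hx]; exact hbF) fun x _ _ => sq_nonneg _
    rw [Finset.sum_add_distrib] at h1
    have h3 : ((p - 2 : ℕ) : ℤ) = (p : ℤ) - 2 := by
      rw [Nat.cast_sub hp.two_le]; rfl
    linarith
  have htot : (p : ℤ) - 1 ≤ ∑ k, D k :=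
    hDa.trans (Finset.single_le_sum (fun k _ => hD0 k) (Finset.mem_univ _))
  have hR : ((p * p : ℕ) : ℤ) * ∑ i, c i ^ 2 - (p : ℤ) * ∑ k, S k ^ 2 = (p : ℤ) * ∑ k, D k := by
    rw [← Finset.sum_fiberwise (s := Finset.univ) (g := res) (f := fun i => c i ^ 2)]
    simp only [D, Finset.mul_sum, mul_sub, Finset.sum_sub_distrib]
    push_cast
    congr 1
    exact Finset.sum_congr rfl fun k _ => Finset.sum_congr rfl fun i _ => by ring
  rw [hR]
  exact mul_le_mul_of_nonneg_left htot (Int.natCast_nonneg p)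

/-- The main bound. -/
theorem card_le_sq [Fact p.Prime] (hM : Cfsg.IsPModular p M) {x : G} {k : ℕ}
    (hxk : orderOf x = p ^ k)
    (hx : (Nat.card (Subgroup.centralizer ({x} : Set G))).factorization p ≤ 2) :
    Nat.card {χ : Cfsg.IrrCharacter G //
      χ ∈ Cfsg.principalBlock M G ∧ ¬ p ∣ Cfsg.charDegree (χ : G → ℂ)} ≤ p ^ 2 := by
  classical
  have hp := hM.1
  set B := Cfsg.principalBlock M G with hBdef
  have hB : Cfsg.IsPBlock M B := isPBlock_principalBlock M
  have hdef : ∀ {H : Type u} [Group H] [Fintype H],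
      Cfsg.blockDefect p (Cfsg.principalBlock M H) = (Nat.card H).factorization p := by
    intro H _ _
    have h1 := BlockChar.minVal_le (p := p) (triv_mem_principalBlock (G := H) hM)
    rw [charDegree_eq (n := 1) (by simp [triv]), Nat.factorization_one] at h1
    have h2 : BlockChar.minVal p (Cfsg.principalBlock M H) = 0 := by simpa using h1
    rw [BlockChar.blockDefect_eq, h2, Nat.sub_zero]
  by_cases hsmall : (Nat.card G).factorization p ≤ 2
  · refine le_trans (Nat.card_mono (Set.toFinite B) fun χ hχ => hχ.1) ?_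
    exact ((card_le_pow_defect hM _ G B hB rfl).1 (hdef.trans_le hsmall)).trans
      (Nat.pow_le_pow_right hp.pos (hdef.trans_le hsmall))
  set C := Subgroup.centralizer ({x} : Set G)
  letI : Fintype C := Fintype.ofFinite C
  have hC : ∀ a : G, a ∈ C ↔ x * a = a * x := fun a => mem_centralizer_iff_comm x a
  let s : C := ⟨x, (hC x).2 rfl⟩
  have hs : s ∈ Subgroup.center C := Subgroup.mem_center_iff.2 fun t =>
    Subtype.ext ((hC t).1 t.2).symm
  have hx1 : x ≠ 1 := fun e => hsmall (by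
    have : C = ⊤ := (eq_top_iff).2 fun a _ => (hC a).2 (by rw [e, one_mul, mul_one])
    rw [show Nat.card C = Nat.card G by rw [this]; exact Subgroup.card_top] at hx
    exact hx)
  have hso : orderOf s = p ^ k := by rw [← Subgroup.orderOf_coe]; exact hxk
  have hk1 : 1 ≤ k := Nat.pos_of_ne_zero fun h0 => hx1 (orderOf_eq_one_iff.1 (by
    rw [hxk, h0, pow_zero]))
  -- the Sylow subgroup of the centralizer
  let R : Sylow p C := default
  have hsR : s ∈ (R : Subgroup C) := by
    have hN : IsPGroup p (Subgroup.zpowers s) :=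
      IsPGroup.of_card (n := k) (by rw [Nat.card_zpowers, hso])
    haveI : (Subgroup.zpowers s).Normal := ⟨fun n hn g => by
      obtain ⟨i, rfl⟩ := hn
      rw [Subgroup.mem_center_iff.1 (zpow_mem hs i) g, mul_inv_cancel_right]
      exact zpow_mem (Subgroup.mem_zpowers s) i⟩
    exact hN.le_sylow_of_normal R (Subgroup.mem_zpowers s)
  have hRcard : Nat.card R = p ^ (Nat.card C).factorization p := R.card_eq_multiplicity
  obtain ⟨P, hRP⟩ := (R.2.map C.subtype).exists_le_sylow
  have : Nontrivial (P : Subgroup G) := Finite.one_lt_card_iff_nontrivial.1 (by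
    rw [Sylow.card_eq_multiplicity P]; exact Nat.one_lt_pow (by omega) hp.one_lt)
  have : Nontrivial (Subgroup.center (P : Subgroup G)) := P.2.center_nontrivial
  have hxP : x ∈ (P : Subgroup G) := hRP ⟨s, hsR, rfl⟩
  have hRmax : ∀ w ∈ (P : Subgroup G), ∀ hw : w ∈ C, (⟨w, hw⟩ : C) ∈ (R : Subgroup C) := by
    intro w hwP hwC
    have h1 : (R : Subgroup C) ≤ (P : Subgroup G).subgroupOf C := fun r hr => hRP ⟨r, hr, rfl⟩
    rw [← R.3 (P.2.comap_of_injective C.subtype C.subtype_injective) h1]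
    exact hwP
  have hk2 : k ≤ 2 ∧ (Nat.card C).factorization p = 2 := by
    have h1 : p ^ k ∣ p ^ (Nat.card C).factorization p := by
      rw [← hso, ← hRcard]
      exact Subgroup.orderOf_dvd_natCard (R : Subgroup C) hsR
    have h2 := (Nat.pow_dvd_pow_iff_le_right hp.one_lt).1 h1
    refine ⟨by omega, ?_⟩
    by_contra hne
    have ha1 : (Nat.card C).factorization p = 1 := by omega
    obtain ⟨z₀, hz0⟩ := exists_ne (1 : Subgroup.center (P : Subgroup G))
    set z : G := ((z₀ : (P : Subgroup G)) : G)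
    have hzc : ∀ w ∈ (P : Subgroup G), w * z = z * w := fun w hw =>
      congrArg Subtype.val (Subgroup.mem_center_iff.1 z₀.2 ⟨w, hw⟩)
    have hzC : z ∈ C := (hC z).2 (hzc x hxP)
    have hzR := hRmax z (z₀ : (P : Subgroup G)).2 hzC
    have hRz : (R : Subgroup C) = Subgroup.zpowers s := by
      refine (Subgroup.eq_of_le_of_card_ge (Subgroup.zpowers_le.2 hsR) ?_).symm
      rw [Nat.card_zpowers, hso, hRcard, ha1]
      exact Nat.pow_le_pow_right hp.pos hk1
    have hRz' : (R : Subgroup C) = Subgroup.zpowers (⟨z, hzC⟩ : C) := by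
      refine (Subgroup.eq_of_le_of_card_ge (Subgroup.zpowers_le.2 hzR) ?_).symm
      rw [hRcard, ha1, pow_one, Nat.card_zpowers]
      obtain ⟨j, hj⟩ := IsPGroup.iff_orderOf.1 R.2 ⟨_, hzR⟩
      rw [Subgroup.orderOf_mk] at hj
      rw [hj]
      refine Nat.le_self_pow (fun h0 => ?_) p
      rw [h0, pow_zero, orderOf_eq_one_iff] at hj
      have h5 : z = 1 := congrArg Subtype.val hj
      exact hz0 (Subtype.ext (Subtype.ext h5))
    rw [hRz'] at hsR
    obtain ⟨i, hi⟩ := hsR
    have hxz : x = z ^ i := (congrArg Subtype.val hi).symm.trans (SubgroupClass.coe_zpow _ _)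
    have hPC : (P : Subgroup G) ≤ C := fun w hw => (hC w).2 (by
      rw [hxz]; exact ((show Commute z w from (hzc w hw).symm).zpow_left i).eq)
    have h3 : (P : Subgroup G).subgroupOf C ≤ (R : Subgroup C) := fun w hw =>
      hRmax w hw w.2
    have h4 := Subgroup.card_le_of_le h3
    rw [Nat.card_congr (Subgroup.subgroupOfEquivOfLe hPC).toEquiv, Sylow.card_eq_multiplicity P,
      hRcard, ha1] at h4
    have := (Nat.pow_le_pow_iff_right hp.one_lt).1 h4
    omega
  obtain ⟨hk2, hC2⟩ := hk2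
  set b := Cfsg.principalBlock M C
  have hb : Cfsg.IsPBlock M b := isPBlock_principalBlock M
  have hP' : IsPGroup p (Subgroup.zpowers x) :=
    IsPGroup.of_card (n := k) (by rw [Nat.card_zpowers, hxk])
  have hH : ∀ a : G, a ∈ C ↔ ∀ u ∈ Subgroup.zpowers x, u * a = a * u := fun a => by
    rw [hC]
    exact ⟨fun h u ⟨i, hi⟩ => hi ▸ ((show Commute x a from h).zpow_left i).eq,
      fun h => h x (Subgroup.mem_zpowers x)⟩
  have hind : Cfsg.IsInducedBlock M C b B :=
    (mem_inducing_iff hM hP' hH hB hb (triv_mem_principalBlock hM)).1 (by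
      rw [inducing_principalBlock hM hP' hH]; exact triv_mem_principalBlock hM)
  set S : Finset (Cfsg.IrrCharacter G) := B.toFinite.toFinset.filter fun χ => ¬ p ∣ Cfsg.charDegree (χ : G → ℂ)
  have hSsub : S ⊆ B.toFinite.toFinset := Finset.filter_subset _ _
  have hScard : Nat.card {χ : Cfsg.IrrCharacter G //
      χ ∈ B ∧ ¬ p ∣ Cfsg.charDegree (χ : G → ℂ)} = S.card := by
    rw [Nat.card_eq_fintype_card, Fintype.card_subtype]
    exact congrArg Finset.card (by ext; simp [S])
  rw [hScard]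
  rcases (show k = 1 ∨ k = 2 by omega) with rfl | rfl
  · -- order `p`
    have hy : orderOf x = p := by rw [hxk, pow_one]
    set N := Subgroup.zpowers s
    have hNc : N ≤ Subgroup.center C := Subgroup.zpowers_le.2 hs
    haveI : N.Normal := ⟨fun n hn g => by
      rwa [Subgroup.mem_center_iff.1 (hNc hn) g, mul_inv_cancel_right]⟩
    letI : Fintype (C ⧸ N) := Fintype.ofFinite _
    have hNcard : Nat.card N = p := by rw [Nat.card_zpowers, hso, pow_one]
    have hNp : IsPGroup p N := IsPGroup.of_card (n := 1) (by rw [hNcard, pow_one])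
    obtain ⟨b', hb', hiff, -, -⟩ := exists_quotient_block N hM hNp hNc hb
    have htb : triv (C ⧸ N) ∈ b' := (hiff _).2 (by
      rw [show inflIrr N (triv (C ⧸ N)) = triv C from Subtype.ext rfl]
      exact triv_mem_principalBlock hM)
    have hb'eq : b' = Cfsg.principalBlock M (C ⧸ N) := IsPBlock.eq_blockOf hM hb' htb
    have hd' : Cfsg.blockDefect p b' = 1 := by
      rw [hb'eq, hdef]
      have h1 := Subgroup.card_eq_card_quotient_mul_card_subgroup N
      rw [hNcard] at h1
      have h2 : (Nat.card C).factorization p =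
          (Nat.card (C ⧸ N)).factorization p + 1 := by
        rw [h1, Nat.factorization_mul Nat.card_pos.ne' hp.ne_zero, Finsupp.add_apply,
          hp.factorization_self]
      omega
    exact card_le_sq_of_subsection hM hB hy hC hind (hdef.trans hC2) (s := s) rfl hb' hiff hd'
      hSsub fun χ hχ => by
        obtain ⟨hχB, hχd⟩ := Finset.mem_filter.1 hχ
        rw [subPart_one_eq hM ⟨1, hxk⟩ hC (B.toFinite.mem_toFinset.1 hχB)]
        exact apply_ne_zero hM hxk hχd
  · -- order `p ^ 2`: the centralizer has a normal complement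
    have hRs : (R : Subgroup C) = Subgroup.zpowers s := by
      refine (Subgroup.eq_of_le_of_card_ge (Subgroup.zpowers_le.2 hsR) ?_).symm
      rw [Nat.card_zpowers, hso, hRcard, hC2]
    have hnc : Cfsg.HasNormalPComplement p C := by
      refine ⟨R, (MonoidHom.transferSylow R ?_).ker, inferInstance,
        MonoidHom.ker_transferSylow_isComplement' R ?_⟩ <;>
      · intro g _
        rw [Subgroup.mem_centralizer_iff]
        intro w hw
        have hw' : w ∈ Subgroup.zpowers s := hRs ▸ hw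
        obtain ⟨i, rfl⟩ := hw'
        exact (Subgroup.mem_center_iff.1 (zpow_mem hs i) g).symm
    obtain ⟨R', K, hK, hKR⟩ := hnc
    haveI := hK
    have hKp : ¬ p ∣ Nat.card K := by
      rw [← hKR.index_eq_card]; exact R'.not_dvd_index
    have hKi : K.index = p ^ 2 := by
      rw [hKR.symm.index_eq_card, R'.card_eq_multiplicity, hC2]
    have hbsum : ∑ φ ∈ b.toFinite.toFinset, (φ : C → ℂ) 1 * conj ((φ : C → ℂ) 1) =
        ((p ^ 2 : ℕ) : ℂ) := by
      have he := blockCoeff_principalBlock_of_complement hM K hKp ⟨2, hKi⟩ (1 : C)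
      rw [Cfsg.blockCoeff, if_pos (one_mem K), finsum_mem_eq_finite_toFinset_sum _ (Set.toFinite _),
        inv_mul_eq_iff_eq_mul₀ (Nat.cast_ne_zero.2 Nat.card_pos.ne'),
        eq_mul_inv_iff_mul_eq₀ (Nat.cast_ne_zero.2 Nat.card_pos.ne')] at he
      refine mul_right_cancel₀ (b := (Nat.card K : ℂ)) (Nat.cast_ne_zero.2 Nat.card_pos.ne') ?_
      rw [he, ← hKi, ← Subgroup.card_mul_index K]
      push_cast
      ring
    obtain ⟨ζ, hζ⟩ : ∃ ζ : ℂ, IsPrimitiveRoot ζ (p * p) :=
      ⟨_, Complex.isPrimitiveRoot_exp (p * p) (Nat.mul_ne_zero hp.ne_zero hp.ne_zero)⟩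
    have : NeZero (p * p) := ⟨Nat.mul_ne_zero hp.ne_zero hp.ne_zero⟩
    have hspow : s ^ (p * p) = 1 := by rw [← pow_two, ← hso]; exact pow_orderOf_eq_one s
    have hidx : ∀ φ : Cfsg.IrrCharacter C, ∃ i : Fin (p * p), subScalar s φ = ζ ^ (i : ℕ) :=
      fun φ => by
        obtain ⟨i, hi, h⟩ := hζ.eq_pow_of_pow_eq_one (subScalar_pow_eq_one hs hspow φ)
        exact ⟨⟨i, hi⟩, h.symm⟩
    choose ix hix using hidx
    choose n hn using fun χ : Cfsg.IrrCharacter G => fun φ : Cfsg.IrrCharacter C =>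
      exists_nat_resMult C χ φ
    let c : Cfsg.IrrCharacter G → Fin (p * p) → ℤ := fun χ i =>
      ∑ φ ∈ Finset.univ.filter (fun φ => ix φ = i),
        ((n χ φ * Cfsg.charDegree (φ : C → ℂ) : ℕ) : ℤ)
    have hval : ∀ (χ : Cfsg.IrrCharacter G) (j : ℕ), (χ : G → ℂ) (x ^ j) =
        ∑ i : Fin (p * p), (c χ i : ℂ) * (ζ ^ j) ^ (i : ℕ) := by
      intro χ j
      have hcl : Cfsg.IsClassFunction C (fun t : C => (χ : G → ℂ) ((s ^ j : C) * (t : G))) :=
        fun t u => by
          show (χ : G → ℂ) (((s ^ j : C) : G) * ((u : G) * t * (u : G)⁻¹)) = _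
          refine Eq.trans ?_ (Char.isClassFunction_of_isIrr χ.2 (((s ^ j : C) : G) * (t : G)) (u : G))
          refine congrArg (χ : G → ℂ) ?_
          simp only [← mul_assoc]
          rw [show (u : G) * ((s ^ j : C) : G) = ((s ^ j : C) : G) * u from
            congrArg Subtype.val (Subgroup.mem_center_iff.1 (pow_mem hs j) u)]
      have hexp := congrFun (Char.classFun_expansion hcl) 1
      simp only [OneMemClass.coe_one, mul_one, Finset.sum_apply, Pi.smul_apply, smul_eq_mul] at hexp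
      rw [show x ^ j = ((s ^ j : C) : G) by rw [Subgroup.coe_pow]]
      refine hexp.trans ?_
      rw [← Finset.sum_fiberwise (s := Finset.univ) (g := ix)]
      refine Finset.sum_congr rfl fun i _ => ?_
      rw [Int.cast_sum, Finset.sum_mul]
      refine Finset.sum_congr rfl fun φ hφ => ?_
      rw [← (Finset.mem_filter.1 hφ).2,
        show Cfsg.classInner (fun t : C => (χ : G → ℂ) (((s ^ j : C) : G) * (t : G))) (φ : C → ℂ) =
          subMult ((s ^ j : C) : G) C χ φ from rfl,
        subMult_eq (pow_mem hs j) rfl, subScalar_pow hs, hix, hn, (CharArith.irr_degree_spec φ).1,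
        ← pow_mul, ← pow_mul, mul_comm j]
      push_cast
      ring
    set J := (Finset.range (p * p)).filter (fun j => ¬ p ∣ j)
    have hJ : J.card = p * p - p := by
      have h1 := Finset.card_filter_add_card_filter_not (s := Finset.range (p * p)) (fun j => p ∣ j)
      rw [Finset.card_range] at h1
      have h2 : ((Finset.range (p * p)).filter (fun j => p ∣ j)).card = p := by
        refine (Finset.card_bij (s := Finset.range p) (fun u _ => p * u) (fun u hu => ?_) (fun u _ u' _ e => ?_)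
          (fun j hj => ?_)).symm.trans (Finset.card_range p)
        · exact Finset.mem_filter.2 ⟨Finset.mem_range.2
            (Nat.mul_lt_mul_of_pos_left (Finset.mem_range.1 hu) hp.pos), dvd_mul_right p u⟩
        · exact Nat.eq_of_mul_eq_mul_left hp.pos e
        · obtain ⟨hjr, u, rfl⟩ := Finset.mem_filter.1 hj
          exact ⟨u, Finset.mem_range.2 (Nat.lt_of_mul_lt_mul_left (Finset.mem_range.1 hjr)), rfl⟩
      show ((Finset.range (p * p)).filter (fun j => ¬ p ∣ j)).card = p * p - p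
      omega
    have hpow : ∀ j ∈ J, (∃ e, orderOf (x ^ j) = p ^ e) ∧ ∀ a : G, a ∈ C ↔ x ^ j * a = a * x ^ j := by
      intro j hj
      have hco : (orderOf x).Coprime j := by
        rw [hxk]; exact ((hp.coprime_iff_not_dvd).2 (Finset.mem_filter.1 hj).2).pow_left 2
      refine ⟨⟨2, by rw [Nat.Coprime.orderOf_pow hco, hxk]⟩, fun a => ?_⟩
      obtain ⟨t, ht⟩ := exists_pow_eq_self_of_coprime (n := j) (x := x) hco.symm
      rw [hC]
      exact ⟨fun h => (Commute.pow_left (show Commute x a from h) j).eq,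
        fun h => by rw [← ht]; exact (Commute.pow_left (show Commute (x ^ j) a from h) t).eq⟩
    have hcol : ∀ j ∈ J, ∑ χ ∈ B.toFinite.toFinset,
        (χ : G → ℂ) (x ^ j) * conj ((χ : G → ℂ) (x ^ j)) = ((p ^ 2 : ℕ) : ℂ) := by
      intro j hj
      have hj' := hpow j hj
      have hPj : IsPGroup p (Subgroup.zpowers (x ^ j)) := hP'.to_le
        (Subgroup.zpowers_le.2 (pow_mem (Subgroup.mem_zpowers x) j))
      have hH' : ∀ a : G, a ∈ C ↔ ∀ u ∈ Subgroup.zpowers (x ^ j), u * a = a * u := fun a => by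
        rw [hj'.2]
        exact ⟨fun h u ⟨i, hi⟩ => hi ▸ ((show Commute (x ^ j) a from h).zpow_left i).eq,
          fun h => h _ (Subgroup.mem_zpowers _)⟩
      have h := section_identity hM hj'.1 hj'.2 hB (a := 1) (b := 1) (by simp [hp.ne_one])
        (by simp [hp.ne_one])
      rw [inducing_principalBlock hM hPj hH', finsum_mem_eq_finite_toFinset_sum _ B.toFinite,
        finsum_mem_eq_finite_toFinset_sum _ b.toFinite] at h
      simpa using h.trans hbsum
    have hlow : ∀ χ ∈ B.toFinite.toFinset, ∃ R : ℤ,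
        ∑ j ∈ J, (χ : G → ℂ) (x ^ j) * conj ((χ : G → ℂ) (x ^ j)) = (R : ℂ) ∧
          (if χ ∈ S then (p : ℤ) * ((p : ℤ) - 1) else 0) ≤ R := by
      intro χ _
      by_cases h0 : ∑ i : Fin (p * p), (c χ i : ℂ) * ζ ^ (i : ℕ) = 0
      · -- all conjugates vanish as well
        have hr : ∃ R : ℤ, ∑ j ∈ J, (χ : G → ℂ) (x ^ j) * conj ((χ : G → ℂ) (x ^ j)) = (R : ℂ) ∧
            0 ≤ R := by
          refine ⟨0, ?_, le_rfl⟩
          rw [Int.cast_zero]
          refine Finset.sum_eq_zero fun j hj => ?_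
          have hco : j.Coprime (p * p) :=
            Nat.Coprime.mul_right (hp.coprime_iff_not_dvd.2 (Finset.mem_filter.1 hj).2).symm
              (hp.coprime_iff_not_dvd.2 (Finset.mem_filter.1 hj).2).symm
          suffices ∑ i : Fin (p * p), (c χ i : ℂ) * (ζ ^ j) ^ (i : ℕ) = 0 by
            rw [hval, this, zero_mul]
          let q : Polynomial ℤ := ∑ i : Fin (p * p), Polynomial.monomial (i : ℕ) (c χ i)
          have heval : ∀ ξ : ℂ, Polynomial.aeval ξ q = ∑ i : Fin (p * p), (c χ i : ℂ) * ξ ^ (i : ℕ) :=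
            fun ξ => by
              simp only [q, map_sum, Polynomial.aeval_monomial, algebraMap_int_eq, eq_intCast]
          rw [← heval] at h0 ⊢
          have hdvd : minpoly ℤ ζ ∣ q := minpoly.isIntegrallyClosed_dvd
            (hζ.isIntegral (Nat.pos_of_ne_zero (NeZero.ne _))) h0
          obtain ⟨q', hq'⟩ := hdvd
          rw [hq', map_mul, hζ.minpoly_eq_pow_coprime hco, minpoly.aeval, zero_mul]
        obtain ⟨R, hR, hR0⟩ := hr
        refine ⟨R, hR, ?_⟩
        rw [if_neg]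
        · exact hR0
        intro hχS
        refine apply_ne_zero hM hxk (Finset.mem_filter.1 hχS).2 ?_
        have h1 := hval χ 1
        rw [pow_one] at h1
        rw [h1]
        simpa using h0
      · obtain ⟨R, hR, hsum⟩ := le_sum_normSq hp hζ (c χ) h0
        refine ⟨R, ?_, ?_⟩
        · rw [← hsum]
          exact Finset.sum_congr rfl fun j _ => by rw [hval]
        · have h2 : (0 : ℤ) ≤ (p : ℤ) * ((p : ℤ) - 1) :=
            mul_nonneg (Int.natCast_nonneg p) (by have := hp.two_le; omega)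
          split_ifs <;> linarith
    choose! Rv hRv hRle using hlow
    have htot : ((∑ χ ∈ B.toFinite.toFinset, Rv χ : ℤ) : ℂ) =
        ((((p * p - p : ℕ) : ℤ) * ((p : ℤ) ^ 2) : ℤ) : ℂ) := by
      rw [Int.cast_sum, Finset.sum_congr rfl fun χ hχ => (hRv χ hχ).symm, Finset.sum_comm,
        Finset.sum_congr rfl hcol, Finset.sum_const, hJ, nsmul_eq_mul]
      push_cast
      ring
    have htot' : ∑ χ ∈ B.toFinite.toFinset, Rv χ = ((p * p - p : ℕ) : ℤ) * ((p : ℤ) ^ 2) := by
      exact_mod_cast htot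
    have hsum := Finset.sum_le_sum fun χ hχ => hRle χ hχ
    rw [Finset.sum_ite_mem, Finset.inter_eq_right.2 hSsub, Finset.sum_const, nsmul_eq_mul,
      htot', Nat.cast_sub (Nat.le_mul_self p)] at hsum
    push_cast at hsum
    have hfin : (S.card : ℤ) * ((p : ℤ) * ((p : ℤ) - 1)) ≤
        (p : ℤ) ^ 2 * ((p : ℤ) * ((p : ℤ) - 1)) := hsum.trans (le_of_eq (by ring))
    have hpp : (0 : ℤ) < (p : ℤ) * ((p : ℤ) - 1) :=
      mul_pos (by exact_mod_cast hp.pos) (by have := hp.two_le; omega)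
    exact_mod_cast le_of_mul_le_mul_right hfin hpp

end Cfsg.Agent.Blocks.SmallCentralizer
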