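import Cfsg.Agent.Blocks.BrauerChar
import Cfsg.Agent.BlockChar.PrincipalPairs

/-!
# The stable block of `C(Q)` below a block of `C(P)`, for `Q` normal in `P`
-/

namespace Cfsg.Agent.Blocks

open scoped ComplexConjugate
open Cfsg.Agent

universe u

/-- The transport of a block along an automorphism. -/
noncomputable def twistChar {K : Type u} [Group K] (φ : K ≃* K) (χ : Cfsg.IrrCharacter K) :
    Cfsg.IrrCharacter K :=
  ⟨fun a => (χ : K → ℂ) (φ a), (Char.isIrrCharacter_comp_equiv φ).2 χ.2⟩

theorem twistChar_apply {K : Type u} [Group K] (φ : K ≃* K) (χ : Cfsg.IrrCharacter K) (a : K) :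
    (twistChar φ χ : K → ℂ) a = (χ : K → ℂ) (φ a) := rfl

theorem centralChar_twistChar {K : Type u} [Group K] [Finite K] (φ : K ≃* K)
    (χ : Cfsg.IrrCharacter K) (c : K) :
    Cfsg.centralChar (twistChar φ χ : K → ℂ) c = Cfsg.centralChar (χ : K → ℂ) (φ c) := by
  classical
  have := Fintype.ofFinite K
  have hidx : (Subgroup.centralizer ({φ c} : Set K)).index =
      (Subgroup.centralizer ({c} : Set K)).index := by
    rw [← Char.card_isConj_eq_index, ← Char.card_isConj_eq_index]
    refine (Nat.card_congr (φ.toEquiv.subtypeEquiv fun d => ?_)).symm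
    exact ⟨fun hd => φ.toMonoidHom.map_isConj hd, fun hd => by
      simpa using φ.symm.toMonoidHom.map_isConj hd⟩
  simp only [Cfsg.centralChar, twistChar_apply, map_one, hidx]

theorem twistChar_symm {K : Type u} [Group K] (φ : K ≃* K) (χ : Cfsg.IrrCharacter K) :
    twistChar φ (twistChar φ.symm χ) = χ :=
  Subtype.ext (funext fun a => by simp [twistChar_apply])

/-- The image of a block under an automorphism is a block. -/
theorem image_twistChar_blockOf {K : Type u} [Group K] [Finite K] {M : Ideal Cfsg.AlgInt}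
    (φ : K ≃* K) (χ : Cfsg.IrrCharacter K) :
    twistChar φ '' Cfsg.blockOf M (χ : K → ℂ) = Cfsg.blockOf M (twistChar φ χ : K → ℂ) := by
  ext ψ
  constructor
  · rintro ⟨θ, hθ, rfl⟩
    intro c
    rw [centralChar_twistChar, centralChar_twistChar]
    exact hθ (φ c)
  · intro hψ
    refine ⟨twistChar φ.symm ψ, fun c => ?_, twistChar_symm φ ψ⟩
    have := hψ (φ.symm c)
    rw [centralChar_twistChar, MulEquiv.apply_symm_apply] at this
    rw [centralChar_twistChar]
    exact this

theorem blockCoeff_image_twistChar {K : Type u} [Group K] (φ : K ≃* K)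
    (b : Set (Cfsg.IrrCharacter K)) (a : K) :
    Cfsg.blockCoeff (twistChar φ '' b) a = Cfsg.blockCoeff b (φ a) := by
  rw [Cfsg.blockCoeff, Cfsg.blockCoeff, finsum_mem_image (Function.Injective.injOn
    (Function.LeftInverse.injective (g := twistChar φ.symm) fun χ => by
      simpa using twistChar_symm φ.symm χ))]
  simp [twistChar_apply]

variable {G : Type u} [Group G] [Fintype G] {p : ℕ} {M : Ideal Cfsg.AlgInt}

open scoped Classical in
/-- The idempotents of the blocks of a group sum to one. -/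
theorem sum_blockCoeff_blocks {K : Type u} [Group K] [Fintype K] (hM : Cfsg.IsPModular p M)
    [Fintype {b : Set (Cfsg.IrrCharacter K) // Cfsg.IsPBlock M b}] :
    (∑ b : {b : Set (Cfsg.IrrCharacter K) // Cfsg.IsPBlock M b}, Cfsg.blockCoeff b.1) = delta K := by
  refine classFun_ext_omega (fun g k => ?_) isClassFunction_delta fun χ => ?_
  · simp only [Finset.sum_apply, isClassFunction_blockCoeff _ g k]
  · rw [omega_sum, omega_delta (Char.IsIrr.one_ne_zero χ.2)]
    rw [Finset.sum_eq_single ⟨Cfsg.blockOf M (χ : K → ℂ), isPBlock_blockOf χ⟩]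
    · rw [omega_blockCoeff, if_pos (mem_blockOf_self hM χ)]
    · intro b _ hne
      rw [omega_blockCoeff, if_neg]
      exact fun h => hne (Subtype.ext (IsPBlock.eq_blockOf hM b.2 h))
    · simp

open scoped Classical in
/-- Modulo `M`, exactly one `P`-stable block of `K` has Brauer image nonzero on `ξ`. -/
theorem existsUnique_stable_block (hM : Cfsg.IsPModular p M) {P K C : Subgroup G} [Fintype K]
    [Fintype C] (hP : IsPGroup p P)
    (hPK : ∀ u ∈ P, ∀ a : G, a ∈ K ↔ u * a * u⁻¹ ∈ K)
    (hC : ∀ a : G, a ∈ C ↔ ∀ u ∈ P, u * a = a * u) (hCK : C ≤ K)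
    (ξ : Cfsg.IrrCharacter C) :
    ∃! f : Set (Cfsg.IrrCharacter K), (Cfsg.IsPBlock M f ∧
      ∀ u : P, twistChar (BlockChar.conjIso K K (u : G) (hPK u u.2)) '' f = f) ∧
      Cfsg.MemLocalIdeal M ((omega (ξ : C → ℂ) fun a : C =>
        Cfsg.blockCoeff f ⟨(a : G), hCK a.2⟩) - 1) := by
  let ι : Type u := {b : Set (Cfsg.IrrCharacter K) // Cfsg.IsPBlock M b}
  have := Fintype.ofFinite ι
  let cj : P → (K ≃* K) := fun u => BlockChar.conjIso K K (u : G) (hPK u u.2)
  have hcjmul : ∀ (u v : P) (a : K), cj (u * v) a = cj u (cj v a) := fun u v a =>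
    Subtype.ext (by simp [cj, BlockChar.conjIso, mul_assoc])
  have hcjone : ∀ a : K, cj 1 a = a := fun a => Subtype.ext (by simp [cj, BlockChar.conjIso])
  have hblk : ∀ (u : P) (b : ι), Cfsg.IsPBlock M (twistChar (cj u) '' b.1) := by
    intro u b
    obtain ⟨χ, hχ⟩ := b.2
    rw [hχ, image_twistChar_blockOf]
    exact isPBlock_blockOf _
  letI : MulAction P ι :=
    { smul := fun u b => ⟨twistChar (cj u⁻¹) '' b.1, hblk _ b⟩
      one_smul := fun b => Subtype.ext (by
        show twistChar (cj 1⁻¹) '' b.1 = b.1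
        have : twistChar (cj 1⁻¹) = id := funext fun χ => Subtype.ext (funext fun a => by
          rw [twistChar_apply, inv_one, hcjone]; rfl)
        rw [this, Set.image_id])
      mul_smul := fun u v b => Subtype.ext (by
        show twistChar (cj (u * v)⁻¹) '' b.1 = twistChar (cj u⁻¹) '' (twistChar (cj v⁻¹) '' b.1)
        rw [Set.image_image]
        refine Set.image_congr fun χ _ => Subtype.ext (funext fun a => ?_)
        simp only [twistChar_apply, mul_inv_rev, hcjmul]) }
  have hfixiff : ∀ b : ι, b ∈ MulAction.fixedPoints P ι ↔ ∀ u, twistChar (cj u) '' b.1 = b.1 := by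
    intro b
    constructor
    · intro h u
      have := congrArg Subtype.val (h u⁻¹)
      rwa [show (u⁻¹ • b : ι).1 = twistChar (cj u⁻¹⁻¹) '' b.1 from rfl, inv_inv] at this
    · intro h u
      exact Subtype.ext (h u⁻¹)
  have hinc : ∀ F : K → ℂ, Cfsg.IsClassFunction K F →
      Cfsg.IsClassFunction C fun a : C => F ⟨(a : G), hCK a.2⟩ := fun F hF a k => by
    have e : (⟨((k * a * k⁻¹ : C) : G), hCK (k * a * k⁻¹).2⟩ : K) =
        ⟨(k : G), hCK k.2⟩ * ⟨(a : G), hCK a.2⟩ * (⟨(k : G), hCK k.2⟩)⁻¹ := Subtype.ext (by simp)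
    show F _ = F _
    rw [e, hF]
  let res : Set (Cfsg.IrrCharacter K) → C → ℂ := fun f a => Cfsg.blockCoeff f ⟨(a : G), hCK a.2⟩
  have hresc : ∀ f, Cfsg.IsClassFunction C (res f) := fun f =>
    hinc _ (isClassFunction_blockCoeff f)
  have hresR : ∀ b : ι, ∀ a, Cfsg.MemLocalRing M (res b.1 a) := fun b a =>
    memLocalRing_blockCoeff hM b.2 _
  let φ : ι → ℂ := fun b => omega (ξ : C → ℂ) (res b.1)
  have hφR : ∀ b, Cfsg.MemLocalRing M (φ b) := fun b =>
    memLocalRing_omega hM ξ.2 (hresc b.1) (hresR b)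
  have hφinv : ∀ (u : P) (b : ι), φ (u • b) = φ b := by
    intro u b
    refine congrArg (omega (ξ : C → ℂ)) (funext fun a => ?_)
    show Cfsg.blockCoeff (twistChar (cj u⁻¹) '' b.1) _ = _
    rw [blockCoeff_image_twistChar]
    refine congrArg (Cfsg.blockCoeff b.1) (Subtype.ext ?_)
    show ((u⁻¹ : P) : G) * (a : G) * ((u⁻¹ : P) : G)⁻¹ = a
    rw [(hC _).1 a.2 _ (u⁻¹ : P).2, mul_inv_cancel_right]
  -- the Brauer map on `P`-invariant idempotents
  have hmul : ∀ b b' : ι, b ∈ MulAction.fixedPoints P ι → b' ∈ MulAction.fixedPoints P ι →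
      Cfsg.MemLocalIdeal M (omega (ξ : C → ℂ) (fun a : C =>
        conv (Cfsg.blockCoeff b.1) (Cfsg.blockCoeff b'.1) ⟨(a : G), hCK a.2⟩) - φ b * φ b') := by
    intro b b' hb hb'
    letI : MulAction P K :=
      { smul := fun u a => cj u a
        one_smul := hcjone
        mul_smul := hcjmul }
    have hinvb : ∀ (b : ι), b ∈ MulAction.fixedPoints P ι → ∀ (u : P) (a : K),
        Cfsg.blockCoeff b.1 (cj u a) = Cfsg.blockCoeff b.1 a := fun b hb u a => by
      rw [← blockCoeff_image_twistChar, (hfixiff b).1 hb u]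
    have hfixK : ∀ a : K, a ∈ MulAction.fixedPoints P K ↔ (a : G) ∈ C := by
      intro a
      rw [hC]
      constructor
      · intro h u hu
        exact mul_inv_eq_iff_eq_mul.1 (congrArg Subtype.val (h ⟨u, hu⟩))
      · intro h u
        exact Subtype.ext (show (u : G) * (a : G) * (u : G)⁻¹ = a by
          rw [h u u.2, mul_inv_cancel_right])
    have hcong : ∀ z : C, Cfsg.MemLocalIdeal M
        (conv (Cfsg.blockCoeff b.1) (Cfsg.blockCoeff b'.1) ⟨(z : G), hCK z.2⟩ -
          conv (res b.1) (res b'.1) z) := by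
      intro z
      have key := memLocalIdeal_sum_sub_fixed hM hP
        (fun a : K => Cfsg.blockCoeff b.1 a * Cfsg.blockCoeff b'.1 (a⁻¹ * ⟨(z : G), hCK z.2⟩))
        (fun a => (localRing hM).mul_mem (memLocalRing_blockCoeff hM b.2 _)
          (memLocalRing_blockCoeff hM b'.2 _)) fun u a => by
        show Cfsg.blockCoeff b.1 (cj u a) * Cfsg.blockCoeff b'.1 ((cj u a)⁻¹ * _) = _
        rw [hinvb b hb, ← hinvb b' hb' u (a⁻¹ * ⟨(z : G), hCK z.2⟩), map_mul, map_inv]
        congr 3
        exact Subtype.ext (show (z : G) = (u : G) * (z : G) * (u : G)⁻¹ by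
          rw [(hC _).1 z.2 u u.2, mul_inv_cancel_right])
      rw [Finset.filter_congr fun a _ => hfixK a] at key
      refine (?_ : conv (res b.1) (res b'.1) z = _) ▸ key
      simp only [conv, res]
      refine Finset.sum_bij (fun a _ => (⟨(a : G), hCK a.2⟩ : K))
        (fun a _ => Finset.mem_filter.2 ⟨Finset.mem_univ _, a.2⟩)
        (fun a _ c _ e => Subtype.ext (congrArg (fun x : K => (x : G)) e))
        (fun a ha => ⟨⟨(a : G), (Finset.mem_filter.1 ha).2⟩, Finset.mem_univ _, rfl⟩)
        fun a _ => rfl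
    have : Finite (ConjClasses C) := Quotient.finite _
    have := Fintype.ofFinite (ConjClasses C)
    have hcc : Cfsg.IsClassFunction C fun a : C =>
        conv (Cfsg.blockCoeff b.1) (Cfsg.blockCoeff b'.1) ⟨(a : G), hCK a.2⟩ :=
      hinc _ (isClassFunction_conv (isClassFunction_blockCoeff _) (isClassFunction_blockCoeff _))
    rw [← omega_conv ξ.2 (hresc b.1) (hresc b'.1), ← omega_sub,
      omega_eq_sum_classes (Char.isClassFunction_of_isIrr ξ.2) (fun a k => by
        simp only [Pi.sub_apply, hcc a k, isClassFunction_conv (hresc b.1) (hresc b'.1) a k])]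
    exact memLocalIdeal_sum hM _ fun D _ => memLocalIdeal_mul_right hM (hcong _)
      (memLocalRing_centralChar hM ξ.2 _)
  have horth : ∀ b b' : ι, b ∈ MulAction.fixedPoints P ι → b' ∈ MulAction.fixedPoints P ι →
      b ≠ b' → Cfsg.MemLocalIdeal M (φ b) ∨ Cfsg.MemLocalIdeal M (φ b') := by
    intro b b' hb hb' hne
    have hd : Disjoint b.1 b'.1 := Set.disjoint_left.2 fun χ h h' => hne (Subtype.ext
      ((IsPBlock.eq_blockOf hM b.2 h).trans (IsPBlock.eq_blockOf hM b'.2 h').symm))
    have h := hmul b b' hb hb'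
    rw [blockCoeff_conv_disjoint hd] at h
    rw [show omega (ξ : C → ℂ) (fun a : C => (0 : K → ℂ) ⟨(a : G), hCK a.2⟩) = 0 by simp [omega],
      zero_sub] at h
    exact memLocalIdeal_of_mul hM (hφR b) (hφR b') (by simpa using memLocalIdeal_neg h)
  have hex : ∃ b ∈ MulAction.fixedPoints P ι, ¬ Cfsg.MemLocalIdeal M (φ b) := by
    by_contra hne
    simp only [not_exists, not_and, not_not] at hne
    have key := memLocalIdeal_sum_sub_fixed hM hP φ hφR hφinv
    have hsum : ∑ b, φ b = 1 := by
      show ∑ b : ι, omega (ξ : C → ℂ) (res b.1) = 1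
      rw [← omega_sum, show (∑ b : ι, res b.1) = delta C from funext fun a => ?_,
        omega_delta (Char.IsIrr.one_ne_zero ξ.2)]
      simp only [Finset.sum_apply, res]
      rw [← Finset.sum_apply, sum_blockCoeff_blocks hM]
      simp only [delta]
      by_cases ha : a = 1
      · subst ha
        simp [Subtype.ext_iff]
      · rw [if_neg ha, if_neg fun e => ha (Subtype.ext (congrArg (fun x : K => (x : G)) e :))]
    rw [hsum] at key
    have := memLocalIdeal_add hM key (memLocalIdeal_sum hM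
      (Finset.univ.filter (· ∈ MulAction.fixedPoints P ι))
      fun b hb => hne b (Finset.mem_filter.1 hb).2)
    exact not_memLocalIdeal_one hM (by simpa using this)
  obtain ⟨b, hb, hbu⟩ := hex
  have hone : Cfsg.MemLocalIdeal M (φ b - 1) := by
    have h := hmul b b hb hb
    rw [blockCoeff_conv] at h
    change Cfsg.MemLocalIdeal M (φ b - φ b * φ b) at h
    rw [show φ b - φ b * φ b = φ b * (1 - φ b) by ring] at h
    have := memLocalIdeal_neg ((memLocalIdeal_of_mul hM (hφR b)
      ((localRing hM).sub_mem (localRing hM).one_mem (hφR b)) h).resolve_left hbu)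
    rwa [neg_sub] at this
  refine ⟨b.1, ⟨⟨b.2, (hfixiff b).1 hb⟩, hone⟩, fun f ⟨⟨hf, hfix⟩, hfu⟩ => ?_⟩
  by_contra hne
  rcases horth ⟨f, hf⟩ b ((hfixiff _).2 hfix) hb (fun e => hne (congrArg Subtype.val e)) with h | h
  · exact not_memLocalIdeal_one hM (by simpa [φ, res] using memLocalIdeal_sub hM h hfu)
  · exact hbu h

end Cfsg.Agent.Blocks
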