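import Cfsg.Agent.Blocks.FewChars
import Cfsg.Agent.HSub.Basic

/-!
# Principal blocks with three or four characters

A principal block with three characters has Sylow order three, and one with four characters and
three Brauer characters at the prime two has a Sylow subgroup of order four.
-/

set_option autoImplicit false

open scoped Classical

namespace Cfsg.Agent.Blocks.FewChars

open scoped ComplexConjugate
open Cfsg.Agent Cfsg.Agent.Blocks Cfsg.Agent.BlockChar

universe u

variable {G : Type u} [Group G] [Fintype G] {p : ℕ} [Fact p.Prime] {M : Ideal Cfsg.AlgInt}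

omit [Fintype G] in
/-- The data of a normal complement. -/
theorem exists_complement [Finite G] (h : Cfsg.HasNormalPComplement p G) :
    ∃ K : Subgroup G, K.Normal ∧ ¬ p ∣ Nat.card K ∧
      K.index = p ^ (Nat.card G).factorization p := by
  obtain ⟨P, K, hK, hc⟩ := h
  refine ⟨K, hK, ?_, by rw [hc.symm.index_eq_card, P.card_eq_multiplicity]⟩
  rw [← hc.index_eq_card]
  exact P.not_dvd_index

/-- The principal block of a group with a normal complement has at most `|P|` members. -/
theorem card_principalBlock_le (hM : Cfsg.IsPModular p M)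
    (h : Cfsg.HasNormalPComplement p G) :
    Nat.card (Cfsg.principalBlock M G) ≤ p ^ (Nat.card G).factorization p := by
  obtain ⟨K, hK, hKp, hKi⟩ := exists_complement h
  have := hK
  have hG : (Nat.card G : ℂ) ≠ 0 := Nat.cast_ne_zero.2 Nat.card_pos.ne'
  have hk : (Nat.card K : ℂ) ≠ 0 := Nat.cast_ne_zero.2 Nat.card_pos.ne'
  have h1 := blockCoeff_principalBlock_of_complement hM K hKp ⟨_, hKi⟩ (1 : G)
  rw [Cfsg.blockCoeff, if_pos (one_mem K), finsum_mem_eq_finite_toFinset_sum _ (Set.toFinite _),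
    inv_mul_eq_iff_eq_mul₀ hG, eq_mul_inv_iff_mul_eq₀ hk, ← Subgroup.card_mul_index K,
    Nat.cast_mul, mul_comm (Nat.card K : ℂ)] at h1
  have h2 := mul_right_cancel₀ hk h1
  set T := (Cfsg.principalBlock M G).toFinite.toFinset
  have h3 : ((∑ χ ∈ T, Cfsg.charDegree (χ : G → ℂ) ^ 2 : ℕ) : ℂ) = (K.index : ℂ) := by
    rw [← h2, Nat.cast_sum]
    refine Finset.sum_congr rfl fun χ _ => ?_
    rw [(CharArith.irr_degree_spec χ).1, map_natCast, Nat.cast_pow, pow_two]
  have h4 : ∑ χ ∈ T, Cfsg.charDegree (χ : G → ℂ) ^ 2 = K.index := by exact_mod_cast h3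
  rw [Nat.card_coe_set_eq, Set.ncard_eq_toFinset_card _ (Set.toFinite _), ← hKi, ← h4,
    Finset.card_eq_sum_ones]
  exact Finset.sum_le_sum fun χ _ => Nat.one_le_pow _ _ (CharArith.irr_degree_spec χ).2

/-- Centralizers have normal complements when the rank is one less than the number of members. -/
theorem complement_centralizer (hM : Cfsg.IsPModular p M)
    (hk : Nat.card (Cfsg.principalBlock M G) ≤ 3 ∨
      Nat.card (Cfsg.principalBlock M G) ≤ Cfsg.blockRank p (Cfsg.principalBlock M G) + 1)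
    {z : G} (hz : ∃ k, orderOf z = p ^ k) (hz1 : z ≠ 1) :
    Cfsg.HasNormalPComplement p (Subgroup.centralizer ({z} : Set G)) := by
  by_cases h1 : Cfsg.blockRank p (Cfsg.principalBlock M G) = 1
  · exact Fusion.hasNormalPComplement_subgroup
      (hasNormalPComplement_of_const hM ((blockRank_eq_one_iff hM).1 h1)) _
  · refine OneSubsection.hasNormalPComplement_centralizer hM ?_ hz hz1
    have := blockRank_pos hM (isPBlock_principalBlock (G := G) M)
    omega

/-- A central element of order `p` of a Sylow subgroup, with the data of its centralizer. -/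
theorem exists_central_data (D : Sylow p G) (hD : (D : Subgroup G) ≠ ⊥)
    (hnc : ∀ z : G, (∃ k, orderOf z = p ^ k) → z ≠ 1 →
      Cfsg.HasNormalPComplement p (Subgroup.centralizer ({z} : Set G))) :
    ∃ z : G, orderOf z = p ∧ ∃ K : Subgroup (Subgroup.centralizer ({z} : Set G)),
      K.Normal ∧ ¬ p ∣ Nat.card K ∧ K.index = Nat.card (D : Subgroup G) := by
  have hp : p.Prime := Fact.out
  have : Nontrivial (D : Subgroup G) := (Subgroup.nontrivial_iff_ne_bot _).2 hD
  have : Nontrivial (Subgroup.center (D : Subgroup G)) := D.2.center_nontrivial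
  obtain ⟨w, hw⟩ := exists_prime_orderOf_dvd_card' (G := Subgroup.center (D : Subgroup G)) p (by
    obtain ⟨n, hn⟩ := IsPGroup.iff_card.1 (D.2.to_subgroup (Subgroup.center _))
    refine hn ▸ dvd_pow_self p fun h0 => ?_
    rw [h0, pow_zero] at hn
    exact absurd (Finite.one_lt_card (α := Subgroup.center (D : Subgroup G))) (by omega))
  set z : G := ((w : (D : Subgroup G)) : G)
  have hzo : orderOf z = p := by rw [Subgroup.orderOf_coe, Subgroup.orderOf_coe, hw]
  refine ⟨z, hzo, ?_⟩
  set C := Subgroup.centralizer ({z} : Set G)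
  have hDC : (D : Subgroup G) ≤ C := fun d hd => Subgroup.mem_centralizer_iff.2 fun u hu => by
    rw [Set.mem_singleton_iff.1 hu]
    exact (congrArg Subtype.val (Subgroup.mem_center_iff.1 w.2 ⟨d, hd⟩)).symm
  obtain ⟨K, hK, hKp, hKi⟩ := exists_complement (hnc z ⟨1, by rw [hzo, pow_one]⟩ (fun e =>
    hp.ne_one (by rw [← hzo, e, orderOf_one])))
  refine ⟨K, hK, hKp, ?_⟩
  rw [hKi, D.card_eq_multiplicity]
  congr 1
  refine le_antisymm ?_ ?_
  · exact (Nat.factorization_le_iff_dvd Nat.card_pos.ne' Nat.card_pos.ne').2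
      (Subgroup.card_subgroup_dvd_card C) p
  · have h := Subgroup.card_dvd_of_le hDC
    rw [D.card_eq_multiplicity] at h
    exact (hp.pow_dvd_iff_le_factorization Nat.card_pos.ne').1 h

omit [Fintype G] in
theorem not_bot_of_card_ne_one (D : Sylow p G) (h : Nat.card (D : Subgroup G) ≠ 1) :
    (D : Subgroup G) ≠ ⊥ := fun e => h (by rw [e, Subgroup.card_bot])

/-- An algebraic integer whose product with an integer is `-1` is `1` or `-1`. -/
theorem eq_one_or_neg_one {x : ℂ} (hx : IsIntegral ℤ x) {m : ℤ} (h : x * (m : ℂ) = -1) :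
    m = 1 ∨ m = -1 := by
  have hm : m ≠ 0 := fun e => by simp [e] at h
  have hx' : x = ((-1 / (m : ℚ) : ℚ) : ℂ) := by
    push_cast
    rw [eq_div_iff (Int.cast_ne_zero.2 hm)]
    exact h
  obtain ⟨k, hk⟩ := Char.exists_int_of_isIntegral_rat (q := -1 / (m : ℚ)) (hx' ▸ hx)
  rw [eq_div_iff (Int.cast_ne_zero.2 hm)] at hk
  have hk' : (-k) * m = 1 := by
    have : k * m = -1 := by exact_mod_cast hk
    linarith
  exact Int.eq_one_or_neg_one_of_mul_eq_one (by rw [mul_comm] at hk'; exact hk')

/-- The arithmetic for three characters at an odd prime. -/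
theorem three_arith {χ ψ : Cfsg.IrrCharacter G} {z : G} {f g : ℕ} {q : ℕ}
    (hf : (χ : G → ℂ) 1 = (f : ℂ)) (hf1 : 1 ≤ f)
    (hne : (χ : G → ℂ) z ≠ 0)
    (hconj : Char.conjIrr χ ≠ χ → Char.conjIrr χ = ψ)
    (hg : (ψ : G → ℂ) 1 = (g : ℂ))
    (hnorm : 1 + ((χ : G → ℂ) z * conj ((χ : G → ℂ) z) + (ψ : G → ℂ) z * conj ((ψ : G → ℂ) z)) =
      (q : ℂ))
    (hdeg : 1 + ((f : ℂ) * (χ : G → ℂ) z + (g : ℂ) * (ψ : G → ℂ) z) = 0)
    (hfs : 1 + (Char.fsInd (χ : G → ℂ) * (χ : G → ℂ) z + Char.fsInd (ψ : G → ℂ) * (ψ : G → ℂ) z) = 1)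
    : q ≤ 3 := by
  set a := (χ : G → ℂ) z
  set b := (ψ : G → ℂ) z
  have hint : ∀ φ : Cfsg.IrrCharacter G, IsIntegral ℤ ((φ : G → ℂ) z) := fun φ =>
    Char.IsChar.isIntegral (Char.IsIrr.isCharacter φ.2) z
  rcases Char.fsInd_irr χ with ⟨-, hnr⟩ | ⟨hν, -⟩
  · -- a conjugate pair
    have hψ : ψ = Char.conjIrr χ := (hconj hnr).symm
    have hb : b = conj a := by rw [show b = (ψ : G → ℂ) z from rfl, hψ, Char.conjIrr_apply]
    have hgf : g = f := by
      rw [hψ, Char.conjIrr_apply, hf, map_natCast] at hg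
      exact_mod_cast hg.symm
    rw [hb, hgf] at hdeg
    have h1 : (a + conj a) * ((f : ℤ) : ℂ) = -1 := by
      push_cast
      linear_combination hdeg
    have hia : IsIntegral ℤ (a + conj a) := by
      refine (hint χ).add ?_
      have := hint (Char.conjIrr χ)
      rwa [Char.conjIrr_apply] at this
    obtain h | h := eq_one_or_neg_one hia h1
    swap
    · omega
    have hle : ‖a‖ ≤ 1 := by
      have := Char.IsChar.norm_le (Char.IsIrr.isCharacter χ.2) z
      rw [hf] at this
      have hf' : f = 1 := by exact_mod_cast h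
      simpa [hf'] using this
    rw [hb, Complex.conj_conj, mul_comm (conj a) a] at hnorm
    have hn : (1 : ℝ) + (‖a‖ ^ 2 + ‖a‖ ^ 2) = (q : ℝ) := by
      have := congrArg Complex.re hnorm
      simpa [Complex.mul_conj, Complex.normSq_eq_norm_sq, ← Complex.ofReal_pow] using this
    have : (q : ℝ) ≤ 3 := by nlinarith [norm_nonneg a]
    exact_mod_cast this
  · -- real values
    obtain ⟨ε, hε, hεν⟩ : ∃ ε : ℤ, (ε = 1 ∨ ε = -1) ∧ Char.fsInd (χ : G → ℂ) = (ε : ℂ) := by
      rcases hν with h | h
      · exact ⟨1, Or.inl rfl, by simpa using h⟩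
      · exact ⟨-1, Or.inr rfl, by simpa using h⟩
    have hεsq : ((ε : ℂ)) * ε = 1 := by rcases hε with rfl | rfl <;> norm_num
    obtain ⟨μ, hμ, hμν⟩ : ∃ μ : ℤ, (μ = 1 ∨ μ = -1) ∧ Char.fsInd (ψ : G → ℂ) = (μ : ℂ) := by
      rcases Char.fsInd_irr ψ with ⟨h0, -⟩ | ⟨h | h, -⟩
      · rw [hεν, h0, zero_mul, add_zero] at hfs
        exfalso
        have : (ε : ℂ) * a = 0 := by linear_combination hfs
        rcases mul_eq_zero.1 this with he | he
        · rcases hε with rfl | rfl <;> norm_num at he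
        · exact hne he
      · exact ⟨1, Or.inl rfl, by simpa using h⟩
      · exact ⟨-1, Or.inr rfl, by simpa using h⟩
    have hμsq : ((μ : ℂ)) * μ = 1 := by rcases hμ with rfl | rfl <;> norm_num
    rw [hεν, hμν] at hfs
    have hb : b = -((μ : ℂ) * ε) * a := by linear_combination (μ : ℂ) * hfs - b * hμsq
    rw [hb] at hdeg
    have h1 : a * (((f : ℤ) - μ * ε * g : ℤ) : ℂ) = -1 := by
      push_cast
      linear_combination hdeg
    have ha : a = 1 ∨ a = -1 := by
      rcases eq_one_or_neg_one (hint χ) h1 with h | h <;> rw [h] at h1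
      · right; simpa using h1
      · left
        push_cast at h1
        linear_combination -h1
    rw [hb] at hnorm
    have hq : (q : ℂ) = (3 : ℕ) := by
      rw [← hnorm]
      push_cast
      rcases ha with h | h <;> rw [h] <;> rcases hε with rfl | rfl <;> rcases hμ with rfl | rfl <;>
        norm_num
    exact le_of_eq (Nat.cast_injective hq)

/-- A principal block with three members has a Sylow subgroup of order three. -/
theorem card_sylow_eq_three (hM : Cfsg.IsPModular p M)
    (hk : Nat.card (Cfsg.principalBlock M G) = 3) (D : Sylow p G) :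
    Nat.card (D : Subgroup G) = 3 := by
  have hp : p.Prime := Fact.out
  have hq : Nat.card (D : Subgroup G) = p ^ (Nat.card G).factorization p := D.card_eq_multiplicity
  have hq1 : Nat.card (D : Subgroup G) ≠ 1 := fun h => by
    have h2 := card_principalBlock_le hM (Fusion.hasNormalPComplement_of_coprime (p := p) (G := G)
      (((hp.coprime_iff_not_dvd).2 fun hd => by
        have := hp.factorization_pos_of_dvd Nat.card_pos.ne' hd
        rw [hq] at h
        exact absurd h (Nat.one_lt_pow this.ne' hp.one_lt).ne').symm))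
    rw [hk, ← hq, h] at h2
    omega
  obtain ⟨z, hzo, K, hK, hKp, hKi⟩ := exists_central_data D (not_bot_of_card_ne_one D hq1)
    fun w hw hw1 => complement_centralizer hM (Or.inl hk.le) hw hw1
  have := hK
  have hC : ∀ a : G, a ∈ Subgroup.centralizer ({z} : Set G) ↔ z * a = a * z :=
    fun a => mem_centralizer_iff_comm z a
  have hz : ∃ k, orderOf z = p ^ k := ⟨1, by rw [hzo, pow_one]⟩
  have hz1 : z ≠ 1 := fun e => hp.ne_one (by rw [← hzo, e, orderOf_one])
  have hKi' : ∃ k, K.index = p ^ k := ⟨_, hKi.trans hq⟩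
  set B := Cfsg.principalBlock M G
  set T := B.toFinite.toFinset
  have hTcard : T.card = 3 := by
    rw [← hk, Nat.card_coe_set_eq, Set.ncard_eq_toFinset_card B B.toFinite]
  have htT : triv G ∈ T := B.toFinite.mem_toFinset.2 (triv_mem_principalBlock hM)
  have hT2 : (T.erase (triv G)).card = 2 := by rw [Finset.card_erase_of_mem htT, hTcard]
  obtain ⟨χ, ψ, hne, hT⟩ := Finset.card_eq_two.1 hT2
  have hsplit : ∀ F : Cfsg.IrrCharacter G → ℂ, ∑ φ ∈ T, F φ = F (triv G) + (F χ + F ψ) :=
    fun F => by rw [← Finset.add_sum_erase T F htT, hT, Finset.sum_pair hne]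
  have hnorm := sum_normSq_eq hM hz hC hKp hKi'
  have hdeg := sum_degree_mul_eq_zero hM hz hz1 hC hKp hKi'
  rw [hsplit, hKi] at hnorm
  rw [hsplit] at hdeg
  have ht1 : Cfsg.charDegree ((triv G : Cfsg.IrrCharacter G) : G → ℂ) = 1 :=
    charDegree_eq (n := 1) (by simp [triv])
  have htz : ((triv G : Cfsg.IrrCharacter G) : G → ℂ) z = 1 := rfl
  rw [ht1, Nat.cast_one, one_mul, htz] at hdeg
  rw [htz, map_one, one_mul] at hnorm
  rcases eq_or_ne p 2 with hp2 | hp2
  · subst hp2
    exfalso
    obtain ⟨a, ha⟩ := SmallOrder.exists_int_apply_involution (Char.IsIrr.isCharacter χ.2) hzo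
    obtain ⟨b, hb⟩ := SmallOrder.exists_int_apply_involution (Char.IsIrr.isCharacter ψ.2) hzo
    rw [ha, hb, map_intCast, map_intCast] at hnorm
    have hn : 1 + (a * a + b * b) = (Nat.card (D : Subgroup G) : ℤ) := by exact_mod_cast hnorm
    rw [hq] at hn
    obtain hn1 | hn2 := le_or_gt ((Nat.card G).factorization 2) 1
    · -- a Sylow subgroup of order two
      have hn1' : (Nat.card G).factorization 2 = 1 := by
        rcases Nat.le_one_iff_eq_zero_or_eq_one.1 hn1 with h | h
        · exact absurd (by rw [hq, h, pow_zero]) hq1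
        · exact h
      have : Fact (Nat.Prime 2) := ⟨Nat.prime_two⟩
      have hcyc : IsCyclic (D : Subgroup G) :=
        isCyclic_of_prime_card (p := 2) (by rw [hq, hn1', pow_one])
      have h2 := card_principalBlock_le hM (HSub.hasNormalPComplement_of_cyclic D
        (fun r hr _ => hr.two_le) hcyc)
      rw [hk, hn1', pow_one] at h2
      omega
    · obtain ⟨m, hm⟩ : (4 : ℕ) ∣ 2 ^ (Nat.card G).factorization 2 := Nat.pow_dvd_pow 2 hn2
      rw [hm] at hn
      push_cast at hn
      rcases Int.even_or_odd' a with ⟨u, rfl | rfl⟩ <;> rcases Int.even_or_odd' b with ⟨v, rfl | rfl⟩ <;>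
        ring_nf at hn <;> omega
  have hfs := sum_fsInd_mul hM hp2 hz hC hKp hKi'
  rw [hsplit, htz, mul_one] at hfs
  have hν1 : Char.fsInd ((triv G : Cfsg.IrrCharacter G) : G → ℂ) = 1 := by
    simp [Char.fsInd, triv]
  rw [hν1] at hfs
  -- conjugates stay in the block
  have hconj : ∀ φ ∈ T, (φ : G → ℂ) z ≠ 0 → Char.conjIrr φ ∈ T := by
    intro φ hφ hφz
    by_contra hn
    have h1 := sum_translate hM hz hC hKp hKi' φ
    have h2 := sum_translate hM hz hC hKp hKi' (Char.conjIrr φ)
    rw [if_pos (B.toFinite.mem_toFinset.1 hφ)] at h1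
    rw [if_neg fun h => hn (B.toFinite.mem_toFinset.2 h)] at h2
    simp only [Char.conjIrr_apply, ← map_sum, h1] at h2
    rw [map_eq_zero] at h2
    exact hφz ((mul_eq_zero.1 h2).resolve_left (Nat.cast_ne_zero.2 Nat.card_pos.ne'))
  have hother : ∀ φ φ' : Cfsg.IrrCharacter G, T.erase (triv G) = {φ, φ'} → (φ : G → ℂ) z ≠ 0 →
      Char.conjIrr φ ≠ φ → Char.conjIrr φ = φ' := by
    intro φ φ' hT' hφz hne'
    have hφ : φ ∈ T.erase (triv G) := by rw [hT']; simp
    have hc : Char.conjIrr φ ∈ T.erase (triv G) := by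
      refine Finset.mem_erase.2 ⟨fun e => (Finset.mem_erase.1 hφ).1 ?_,
        hconj φ (Finset.mem_of_mem_erase hφ) hφz⟩
      rw [← Char.conjIrr_conjIrr φ, e]
      exact Subtype.ext (funext fun g => by simp [triv])
    rw [hT'] at hc
    simpa [hne'] using hc
  have hle : Nat.card (D : Subgroup G) ≤ 3 := by
    rcases eq_or_ne ((χ : G → ℂ) z) 0 with h0 | h0
    · rcases eq_or_ne ((ψ : G → ℂ) z) 0 with h0' | h0'
      · rw [h0, h0'] at hdeg
        norm_num at hdeg
      refine three_arith (ψ := χ) (CharArith.irr_degree_spec ψ).1 (CharArith.irr_degree_spec ψ).2 h0'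
        (fun h => hother ψ χ (by rw [hT, Finset.pair_comm]) h0' h)
        (CharArith.irr_degree_spec χ).1 ?_ ?_ ?_
      · rw [← hnorm, add_comm ((χ : G → ℂ) z * _)]
      · rw [← hdeg, add_comm (((Cfsg.charDegree (χ : G → ℂ) : ℕ) : ℂ) * _)]
      · linear_combination hfs
    · exact three_arith (CharArith.irr_degree_spec χ).1 (CharArith.irr_degree_spec χ).2 h0
        (fun h => hother χ ψ hT h0 h) (CharArith.irr_degree_spec ψ).1 hnorm hdeg hfs
  have h3 : 3 ≤ p := by have := hp.two_le; omega
  have hdvd : p ∣ Nat.card (D : Subgroup G) := hq ▸ dvd_pow_self p fun h0 => hq1 (by rw [hq, h0, pow_zero])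
  have := Nat.le_of_dvd Nat.card_pos hdvd
  omega

end Cfsg.Agent.Blocks.FewChars
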