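import Cfsg.Agent.Blocks.LiftTrace
import Mathlib.GroupTheory.GroupAction.Quotient
import Mathlib.GroupTheory.OrderOfElement
import Mathlib.Dynamics.PeriodicPts.Lemmas
import Mathlib.RingTheory.RootsOfUnity.Complex
import Mathlib.GroupTheory.Perm.Basic

/-!
# Twisted traces of periodic matrices commuting with a p-permutation

If `σ` is a permutation of p-power order of a finite set `X` and `K` is a matrix over the local
ring, invariant under `σ`, with `K ^ (m + 1) = K` (`p ∤ m`), then `∑ b, K b (σ b)` is the trace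
of any such periodic matrix on the fixed points of `σ` congruent to `K` there.  In particular it
vanishes when `σ` has no fixed point.  (The character-theoretic form of Brauer's lemma.)
-/

namespace Cfsg.Agent.Blocks

open Polynomial Function

set_option linter.unusedSectionVars false

variable {X : Type*} [Fintype X] (σ : Equiv.Perm X)

/-- the orbits of a permutation -/
abbrev Orb : Type _ := MulAction.orbitRel.Quotient (Subgroup.zpowers σ) X

noncomputable instance instFintypeOrb : Fintype (Orb σ) := Fintype.ofFinite _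

/-- the size of an orbit -/
noncomputable def orbSize (O : Orb σ) : ℕ := minimalPeriod σ (Quotient.out O)

theorem mk_apply (b : X) : (Quotient.mk'' (σ b) : Orb σ) = Quotient.mk'' b :=
  Quotient.eq''.2 ⟨⟨σ, Subgroup.mem_zpowers σ⟩, rfl⟩

theorem mk_pow (b : X) (l : ℕ) : (Quotient.mk'' ((σ ^ l) b) : Orb σ) = Quotient.mk'' b := by
  induction l with
  | zero => rfl
  | succ l ih => rw [pow_succ', Equiv.Perm.mul_apply, mk_apply, ih]

theorem pow_apply_eq_iterate (b : X) (l : ℕ) : (σ ^ l) b = σ^[l] b := by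
  rw [Equiv.Perm.coe_pow]

theorem orbSize_pos (O : Orb σ) : 0 < orbSize σ O :=
  minimalPeriod_pos_of_mem_periodicPts
    ⟨orderOf σ, orderOf_pos σ, by
      show σ^[orderOf σ] _ = _
      rw [← pow_apply_eq_iterate, pow_orderOf_eq_one]; rfl⟩

theorem pow_orbSize_mul_apply (O : Orb σ) (c : ℕ) :
    (σ ^ (orbSize σ O * c)) O.out = O.out := by
  rw [pow_apply_eq_iterate]
  exact (isPeriodicPt_minimalPeriod _ _).mul_const c

theorem pow_mod_apply (O : Orb σ) (l : ℕ) :
    (σ ^ (l % orbSize σ O)) O.out = (σ ^ l) O.out := by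
  rw [pow_apply_eq_iterate, pow_apply_eq_iterate]
  exact iterate_mod_minimalPeriod_eq

theorem exists_pow_eq (O : Orb σ) (b : X) (h : (Quotient.mk'' b : Orb σ) = O) :
    ∃ l < orbSize σ O, (σ ^ l) O.out = b := by
  have h' : (Quotient.mk'' b : Orb σ) = Quotient.mk'' O.out := by rw [Quotient.out_eq']; exact h
  obtain ⟨⟨τ, hτ⟩, e⟩ := Quotient.eq''.1 h'
  obtain ⟨l, rfl⟩ := mem_powers_iff_mem_zpowers.2 hτ
  refine ⟨l % orbSize σ O, Nat.mod_lt _ (orbSize_pos σ O), ?_⟩
  rw [pow_mod_apply]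
  exact e

/-- Summing over the points orbit by orbit. -/
theorem sum_eq_sum_orb {N : Type*} [AddCommMonoid N] (F : X → N) :
    ∑ b, F b = ∑ O : Orb σ, ∑ l ∈ Finset.range (orbSize σ O), F ((σ ^ l) O.out) := by
  classical
  rw [← Fintype.sum_fiberwise (fun b : X => (Quotient.mk'' b : Orb σ)) F]
  refine Finset.sum_congr rfl fun O _ => ?_
  have h : ∑ b : {b : X // (Quotient.mk'' b : Orb σ) = O}, F b =
      ∑ b ∈ Finset.univ.filter (fun b : X => (Quotient.mk'' b : Orb σ) = O), F b :=
    (Finset.sum_subtype _ (by simp) F).symm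
  rw [h]
  refine (Finset.sum_bij (fun l _ => (σ ^ l) O.out) (fun l _ => ?_) (fun a ha b hb e => ?_)
    (fun b hb => ?_) (fun l _ => rfl)).symm
  · exact Finset.mem_filter.2 ⟨Finset.mem_univ _, (mk_pow σ _ l).trans (Quotient.out_eq' O)⟩
  · rw [pow_apply_eq_iterate, pow_apply_eq_iterate] at e
    exact (iterate_eq_iterate_iff_of_lt_minimalPeriod (Finset.mem_range.1 ha)
      (Finset.mem_range.1 hb)).1 e
  · obtain ⟨l, hl, e⟩ := exists_pow_eq σ O b (Finset.mem_filter.1 hb).2
    exact ⟨l, Finset.mem_range.2 hl, e⟩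

theorem invariant_pow {α : Type*} {σ : Equiv.Perm X} {K : X → X → α}
    (hK : ∀ a b, K (σ a) (σ b) = K a b) (n : ℕ) (a b : X) :
    K ((σ ^ n) a) ((σ ^ n) b) = K a b := by
  induction n with
  | zero => rfl
  | succ n ih => rw [pow_succ', Equiv.Perm.mul_apply, Equiv.Perm.mul_apply, hK, ih]

/-- the column vector of the eigen-operator: entry at `b` -/
noncomputable def eigCol (K : Matrix X X ℂ) (z : ℂ) (O : Orb σ) (b : X) : ℂ :=
  ∑ l ∈ Finset.range (orbSize σ O), z ^ l * K ((σ ^ l) O.out) b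

/-- the matrix of `K` on the `z`-eigenspace of `σ` -/
noncomputable def eigMatrix (K : Matrix X X ℂ) (z : ℂ) :
    Matrix {O : Orb σ // z ^ orbSize σ O = 1} {O : Orb σ // z ^ orbSize σ O = 1} ℂ :=
  fun O O' => eigCol σ K z O.1 O'.1.out

theorem sum_range_shift {n : ℕ} (f : ℕ → ℂ) (h : f n = f 0) :
    ∑ l ∈ Finset.range n, f (l + 1) = ∑ l ∈ Finset.range n, f l := by
  have := Finset.sum_range_succ' f n
  rw [Finset.sum_range_succ, h] at this
  exact (add_right_cancel this).symm

theorem eigCol_apply {K : Matrix X X ℂ} (hK : ∀ a b, K (σ a) (σ b) = K a b) {z : ℂ} {O : Orb σ}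
    (hz : z ^ orbSize σ O = 1) (b : X) : eigCol σ K z O (σ b) = z * eigCol σ K z O b := by
  rw [eigCol, eigCol, Finset.mul_sum, ← sum_range_shift (n := orbSize σ O)
    (fun l => z ^ l * K ((σ ^ l) O.out) (σ b))]
  · refine Finset.sum_congr rfl fun l _ => ?_
    rw [pow_succ', pow_succ', Equiv.Perm.mul_apply, hK]
    ring
  · simp only [pow_zero, one_mul, hz, Equiv.Perm.one_apply]
    have := pow_orbSize_mul_apply σ O 1
    rw [mul_one] at this
    rw [this]

theorem eigCol_pow_apply {K : Matrix X X ℂ} (hK : ∀ a b, K (σ a) (σ b) = K a b) {z : ℂ}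
    {O : Orb σ} (hz : z ^ orbSize σ O = 1) (b : X) (n : ℕ) :
    eigCol σ K z O ((σ ^ n) b) = z ^ n * eigCol σ K z O b := by
  induction n with
  | zero => simp
  | succ n ih => rw [pow_succ', Equiv.Perm.mul_apply, eigCol_apply σ hK hz, ih, pow_succ']; ring

theorem eigMatrix_mul [DecidableEq X] {K K' : Matrix X X ℂ}
    (hK : ∀ a b, K (σ a) (σ b) = K a b) (z : ℂ)
    [Fintype {O : Orb σ // z ^ orbSize σ O = 1}] :
    eigMatrix σ K z * eigMatrix σ K' z = eigMatrix σ (K * K') z := by
  classical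
  ext ⟨O, hO⟩ ⟨O'', hO''⟩
  have hg : ∀ O' : Orb σ, z ^ orbSize σ O' ≠ 1 → eigCol σ K z O O'.out = 0 := by
    intro O' hne
    have h1 := eigCol_pow_apply σ hK hO O'.out (orbSize σ O')
    have h2 := pow_orbSize_mul_apply σ O' 1
    rw [mul_one] at h2
    rw [h2] at h1
    by_contra h3
    exact hne ((mul_eq_right₀ h3).1 h1.symm)
  have hR : eigMatrix σ (K * K') z ⟨O, hO⟩ ⟨O'', hO''⟩ = ∑ b, eigCol σ K z O b * K' b O''.out := by
    show ∑ l ∈ Finset.range (orbSize σ O), z ^ l * ((K * K') ((σ ^ l) O.out) O''.out) = _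
    simp only [Matrix.mul_apply, Finset.mul_sum, eigCol, Finset.sum_mul]
    rw [Finset.sum_comm]
    exact Finset.sum_congr rfl fun b _ => Finset.sum_congr rfl fun l _ => (mul_assoc _ _ _).symm
  rw [hR, sum_eq_sum_orb σ, Matrix.mul_apply]
  have hterm : ∀ O' : Orb σ, ∑ l ∈ Finset.range (orbSize σ O'),
      eigCol σ K z O ((σ ^ l) O'.out) * K' ((σ ^ l) O'.out) O''.out =
        eigCol σ K z O O'.out * eigCol σ K' z O' O''.out := by
    intro O'
    rw [Finset.sum_congr rfl fun l _ => by rw [eigCol_pow_apply σ hK hO]]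
    rw [show eigCol σ K' z O' O''.out = ∑ l ∈ Finset.range (orbSize σ O'),
      z ^ l * K' ((σ ^ l) O'.out) O''.out from rfl, Finset.mul_sum]
    exact Finset.sum_congr rfl fun l _ => by ring
  simp only [hterm]
  rw [← Finset.sum_subset (s₁ := Finset.univ.filter fun O' : Orb σ => z ^ orbSize σ O' = 1)
    (Finset.subset_univ _) fun O' _ hO' => by
      rw [hg O' (fun h => hO' (Finset.mem_filter.2 ⟨Finset.mem_univ _, h⟩)), zero_mul]]
  exact (Finset.sum_subtype _ (by simp)
    (fun O' : Orb σ => eigCol σ K z O O'.out * eigCol σ K' z O' O''.out)).symm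

theorem invariant_mul [DecidableEq X] {K K' : Matrix X X ℂ} (hK : ∀ a b, K (σ a) (σ b) = K a b)
    (hK' : ∀ a b, K' (σ a) (σ b) = K' a b) (a b : X) :
    (K * K') (σ a) (σ b) = (K * K') a b := by
  rw [Matrix.mul_apply, Matrix.mul_apply, ← Equiv.sum_comp σ]
  simp only [hK, hK']

theorem eigMatrix_pow [DecidableEq X] {K : Matrix X X ℂ}
    (hK : ∀ a b, K (σ a) (σ b) = K a b) (z : ℂ)
    [Fintype {O : Orb σ // z ^ orbSize σ O = 1}] [DecidableEq {O : Orb σ // z ^ orbSize σ O = 1}]
    (n : ℕ) : eigMatrix σ K z ^ (n + 1) = eigMatrix σ (K ^ (n + 1)) z := by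
  induction n with
  | zero => simp
  | succ n ih =>
    rw [pow_succ', ih, eigMatrix_mul σ hK z, ← pow_succ']

section Mod

variable {p : ℕ} {M : Ideal Cfsg.AlgInt} {σ}

theorem orbSize_dvd {k : ℕ} (hσ : σ ^ p ^ k = 1) (O : Orb σ) : orbSize σ O ∣ p ^ k := by
  refine IsPeriodicPt.minimalPeriod_dvd ?_
  show σ^[p ^ k] O.out = O.out
  rw [← pow_apply_eq_iterate, hσ]; rfl

theorem memLocalRing_eigCol (hM : Cfsg.IsPModular p M) {K : Matrix X X ℂ}
    (hR : ∀ a b, Cfsg.MemLocalRing M (K a b)) {z : ℂ} (hz : IsIntegral ℤ z) (O : Orb σ) (b : X) :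
    Cfsg.MemLocalRing M (eigCol σ K z O b) :=
  (localRing hM).sum_mem fun _ _ =>
    (localRing hM).mul_mem (memLocalRing_of_isIntegral hM (hz.pow _)) (hR _ _)

/-- the entries modulo `M`, independent of the eigenvalue -/
noncomputable def orbEntry (hM : Cfsg.IsPModular p M) (σ : Equiv.Perm X) (K : Matrix X X ℂ)
    (O O' : Orb σ) : Cfsg.AlgInt ⧸ M :=
  ∑ l ∈ Finset.range (orbSize σ O), resFun hM (K ((σ ^ l) O.out) O'.out)

theorem resFun_eigCol (hM : Cfsg.IsPModular p M) {k : ℕ} {K : Matrix X X ℂ}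
    (hR : ∀ a b, Cfsg.MemLocalRing M (K a b)) {z : ℂ} (hz : z ^ p ^ k = 1) (O O' : Orb σ) :
    resFun hM (eigCol σ K z O O'.out) = orbEntry hM σ K O O' := by
  let a : Cfsg.AlgInt := ⟨z, isIntegral_of_pow_eq_one (pow_pos hM.1.pos k) hz⟩
  have ha : resFun hM z = 1 := by
    rw [show z = (a : ℂ) from rfl, resFun_coe, ← map_one (Ideal.Quotient.mk M), Ideal.Quotient.eq]
    exact sub_one_mem_of_pow_prime_pow hM (Subtype.ext (by simpa [a] using hz))
  let e : ℕ → localRing hM := fun l =>
    ⟨z ^ l * K ((σ ^ l) O.out) O'.out,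
      (localRing hM).mul_mem (memLocalRing_of_isIntegral hM (a.2.pow _)) (hR _ _)⟩
  have : (⟨_, memLocalRing_eigCol hM hR a.2 O O'.out⟩ : localRing hM) =
      ∑ l ∈ Finset.range (orbSize σ O), e l := Subtype.ext (by simp [eigCol, e, a])
  rw [show resFun hM (eigCol σ K z O O'.out) = residue hM ⟨_, memLocalRing_eigCol hM hR a.2 O O'.out⟩
    from rfl, this, map_sum]
  refine Finset.sum_congr rfl fun l _ => ?_
  have e1 : e l = (⟨z, memLocalRing_coe hM a⟩ : localRing hM) ^ l *
      ⟨K ((σ ^ l) O.out) O'.out, hR _ _⟩ :=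
    Subtype.ext (by simp [e])
  rw [e1, map_mul, map_pow, residue_apply, residue_apply]
  simp [ha]

theorem orbEntry_eq_zero (hM : Cfsg.IsPModular p M) {k : ℕ} (hσ : σ ^ p ^ k = 1)
    {K : Matrix X X ℂ} (hK : ∀ a b, K (σ a) (σ b) = K a b) {O O' : Orb σ}
    (h : orbSize σ O' < orbSize σ O) : orbEntry hM σ K O O' = 0 := by
  have := hM.2.1
  have := charP_residueField hM
  obtain ⟨i, -, hi⟩ := (Nat.dvd_prime_pow hM.1).1 (orbSize_dvd hσ O)
  obtain ⟨j, -, hj⟩ := (Nat.dvd_prime_pow hM.1).1 (orbSize_dvd hσ O')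
  have hij : j < i := by rwa [hi, hj, Nat.pow_lt_pow_iff_right hM.1.one_lt] at h
  set f : ℕ → Cfsg.AlgInt ⧸ M := fun l => resFun hM (K ((σ ^ l) O.out) O'.out) with hf
  have hper : ∀ l, f (orbSize σ O' + l) = f l := by
    intro l
    simp only [hf]
    congr 1
    have h2 := pow_orbSize_mul_apply σ O' 1
    rw [mul_one] at h2
    conv_lhs => rw [← h2, pow_add, Equiv.Perm.mul_apply, invariant_pow hK]
  have hsum : ∀ c, ∑ l ∈ Finset.range (orbSize σ O' * c), f l =
      c • ∑ l ∈ Finset.range (orbSize σ O'), f l := by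
    intro c
    induction c with
    | zero => simp
    | succ c ih =>
      rw [Nat.mul_succ, add_comm, Finset.sum_range_add, succ_nsmul', ← ih]
      simp only [hper]
  show ∑ l ∈ Finset.range (orbSize σ O), f l = 0
  rw [show orbSize σ O = orbSize σ O' * p ^ (i - j) by rw [hi, hj, ← pow_add]; congr 1; omega,
    hsum, nsmul_eq_mul, (CharP.cast_eq_zero_iff _ p _).2 (dvd_pow_self p (by omega)), zero_mul]

open scoped Classical in
/-- Twisted traces reduce to the fixed points. -/
theorem sum_twisted_eq_trace (hM : Cfsg.IsPModular p M) {m k : ℕ} (hm : ¬ p ∣ m)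
    (hσ : σ ^ p ^ k = 1) {K : Matrix X X ℂ} (hR : ∀ a b, Cfsg.MemLocalRing M (K a b))
    (hK : ∀ a b, K (σ a) (σ b) = K a b) (hpow : K ^ (m + 1) = K)
    (L : Matrix {b : X // σ b = b} {b : X // σ b = b} ℂ)
    (hLR : ∀ a b, Cfsg.MemLocalRing M (L a b)) (hL : L ^ (m + 1) = L)
    (hcong : ∀ a b, Cfsg.MemLocalIdeal M (L a b - K a b)) :
    ∑ b, K b (σ b) = L.trace := by
  have := isPrime hM
  have hN : 0 < p ^ k := pow_pos hM.1.pos k
  set Z := Polynomial.nthRootsFinset (p ^ k) (1 : ℂ) with hZ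
  have hZmem : ∀ z ∈ Z, z ^ p ^ k = 1 := fun z hz => (mem_nthRootsFinset hN 1).1 hz
  -- the reduced diagonal blocks
  let P : ℕ → Polynomial (Cfsg.AlgInt ⧸ M) := fun s =>
    (Matrix.of fun O O' : {O : Orb σ // orbSize σ O = s} => orbEntry hM σ K O.1 O'.1).charpoly
  set T : Finset ℕ := Finset.univ.image (orbSize σ) with hT
  have htrace : ∀ z ∈ Z, (eigMatrix σ K z).trace =
      ∑ s ∈ T.filter (fun s => z ^ s = 1), liftRoots hM m (P s) := by
    intro z hz
    have hint : IsIntegral ℤ z := isIntegral_of_pow_eq_one hN (hZmem z hz)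
    rw [trace_eq_liftRoots hM (A := eigMatrix σ K z) hm (by rw [eigMatrix_pow σ hK z, hpow])
      (fun O O' => memLocalRing_eigCol hM hR hint _ _),
      ← liftRoots_prod hM m _ fun s _ => Matrix.charpoly_monic _]
    congr 1
    set b : {O : Orb σ // z ^ orbSize σ O = 1} → ℕ := fun O => orbSize σ O.1 with hb
    have hent : ∀ O O', redMatrix hM (eigMatrix σ K z) O O' = orbEntry hM σ K O.1 O'.1 :=
      fun O O' => resFun_eigCol hM hR (hZmem z hz) O.1 O'.1
    have htri : (redMatrix hM (eigMatrix σ K z)).BlockTriangular b := fun O O' h => by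
      rw [hent]
      exact orbEntry_eq_zero hM hσ hK h
    have himg : Finset.univ.image b = T.filter (fun s => z ^ s = 1) := by
      ext s
      simp only [hb, hT, Finset.mem_image, Finset.mem_univ, true_and, Finset.mem_filter]
      constructor
      · rintro ⟨O, rfl⟩; exact ⟨⟨O.1, rfl⟩, O.2⟩
      · rintro ⟨⟨O, rfl⟩, h⟩; exact ⟨⟨O, h⟩, rfl⟩
    rw [Matrix.charpoly, (Matrix.BlockTriangular.det (b := b) ?_), himg]
    · refine Finset.prod_congr rfl fun s hs => ?_
      simp only [P, Matrix.charpoly]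
      let e : {O : {O : Orb σ // z ^ orbSize σ O = 1} // b O = s} ≃ {O : Orb σ // orbSize σ O = s} :=
        { toFun := fun O => ⟨O.1.1, O.2⟩
          invFun := fun O => ⟨⟨O.1, by rw [O.2]; exact (Finset.mem_filter.1 hs).2⟩, O.2⟩
          left_inv := fun _ => rfl
          right_inv := fun _ => rfl }
      rw [← Matrix.det_reindex_self e]
      congr 1
      ext O O'
      rcases eq_or_ne O O' with h | h
      · subst h
        simp [Matrix.toSquareBlock_def, Matrix.charmatrix, hent, e]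
      · have h1 : (⟨O.1, by rw [O.2]; exact (Finset.mem_filter.1 hs).2⟩ :
            {O : Orb σ // z ^ orbSize σ O = 1}) ≠ ⟨O'.1, by rw [O'.2]; exact (Finset.mem_filter.1 hs).2⟩ :=
          fun e' => h (Subtype.ext (congrArg (fun x : {O : Orb σ // z ^ orbSize σ O = 1} => x.1) e'))
        simp [Matrix.toSquareBlock_def, Matrix.charmatrix, hent, e, Matrix.diagonal_apply_ne _ h,
          Matrix.diagonal_apply_ne _ h1]
    · intro O O' h
      have hne : O ≠ O' := fun e => (lt_irrefl _) (e ▸ h)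
      rw [Matrix.charmatrix_apply_ne _ _ _ hne, htri h]
      simp
  -- roots of unity sums
  have hroots : ∀ s, s ∣ p ^ k → 0 < s → ∀ j, ∑ z ∈ Z.filter (fun z => z ^ s = 1), z ^ j =
      if s ∣ j then (s : ℂ) else 0 := by
    intro s hs hs0 j
    have hfil : Z.filter (fun z => z ^ s = 1) = Polynomial.nthRootsFinset s (1 : ℂ) := by
      ext z
      rw [Finset.mem_filter, mem_nthRootsFinset hs0, hZ, mem_nthRootsFinset hN]
      exact ⟨fun h => h.2, fun h => ⟨by obtain ⟨c, hc⟩ := hs; rw [hc, pow_mul, h, one_pow], h⟩⟩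
    obtain ⟨ζ, hζ⟩ : ∃ ζ : ℂ, IsPrimitiveRoot ζ s := ⟨_, Complex.isPrimitiveRoot_exp s hs0.ne'⟩
    have himg : Polynomial.nthRootsFinset s (1 : ℂ) = (Finset.range s).image (ζ ^ ·) := by
      ext z
      rw [mem_nthRootsFinset hs0, Finset.mem_image]
      constructor
      · intro h
        have : NeZero s := ⟨hs0.ne'⟩
        obtain ⟨i, hi, rfl⟩ := hζ.eq_pow_of_pow_eq_one h
        exact ⟨i, Finset.mem_range.2 hi, rfl⟩
      · rintro ⟨i, -, rfl⟩
        rw [← pow_mul, mul_comm, pow_mul, hζ.pow_eq_one, one_pow]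
    rw [hfil, himg, Finset.sum_image fun a ha b hb e =>
      hζ.pow_inj (Finset.mem_range.1 ha) (Finset.mem_range.1 hb) e]
    simp only [← pow_mul, mul_comm _ j]
    simp only [pow_mul]
    split_ifs with hsj
    · obtain ⟨c, rfl⟩ := hsj
      simp [pow_mul, hζ.pow_eq_one]
    · have hne : ζ ^ j ≠ 1 := fun h => hsj ((hζ.pow_eq_one_iff_dvd j).1 h)
      rw [geom_sum_eq hne, ← pow_mul, mul_comm, pow_mul, hζ.pow_eq_one, one_pow, sub_self, zero_div]
  have hsz : ∀ O : Orb σ, orbSize σ O ∣ p ^ k ∧ 0 < orbSize σ O :=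
    fun O => ⟨orbSize_dvd hσ O, orbSize_pos σ O⟩
  -- both sides
  have hLHS : ∑ b, K b (σ b) = ∑ z ∈ Z, z * (eigMatrix σ K z).trace := by
    rw [sum_eq_sum_orb σ]
    have h1 : ∀ z ∈ Z, z * (eigMatrix σ K z).trace =
        ∑ O ∈ Finset.univ.filter (fun O : Orb σ => z ^ orbSize σ O = 1),
          z * eigCol σ K z O O.out := by
      intro z _
      rw [Matrix.trace, Finset.mul_sum]
      exact (Finset.sum_subtype _ (by simp) (fun O : Orb σ => z * eigCol σ K z O O.out)).symm
    rw [Finset.sum_congr rfl h1]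
    simp only [Finset.sum_filter]
    rw [Finset.sum_comm]
    refine Finset.sum_congr rfl fun O _ => ?_
    rw [← Finset.sum_filter]
    simp only [eigCol, Finset.mul_sum]
    rw [Finset.sum_comm]
    obtain ⟨hd, hpos⟩ := hsz O
    have h2 : ∀ l, ∑ z ∈ Z.filter (fun z => z ^ orbSize σ O = 1),
        z * (z ^ l * K ((σ ^ l) O.out) O.out) =
          (if orbSize σ O ∣ l + 1 then (orbSize σ O : ℂ) else 0) * K ((σ ^ l) O.out) O.out := by
      intro l
      rw [← hroots _ hd hpos (l + 1), Finset.sum_mul]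
      exact Finset.sum_congr rfl fun z _ => by ring
    simp only [h2]
    have hinv : ∀ l, K ((σ ^ l) O.out) (σ ((σ ^ l) O.out)) = K O.out (σ O.out) := by
      intro l
      rw [show σ ((σ ^ l) O.out) = (σ ^ l) (σ O.out) by
        rw [← Equiv.Perm.mul_apply, ← pow_succ', pow_succ, Equiv.Perm.mul_apply], invariant_pow hK]
    rw [Finset.sum_congr rfl fun l _ => hinv l, Finset.sum_const, Finset.card_range, nsmul_eq_mul,
      Finset.sum_eq_single (orbSize σ O - 1)]
    · rw [if_pos (by rw [Nat.sub_add_cancel hpos])]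
      congr 1
      have h2 := pow_orbSize_mul_apply σ O 1
      rw [mul_one, ← Nat.sub_add_cancel hpos, pow_succ', Equiv.Perm.mul_apply] at h2
      rw [← hK ((σ ^ (orbSize σ O - 1)) O.out) O.out, h2]
    · intro l hl hne
      rw [if_neg, zero_mul]
      intro hdvd
      have := Nat.le_of_dvd l.succ_pos hdvd
      rw [Finset.mem_range] at hl
      omega
    · intro h
      exact absurd (Finset.mem_range.2 (by omega)) h
  rw [hLHS, Finset.sum_congr rfl fun z hz => by rw [htrace z hz, Finset.mul_sum]]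
  simp only [Finset.sum_filter]
  rw [Finset.sum_comm]
  have hfix : ∀ O : Orb σ, orbSize σ O = 1 → σ O.out = O.out := fun O h => by
    simpa [h] using pow_orbSize_mul_apply σ O 1
  rw [Finset.sum_eq_single 1]
  · simp only [pow_one]
    rw [Finset.sum_ite_eq' Z (1 : ℂ), if_pos ((mem_nthRootsFinset hN 1).2 (one_pow _)), one_mul,
      trace_eq_liftRoots hM hm hL hLR]
    congr 1
    let e : {O : Orb σ // orbSize σ O = 1} ≃ {b : X // σ b = b} :=
      { toFun := fun O => ⟨O.1.out, hfix O.1 O.2⟩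
        invFun := fun b => ⟨Quotient.mk'' b.1, by
          obtain ⟨l, -, hl⟩ := exists_pow_eq σ (Quotient.mk'' b.1) b.1 rfl
          have hfb : ∀ l : ℕ, (σ ^ l) b.1 = b.1 := fun l => by
            induction l with
            | zero => rfl
            | succ l ih => rw [pow_succ', Equiv.Perm.mul_apply, ih, b.2]
          have e : (Quotient.mk'' b.1 : Orb σ).out = b.1 := by
            have h3 := (σ ^ l).injective (hl.trans (hfb l).symm)
            exact h3
          rw [orbSize, e]
          exact minimalPeriod_eq_one_iff_isFixedPt.2 b.2⟩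
        left_inv := fun O => Subtype.ext (Quotient.out_eq' O.1)
        right_inv := fun b => by
          obtain ⟨l, -, hl⟩ := exists_pow_eq σ (Quotient.mk'' b.1) b.1 rfl
          have hfb : ∀ l : ℕ, (σ ^ l) b.1 = b.1 := fun l => by
            induction l with
            | zero => rfl
            | succ l ih => rw [pow_succ', Equiv.Perm.mul_apply, ih, b.2]
          exact Subtype.ext ((σ ^ l).injective (hl.trans (hfb l).symm)) }
    simp only [P]
    rw [← Matrix.charpoly_reindex e]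
    congr 1
    ext a b
    simp only [Matrix.reindex_apply, Matrix.submatrix_apply, Matrix.of_apply, redMatrix,
      Matrix.map_apply, orbEntry]
    rw [(e.symm a).2, Finset.sum_range_one, pow_zero, Equiv.Perm.one_apply,
      show (e.symm a).1.out = a.1 from congrArg Subtype.val (e.apply_symm_apply a),
      show (e.symm b).1.out = b.1 from congrArg Subtype.val (e.apply_symm_apply b)]
    have h := (residue_eq_iff hM ⟨_, hLR a b⟩ ⟨_, hR a.1 b.1⟩).2 (hcong a b)
    exact h.symm
  · intro s hs hs1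
    obtain ⟨O, -, rfl⟩ := Finset.mem_image.1 hs
    rw [← Finset.sum_filter, ← Finset.sum_mul]
    have := hroots _ (hsz O).1 (hsz O).2 1
    simp only [pow_one] at this
    rw [this, if_neg (fun h => hs1 (Nat.dvd_one.1 h)), zero_mul]
  · intro h1
    refine Finset.sum_eq_zero fun z _ => ?_
    have : IsEmpty {O : Orb σ // orbSize σ O = 1} :=
      ⟨fun O => h1 (Finset.mem_image.2 ⟨O.1, Finset.mem_univ _, O.2⟩)⟩
    simp [P, liftRoots_one]

/-- A twisted trace over a fixed-point-free p-permutation vanishes. -/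
theorem sum_twisted_eq_zero [DecidableEq X] (hM : Cfsg.IsPModular p M) {m k : ℕ} (hm : ¬ p ∣ m)
    (hσ : σ ^ p ^ k = 1) {K : Matrix X X ℂ} (hR : ∀ a b, Cfsg.MemLocalRing M (K a b))
    (hK : ∀ a b, K (σ a) (σ b) = K a b) (hpow : K ^ (m + 1) = K) (hfree : ∀ b, σ b ≠ b) :
    ∑ b, K b (σ b) = 0 := by
  classical
  have : IsEmpty {b : X // σ b = b} := ⟨fun b => hfree b.1 b.2⟩
  rw [sum_twisted_eq_trace hM hm hσ hR hK (by convert hpow) 0 (fun a => this.elim a)
    (Subsingleton.elim _ _) (fun a => this.elim a)]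
  simp

end Mod

end Cfsg.Agent.Blocks
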