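import Cfsg.Agent.BlockChar.Cyclic.Rank1
import Cfsg.Agent.Blocks.SectionRank

/-!
# The twisted rank of a union of blocks

An automorphism stabilising a union of blocks permutes its simple modules, so its trace on the
functions on regular elements spanned by the union is a natural number.
-/

set_option autoImplicit false

namespace Cfsg.Agent.Blocks

open scoped ComplexConjugate
open Cfsg.Agent Cfsg.Agent.BlockChar.ResidueBlock Cfsg.Agent.BlockChar.Cyclic
open Cfsg.Agent.BlockThms.OrderP (SimpleMod tr act act_apply)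

universe u

attribute [local instance] Ideal.Quotient.field

set_option synthInstance.maxHeartbeats 400000

/-- A central idempotent acts on a simple module as zero or as the identity. -/
theorem smul_eq_self_or_eq_zero {R V : Type*} [Ring R] [AddCommGroup V] [Module R V]
    [IsSimpleModule R V] {e : R} (hc : ∀ x, e * x = x * e) (hi : e * e = e) :
    (∀ v : V, e • v = v) ∨ (∀ v : V, e • v = 0) := by
  let W : Submodule R V :=
    { carrier := {q | e • q = q}
      add_mem' := fun {a b} (ha : e • a = a) (hb : e • b = b) => by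
        show e • (a + b) = a + b
        rw [smul_add, ha, hb]
      zero_mem' := smul_zero _
      smul_mem' := fun r q (hq : e • q = q) => by
        show e • r • q = r • q
        rw [← mul_smul, hc, mul_smul, hq] }
  rcases IsSimpleOrder.eq_bot_or_eq_top W with h | h
  · refine Or.inr fun v => ?_
    have hv : e • v ∈ W := by show e • e • v = e • v; rw [← mul_smul, hi]
    rwa [h, Submodule.mem_bot] at hv
  · exact Or.inl fun v => show v ∈ W by rw [h]; trivial

variable {K : Type u} [Group K] [Fintype K] {p : ℕ} {M : Ideal Cfsg.AlgInt} [M.IsMaximal]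

omit [Fintype K] [M.IsMaximal] in
theorem map_pPrimePartOf' [Finite K] (hp : p.Prime) (e : K ≃* K) (g : K) :
    e (pPrimePartOf p g) = pPrimePartOf p (e g) := by
  conv_rhs => rw [← pPartOf_mul_pPrimePartOf hp g, map_mul]
  obtain ⟨k, hk⟩ := orderOf_pPartOf hp g
  refine ((parts_mul hp ((commute_pPartOf_pPrimePartOf g).map e.toMonoidHom)
    ⟨k, by rw [MulEquiv.coe_toMonoidHom]; exact (orderOf_injective e.toMonoidHom e.injective _).trans hk⟩
    ?_).2).symm
  rw [MulEquiv.coe_toMonoidHom, ← MulEquiv.coe_toMonoidHom,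
    orderOf_injective e.toMonoidHom e.injective]
  exact not_dvd_orderOf_pPrimePartOf hp g

/-- A module twisted by an automorphism. -/
def Twist (_e : K ≃* K) (V : Type u) : Type u := V

section Twist

variable (e : K ≃* K) (V : Type u) [AddCommGroup V] [Module (Cfsg.AlgInt ⧸ M) V]
  [Module (MonoidAlgebra (Cfsg.AlgInt ⧸ M) K) V]
  [IsScalarTower (Cfsg.AlgInt ⧸ M) (MonoidAlgebra (Cfsg.AlgInt ⧸ M) K) V]

instance : AddCommGroup (Twist e V) := inferInstanceAs (AddCommGroup V)

instance : Module (Cfsg.AlgInt ⧸ M) (Twist e V) := inferInstanceAs (Module (Cfsg.AlgInt ⧸ M) V)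

instance [FiniteDimensional (Cfsg.AlgInt ⧸ M) V] :
    FiniteDimensional (Cfsg.AlgInt ⧸ M) (Twist e V) :=
  inferInstanceAs (FiniteDimensional (Cfsg.AlgInt ⧸ M) V)

noncomputable instance : Module (MonoidAlgebra (Cfsg.AlgInt ⧸ M) K) (Twist e V) :=
  Module.compHom V
    (MonoidAlgebra.domCongr (Cfsg.AlgInt ⧸ M) (Cfsg.AlgInt ⧸ M) e).toRingEquiv.toRingHom

/-- The underlying vector of a twisted one. -/
def unTwist (v : Twist e V) : V := v

omit [AddCommGroup V] in
theorem unTwist_injective : Function.Injective (unTwist e V) := fun _ _ h => h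

theorem twist_smul (x : MonoidAlgebra (Cfsg.AlgInt ⧸ M) K) (v : Twist e V) :
    unTwist e V (x • v) =
      MonoidAlgebra.domCongr (Cfsg.AlgInt ⧸ M) (Cfsg.AlgInt ⧸ M) e x • unTwist e V v :=
  rfl

theorem twist_smul' (r : Cfsg.AlgInt ⧸ M) (v : Twist e V) :
    unTwist e V (r • v) = r • unTwist e V v :=
  rfl

instance : IsScalarTower (Cfsg.AlgInt ⧸ M) (MonoidAlgebra (Cfsg.AlgInt ⧸ M) K) (Twist e V) :=
  ⟨fun r x v => unTwist_injective e V (by
    rw [twist_smul', twist_smul, twist_smul, map_smul, smul_assoc])⟩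

instance [IsSimpleModule (MonoidAlgebra (Cfsg.AlgInt ⧸ M) K) V] :
    IsSimpleModule (MonoidAlgebra (Cfsg.AlgInt ⧸ M) K) (Twist e V) := by
  let E := (MonoidAlgebra.domCongr (Cfsg.AlgInt ⧸ M) (Cfsg.AlgInt ⧸ M) e).toRingEquiv
  haveI : RingHomSurjective E.toRingHom := ⟨E.surjective⟩
  let l : Twist e V →ₛₗ[E.toRingHom] V :=
    { toFun := fun v => v, map_add' := fun _ _ => rfl, map_smul' := fun _ _ => rfl }
  exact (LinearMap.isSimpleModule_iff_of_bijective l Function.bijective_id).2 inferInstance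

theorem tr_twist (g : K) : tr M (Twist e V) g = tr M V (e g) := by
  unfold BlockThms.OrderP.tr
  show LinearMap.trace (Cfsg.AlgInt ⧸ M) V _ = _
  congr 1
  refine LinearMap.ext fun v => ?_
  show unTwist e V (act g v) = act (e g) (unTwist e V v)
  rw [act_apply, act_apply, twist_smul]
  congr 1
  simp

end Twist

/-- Simple modules with a nonzero homomorphism have the same trace. -/
theorem tr_eq_of_hom {ε ε' : MonoidAlgebra (Cfsg.AlgInt ⧸ M) K}
    {S : SimpleMod.{u, u, 0} (Cfsg.AlgInt ⧸ M) K ε}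
    {S' : SimpleMod.{u, u, 0} (Cfsg.AlgInt ⧸ M) K ε'}
    {F : S.V →ₗ[MonoidAlgebra (Cfsg.AlgInt ⧸ M) K] S'.V} (hF : F ≠ 0) (g : K) :
    tr M S'.V g = tr M S.V g := by
  have hb := (LinearMap.bijective_or_eq_zero F).resolve_right hF
  let L := LinearEquiv.ofBijective F hb
  unfold BlockThms.OrderP.tr
  rw [← LinearMap.trace_conj' (act g : Module.End (Cfsg.AlgInt ⧸ M) S.V)
    (L.restrictScalars (Cfsg.AlgInt ⧸ M))]
  congr 1
  refine LinearMap.ext fun v => ?_
  rw [LinearEquiv.conj_apply_apply, act_apply, act_apply]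
  show _ = L (MonoidAlgebra.of (Cfsg.AlgInt ⧸ M) K g • L.symm v)
  rw [map_smul, L.apply_symm_apply]

variable [Fact p.Prime]

/-- The lift of the trace of a module, constant on `p`-parts. -/
noncomputable def liftFun (p : ℕ) (M : Ideal Cfsg.AlgInt) [M.IsMaximal] (S : Type u)
    [AddCommGroup S] [Module (Cfsg.AlgInt ⧸ M) S] [Module (MonoidAlgebra (Cfsg.AlgInt ⧸ M) K) S]
    [IsScalarTower (Cfsg.AlgInt ⧸ M) (MonoidAlgebra (Cfsg.AlgInt ⧸ M) K) S] : K → ℂ :=
  fun g => ((Function.surjInv Ideal.Quotient.mk_surjective (tr M S (pPrimePartOf p g)) :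
    Cfsg.AlgInt) : ℂ)

section Lift

variable {S : Type u} [AddCommGroup S] [Module (Cfsg.AlgInt ⧸ M) S]
  [Module (MonoidAlgebra (Cfsg.AlgInt ⧸ M) K) S]
  [IsScalarTower (Cfsg.AlgInt ⧸ M) (MonoidAlgebra (Cfsg.AlgInt ⧸ M) K) S]

theorem isClassFunction_liftFun : Cfsg.IsClassFunction K (liftFun (K := K) p M S) := fun g c => by
  simp only [liftFun, BlockThms.OrderP.pPrimePartOf_conj', BlockThms.OrderP.tr_conj]

theorem memLocalRing_coeff (hM : Cfsg.IsPModular p M) (χ : Cfsg.IrrCharacter K) :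
    Cfsg.MemLocalRing M (Cfsg.classInner (liftFun (K := K) p M S) (χ : K → ℂ)) :=
  BlockThms.OrderP.memLocalRing_classInner_pPrime hM isClassFunction_liftFun
    (fun g => memLocalRing_coe hM _)
    (fun g => by
      simp only [liftFun]
      rw [BlockThms.OrderP.pPrimePartOf_self (not_dvd_orderOf_pPrimePartOf Fact.out g)])
    (Char.IsIrr.isCharacter χ.2)

/-- The trace of a block idempotent times an element, in reduced characters. -/
theorem trace_bElt_mul (hM : Cfsg.IsPModular p M) [FiniteDimensional (Cfsg.AlgInt ⧸ M) S]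
    {B : Set (Cfsg.IrrCharacter K)} (hB : Cfsg.IsPBlock M B) (g : K) :
    LinearMap.trace (Cfsg.AlgInt ⧸ M) S (Algebra.lsmul (Cfsg.AlgInt ⧸ M) (Cfsg.AlgInt ⧸ M) S
        (bElt hM B * MonoidAlgebra.of _ K g)) =
      ∑ χ ∈ B.toFinite.toFinset,
        resFun hM (Cfsg.classInner (liftFun (K := K) p M S) (χ : K → ℂ)) *
          resFun hM ((χ : K → ℂ) g) := by
  classical
  set F : K → ℂ := liftFun (K := K) p M S with hF
  set cc : Cfsg.IrrCharacter K → ℂ := fun χ => Cfsg.classInner F (χ : K → ℂ) with hcc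
  have hcR : ∀ χ, Cfsg.MemLocalRing M (cc χ) := fun χ => memLocalRing_coeff hM χ
  have htr : ∀ x, tr M S x =
      ∑ χ : Cfsg.IrrCharacter K, resFun hM (cc χ) * resFun hM ((χ : K → ℂ) x) := by
    intro x
    rw [BlockThms.OrderP.tr_pPrimePartOf (p := p) hM x]
    calc tr M S (pPrimePartOf p x) = resFun hM (F x) := by
          rw [hF, liftFun, resFun_coe]; exact (Function.surjInv_eq _ _).symm
      _ = resFun hM (∑ χ : Cfsg.IrrCharacter K, cc χ * (χ : K → ℂ) x) := by
          rw [hF, Invol.apply_eq_sum isClassFunction_liftFun x]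
      _ = _ := by
          rw [BlockThms.OrderP.resFun_sum hM _ fun χ _ =>
            (localRing hM).mul_mem (hcR χ) (memLocalRing_irr hM χ x)]
          exact Finset.sum_congr rfl fun χ _ => resFun_mul hM (hcR χ) (memLocalRing_irr hM χ x)
  have hform : ∀ x : MonoidAlgebra (Cfsg.AlgInt ⧸ M) K,
      LinearMap.trace (Cfsg.AlgInt ⧸ M) S
        (Algebra.lsmul (Cfsg.AlgInt ⧸ M) (Cfsg.AlgInt ⧸ M) S x) =
      ∑ χ : Cfsg.IrrCharacter K, resFun hM (cc χ) * charForm hM (χ : K → ℂ) x := by
    intro x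
    rw [BlockThms.OrderP.trace_lsmul_eq]
    simp only [htr, Finset.mul_sum]
    rw [Finset.sum_comm]
    refine Finset.sum_congr rfl fun χ _ => ?_
    show _ = resFun hM (cc χ) * ∑ y, x.coeff y * resFun hM ((χ : K → ℂ) y)
    rw [Finset.mul_sum]
    exact Finset.sum_congr rfl fun y _ => mul_left_comm _ _ _
  rw [hform, ← Finset.sum_subset (Finset.subset_univ B.toFinite.toFinset) fun χ _ hχ => ?_]
  · refine Finset.sum_congr rfl fun χ hχ => ?_
    rw [charForm_bElt_mul hM hB, if_pos (B.toFinite.mem_toFinset.1 hχ),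
      MonoidAlgebra.of_apply, charForm_single, one_mul]
  · rw [charForm_bElt_mul hM hB, if_neg fun h => hχ (B.toFinite.mem_toFinset.2 h), mul_zero]

end Lift

/-- The traces of pairwise unrelated simple modules are independent on regular classes. -/
theorem linearIndependent_tr (hM : Cfsg.IsPModular p M) {ε : MonoidAlgebra (Cfsg.AlgInt ⧸ M) K}
    {n : ℕ} (V : Fin n → SimpleMod.{u, u, 0} (Cfsg.AlgInt ⧸ M) K ε)
    (hne : ∀ j l, j ≠ l →
      ∀ F : (V j).V →ₗ[MonoidAlgebra (Cfsg.AlgInt ⧸ M) K] (V l).V, F = 0) :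
    LinearIndependent (Cfsg.AlgInt ⧸ M)
      (fun (j : Fin n) (c : RegClass K p) => tr M (V j).V (Quotient.out c.1)) := by
  classical
  have := charP_residueField hM
  have := BlockThms.OrderP.isAlgClosed_residue (M := M)
  refine Fintype.linearIndependent_iff.2 fun c hc j₀ => ?_
  have hg : ∀ g : K, ∑ j, c j * tr M (V j).V g = 0 := by
    intro g
    have hreg := not_dvd_orderOf_pPrimePartOf (Fact.out : p.Prime) g
    obtain ⟨d, hd⟩ := regClass_rep (p := p) _ hreg
    obtain ⟨k, hk⟩ := isConj_iff.1 hd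
    have h := congrFun hc d
    simp only [Finset.sum_apply, Pi.smul_apply, smul_eq_mul, Pi.zero_apply] at h
    rw [← h]
    exact Finset.sum_congr rfl fun j _ => by
      rw [BlockThms.OrderP.tr_pPrimePartOf (p := p) hM g, ← hk, BlockThms.OrderP.tr_conj]
  have : Nontrivial (V j₀).V :=
    IsSimpleModule.nontrivial (MonoidAlgebra (Cfsg.AlgInt ⧸ M) K) _
  obtain ⟨x₀, hx₀⟩ := exists_ne (0 : (V j₀).V)
  obtain ⟨l, hl⟩ := Module.Projective.exists_dual_ne_zero (Cfsg.AlgInt ⧸ M) hx₀
  obtain ⟨a, ha⟩ := exists_smul_eq (k := Cfsg.AlgInt ⧸ M)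
    (R := MonoidAlgebra (Cfsg.AlgInt ⧸ M) K) (fun j => (V j).V) hne
    (Function.update 0 j₀ (((l x₀)⁻¹ • l).smulRight x₀))
  have hsum : ∑ j, c j * LinearMap.trace (Cfsg.AlgInt ⧸ M) (V j).V
      (Algebra.lsmul (Cfsg.AlgInt ⧸ M) (Cfsg.AlgInt ⧸ M) (V j).V a) = 0 := by
    simp only [BlockThms.OrderP.trace_lsmul_eq, Finset.mul_sum]
    rw [Finset.sum_comm]
    refine Finset.sum_eq_zero fun g _ => ?_
    simp only [mul_left_comm (c _), ← Finset.mul_sum, hg, mul_zero]
  have heq : ∀ j, (Algebra.lsmul (Cfsg.AlgInt ⧸ M) (Cfsg.AlgInt ⧸ M) (V j).V a :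
      Module.End (Cfsg.AlgInt ⧸ M) (V j).V) =
      Function.update (0 : ∀ j, Module.End (Cfsg.AlgInt ⧸ M) (V j).V) j₀
        (((l x₀)⁻¹ • l).smulRight x₀) j :=
    fun j => LinearMap.ext fun x => ha j x
  simp only [heq] at hsum
  rw [Finset.sum_eq_single j₀] at hsum
  · rw [Function.update_self, LinearMap.trace_smulRight] at hsum
    simpa [hl] using hsum
  · intro j _ hj
    rw [Function.update_of_ne hj]
    simp
  · simp

open scoped Classical in
/-- An automorphism stabilising a union of blocks has natural twisted rank on it. -/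
theorem exists_nat_twisted (hM : Cfsg.IsPModular p M) (e : K ≃* K)
    {A : Set (Cfsg.IrrCharacter K)}
    (hA : ∀ ψ ∈ A, ∀ ξ : Cfsg.IrrCharacter K,
      Cfsg.SameBlock M (ψ : K → ℂ) (ξ : K → ℂ) → ξ ∈ A)
    (hAe : ∀ ψ ∈ A, ∀ ξ : Cfsg.IrrCharacter K,
      (∀ a, (ξ : K → ℂ) a = (ψ : K → ℂ) (e a)) → ξ ∈ A) :
    ∃ n : ℕ, (∑ x : K, if p ∣ orderOf x then 0 else
        ∑ᶠ χ ∈ A, (χ : K → ℂ) (e x) * conj ((χ : K → ℂ) x)) = (Nat.card K : ℂ) * (n : ℂ) := by
  have : Finite (ConjClasses K) := Quotient.finite _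
  have := Fintype.ofFinite (RegClass K p)
  obtain ⟨S, hS⟩ : ∃ S : Finset (Cfsg.IrrCharacter K), ∀ χ, χ ∈ S ↔ χ ∈ A :=
    ⟨A.toFinite.toFinset, fun χ => A.toFinite.mem_toFinset⟩
  have hord : ∀ x, orderOf (e x) = orderOf x := fun x =>
    orderOf_injective e.toMonoidHom e.injective x
  let E : Cfsg.IrrCharacter K → Cfsg.IrrCharacter K := fun χ =>
    ⟨fun a => (χ : K → ℂ) (e a), (Char.isIrrCharacter_comp_equiv e).2 χ.2⟩
  have hEinj : Function.Injective E := fun χ χ' h => Subtype.ext (funext fun a => by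
    simpa [E] using congrFun (congrArg Subtype.val h) (e.symm a))
  have hEim : S.image E = S := Finset.eq_of_subset_of_card_le
    (Finset.image_subset_iff.2 fun χ h => (hS _).2 (hAe χ ((hS χ).1 h) _ fun a => rfl))
    (by rw [Finset.card_image_of_injective _ hEinj])
  let ev : Cfsg.IrrCharacter K → ((K → ℂ) →ₗ[ℂ] ℂ) := fun χ =>
    { toFun := fun f => Cfsg.classInner f (χ : K → ℂ)
      map_add' := fun f g => Char.classInner_add_left _ _ _
      map_smul' := fun c f => Char.classInner_smul_left _ _ _ }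
  let P : (K → ℂ) →ₗ[ℂ] (K → ℂ) :=
    ∑ χ ∈ S, (ev χ).smulRight (Cfsg.pRegularPart p (χ : K → ℂ))
  let Q : (K → ℂ) →ₗ[ℂ] (K → ℂ) := LinearMap.funLeft ℂ ℂ e
  set V := Submodule.span ℂ
    ((fun χ : Cfsg.IrrCharacter K => Cfsg.pRegularPart p (χ : K → ℂ)) '' A) with hV
  have hP : ∀ f, P f = ∑ χ ∈ S,
      Cfsg.classInner f (χ : K → ℂ) • Cfsg.pRegularPart p (χ : K → ℂ) := by
    intro f
    simp [P, ev]
  have hPV : ∀ f, P f ∈ V := fun f => by
    rw [hP]
    exact V.sum_mem fun χ hχ => V.smul_mem _ (Submodule.subset_span ⟨χ, (hS χ).1 hχ, rfl⟩)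
  have hfix : ∀ χ : Cfsg.IrrCharacter K, χ ∈ A →
      P (Cfsg.pRegularPart p (χ : K → ℂ)) = Cfsg.pRegularPart p (χ : K → ℂ) := by
    intro χ hχ
    rw [hP]
    set B := Cfsg.blockOf M (χ : K → ℂ)
    have hB : Cfsg.IsPBlock M B := isPBlock_blockOf χ
    have hχB : χ ∈ B := mem_blockOf_self hM χ
    funext x
    have h := congrFun (pRegularPart_eq_sum hM hB hχB) x
    simp only [Finset.sum_apply, Pi.smul_apply, smul_eq_mul, ite_apply, Pi.zero_apply] at h ⊢
    rw [← Finset.sum_filter] at h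
    have hsub : Finset.univ.filter (fun φ => φ ∈ B) ⊆ S := fun φ hφ =>
      (hS φ).2 (hA χ hχ φ (mem_blockOf.1 (Finset.mem_filter.1 hφ).2))
    rw [← Finset.sum_subset hsub fun φ _ hφ => by
      rw [classInner_pRegularPart_eq_zero hM hB hχB (fun h => hφ (Finset.mem_filter.2
        ⟨Finset.mem_univ φ, h⟩)), zero_mul]]
    by_cases hx : p ∣ orderOf x
    · rw [pRegularPart_apply p (χ : K → ℂ) x, if_pos hx]
      exact Finset.sum_eq_zero fun φ _ => by rw [pRegularPart_apply, if_pos hx, mul_zero]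
    · rw [h]
      exact Finset.sum_congr rfl fun φ _ => by rw [pRegularPart_apply p (φ : K → ℂ), if_neg hx]
  have hPid : ∀ f ∈ V, P f = f := by
    intro f hf
    induction hf using Submodule.span_induction with
    | mem x hx =>
      obtain ⟨χ, hχ, rfl⟩ := hx
      exact hfix χ hχ
    | zero => simp
    | add a b _ _ ha hb => simp [ha, hb]
    | smul c a _ ha => simp [ha]
  have hVclass : ∀ f ∈ V, Cfsg.IsClassFunction K f := by
    intro f hf
    induction hf using Submodule.span_induction with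
    | mem f hf =>
      obtain ⟨χ, -, rfl⟩ := hf
      exact isClassFunction_pRegularPart p (Char.isClassFunction_of_isIrr χ.2)
    | zero => intro g k; rfl
    | add f f' _ _ h h' => intro g k; simp [h g k, h' g k]
    | smul r f _ h => intro g k; simp [h g k]
  have hQP : ∀ f, P (Q f) = Q (P f) := by
    intro f
    rw [hP, hP]
    conv_lhs => rw [← hEim, Finset.sum_image fun a _ b _ h => hEinj h]
    rw [map_sum]
    refine Finset.sum_congr rfl fun χ _ => ?_
    rw [map_smul]
    congr 1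
    · simp only [Cfsg.classInner]
      congr 1
      exact Fintype.sum_equiv e.toEquiv _ _ fun a => rfl
    · funext a
      show _ = Cfsg.pRegularPart p (χ : K → ℂ) (e a)
      rw [pRegularPart_apply, pRegularPart_apply, hord]
  -- the blocks in `A`
  let T := S.image fun χ : Cfsg.IrrCharacter K => Cfsg.blockOf M (χ : K → ℂ)
  have hT : ∀ B ∈ T, Cfsg.IsPBlock M B ∧ B ⊆ A := by
    intro B hB
    obtain ⟨χ, hχ, rfl⟩ := Finset.mem_image.1 hB
    exact ⟨isPBlock_blockOf χ, fun ξ hξ => hA χ ((hS χ).1 hχ) ξ (mem_blockOf.1 hξ)⟩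
  have hTdisj : ∀ B ∈ T, ∀ B' ∈ T, B ≠ B' → Disjoint B B' := fun B hB B' hB' hne =>
    Set.disjoint_left.2 fun χ h h' => hne (by
      rw [IsPBlock.eq_blockOf hM (hT B hB).1 h, IsPBlock.eq_blockOf hM (hT B' hB').1 h'])
  have e1 : S = T.biUnion fun B => B.toFinite.toFinset := by
    ext χ
    simp only [Finset.mem_biUnion, Set.Finite.mem_toFinset]
    exact ⟨fun h => ⟨_, Finset.mem_image_of_mem _ h, mem_blockOf_self hM χ⟩,
      fun ⟨B, hB, h⟩ => (hS χ).2 ((hT B hB).2 h)⟩
  have horth : ∀ B ∈ T, ∀ B' ∈ T, B ≠ B' → bElt hM B * bElt hM B' = 0 := by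
    intro B hB B' hB' hne
    rw [bElt, bElt, ← res_conv hM (memLocalRing_blockCoeff hM (hT B hB).1)
      (memLocalRing_blockCoeff hM (hT B' hB').1), blockCoeff_conv_disjoint (hTdisj B hB B' hB' hne)]
    refine MonoidAlgebra.coeff_injective (Finsupp.ext fun g => ?_)
    rw [coeff_res]
    simp [(resFun_eq_zero_iff hM (localRing hM).zero_mem).2 (memLocalIdeal_zero hM)]
  -- all simple modules
  obtain ⟨n, W, hne, hall⟩ := exists_simples (G := K) hM
    (1 : MonoidAlgebra (Cfsg.AlgInt ⧸ M) K)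
  let Pb : Fin n → Set (Cfsg.IrrCharacter K) → Prop := fun j B =>
    B ∈ T ∧ ∀ v : (W j).V, bElt hM B • v = v
  let J : Finset (Fin n) := Finset.univ.filter fun j => ∃ B, Pb j B
  let f : Fin n → K → ℂ := fun j => P (liftFun (K := K) p M (W j).V)
  have hf : ∀ (j : Fin n) (g : K), ¬ p ∣ orderOf g → f j g =
      ∑ χ ∈ S, Cfsg.classInner (liftFun (K := K) p M (W j).V) (χ : K → ℂ) * (χ : K → ℂ) g := by
    intro j g hg
    simp only [f, hP, Finset.sum_apply, Pi.smul_apply, smul_eq_mul, pRegularPart_apply, if_neg hg]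
  have hfR : ∀ (j : Fin n) (g : K), ¬ p ∣ orderOf g → Cfsg.MemLocalRing M (f j g) := by
    intro j g hg
    rw [hf j g hg]
    exact (localRing hM).sum_mem fun χ _ =>
      (localRing hM).mul_mem (memLocalRing_coeff hM χ) (memLocalRing_irr hM χ g)
  have hred : ∀ (j : Fin n) (g : K), ¬ p ∣ orderOf g →
      resFun hM (f j g) = if j ∈ J then tr M (W j).V g else 0 := by
    intro j g hg
    have hsplit : resFun hM (f j g) = ∑ B ∈ T, LinearMap.trace (Cfsg.AlgInt ⧸ M) (W j).V
        (Algebra.lsmul (Cfsg.AlgInt ⧸ M) (Cfsg.AlgInt ⧸ M) (W j).V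
          (bElt hM B * MonoidAlgebra.of _ K g)) := by
      rw [hf j g hg, BlockThms.OrderP.resFun_sum hM _ fun χ _ =>
        (localRing hM).mul_mem (memLocalRing_coeff hM χ) (memLocalRing_irr hM χ g), e1,
        Finset.sum_biUnion fun B hB B' hB' hne => Finset.disjoint_left.2 fun χ h h' =>
          Set.disjoint_left.1 (hTdisj B hB B' hB' hne) ((Set.Finite.mem_toFinset _).1 h)
            ((Set.Finite.mem_toFinset _).1 h')]
      refine Finset.sum_congr rfl fun B hB => ?_
      rw [trace_bElt_mul hM (hT B hB).1 g]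
      exact Finset.sum_congr rfl fun χ _ =>
        resFun_mul hM (memLocalRing_coeff hM χ) (memLocalRing_irr hM χ g)
    rw [hsplit]
    have hzero : ∀ B : Set (Cfsg.IrrCharacter K), (∀ v : (W j).V, bElt hM B • v = 0) →
        LinearMap.trace (Cfsg.AlgInt ⧸ M) (W j).V
          (Algebra.lsmul (Cfsg.AlgInt ⧸ M) (Cfsg.AlgInt ⧸ M) (W j).V
            (bElt hM B * MonoidAlgebra.of _ K g)) = 0 := by
      intro B hB
      refine (congrArg _ (LinearMap.ext fun v => ?_)).trans (map_zero _)
      show (bElt hM B * MonoidAlgebra.of _ K g) • v = 0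
      rw [mul_smul, hB]
    split_ifs with hj
    · obtain ⟨B₀, hB₀, hfix₀⟩ := (Finset.mem_filter.1 hj).2
      rw [Finset.sum_eq_single_of_mem B₀ hB₀ fun B hB hne' => hzero B fun v => by
        rw [← hfix₀ v, ← mul_smul, horth B hB B₀ hB₀ hne']
        exact zero_smul (MonoidAlgebra (Cfsg.AlgInt ⧸ M) K) v]
      unfold BlockThms.OrderP.tr
      congr 1
      refine LinearMap.ext fun v => ?_
      rw [act_apply]
      show (bElt hM B₀ * MonoidAlgebra.of _ K g) • v = _
      rw [mul_smul, hfix₀]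
    · refine Finset.sum_eq_zero fun B hB => hzero B
        ((smul_eq_self_or_eq_zero (bElt_central hM) (bElt_idem hM (hT B hB).1)).resolve_left
          fun h => hj (Finset.mem_filter.2 ⟨Finset.mem_univ _, B, hB, h⟩))
  have hli := linearIndependent_tr (p := p) hM W hne
  have hfli : LinearIndependent ℂ (fun j : J => (⟨f j.1, hPV _⟩ : V)) := by
    have h1 := hli.comp (fun j : J => j.1) Subtype.val_injective
    obtain ⟨ι, hι⟩ : ∃ ι : J ≃ Fin J.card, True := ⟨J.equivFin, trivial⟩
    have h2 := linearIndependent_lift hM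
      (fun q => fun c : RegClass K p => tr M (W (ι.symm q).1).V (Quotient.out c.1))
      (h1.comp ι.symm ι.symm.injective)
      (fun q c => f (ι.symm q).1 (Quotient.out c.1))
      (fun q c => hfR _ _ c.2) fun q c => by rw [hred _ _ c.2, if_pos (ι.symm q).2]
    refine LinearIndependent.of_comp
      ((LinearMap.funLeft ℂ ℂ fun c : RegClass K p => Quotient.out c.1) ∘ₗ V.subtype) ?_
    refine (linearIndependent_equiv ι.symm).1 ?_
    exact h2
  -- enough of them
  have hdim : Module.finrank ℂ V ≤ Fintype.card J := by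
    choose nb Wb hneb hallb using fun B : Set (Cfsg.IrrCharacter K) =>
      exists_simples (G := K) hM (bElt hM B)
    let Vb : Set (Cfsg.IrrCharacter K) → Submodule ℂ (K → ℂ) := fun B => Submodule.span ℂ
      ((fun χ : Cfsg.IrrCharacter K => Cfsg.pRegularPart p (χ : K → ℂ)) '' B)
    have hle : V ≤ ⨆ B ∈ T, Vb B := by
      refine Submodule.span_le.2 ?_
      rintro _ ⟨χ, hχ, rfl⟩
      exact Submodule.mem_iSup_of_mem _ (Submodule.mem_iSup_of_mem
        (Finset.mem_image_of_mem _ ((hS χ).2 hχ))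
        (Submodule.subset_span ⟨χ, mem_blockOf_self hM χ, rfl⟩))
    have key : ∀ s : Finset (Set (Cfsg.IrrCharacter K)),
        Module.finrank ℂ ↥(⨆ B ∈ s, Vb B) ≤ ∑ B ∈ s, Module.finrank ℂ (Vb B) := by
      intro s
      induction s using Finset.induction_on with
      | empty =>
        rw [Finset.sum_empty, show (⨆ B ∈ (∅ : Finset (Set (Cfsg.IrrCharacter K))), Vb B) = ⊥ from
          le_bot_iff.1 (iSup₂_le fun b hb => absurd hb (Finset.notMem_empty b)), finrank_bot]
      | insert b s hb ih =>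
        rw [Finset.iSup_insert, Finset.sum_insert hb]
        exact (Submodule.finrank_add_le_finrank_add_finrank _ _).trans (by omega)
    refine ((Submodule.finrank_mono hle).trans (key T)).trans ?_
    have hrk : ∀ B ∈ T, Module.finrank ℂ (Vb B) = nb B := fun B hB =>
      blockRank_eq_card hM (hT B hB).1 (Wb B) (hneb B) (hallb B)
    rw [Finset.sum_congr rfl hrk,
      show ∑ B ∈ T, nb B = (T.sigma fun B => (Finset.univ : Finset (Fin (nb B)))).card by
        rw [Finset.card_sigma]; simp, Fintype.card_coe]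
    let as1 : ∀ B, Fin (nb B) → SimpleMod.{u, u, 0} (Cfsg.AlgInt ⧸ M) K 1 := fun B i =>
      { V := (Wb B i).V, fix := fun v => one_smul _ v }
    choose jj F hF using fun (B : Set (Cfsg.IrrCharacter K)) (i : Fin (nb B)) => hall (as1 B i)
    refine Finset.card_le_card_of_injOn (fun x => jj x.1 x.2) (fun x hx => ?_) ?_
    · have hx1 := (Finset.mem_sigma.1 hx).1
      refine Finset.mem_filter.2 ⟨Finset.mem_univ _, x.1, hx1, fun v => ?_⟩
      refine ((LinearMap.bijective_or_eq_zero (F x.1 x.2)).resolve_right (hF _ _)).1 ?_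
      rw [map_smul]
      exact (Wb x.1 x.2).fix _
    · rintro ⟨B, i⟩ hx ⟨B', i'⟩ hx' hjj
      simp only at hjj
      have hB := (Finset.mem_sigma.1 hx).1
      have hB' := (Finset.mem_sigma.1 hx').1
      have hb := (LinearMap.bijective_or_eq_zero (F B i)).resolve_right (hF B i)
      have hb' := (LinearMap.bijective_or_eq_zero (F B' i')).resolve_right (hF B' i')
      have : Nontrivial (W (jj B i)).V :=
        IsSimpleModule.nontrivial (MonoidAlgebra (Cfsg.AlgInt ⧸ M) K) _
      obtain ⟨x, hx0⟩ := exists_ne (0 : (W (jj B i)).V)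
      by_cases hBB : B = B'
      · subst hBB
        by_cases hii : i = i'
        · rw [hii]
        exfalso
        have key : ∀ (j j' : Fin n), j = j' →
            ∀ (F₁ : (W j).V →ₗ[MonoidAlgebra (Cfsg.AlgInt ⧸ M) K] (as1 B i).V)
              (F₂ : (W j').V →ₗ[MonoidAlgebra (Cfsg.AlgInt ⧸ M) K] (as1 B i').V),
            Function.Bijective F₁ → F₂ = 0 := by
          rintro j j' rfl F₁ F₂ hb₁
          refine LinearMap.ext fun y => ?_
          have h0 := LinearMap.congr_fun (hneb B i i' hii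
            (F₂.comp (LinearEquiv.ofBijective F₁ hb₁).symm.toLinearMap))
            ((LinearEquiv.ofBijective F₁ hb₁) y)
          simpa using h0
        exact hF B i' (key _ _ hjj _ _ hb)
      · exfalso
        have h1 : ∀ v : (W (jj B i)).V, bElt hM B • v = v := fun v => hb.1 (by
          rw [map_smul]; exact (Wb B i).fix _)
        have h2 : ∀ v : (W (jj B' i')).V, bElt hM B' • v = v := fun v => hb'.1 (by
          rw [map_smul]; exact (Wb B' i').fix _)
        rw [← hjj] at h2
        refine hx0 ?_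
        rw [← h1 x, ← h2 x, ← mul_smul, horth B hB B' hB' hBB]
        exact zero_smul (MonoidAlgebra (Cfsg.AlgInt ⧸ M) K) x
  -- the permutation
  have hσ : ∀ j, ∃ l, ∀ g, tr M (W l).V g = tr M (W j).V (e g) := fun j => by
    obtain ⟨l, F, hF⟩ := hall { V := Twist e (W j).V, fix := fun v => one_smul _ v }
    exact ⟨l, fun g => by rw [← tr_eq_of_hom hF g, ← tr_twist]⟩
  choose σ hσ using hσ
  have hσinj : Function.Injective σ := fun j j' hjj => hli.injective (funext fun c => by
    rw [← e.apply_symm_apply (Quotient.out c.1), ← hσ, ← hσ, hjj])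
  have hfσ : ∀ j, f (σ j) = Q (f j) := fun j => by
    show P _ = Q (P _)
    rw [← hQP]
    congr 1
    funext g
    show _ = liftFun (K := K) p M (W j).V (e g)
    simp only [liftFun, hσ]
    congr 2
    congr 1
    exact map_pPrimePartOf' (Fact.out : p.Prime) e g
  have hJiff : ∀ j, j ∈ J ↔ ∃ g, ¬ p ∣ orderOf g ∧ resFun hM (f j g) ≠ 0 := by
    intro j
    refine ⟨fun hj => ?_, fun ⟨g, hg, h⟩ => by_contra fun hj => h (by rw [hred j g hg, if_neg hj])⟩
    by_contra! hall0
    refine hli.ne_zero j (funext fun c => ?_)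
    have := hall0 _ c.2
    rwa [hred j _ c.2, if_pos hj] at this
  have hσJ : ∀ j ∈ J, σ j ∈ J := fun j hj => by
    obtain ⟨g, hg, h⟩ := (hJiff j).1 hj
    refine (hJiff _).2 ⟨e.symm g, ?_, ?_⟩
    · rwa [← hord, e.apply_symm_apply]
    · rw [hfσ]
      show resFun hM (f j (e (e.symm g))) ≠ 0
      rwa [e.apply_symm_apply]
  -- the trace
  let b : Module.Basis J ℂ V := Module.Basis.mk hfli
    (hfli.span_eq_top_of_card_eq_finrank' (le_antisymm hfli.fintype_card_le_finrank hdim)).ge
  have hQV : ∀ v : V, Q v ∈ V := fun v => by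
    rw [← hPid v v.2, ← hQP]
    exact hPV _
  let Qv : V →ₗ[ℂ] V := LinearMap.codRestrict V (Q ∘ₗ V.subtype) hQV
  have hQb : ∀ j : J, Qv (b j) = b ⟨σ j.1, hσJ _ j.2⟩ := fun j => by
    refine Subtype.ext ?_
    show Q (b j : K → ℂ) = _
    rw [Module.Basis.mk_apply, Module.Basis.mk_apply]
    exact (hfσ _).symm
  refine ⟨(Finset.univ.filter fun j : J => σ j.1 = j.1).card, ?_⟩
  have htr : LinearMap.trace ℂ V Qv =
      ((Finset.univ.filter fun j : J => σ j.1 = j.1).card : ℂ) := by
    rw [LinearMap.trace_eq_matrix_trace ℂ b, Matrix.trace]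
    simp only [Matrix.diag_apply, LinearMap.toMatrix_apply, hQb, Module.Basis.repr_self,
      Finsupp.single_apply, Subtype.ext_iff]
    rw [Finset.sum_boole]
  let P' : (K → ℂ) →ₗ[ℂ] V := LinearMap.codRestrict V P hPV
  have hcomm : LinearMap.trace ℂ (K → ℂ) (Q ∘ₗ P) = LinearMap.trace ℂ V Qv := by
    rw [show Q ∘ₗ P = (Q ∘ₗ V.subtype) ∘ₗ P' from rfl, LinearMap.trace_comp_comm']
    congr 1
    refine LinearMap.ext fun v => Subtype.ext ?_
    show P (Q v) = Q v
    exact hPid _ (hQV v)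
  rw [← htr, ← hcomm]
  have hQP' : Q ∘ₗ P = ∑ χ ∈ S, (ev χ).smulRight (Q (Cfsg.pRegularPart p (χ : K → ℂ))) :=
    LinearMap.ext fun f => by simp [P]
  rw [hQP', map_sum, Finset.mul_sum]
  simp only [LinearMap.trace_smulRight]
  rw [show (∑ x : K, if p ∣ orderOf x then (0 : ℂ) else
      ∑ᶠ χ ∈ A, (χ : K → ℂ) (e x) * conj ((χ : K → ℂ) x)) = ∑ x : K, ∑ χ ∈ S,
      if p ∣ orderOf x then (0 : ℂ) else (χ : K → ℂ) (e x) * conj ((χ : K → ℂ) x) from
    Finset.sum_congr rfl fun x _ => by
      rw [finsum_mem_eq_finite_toFinset_sum _ A.toFinite,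
        show A.toFinite.toFinset = S from
          Finset.ext fun χ => A.toFinite.mem_toFinset.trans (hS χ).symm]
      split_ifs <;> simp, Finset.sum_comm]
  refine Finset.sum_congr rfl fun χ _ => ?_
  show _ = (Nat.card K : ℂ) * Cfsg.classInner (Q (Cfsg.pRegularPart p (χ : K → ℂ))) (χ : K → ℂ)
  rw [Cfsg.classInner, ← mul_assoc, mul_inv_cancel₀ (Nat.cast_ne_zero.2 Nat.card_pos.ne'), one_mul]
  refine Finset.sum_congr rfl fun x _ => ?_
  show _ = Cfsg.pRegularPart p (χ : K → ℂ) (e x) * _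
  rw [pRegularPart_apply, hord, ite_mul, zero_mul]

end Cfsg.Agent.Blocks
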