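import Cfsg.Agent.Blocks.Indep

/-!
# Groups without elements of order `p * q`
-/

namespace Cfsg.Agent.Blocks

open scoped ComplexConjugate
open Cfsg.Agent

universe u

variable {G : Type u} [Group G]

theorem exists_orderOf_eq_mul {p q : ℕ} (hp : p.Prime) (hq : q.Prime) (hpq : p ≠ q) {u : G}
    (h1 : p ∣ orderOf u) (h2 : q ∣ orderOf u) (h0 : orderOf u ≠ 0) :
    ∃ g : G, orderOf g = p * q := by
  have hd : p * q ∣ orderOf u := ((Nat.coprime_primes hp hq).2 hpq).mul_dvd_of_dvd_of_dvd h1 h2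
  refine ⟨u ^ (orderOf u / (p * q)), ?_⟩
  rw [orderOf_pow_of_dvd (Nat.div_pos (Nat.le_of_dvd (Nat.pos_of_ne_zero h0) hd)
    (Nat.mul_pos hp.pos hq.pos)).ne' (Nat.div_dvd_of_dvd hd), Nat.div_div_self hd h0]

/-- Without elements of order `pq` the sum over the intersection of a `p`-block and a `q`-block,
evaluated at a `p`-singular element, is divisible by the `q`-part of the group order. -/
theorem inter_sum_dvd [Finite G] {p q : ℕ} (hpq : p ≠ q) {Mp Mq : Ideal Cfsg.AlgInt}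
    (hMp : Cfsg.IsPModular p Mp) (hMq : Cfsg.IsPModular q Mq) (hno : ∀ g : G, orderOf g ≠ p * q)
    {Bp : Set (Cfsg.IrrCharacter G)} (hBp : Cfsg.IsPBlock Mp Bp)
    {Bq : Set (Cfsg.IrrCharacter G)} (hBq : Cfsg.IsPBlock Mq Bq) {y : G} (hy : p ∣ orderOf y) :
    IsIntegral ℤ ((∑ᶠ χ ∈ Bp ∩ Bq, (χ : G → ℂ) 1 * (χ : G → ℂ) y) *
      ((q ^ (Nat.card G).factorization q : ℕ) : ℂ)⁻¹) := by
  classical
  have := Fintype.ofFinite G
  have hq := hMq.1
  have hp := hMp.1
  set θ : G → ℂ := fun w => ∑ᶠ χ ∈ Bp, (χ : G → ℂ) w * (χ : G → ℂ) y with hθ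
  have hθ0 : ∀ w, q ∣ orderOf w → θ w = 0 := by
    intro w hw
    refine block_orthogonality hMp hBp w y ?_
    rw [(pPartOf_eq_one_iff hp w).2 fun hd => ?_, isConj_one_right, inv_eq_one,
      pPartOf_eq_one_iff hp]
    · exact not_not_intro hy
    · obtain ⟨g, hg⟩ := exists_orderOf_eq_mul hp hMq.1 hpq hd hw (orderOf_pos w).ne'
      exact hno g hg
  -- the part of `θ` in the block `Bq`
  set S := (Bp ∩ Bq).toFinite.toFinset with hS
  set ψ : G → ℂ := fun u => ∑ χ ∈ S, (χ : G → ℂ) y * (χ : G → ℂ) u with hψ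
  have hker : ∀ u, ψ u = (Nat.card G : ℂ)⁻¹ *
      ∑ w, θ w * ∑ᶠ φ ∈ Bq, (φ : G → ℂ) u * conj ((φ : G → ℂ) w) := by
    intro u
    have e : ∀ χ φ : Cfsg.IrrCharacter G,
        ∑ w, (χ : G → ℂ) w * conj ((φ : G → ℂ) w) = if χ = φ then (Nat.card G : ℂ) else 0 := by
      intro χ φ
      have h := Char.classInner_irrChar χ φ
      rw [Cfsg.classInner, inv_mul_eq_iff_eq_mul₀ (Nat.cast_ne_zero.2 Nat.card_pos.ne')] at h
      rw [h]; split_ifs <;> simp
    simp only [hθ, finsum_mem_eq_finite_toFinset_sum _ (Set.toFinite Bp),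
      finsum_mem_eq_finite_toFinset_sum _ (Set.toFinite Bq), Finset.sum_mul_sum]
    simp only [Finset.mul_sum]
    rw [Finset.sum_comm, hψ]
    simp only [hS]
    rw [show (Bp ∩ Bq).toFinite.toFinset = Bp.toFinite.toFinset.filter (· ∈ Bq) by ext; simp,
      Finset.sum_filter]
    refine Finset.sum_congr rfl fun χ _ => ?_
    rw [Finset.sum_comm]
    have : ∀ φ : Cfsg.IrrCharacter G, ∑ w, (Nat.card G : ℂ)⁻¹ *
        ((χ : G → ℂ) w * (χ : G → ℂ) y * ((φ : G → ℂ) u * conj ((φ : G → ℂ) w))) =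
        (χ : G → ℂ) y * (φ : G → ℂ) u * if χ = φ then 1 else 0 := by
      intro φ
      rw [← Finset.mul_sum, Finset.sum_congr rfl (g := fun w => ((χ : G → ℂ) y * (φ : G → ℂ) u) *
        ((χ : G → ℂ) w * conj ((φ : G → ℂ) w))) (fun w _ => by ring), ← Finset.mul_sum, e]
      split_ifs
      · field_simp [Nat.cast_ne_zero (R := ℂ) |>.2 (Nat.card_pos (α := G)).ne']
      · simp
    simp only [this, mul_ite, mul_one, mul_zero, Finset.sum_ite_eq, Set.Finite.mem_toFinset]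
  have hψ0 : ∀ u, q ∣ orderOf u → ψ u = 0 := by
    intro u hu
    rw [hker, Finset.sum_eq_zero fun w _ => ?_, mul_zero]
    by_cases hw : q ∣ orderOf w
    · rw [hθ0 w hw, zero_mul]
    · rw [show ∑ᶠ φ ∈ Bq, (φ : G → ℂ) u * conj ((φ : G → ℂ) w) = 0 from ?_, mul_zero]
      have := congrArg conj (weak_orthogonality hMq hBq hw hu)
      rw [finsum_mem_eq_finite_toFinset_sum _ Bq.toFinite] at this ⊢
      rw [map_sum, map_zero] at this
      rw [← this]
      exact Finset.sum_congr rfl fun φ _ => by simp [mul_comm]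
  have hval : ∑ᶠ χ ∈ Bp ∩ Bq, (χ : G → ℂ) 1 * (χ : G → ℂ) y = ψ 1 := by
    rw [finsum_mem_eq_finite_toFinset_sum _ (Bp ∩ Bq).toFinite]
    exact Finset.sum_congr rfl fun χ _ => mul_comm _ _
  rw [hval]
  have hqb : ((q ^ (Nat.card G).factorization q : ℕ) : ℂ) ≠ 0 :=
    Nat.cast_ne_zero.2 (pow_pos hq.pos _).ne'
  refine isIntegral_of_forall_local hq (k := (Nat.card G).factorization q) ?_ fun M hM => ?_
  · rw [mul_comm, mul_assoc, inv_mul_cancel₀ hqb, mul_one]
    exact IsIntegral.sum _ fun χ _ => (Char.IsChar.isIntegral (Char.IsIrr.isCharacter χ.2) y).mul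
      (Char.IsChar.isIntegral (Char.IsIrr.isCharacter χ.2) 1)
  · exact memLocalRing_div_order hM S (fun χ => (χ : G → ℂ) y) (fun χ => (χ : G → ℂ))
      (fun χ _ => memLocalRing_char hM (Char.IsIrr.isCharacter χ.2) y)
      (fun χ _ => Char.IsIrr.isCharacter χ.2) hψ0

end Cfsg.Agent.Blocks
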